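import Mathlib.Data.List.Basic
import Mathlib.Algebra.Group.Basic

/-!
Reading off checked boolean statements.
-/

set_option autoImplicit false

namespace CfsgAutL34

theorem of_range_all {n : ℕ} {p : ℕ → Bool} (h : ((List.range n).all p) = true) {x : ℕ} (hx : x < n) : p x = true :=
  List.all_eq_true.1 h x (List.mem_range.2 hx)

theorem of_all {l : List ℕ} {p : ℕ → Bool} (h : l.all p = true) {x : ℕ} (hx : x ∈ l) : p x = true :=
  List.all_eq_true.1 h x hx

end CfsgAutL34
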