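import Cfsg.Agent.Lib.AutL34Type.Model
import Cfsg.Agent.Lib.AutL34Type.Util

/-!
Kernel checks for the case in which only the four group holds conjugates of the central involution.
-/

set_option autoImplicit false
set_option maxRecDepth 100000
set_option maxHeartbeats 4000000
set_option Elab.async false

namespace CfsgAutL34

/-- Two codes commute in the first model. -/
def comm0 (a b : ℕ) : Bool := mmul 0 a b == mmul 0 b a

/-- The codes commuting with both generators of the distinguished four group. -/
def DList : List ℕ := (List.range 768).filter fun d => comm0 d 1

/-- The class of the involution `160` in the centraliser. -/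
def SList : List ℕ := [160, 161, 172, 173, 176, 177, 188, 189, 576, 577, 580, 581, 592, 593, 596, 597, 736, 737, 744,
  745, 752, 753, 760, 761]

/-- A subgroup of order sixty-four. -/
def TList : List ℕ := [0, 1, 4, 5, 8, 9, 12, 13, 16, 17, 20, 21, 24, 25, 28, 29, 160, 161, 164, 165, 168, 169, 172, 173,
  176, 177, 180, 181, 184, 185, 188, 189, 576, 577, 580, 581, 584, 585, 588, 589, 592, 593, 596, 597, 600, 601, 604,
  605, 736, 737, 740, 741, 744, 745, 748, 749, 752, 753, 756, 757, 760, 761, 764, 765]

/-- The centraliser of `160`. -/
def SC : List ℕ := [0, 1, 16, 17, 32, 33, 48, 49, 96, 97, 112, 113, 160, 161, 176, 177, 576, 577, 592, 593, 640, 641,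
  656, 657, 704, 705, 720, 721, 736, 737, 752, 753]

/-- An elementary abelian subgroup of order sixteen. -/
def AList : List ℕ := [0, 1, 16, 17, 160, 161, 176, 177, 576, 577, 592, 593, 736, 737, 752, 753]

/-- The four group. -/
def UList : List ℕ := [0, 1, 16, 17]

/-- A subgroup of index two of `AList`. -/
def QList : List ℕ := [0, 1, 16, 17, 576, 577, 592, 593]

theorem inv_cases : ((List.range 768).all fun y => mmul 0 y y != 0 || !comm0 y 1 || UList.contains y ||
    SList.contains y || ((List.range 768).any fun c => mconj 0 c y == 34)) = true := by decide +kernel

theorem SList_ok : (SList.all fun y => decide (y < 768) && mmul 0 y y == 0 && comm0 y 1 &&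
    SList.contains (mmul 0 16 y) && SList.contains (mmul 0 1 y) &&
    ((List.range 768).any fun c => mconj 0 c 160 == y)) = true := by decide +kernel

theorem SList_U : (SList.all fun y => !UList.contains y) = true ∧ SList.contains 160 = true := by decide +kernel

theorem cent_sizes : (DList.filter fun d => comm0 d 160).length = 16 ∧ (DList.filter fun d => comm0 d 34).length = 8 ∧
    comm0 1 34 = true := by decide +kernel

theorem TList_ok : TList.length = 64 ∧ TList.Nodup ∧ (TList.all fun t => decide (t < 768) &&
    (UList.contains t || SList.contains t ||
      ([1, 16, 17].contains (mmul 0 t t) && comm0 t 1)) &&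
    TList.all fun t' => TList.contains (mmul 0 t t')) = true ∧ TList.contains 0 = true ∧
    (TList.filter fun t => SList.contains t).length = 24 ∧ UList.Nodup := by decide +kernel

theorem SC_ok : SC.Nodup ∧ SC.length = 32 ∧ ((List.range 768).all fun y => comm0 y 160 == SC.contains y) = true ∧
    (SC.all fun s => decide (s < 768) && AList.contains (mmul 0 s s) && (comm0 s 1 == AList.contains s) &&
      (SC.all fun t => AList.contains (mmul 0 s t) == (AList.contains s == AList.contains t))) = true := by
  decide +kernel

theorem SC_center : (SC.all fun y => !(SC.all fun s => comm0 s y) || [0, 16, 160, 176].contains y) = true := by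
  decide +kernel

theorem AList_ok : (AList.all fun a => SC.contains a && mmul 0 a a == 0 &&
    ((AList.all fun b => QList.contains (mmul 0 a b) == (QList.contains a == QList.contains b))) &&
    (UList.contains a || [160, 161, 176, 177].contains a ||
      [160, 161, 176, 177].contains (mmul 0 a (mconj 0 32 a)))) = true ∧
    QList.contains 160 = false ∧ SC.contains 32 = true ∧ AList.contains 32 = false := by decide +kernel

theorem UList_ok : (UList.all fun a => decide (a < 768) && comm0 a 160 && comm0 a 16 && AList.contains a &&
    (UList.all fun b => UList.contains (mmul 0 a b))) = true ∧ UList.length = 4 := by decide +kernel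

end CfsgAutL34
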