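import Cfsg.Agent.Lib.AutL34Type.Model
import Cfsg.Agent.Lib.AutL34Type.Util

/-!
Kernel checks on the involutions of the four models.
-/

set_option autoImplicit false
set_option maxRecDepth 100000
set_option maxHeartbeats 4000000
set_option Elab.async false

namespace CfsgAutL34

/-- Representatives of the involutions outside the centre. -/
def classReps : ℕ → List ℕ
  | 0 => [1, 2, 32, 34, 160]
  | 1 => [1, 2, 32, 34]
  | 2 => [1, 2, 33, 160]
  | _ => [1, 2, 33]

/-- The codes commuting with `y`. -/
def centList (k y : ℕ) : List ℕ := (List.range 768).filter fun d => mmul k d y == mmul k y d

/-- The number of square roots of `w` commuting with `y`. -/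
def rootNum (k y w : ℕ) : ℕ := ((centList k y).filter fun d => mmul k d d == w).length

/-- The invariants of a pair. -/
def pairOK (k r r' : ℕ) : Bool :=
  (centList k r).length == (centList k r').length && rootNum k r' 16 == rootNum k r r && rootNum k r' r' == rootNum k r 16

theorem classes_ok : ((List.range 4).all fun k => (List.range 768).all fun y =>
    mmul k y y != 0 || y == 0 || y == 16 ||
      ((List.range 768).any fun c => (classReps k).contains (mconj k c y))) = true := by decide +kernel

theorem reps_ok : ((List.range 4).all fun k => (classReps k).all fun r => decide (r < 768) &&
    (classReps k).all fun r' => !pairOK k r r' ||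
      (r == r' && (r == 1 && k == 0 || r == 160 && (k == 0 || k == 2)))) = true := by decide +kernel

end CfsgAutL34
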