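import Cfsg.Agent.Lib.AutL34Type.Model
import Cfsg.Agent.Lib.AutL34Type.Util
import Cfsg.Agent.Lib.AutL34Type.CChecks
import Cfsg.Agent.Lib.AutL34Type.FChecks
import Cfsg.Agent.Lib.AutL34Type.FrameData

/-!
Kernel checks on the actions on the abelian subgroup of order sixteen.
-/

set_option autoImplicit false
set_option maxRecDepth 100000
set_option maxHeartbeats 4000000
set_option Elab.async false

namespace CfsgAutL34

/-- The code of an index. -/
def av (i : ℕ) : ℕ := AList.getD i 0

/-- The index of a code. -/
def aix (c : ℕ) : ℕ := AList.idxOf c

/-- Applying a packed action. -/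
def apq (q i : ℕ) : ℕ := (q >>> (4 * i)) % 16

/-- Packing an action. -/
def packQ (f : ℕ → ℕ) : ℕ := (List.range 16).foldr (fun i acc => f i + 16 * acc) 0

/-- The identity action. -/
def qI : ℕ := packQ fun i => i

/-- The composite action. -/
def qMul (p q : ℕ) : ℕ := packQ fun i => apq p (apq q i)

/-- The product of two indices. -/
def vAdd (i j : ℕ) : ℕ := aix (mmul 0 (av i) (av j))

/-- The action of a code. -/
def qCode (c : ℕ) : ℕ := packQ fun i => aix (mconj 0 c (av i))

/-- The linear action sending the first generators into `160`, `16` and two given indices. -/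
def linQ (c d : ℕ) : ℕ := packQ fun i =>
  let w := aBits.getD i 0
  [(1, 4), (2, 2), (4, c), (8, d)].foldl (fun acc p => if w / p.1 % 2 = 1 then vAdd acc p.2 else acc) 0

/-- The element of an index built from the four generators. -/
def bitVal (i : ℕ) : ℕ :=
  let w := aBits.getD i 0
  [(1, 2), (2, 4), (4, 1), (8, 8)].foldl (fun acc p => if w / p.1 % 2 = 1 then vAdd acc p.2 else acc) 0

/-- The codes normalising the abelian subgroup. -/
def NAList : List ℕ := (List.range 768).filter fun c => AList.all fun a => AList.contains (mconj 0 c a)

/-- Evaluating a word of actions. -/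
def qWord (L : List ℕ) (w : List ℕ) : ℕ := w.foldl (fun acc l => qMul acc (L.getD l qI)) qI

/-- The three generating actions. -/
def qGens : List ℕ := [qCode 332, qCode 140, qS]

theorem AList_count : ((List.range 768).all fun y =>
    ((centList 0 160).contains y && mmul 0 y y == 0 &&
      decide (16 ≤ ((centList 0 160).filter fun e => mmul 0 e e == 0 && mmul 0 e y == mmul 0 y e).length))
      == AList.contains y) = true := by decide +kernel

theorem vAdd_ok : AList.length = 16 ∧ AList.Nodup ∧ ((List.range 16).all fun i => decide (av i < 768) &&
    AList.contains (av i) && aix (av i) == i && mmul 0 (av i) (av i) == 0 && bitVal i == i &&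
    (List.range 16).all fun j => decide (vAdd i j < 16) && av (vAdd i j) == mmul 0 (av i) (av j) &&
      mmul 0 (av i) (av j) == mmul 0 (av j) (av i)) = true := by decide +kernel

theorem cent_A : ((List.range 768).all fun c =>
    !(AList.all fun a => mmul 0 c a == mmul 0 a c) || AList.contains c) = true := by decide +kernel

theorem cand_ok : ((List.range 16).all fun c => (List.range 16).all fun d =>
    let q := linQ c d
    ((List.range 16).any fun i => (List.range 16).any fun j => i != j && apq q i == apq q j) ||
      (let v := qWord [qCode 332, qCode 140, q] (candWord.getD (16 * c + d) [])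
       v == qS || (apq v 2 == 2 && !(NAList.any fun n => qCode n == v)))) = true := by decide +kernel

theorem qD_ok : qWord qGens wD = qD ∧ qMul qD (qMul qD qD) = qI ∧ qMul qS qS = qI ∧
    ((List.range 16).all fun i => (apq qD i != i || i == 0) && decide (apq qD i < 16) && decide (apq qS i < 16)) = true ∧
    qMul qD qD != qD ∧ qGens.all (fun g => qMul g qD == qMul qD g || qMul g qD == qMul (qMul qD qD) g) = true := by
  decide +kernel

theorem halve_ok : ((List.range 16).all fun a => [qD, qMul qD qD].all fun e => (List.range 16).any fun b =>
    vAdd b (apq e b) == a) = true := by decide +kernel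

theorem complement_ok : ((List.range 16).all fun a => (List.range 16).all fun b =>
    let u := mmul 0 (av a) 332
    let v := mmul 0 (av b) 140
    let w := mmul 0 u (mmul 0 v v)
    mmul 0 (mmul 0 u u) (mmul 0 u u) != 0 || mmul 0 v (mmul 0 v v) != 0 || mmul 0 w w != 0 ||
      ((List.range 16).any fun c => mconj 0 (av c) 332 == u && mconj 0 (av c) 140 == v)) = true := by decide +kernel

theorem complement_rel : qMul (qMul (qCode 332) (qCode 332)) (qMul (qCode 332) (qCode 332)) = qI ∧
    qMul (qCode 140) (qMul (qCode 140) (qCode 140)) = qI ∧
    (let w := qMul (qCode 332) (qMul (qCode 140) (qCode 140)); qMul w w = qI) ∧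
    NAList.contains 332 = true ∧ NAList.contains 140 = true ∧ [332, 140].all (fun h => NAList.contains h) = true := by
  decide +kernel

theorem HList_ok : HList.length = 24 ∧ HWord.length = 24 ∧ ((List.range 24).all fun i =>
    HList.getD i 0 == (HWord.getD i []).foldl (fun acc l => mmul 0 acc ([332, 140].getD l 0)) 0 &&
      (HWord.getD i []).all fun l => decide (l < 2)) = true ∧
    (NAList.all fun c => AList.any fun a => HList.any fun h => mmul 0 a h == c && qCode h == qCode c) = true := by
  decide +kernel

end CfsgAutL34
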