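import Cfsg.Agent.Lib.AutL34Type.Fusion
import Cfsg.Agent.Lib.AutL34Type.FrameChecks

/-!
Elements acting on the abelian subgroup of order sixteen.
-/

set_option autoImplicit false
set_option maxRecDepth 100000
set_option linter.unusedSectionVars false

namespace CfsgAutL34

theorem apq_lt (q i : ℕ) : apq q i < 16 := Nat.mod_lt _ (by norm_num)

theorem apq_foldr (f : ℕ → ℕ) : ∀ (l : List ℕ) (i : ℕ) (h : i < l.length), (∀ x ∈ l, f x < 16) →
    apq (l.foldr (fun x acc => f x + 16 * acc) 0) i = f (l[i])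
  | [], i, h, _ => absurd h (by simp)
  | x :: l, 0, _, hf => by
    have := hf x (List.mem_cons_self ..)
    simp only [apq, List.foldr_cons, Nat.mul_zero, Nat.shiftRight_zero, List.getElem_cons_zero]
    omega
  | x :: l, i + 1, h, hf => by
    have hx := hf x (List.mem_cons_self ..)
    have ih := apq_foldr f l i (by simpa using h) (fun y hy => hf y (List.mem_cons_of_mem _ hy))
    simp only [apq, List.foldr_cons, List.getElem_cons_succ] at ih ⊢
    rw [Nat.shiftRight_eq_div_pow] at ih ⊢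
    rw [show (2 : ℕ) ^ (4 * (i + 1)) = 16 * 2 ^ (4 * i) by rw [show 4 * (i + 1) = 4 + 4 * i by ring, pow_add]; rfl,
      ← Nat.div_div_eq_div_mul, show (f x + 16 * l.foldr (fun x acc => f x + 16 * acc) 0) / 16 =
        l.foldr (fun x acc => f x + 16 * acc) 0 by omega]
    exact ih

theorem apq_packQ {f : ℕ → ℕ} (hf : ∀ x < 16, f x < 16) {i : ℕ} (hi : i < 16) : apq (packQ f) i = f i := by
  unfold packQ
  rw [apq_foldr f _ i (by simpa using hi) (fun x hx => hf x (List.mem_range.1 hx)), List.getElem_range]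

theorem apq_qI {i : ℕ} (hi : i < 16) : apq qI i = i := apq_packQ (fun _ h => h) hi

theorem apq_qMul (p q : ℕ) {i : ℕ} (hi : i < 16) : apq (qMul p q) i = apq p (apq q i) :=
  apq_packQ (fun _ _ => apq_lt _ _) hi

theorem vrow {i : ℕ} (hi : i < 16) : av i < 768 ∧ av i ∈ AList ∧ aix (av i) = i ∧ mmul 0 (av i) (av i) = 0 ∧
    bitVal i = i ∧ ∀ j < 16, vAdd i j < 16 ∧ av (vAdd i j) = mmul 0 (av i) (av j) ∧
      mmul 0 (av i) (av j) = mmul 0 (av j) (av i) := by
  have := of_range_all vAdd_ok.2.2 hi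
  simp only [Bool.and_eq_true, decide_eq_true_eq, beq_iff_eq, List.all_eq_true, List.mem_range,
    List.contains_iff_mem] at this
  obtain ⟨⟨⟨⟨⟨a, b⟩, c⟩, d⟩, e⟩, f⟩ := this
  exact ⟨a, b, c, d, e, fun j hj => ⟨(f j hj).1.1, (f j hj).1.2, (f j hj).2⟩⟩

theorem aix_lt {a : ℕ} (ha : a ∈ AList) : aix a < 16 ∧ av (aix a) = a := by
  have h : AList.idxOf a < AList.length := List.idxOf_lt_length_iff.2 ha
  refine ⟨vAdd_ok.1 ▸ h, ?_⟩
  show AList.getD (AList.idxOf a) 0 = a
  rw [List.getD_eq_getElem _ _ h, List.getElem_idxOf]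

variable {G : Type*} [Group G] {z : G} {φ : ℕ → G}

/-- Acting by a packed action. -/
def Acts (φ : ℕ → G) (n : G) (q : ℕ) : Prop := ∀ i < 16, n * φ (av i) * n⁻¹ = φ (av (apq q i))

theorem Acts.mul {m n : G} {p q : ℕ} (hm : Acts φ m p) (hn : Acts φ n q) : Acts φ (m * n) (qMul p q) := by
  intro i hi
  rw [apq_qMul p q hi, ← hm _ (apq_lt q i), ← hn i hi]
  group

theorem acts_one (φ : ℕ → G) : Acts φ (1 : G) qI := by
  intro i hi
  rw [apq_qI hi]; group

theorem Acts.congr {n : G} {p q : ℕ} (hp : Acts φ n p) (h : ∀ i < 16, apq p i = apq q i) : Acts φ n q :=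
  fun i hi => h i hi ▸ hp i hi

namespace Base

variable (B : Base 0 z φ)
include B

theorem av_inj {i j : ℕ} (hi : i < 16) (hj : j < 16) (h : φ (av i) = φ (av j)) : i = j := by
  rw [← (vrow hi).2.2.1, ← (vrow hj).2.2.1, B.inj _ (vrow hi).1 _ (vrow hj).1 h]

theorem acts_unique {n : G} {p q : ℕ} (hp : Acts φ n p) (hq : Acts φ n q) : ∀ i < 16, apq p i = apq q i :=
  fun i hi => B.av_inj (apq_lt p i) (apq_lt q i) ((hp i hi).symm.trans (hq i hi))

theorem av_mul {i j : ℕ} (hi : i < 16) (hj : j < 16) : φ (av i) * φ (av j) = φ (av (vAdd i j)) := by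
  rw [((vrow hi).2.2.2.2.2 j hj).2.1, B.mul _ (vrow hi).1 _ (vrow hj).1]

theorem av_sq {i : ℕ} (hi : i < 16) : φ (av i) * φ (av i) = 1 := by
  rw [← B.mul _ (vrow hi).1 _ (vrow hi).1, (vrow hi).2.2.2.1, B.one]

theorem av_inv {i : ℕ} (hi : i < 16) : (φ (av i))⁻¹ = φ (av i) := inv_eq_of_mul_eq_one_right (B.av_sq hi)

theorem av_comm {i j : ℕ} (hi : i < 16) (hj : j < 16) : φ (av i) * φ (av j) = φ (av j) * φ (av i) := by
  rw [← B.mul _ (vrow hi).1 _ (vrow hj).1, ← B.mul _ (vrow hj).1 _ (vrow hi).1, ((vrow hi).2.2.2.2.2 j hj).2.2]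

theorem av_zero : φ (av 0) = 1 := B.one

theorem av_two : φ (av 2) = z := B.zc

theorem acts_code {c : ℕ} (hc : c ∈ NAList) : Acts φ (φ c) (qCode c) := by
  simp only [NAList, List.mem_filter, List.mem_range, List.all_eq_true, List.contains_iff_mem] at hc
  intro i hi
  have hm := hc.2 _ (vrow hi).2.1
  unfold qCode
  rw [apq_packQ (fun x hx => (aix_lt (hc.2 _ (vrow hx).2.1)).1) hi, (aix_lt hm).2, B.conj hc.1 (vrow hi).1]

theorem acts_av {i : ℕ} (hi : i < 16) : Acts φ (φ (av i)) qI := by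
  intro j hj
  rw [apq_qI hj, B.av_comm hi hj, mul_inv_cancel_right]

/-- An element acting fixing the involution comes from the normaliser in the centraliser. -/
theorem code_of_acts {n : G} {q : ℕ} (h : Acts φ n q) (h2 : apq q 2 = 2) : ∃ c ∈ NAList, φ c = n := by
  have hz := h 2 (by norm_num)
  rw [h2, B.av_two] at hz
  obtain ⟨c, hc, rfl⟩ := (B.cent n).1 (mul_inv_eq_iff_eq_mul.1 hz)
  refine ⟨c, ?_, rfl⟩
  simp only [NAList, List.mem_filter, List.mem_range, List.all_eq_true, List.contains_iff_mem]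
  refine ⟨hc, fun a ha => ?_⟩
  obtain ⟨hi, e⟩ := aix_lt ha
  have := h _ hi
  rw [e, ← B.conj hc (e ▸ (vrow hi).1)] at this
  rw [B.inj _ (B.conj_lt hc (e ▸ (vrow hi).1)) _ (vrow (apq_lt q _)).1 this]
  exact (vrow (apq_lt q _)).2.1

/-- The subgroup is its own centraliser. -/
theorem mem_av_of_acts {n : G} {q : ℕ} (h : Acts φ n q) (hq : ∀ i < 16, apq q i = i) : ∃ i < 16, φ (av i) = n := by
  obtain ⟨c, hc, rfl⟩ := B.code_of_acts h (hq 2 (by norm_num))
  have hlt : c < 768 := by simp only [NAList, List.mem_filter, List.mem_range] at hc; exact hc.1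
  have hA : c ∈ AList := by
    have := of_range_all cent_A hlt
    simp only [Bool.or_eq_true, Bool.not_eq_true', List.all_eq_false, beq_iff_eq, List.contains_iff_mem] at this
    refine this.resolve_left ?_
    rintro ⟨a, ha, hne⟩
    obtain ⟨hi, e⟩ := aix_lt ha
    have h1 := h _ hi
    rw [hq _ hi, e] at h1
    exact hne ((B.commute_iff hlt (e ▸ (vrow hi).1)).1 (mul_inv_eq_iff_eq_mul.1 h1))
  exact ⟨aix c, (aix_lt hA).1, by rw [(aix_lt hA).2]⟩

/-- Evaluating a word of elements with their actions. -/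
theorem acts_word {gs : List G} {qs : List ℕ} (hlen : gs.length = qs.length)
    (h : ∀ l < gs.length, Acts φ (gs.getD l 1) (qs.getD l qI)) :
    ∀ (w : List ℕ) {n : G} {q : ℕ}, Acts φ n q →
      Acts φ (w.foldl (fun acc l => acc * gs.getD l 1) n) (w.foldl (fun acc l => qMul acc (qs.getD l qI)) q)
  | [], n, q, hn => hn
  | l :: w, n, q, hn => by
    simp only [List.foldl_cons]
    refine acts_word hlen h w (hn.mul ?_)
    by_cases hl : l < gs.length
    · exact h l hl
    · rw [List.getD_eq_default _ _ (not_lt.1 hl), List.getD_eq_default _ _ (hlen ▸ not_lt.1 hl)]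
      exact acts_one φ

end Base

end CfsgAutL34
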