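import Cfsg.Agent.Lib.PSLn.Group
import Cfsg.Agent.Lib.EppoAlmost.List
import Cfsg.Agent.Lib.SLPerfect
import Cfsg.Agent.Lib.SmallSimple.PSL34

/-!
The automorphism group of `PGL₃` over four elements has order at most `241920`.
-/

set_option autoImplicit false
set_option linter.unusedSectionVars false

namespace CfsgAutL34

open Matrix
open scoped MatrixGroups commutatorElement

variable {F : Type*} [Field F] [Fintype F] (hF : Fintype.card F = 4)

local notation "GL3" => GL (Fin 3) F
local notation "PGL3" => GL (Fin 3) F ⧸ Subgroup.center (GL (Fin 3) F)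
local notation "PSL3" => Matrix.ProjectiveSpecialLinearGroup (Fin 3) F

theorem toGL_center_iff (A : Matrix.SpecialLinearGroup (Fin 3) F) :
    SpecialLinearGroup.toGL A ∈ Subgroup.center GL3 ↔ A ∈ Subgroup.center (Matrix.SpecialLinearGroup (Fin 3) F) := by
  constructor
  · intro h
    rw [Subgroup.mem_center_iff] at h ⊢
    intro B
    have := h (SpecialLinearGroup.toGL B)
    rw [← map_mul, ← map_mul] at this
    exact Subtype.ext (congrArg Units.val this :)
  · intro h
    obtain ⟨r, -, hr⟩ := Matrix.SpecialLinearGroup.mem_center_iff.1 h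
    rw [Subgroup.mem_center_iff]
    intro g
    apply Units.ext
    rw [Units.val_mul, Units.val_mul]
    show g.1 * A.1 = A.1 * g.1
    rw [← hr]
    exact ((Matrix.scalar_commute r (fun r' => Commute.all r r') g.1).eq).symm

/-- The socle inside the projective linear group. -/
noncomputable def socHom : PSL3 →* PGL3 :=
  QuotientGroup.lift _ ((QuotientGroup.mk' _).comp SpecialLinearGroup.toGL) fun A hA => by
    rw [MonoidHom.mem_ker, MonoidHom.comp_apply, QuotientGroup.mk'_apply, QuotientGroup.eq_one_iff]
    exact (toGL_center_iff A).2 hA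

theorem socHom_mk (A : Matrix.SpecialLinearGroup (Fin 3) F) :
    socHom (CfsgLib.PSLn.mk A) = QuotientGroup.mk (SpecialLinearGroup.toGL A) := rfl

theorem socHom_injective : Function.Injective (socHom : PSL3 →* PGL3) := by
  rw [← MonoidHom.ker_eq_bot_iff, Subgroup.eq_bot_iff_forall]
  intro x hx
  obtain ⟨A, rfl⟩ := CfsgLib.PSLn.mk_surjective x
  rw [MonoidHom.mem_ker, socHom_mk, QuotientGroup.eq_one_iff, toGL_center_iff] at hx
  exact (QuotientGroup.eq_one_iff A).2 hx

theorem socHom_range : (socHom : PSL3 →* PGL3).range = commutator PGL3 := by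
  refine le_antisymm ?_ ?_
  · rintro _ ⟨x, rfl⟩
    obtain ⟨A, rfl⟩ := CfsgLib.PSLn.mk_surjective x
    rw [socHom_mk]
    have h : A ∈ commutator (Matrix.SpecialLinearGroup (Fin 3) F) := by
      rw [CfsgLib.SLPerfect.commutator_eq_top le_rfl]; trivial
    have := Subgroup.mem_map_of_mem ((QuotientGroup.mk' (Subgroup.center GL3)).comp SpecialLinearGroup.toGL) h
    rw [commutator_def, Subgroup.map_commutator] at this
    exact Subgroup.commutator_mono le_top le_top this
  · rw [commutator_def, Subgroup.commutator_le]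
    intro p _ q _
    obtain ⟨a, rfl⟩ := QuotientGroup.mk'_surjective _ p
    obtain ⟨b, rfl⟩ := QuotientGroup.mk'_surjective _ q
    obtain ⟨A, hA⟩ := CfsgLib.PSLn.exists_toGL_of_det_one ⁅a, b⁆ (by
      rw [map_commutatorElement, commutatorElement_eq_one_iff_commute]; exact Commute.all _ _)
    exact ⟨CfsgLib.PSLn.mk A, by rw [socHom_mk, hA, ← map_commutatorElement]; rfl⟩

theorem socle_cent (q : PGL3) (h : ∀ x : PSL3, q * socHom x = socHom x * q) : q = 1 := by
  obtain ⟨g, rfl⟩ := QuotientGroup.mk'_surjective _ q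
  refine (QuotientGroup.eq_one_iff g).2 ?_
  rw [← CfsgLib.PSLn.ker_diagAut (n := 3) (by norm_num), MonoidHom.mem_ker]
  ext x
  obtain ⟨A, rfl⟩ := CfsgLib.PSLn.mk_surjective x
  rw [CfsgLib.PSLn.diagAut_mk, MulAut.one_apply]
  refine socHom_injective ?_
  rw [socHom_mk, socHom_mk]
  have e : SpecialLinearGroup.toGL (CfsgLib.PSLn.conjSL g A) = g * SpecialLinearGroup.toGL A * g⁻¹ := Units.ext rfl
  rw [e, QuotientGroup.mk_mul, QuotientGroup.mk_mul, QuotientGroup.mk_inv, mul_inv_eq_iff_eq_mul]
  exact h (CfsgLib.PSLn.mk A)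

theorem aut_preserves (α : MulAut PGL3) (x : PSL3) : α (socHom x) ∈ (socHom : PSL3 →* PGL3).range := by
  rw [socHom_range]
  have h : socHom x ∈ commutator PGL3 := by rw [← socHom_range]; exact ⟨x, rfl⟩
  have := Subgroup.mem_map_of_mem α.toMonoidHom h
  rw [commutator_def, Subgroup.map_commutator] at this
  exact Subgroup.commutator_mono le_top le_top this

/-- The restriction of an automorphism to the socle. -/
noncomputable def resAut (α : MulAut PGL3) : PSL3 →* PSL3 :=
  (MonoidHom.ofInjective socHom_injective).symm.toMonoidHom.comp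
    ((α.toMonoidHom.comp socHom).codRestrict _ (aut_preserves α))

theorem socHom_resAut (α : MulAut PGL3) (x : PSL3) : socHom (resAut α x) = α (socHom x) := by
  show socHom ((MonoidHom.ofInjective socHom_injective).symm _) = _
  rw [MonoidHom.apply_ofInjective_symm socHom_injective]
  rfl

theorem resAut_injective {α β : MulAut PGL3} (h : resAut α = resAut β) : α = β := by
  have hx : ∀ x, α (socHom x) = β (socHom x) := fun x => by rw [← socHom_resAut, ← socHom_resAut, h]
  refine MulEquiv.ext fun q => ?_
  have hq : (β q)⁻¹ * α q = 1 := socle_cent _ fun x => by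
    obtain ⟨y, hy⟩ : ∃ y, β (socHom y) = socHom x := by
      obtain ⟨y, hy⟩ := aut_preserves β.symm x
      exact ⟨y, by rw [hy]; exact β.apply_symm_apply _⟩
    rw [← hy]
    obtain ⟨y', hy'⟩ : ∃ y', socHom y' = q * socHom y * q⁻¹ := by
      haveI : (socHom : PSL3 →* PGL3).range.Normal := by rw [socHom_range]; infer_instance
      exact (inferInstance : (socHom : PSL3 →* PGL3).range.Normal).conj_mem _ ⟨y, rfl⟩ q
    have e := hx y'
    rw [hy', map_mul, map_mul, map_inv, map_mul, map_mul, map_inv, hx y] at e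
    calc (β q)⁻¹ * α q * β (socHom y) = (β q)⁻¹ * (α q * β (socHom y) * (α q)⁻¹) * α q := by group
      _ = β (socHom y) * ((β q)⁻¹ * α q) := by rw [e]; group
  exact (inv_mul_eq_one.1 hq).symm

include hF

theorem card_PGL : Nat.card PGL3 = 60480 := by
  have h := Subgroup.card_eq_card_quotient_mul_card_subgroup (Subgroup.center GL3)
  have hc : Nat.card ↥(Subgroup.center GL3) = 3 := by
    rw [GeneralLinearGroup.center_eq_range_scalar]
    have hinj : Function.Injective (GeneralLinearGroup.scalar (Fin 3) : Fˣ →* GL3) := fun u v e => by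
      have := congrArg (fun g : GL3 => g.1 0 0) e
      exact Units.ext (by simpa [Matrix.scalar_apply] using this)
    rw [← Nat.card_congr (MonoidHom.ofInjective hinj).toEquiv, Nat.card_units, Nat.card_eq_fintype_card, hF]
  rw [Matrix.card_GL_field, Fin.prod_univ_three, hF, hc] at h
  norm_num at h
  omega

theorem card_aut_le : Nat.card (MulAut PGL3) ≤ 241920 := by
  classical
  haveI : Fact (Nat.Prime 2) := ⟨Nat.prime_two⟩
  haveI := CfsgLib.PSL34.char_two hF
  haveI : Finite (MulAut PSL3) := Finite.of_injective (fun f : MulAut PSL3 => (f : PSL3 → PSL3)) DFunLike.coe_injective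
  haveI : Finite (RingAut F) := Finite.of_injective (fun f : RingAut F => (f : F → F)) DFunLike.coe_injective
  have hR : Nat.card (RingAut F) = 2 := (CfsgLib.PSLn.ringAut_cyclic (p := 2) (f := 2) (by rw [hF]; norm_num)).2
  have hD : Nat.card ↥(CfsgLib.PSLn.diagAut : GL3 →* MulAut PSL3).range = 60480 := by
    rw [← Nat.card_congr (QuotientGroup.quotientKerEquivRange _).toEquiv,
      Nat.card_congr (QuotientGroup.quotientMulEquivOfEq (CfsgLib.PSLn.ker_diagAut (n := 3) (by norm_num))).toEquiv,
      card_PGL hF]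
  have hres : ∀ α : MulAut PGL3, Function.Bijective (resAut α) := fun α => by
    refine Finite.injective_iff_bijective.1 fun x y h => socHom_injective (α.injective ?_)
    rw [← socHom_resAut, ← socHom_resAut, h]
  refine le_trans (Nat.card_le_card_of_injective (fun α => (MulEquiv.ofBijective (resAut α) (hres α) : MulAut PSL3))
    (fun α β h => resAut_injective (MonoidHom.ext fun x => (congrArg (fun e : MulAut PSL3 => e x) h :)))) ?_
  refine le_trans (Nat.card_le_card_of_surjective
    (fun t : ↥(CfsgLib.PSLn.diagAut : GL3 →* MulAut PSL3).range × RingAut F × Bool =>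
      if t.2.2 then (t.1 : MulAut PSL3) * CfsgLib.PSLn.fieldAut t.2.1 * CfsgLib.PSLn.graphAut
      else (t.1 : MulAut PSL3) * CfsgLib.PSLn.fieldAut t.2.1) ?_) ?_
  · intro φ
    obtain ⟨g, e, h | h⟩ := CfsgLib.PSLn.exists_decomposition 2 le_rfl φ
    · exact ⟨(⟨_, g, rfl⟩, e, false), h.symm⟩
    · exact ⟨(⟨_, g, rfl⟩, e, true), h.symm⟩
  · rw [Nat.card_prod, Nat.card_prod, hD, hR, Nat.card_eq_fintype_card, Fintype.card_bool]

end CfsgAutL34
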