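import Cfsg.Agent.Lib.AutL34Type.EChecks

/-!
Kernel checks on automorphisms given by the images of the four generators.
-/

set_option autoImplicit false
set_option maxRecDepth 100000
set_option Elab.async false

namespace CfsgAutL34

/-- The image of a generator in a packed tuple. -/
def comp (t g : ℕ) : ℕ := t / (if g = 1 then 1 else if g = 2 then 32 else if g = 4 then 1024 else 32768) % 32

/-- The map with the given images of the generators. -/
def autOf (t x : ℕ) : ℕ :=
  let w := (esplit x).foldl (fun acc g => emul acc (comp t g)) 0
  if (esplit x).foldl emul 0 == x then w else emul w 16

/-- One representative of each pair of involutions outside the centre. -/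
def pairs : List ℕ := invs.filter fun v => v < 16

/-- An automorphism sending the first generator into each pair. -/
def repAut (i : ℕ) : ℕ := ((cands invs).filter fun t => comp t 1 == pairs.getD i 0).headD 0

theorem pairs_ok : pairs.length = 5 ∧ pairs.Nodup ∧
    (invs.all fun v => pairs.any fun p => v == p || v == emul p 16) = true ∧
    ((List.range 5).all fun i => (List.range 5).all fun j => i == j || pairs.getD i 0 != emul (pairs.getD j 0) 16) = true
    ∧ (pairs.all fun p => invs.contains p && decide (p < 32)) = true := by decide +kernel

theorem inner_fix : ((List.range 32).all fun e => pairs.all fun p => econj e p == p || econj e p == emul p 16) = true := by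
  decide +kernel

theorem fix_inner : ((cands invs).all fun t =>
    !(pairs.all fun p => autOf t p == p || autOf t p == emul p 16) ||
      ((List.range 32).any fun e => tup (econj e) == t)) = true := by decide +kernel

theorem repAut_ok : ((List.range 5).all fun i =>
    let t := repAut i
    autOf t 0 == 0 && autOf t 16 == 16 && autOf t 1 == pairs.getD i 0 &&
    ((List.range 32).all fun x => decide (autOf t x < 32) && (List.range 32).all fun y =>
      autOf t (emul x y) == emul (autOf t x) (autOf t y) && (x == y || autOf t x != autOf t y))) = true := by
  decide +kernel

end CfsgAutL34
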