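import Cfsg.Agent.Lib.AutL34Type.NCalc

/-!
Kernel checks on the centraliser of the element `140` of order three.
-/

set_option autoImplicit false
set_option maxRecDepth 100000
set_option maxHeartbeats 4000000
set_option Elab.async false

namespace CfsgAutL34

/-- The codes commuting with `140`. -/
def CDList : List ℕ := [0, 1, 2, 3, 16, 17, 18, 19, 140, 141, 142, 143, 156, 157, 158, 159, 196, 197, 198, 199, 212, 213,
  214, 215]

/-- The product of the four group and the group of order three. -/
def UDList : List ℕ := [0, 1, 16, 17, 140, 141, 156, 157, 196, 197, 212, 213]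

/-- The group of order three. -/
def PList : List ℕ := [0, 140, 196]

theorem CD_ok : ((List.range 768).all fun y => comm0 y 140 == CDList.contains y) = true ∧
    (CDList.all fun y => decide (y < 768) && PList.contains (mmul 0 (mmul 0 y y) (mmul 0 y y)) &&
      (mmul 0 y y != 0 || UList.contains y ||
        (List.range 768).all fun c => mconj 0 c y != 1 && mconj 0 c y != 160) &&
      UDList.contains (mmul 0 y y) &&
      (CDList.all fun y' => UDList.contains (mmul 0 y y') == (UDList.contains y == UDList.contains y'))) = true ∧
    (UDList.all fun y => UList.any fun u => PList.any fun p => mmul 0 u p == y) = true ∧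
    (UList.all fun u => PList.all fun p => UDList.contains (mmul 0 u p) && CDList.contains u) = true ∧
    (UList.all fun u => u == 0 || u == 16 ||
      CDList.any fun s => !(PList.any fun p => mmul 0 (mmul 0 s u) p == mmul 0 u s)) = true ∧
    CDList.contains 2 = true ∧ UDList.contains 2 = false := by decide +kernel

theorem rU_ok : pMul (pMul pR (pOf 16)) (pMul pR pR) = pOf 1 ∧ pMul (pMul pR (pOf 1)) (pMul pR pR) = pOf 17 ∧
    pMul (pMul pR (pOf 17)) (pMul pR pR) = pOf 16 ∧ pMul pR (pOf 140) = pMul (pOf 140) pR ∧
    ([1, 16, 17, 140].all fun c => NAList.contains c) = true := by decide +kernel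

theorem alt5_six : ∀ a : ↥(alternatingGroup (Fin 5)), (Finset.univ.filter fun i : ↥(alternatingGroup (Fin 5)) =>
    i * i = 1 ∧ i ≠ 1 ∧ a * i * a⁻¹ ≠ i ∧ i * (a * i * a⁻¹) = a * i * a⁻¹ * i).card ≤ 6 := by decide +kernel

end CfsgAutL34
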