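import Cfsg.Agent.Lib.AutL34Type.GammaChecks
import Cfsg.Agent.Lib.AutL34Type.CentdChecks

/-!
Kernel checks for the relation between the two exchanging elements.
-/

set_option autoImplicit false
set_option maxRecDepth 100000
set_option maxHeartbeats 4000000
set_option Elab.async false

namespace CfsgAutL34

/-- The word of the involution exchanging the two groups of order three. -/
def wP : List ℕ := [0, 0, 1, 2, 0]

/-- Its pair. -/
def pP : ℕ × ℕ := (0, qWord qGens wP)

/-- The pair of an element of the group of order nine. -/
def pE (a b : ℕ) : ℕ × ℕ := pMul ((List.range a).foldl (fun acc _ => pMul acc pR) pI)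
  ((List.range b).foldl (fun acc _ => pMul acc (pOf 140)) pI)

theorem p_rel : pMul pP pP = pI ∧ pMul (pMul pP pR) pP = pE 2 0 ∧ pMul (pMul pP (pOf 140)) pP = pE 2 1 ∧
    ((List.range 3).all fun a => (List.range 3).all fun b => (List.range 3).all fun a' => (List.range 3).all fun b' =>
      a == a' && b == b' || pE a b != pE a' b') = true ∧ NAList.contains 140 = true := by decide +kernel

theorem fix_r : ([46, 62].all fun g => CDList.all fun c =>
    PList.contains c ||
      (if NAList.contains c then pMul pR (pOf c) != pMul (pOf c) pR
       else NAList.contains (mmul 0 g c) && pMul (pOf (mmul 0 g c)) pR != pMul pT (pOf (mmul 0 g c)))) = true := by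
  decide +kernel

end CfsgAutL34
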