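import Cfsg.Agent.Lib.AutL34Type.Centd
import Cfsg.Agent.Lib.AutL34Type.BraidChecks

/-!
The relation of order six between the two exchanging elements.
-/

set_option autoImplicit false
set_option maxRecDepth 100000
set_option linter.unusedSectionVars false

namespace CfsgAutL34

attribute [local irreducible] pMul pOf pT mconj mmul minv pE pP qWord

/-- The main case. -/
structure Main {G : Type*} [Group G] (z : G) (φ : ℕ → G) (r σ : G) (γ : ℕ) : Prop where
  F : Frame z φ r σ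
  hγ : γ ∈ ([46, 62] : List ℕ)
  rel : φ γ * r * (φ γ)⁻¹ = r * φ 196

variable {G : Type*} [Group G] [Finite G] {z : G} {φ : ℕ → G} {r σ : G} {γ : ℕ}

/-- The main case arises. -/
theorem exists_main (B : Base 0 z φ) (h : ∃ g : G, g * z * g⁻¹ = φ 160 ∧ g * φ 160 * g⁻¹ = z) :
    ∃ r σ γ, Main z φ r σ γ := by
  obtain ⟨g, hg, hg'⟩ := h
  obtain ⟨r, σ, F⟩ := B.exists_frame hg hg'
  obtain ⟨c, hc, e⟩ := F.exists_gamma
  exact ⟨r, σ, c, F, hc, e⟩

/-- The involution exchanging the two groups of order three. -/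
def elP (φ : ℕ → G) (σ : G) : G := wP.foldl (fun acc l => acc * [φ 332, φ 140, σ].getD l 1) 1

/-- The elements of the group of order nine. -/
def elT (φ : ℕ → G) (r : G) (a b : ℕ) : G := r ^ a * φ 140 ^ b

namespace Main

variable (D : Main z φ r σ γ)
include D

theorem γ_facts : γ < 768 ∧ φ γ * φ γ = 1 ∧ φ γ * φ 140 * (φ γ)⁻¹ = φ 196 ∧ φ γ * φ 1 = φ 1 * φ γ ∧ γ ∉ NAList := by
  have hlt : γ < 768 := by
    have := D.hγ; simp at this; omega
  have := of_all gamma_d.1 D.hγ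
  simp only [Bool.and_eq_true, beq_iff_eq, comm0, Bool.not_eq_true'] at this
  refine ⟨hlt, ?_, ?_, (D.F.B.commute_iff hlt (by norm_num)).2 this.1.2, fun h => ?_⟩
  · rw [← D.F.B.mul _ hlt _ hlt, this.1.1.1, D.F.B.one]
  · rw [← D.F.B.conj hlt (by norm_num), this.1.1.2]
  · have h' := List.contains_iff_mem.2 h
    rw [this.2] at h'
    exact Bool.false_ne_true h'

theorem d_facts : φ 140 ^ 3 = 1 ∧ φ 196 = φ 140 ^ 2 ∧ Commute r (φ 140) := by
  have h140 : (140 : ℕ) < 768 := by norm_num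
  refine ⟨?_, ?_, D.F.r_U.2.2.2⟩
  · rw [pow_succ, sq, ← D.F.B.mul _ h140 _ h140, gamma_d.2.1, ← D.F.B.mul _ (by norm_num) _ h140]
    rw [show mmul 0 196 140 = 0 by decide +kernel, D.F.B.one]
  · rw [sq, ← D.F.B.mul _ h140 _ h140, gamma_d.2.1]

theorem elT_mul (a b a' b' : ℕ) : elT φ r a b * elT φ r a' b' = elT φ r (a + a') (b + b') := by
  have h : Commute (φ 140 ^ b) (r ^ a') := (D.d_facts.2.2.pow_pow a' b).symm
  unfold elT
  rw [pow_add, pow_add, mul_assoc, ← mul_assoc (φ 140 ^ b), h.eq]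
  simp only [mul_assoc]

theorem elT_pow (a b n : ℕ) : elT φ r a b ^ n = elT φ r (a * n) (b * n) := by
  induction n with
  | zero => simp [elT]
  | succ n ih => rw [pow_succ, ih, D.elT_mul]; rfl

theorem elT_mod (a b : ℕ) : elT φ r a b = elT φ r (a % 3) (b % 3) := by
  have hr : r ^ 3 = 1 := by rw [pow_succ, sq]; exact D.F.r3
  have h : ∀ (x : G), x ^ 3 = 1 → ∀ n : ℕ, x ^ n = x ^ (n % 3) := fun x hx n => by
    conv_lhs => rw [← Nat.mod_add_div n 3, pow_add, pow_mul, hx, one_pow, mul_one]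
  unfold elT
  rw [h r hr a, h _ D.d_facts.1 b]

theorem rep_elT (a b : ℕ) : Rep φ r (elT φ r a b) (pE a b) := by
  have h : ∀ (x : G) (p : ℕ × ℕ), Rep φ r x p → ∀ n : ℕ,
      Rep φ r (x ^ n) ((List.range n).foldl (fun acc _ => pMul acc p) pI) := by
    intro x p hx n
    induction n with
    | zero => simpa using D.F.rep_one
    | succ n ih =>
      rw [pow_succ, List.range_succ, List.foldl_append]
      exact D.F.rep_mul ih hx
  unfold elT pE
  exact D.F.rep_mul (h r pR D.F.rep_r a) (h _ _ (D.F.rep_code (List.contains_iff_mem.1 p_rel.2.2.2.2)) b)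

theorem rep_P : Rep φ r (elP φ σ) pP := by
  unfold pP
  exact D.F.rep_word wP

theorem P_sq : elP φ σ * elP φ σ = 1 :=
  D.F.rep_unique (p_rel.1 ▸ D.F.rep_mul D.rep_P D.rep_P) D.F.rep_one

theorem P_inv : (elP φ σ)⁻¹ = elP φ σ := inv_eq_of_mul_eq_one_right D.P_sq

theorem γ_inv : (φ γ)⁻¹ = φ γ := inv_eq_of_mul_eq_one_right D.γ_facts.2.1

theorem conj_P (a b : ℕ) : elP φ σ * elT φ r a b * (elP φ σ)⁻¹ = elT φ r (2 * a + 2 * b) b := by
  have hr : elP φ σ * r * (elP φ σ)⁻¹ = elT φ r 2 0 := by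
    rw [D.P_inv]
    exact D.F.rep_unique (p_rel.2.1 ▸ D.F.rep_mul (D.F.rep_mul D.rep_P D.F.rep_r) D.rep_P) (D.rep_elT 2 0)
  have hd : elP φ σ * φ 140 * (elP φ σ)⁻¹ = elT φ r 2 1 := by
    rw [D.P_inv]
    exact D.F.rep_unique (p_rel.2.2.1 ▸ D.F.rep_mul (D.F.rep_mul D.rep_P
      (D.F.rep_code (List.contains_iff_mem.1 p_rel.2.2.2.2))) D.rep_P) (D.rep_elT 2 1)
  rw [show elT φ r a b = r ^ a * φ 140 ^ b from rfl, ← conj_mul, ← conj_pow, ← conj_pow, hr, hd, D.elT_pow, D.elT_pow,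
    D.elT_mul, zero_mul, one_mul, Nat.zero_add]

theorem conj_γ (a b : ℕ) : φ γ * elT φ r a b * (φ γ)⁻¹ = elT φ r a (2 * a + 2 * b) := by
  have hr : φ γ * r * (φ γ)⁻¹ = elT φ r 1 2 := by
    rw [D.rel, D.d_facts.2.1]; simp [elT]
  have hd : φ γ * φ 140 * (φ γ)⁻¹ = elT φ r 0 2 := by
    rw [D.γ_facts.2.2.1, D.d_facts.2.1]; simp [elT]
  rw [show elT φ r a b = r ^ a * φ 140 ^ b from rfl, ← conj_mul, ← conj_pow, ← conj_pow, hr, hd, D.elT_pow, D.elT_pow,
    D.elT_mul, zero_mul, one_mul, Nat.add_zero]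

/-- The first product of length five. -/
theorem conj_w1 (a b : ℕ) :
    elP φ σ * φ γ * elP φ σ * φ γ * elP φ σ * elT φ r a b * (elP φ σ * φ γ * elP φ σ * φ γ * elP φ σ)⁻¹ =
      elT φ r a (2 * a + 2 * b) := by
  calc _ = elP φ σ * (φ γ * (elP φ σ * (φ γ * (elP φ σ * elT φ r a b * (elP φ σ)⁻¹) * (φ γ)⁻¹) * (elP φ σ)⁻¹) *
        (φ γ)⁻¹) * (elP φ σ)⁻¹ := by group
    _ = _ := by
      rw [D.conj_P, D.conj_γ, D.conj_P, D.conj_γ, D.conj_P, D.elT_mod, D.elT_mod a]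
      congr 1 <;> omega

theorem conj_w2 (a b : ℕ) :
    φ γ * (elP φ σ * φ γ * elP φ σ * φ γ * elP φ σ) * φ γ * elT φ r a b *
      (φ γ * (elP φ σ * φ γ * elP φ σ * φ γ * elP φ σ) * φ γ)⁻¹ = elT φ r a (2 * a + 2 * b) := by
  calc _ = φ γ * (elP φ σ * φ γ * elP φ σ * φ γ * elP φ σ * (φ γ * elT φ r a b * (φ γ)⁻¹) *
        (elP φ σ * φ γ * elP φ σ * φ γ * elP φ σ)⁻¹) * (φ γ)⁻¹ := by group
    _ = _ := by
      rw [D.conj_γ, D.conj_w1, D.conj_γ, D.elT_mod, D.elT_mod a (2 * a + 2 * b)]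
      congr 1; omega

open scoped Classical in
/-- The image of the four group under an element acting like the first product. -/
theorem image_U (w : G) (hw : ∀ a b, w * elT φ r a b * w⁻¹ = elT φ r a (2 * a + 2 * b))
    (U3 : Finset G) (hU3 : ∀ i, i ∈ U3 ↔ ∃ u ∈ UList, u ≠ 0 ∧ φ u = i) :
    (∀ i ∈ U3.image (fun u => w * u * w⁻¹), i ∈ RInv z φ r) ∧
      ((∃ i ∈ U3.image (fun u => w * u * w⁻¹), i ∈ U3) → U3.image (fun u => w * u * w⁻¹) = U3) := by
  have hd : ∀ u ∈ U3, Commute u (φ 140) := by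
    intro u hu
    obtain ⟨c, hc, -, rfl⟩ := (hU3 u).1 hu
    have h2 : c < 768 ∧ mmul 0 c 140 = mmul 0 140 c := by
      simp only [UList, List.mem_cons, List.not_mem_nil, or_false] at hc
      rcases hc with rfl | rfl | rfl | rfl <;> decide +kernel
    exact (D.F.B.commute_iff h2.1 (by norm_num)).2 h2.2
  have hd' : φ 140 = w * elT φ r 0 2 * w⁻¹ := by
    rw [hw, D.elT_mod]; simp [elT]
  have hr' : r = w * elT φ r 1 2 * w⁻¹ := by
    rw [hw, D.elT_mod]; simp [elT]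
  have himd : ∀ u ∈ U3, w * u * w⁻¹ * φ 140 = φ 140 * (w * u * w⁻¹) := by
    intro u hu
    rw [hd']
    refine comm_conj w ?_
    rw [show elT φ r 0 2 = φ 140 ^ 2 by simp [elT]]
    exact ((hd u hu).pow_right 2).eq
  have himr : ∀ u ∈ U3, r * (w * u * w⁻¹) * r⁻¹ = w * (r * u * r⁻¹) * w⁻¹ := by
    intro u hu
    have hcu : φ 140 ^ 2 * u * (φ 140 ^ 2)⁻¹ = u := by
      rw [← ((hd u hu).pow_right 2).eq, mul_inv_cancel_right]
    nth_rewrite 1 [hr']
    nth_rewrite 2 [hr']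
    rw [show elT φ r 1 2 = r * φ 140 ^ 2 by simp [elT]]
    calc _ = w * (r * (φ 140 ^ 2 * u * (φ 140 ^ 2)⁻¹) * r⁻¹) * w⁻¹ := by group
      _ = _ := by rw [hcu]
  have hcls : ∀ u ∈ U3, u ∈ cls z := fun u hu => by
    obtain ⟨c, hc, hc0, rfl⟩ := (hU3 u).1 hu
    exact D.F.U_cls hc hc0
  refine ⟨fun i hi => ?_, ?_⟩
  · obtain ⟨u, hu, rfl⟩ := Finset.mem_image.1 hi
    refine ⟨cls_conj (hcls u hu) w, himd u hu, ?_, ?_⟩
    · rw [himr u hu]
      intro h
      have h' : r * u * r⁻¹ = u := mul_left_cancel (mul_right_cancel h)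
      obtain ⟨c, hc, hc0, rfl⟩ := (hU3 u).1 hu
      obtain ⟨h1, h2, h3, -⟩ := D.F.r_U
      simp only [UList, List.mem_cons, List.not_mem_nil, or_false] at hc
      rcases hc with rfl | rfl | rfl | rfl
      · exact hc0 rfl
      · exact absurd (D.F.B.inj 17 (by norm_num) 1 (by norm_num) (h2.symm.trans h')) (by norm_num)
      · exact absurd (D.F.B.inj 1 (by norm_num) 16 (by norm_num) (h1.symm.trans h')) (by norm_num)
      · exact absurd (D.F.B.inj 16 (by norm_num) 17 (by norm_num) (h3.symm.trans h')) (by norm_num)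
    · rw [himr u hu]
      refine comm_conj w ?_
      obtain ⟨c, hc, hc0, rfl⟩ := (hU3 u).1 hu
      obtain ⟨h1, h2, h3, -⟩ := D.F.r_U
      simp only [UList, List.mem_cons, List.not_mem_nil, or_false] at hc
      rcases hc with rfl | rfl | rfl | rfl
      · exact absurd rfl hc0
      · rw [h2]; exact (D.F.B.commute_iff (by norm_num) (by norm_num)).2 (by decide +kernel)
      · rw [h1]; exact (D.F.B.commute_iff (by norm_num) (by norm_num)).2 (by decide +kernel)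
      · rw [h3]; exact (D.F.B.commute_iff (by norm_num) (by norm_num)).2 (by decide +kernel)
  · rintro ⟨i, hi, hiU⟩
    refine Finset.eq_of_subset_of_card_le (fun j hj => ?_) (le_of_eq ?_)
    · obtain ⟨u, hu, rfl⟩ := Finset.mem_image.1 hj
      obtain ⟨v, hv, rfl⟩ := Finset.mem_image.1 hi
      have hcomm : u * v = v * u := by
        obtain ⟨a, ha, -, rfl⟩ := (hU3 u).1 hu
        obtain ⟨b, hb, -, rfl⟩ := (hU3 v).1 hv
        have hUc : ∀ x ∈ UList, ∀ y ∈ UList, x < 768 ∧ mmul 0 x y = mmul 0 y x := by decide +kernel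
        exact (D.F.B.commute_iff (hUc a ha b hb).1 (hUc b hb a ha).1).2 (hUc a ha b hb).2
      obtain ⟨c, hc, hc0, e⟩ := (hU3 _).1 hiU
      refine (hU3 _).2 (D.F.U_comm hc hc0 (cls_conj (hcls u hu) w) (himd u hu) ?_)
      rw [e]
      exact comm_conj w hcomm
    · rw [Finset.card_image_of_injective _ fun x y h => mul_left_cancel (mul_right_cancel h)]

/-- The braid relation. -/
theorem braid : (elP φ σ * φ γ) ^ 6 = 1 := by
  classical
  obtain ⟨p, hp⟩ : ∃ p, elP φ σ = p := ⟨_, rfl⟩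
  obtain ⟨c, hc⟩ : ∃ c, φ γ = c := ⟨_, rfl⟩
  have hp2 : p * p = 1 := hp ▸ D.P_sq
  have hc2 : c * c = 1 := hc ▸ D.γ_facts.2.1
  have hpi : p⁻¹ = p := hp ▸ D.P_inv
  have hci : c⁻¹ = c := hc ▸ D.γ_inv
  obtain ⟨w1, hw1⟩ : ∃ w, p * c * p * c * p = w := ⟨_, rfl⟩
  obtain ⟨w2, hw2⟩ : ∃ w, c * w1 * c = w := ⟨_, rfl⟩
  have h1 : ∀ a b, w1 * elT φ r a b * w1⁻¹ = elT φ r a (2 * a + 2 * b) := by
    rw [← hw1, ← hp, ← hc]; exact D.conj_w1
  have h2 : ∀ a b, w2 * elT φ r a b * w2⁻¹ = elT φ r a (2 * a + 2 * b) := by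
    rw [← hw2, ← hw1, ← hp, ← hc]; exact D.conj_w2
  obtain ⟨U3, hU3def⟩ : ∃ U3 : Finset G, U3 = ([16, 1, 17] : List ℕ).toFinset.image φ := ⟨_, rfl⟩
  have hU3 : ∀ i, i ∈ U3 ↔ ∃ u ∈ UList, u ≠ 0 ∧ φ u = i := by
    intro i
    simp only [hU3def, Finset.mem_image, List.mem_toFinset, List.mem_cons, List.not_mem_nil, or_false, UList]
    constructor
    · rintro ⟨u, hu, rfl⟩
      rcases hu with rfl | rfl | rfl
      exacts [⟨16, by simp, by norm_num, rfl⟩, ⟨1, by simp, by norm_num, rfl⟩, ⟨17, by simp, by norm_num, rfl⟩]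
    · rintro ⟨u, hu, hu0, rfl⟩
      rcases hu with rfl | rfl | rfl | rfl
      exacts [absurd rfl hu0, ⟨1, by simp, rfl⟩, ⟨16, by simp, rfl⟩, ⟨17, by simp, rfl⟩]
  have hcard : U3.card = 3 := by
    rw [hU3def, Finset.card_image_of_injOn]
    · rfl
    · have hlt : ∀ u ∈ ([16, 1, 17] : List ℕ).toFinset, u < 768 := by decide +kernel
      exact fun a ha b hb h => D.F.B.inj _ (hlt a ha) _ (hlt b hb) h
  obtain ⟨hm1, he1⟩ := D.image_U w1 h1 U3 hU3
  obtain ⟨hm2, he2⟩ := D.image_U w2 h2 U3 hU3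
  obtain ⟨hm0, -⟩ : (∀ i ∈ U3, i ∈ RInv z φ r) ∧ True := by
    refine ⟨fun i hi => ?_, trivial⟩
    obtain ⟨u, hu, hu0, rfl⟩ := (hU3 i).1 hi
    obtain ⟨r1, r2, r3, r4⟩ := D.F.r_U
    have hcd : ∀ v, v = 1 ∨ v = 16 ∨ v = 17 → ∀ w, (w = 1 ∨ w = 16 ∨ w = 17 ∨ w = 140) → φ v * φ w = φ w * φ v := by
      intro v hv w hw
      refine (D.F.B.commute_iff (by omega) (by omega)).2 ?_
      rcases hv with rfl | rfl | rfl <;> rcases hw with rfl | rfl | rfl | rfl <;> decide +kernel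
    have hu' := hu
    simp only [UList, List.mem_cons, List.not_mem_nil, or_false] at hu'
    refine ⟨D.F.U_cls hu hu0, hcd u (by omega) 140 (by omega), ?_⟩
    rcases hu' with rfl | rfl | rfl | rfl
    · exact absurd rfl hu0
    · rw [r2]; exact ⟨fun h => absurd (D.F.B.inj 17 (by norm_num) 1 (by norm_num) h) (by norm_num),
        hcd 1 (by omega) 17 (by omega)⟩
    · rw [r1]; exact ⟨fun h => absurd (D.F.B.inj 1 (by norm_num) 16 (by norm_num) h) (by norm_num),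
        hcd 16 (by omega) 1 (by omega)⟩
    · rw [r3]; exact ⟨fun h => absurd (D.F.B.inj 16 (by norm_num) 17 (by norm_num) h) (by norm_num),
        hcd 17 (by omega) 16 (by omega)⟩
  obtain ⟨W1, hW1⟩ : ∃ W, U3.image (fun u => w1 * u * w1⁻¹) = W := ⟨_, rfl⟩
  obtain ⟨W2, hW2⟩ : ∃ W, U3.image (fun u => w2 * u * w2⁻¹) = W := ⟨_, rfl⟩
  rw [hW1] at hm1 he1
  rw [hW2] at hm2 he2
  have hcard1 : W1.card = 3 := by
    rw [← hW1, Finset.card_image_of_injective _ fun x y h => mul_left_cancel (mul_right_cancel h), hcard]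
  have hcard2 : W2.card = 3 := by
    rw [← hW2, Finset.card_image_of_injective _ fun x y h => mul_left_cancel (mul_right_cancel h), hcard]
  have hcU : ∀ u ∈ U3, c * u * c⁻¹ = u := by
    intro u hu
    obtain ⟨v, hv, -, rfl⟩ := (hU3 u).1 hu
    have hcx : c * φ 1 = φ 1 * c := hc ▸ D.γ_facts.2.2.2.1
    have hcz : c * φ 16 = φ 16 * c := by
      rw [D.F.B.zc, ← hc]; exact D.F.B.comm_z D.γ_facts.1
    refine mul_inv_eq_iff_eq_mul.2 ?_
    simp only [UList, List.mem_cons, List.not_mem_nil, or_false] at hv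
    rcases hv with rfl | rfl | rfl | rfl
    · rw [D.F.B.one, mul_one, one_mul]
    · exact hcx
    · exact hcz
    · rw [show (17 : ℕ) = mmul 0 16 1 by decide +kernel, D.F.B.mul _ (by norm_num) _ (by norm_num)]
      exact (Commute.mul_right hcz hcx).eq
  have hW21 : W2 = W1.image (fun i => c * i * c⁻¹) := by
    rw [← hW2, ← hW1, Finset.image_image]
    refine Finset.image_congr fun u hu => ?_
    simp only [Function.comp_apply]
    have h := hcU u hu
    calc w2 * u * w2⁻¹ = c * (w1 * (c * u * c⁻¹) * w1⁻¹) * c⁻¹ := by rw [← hw2]; group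
      _ = _ := by rw [h]
  have hfix : U3.image (fun i => c * i * c⁻¹) = U3 := by
    conv_rhs => rw [← Finset.image_id (s := U3)]
    exact Finset.image_congr fun u hu => hcU u hu
  have hWeq : W1 = W2 := by
    by_cases hh1 : ∃ i ∈ W1, i ∈ U3
    · rw [hW21, he1 hh1, hfix]
    by_cases hh2 : ∃ i ∈ W2, i ∈ U3
    · have h := he2 hh2
      rw [hW21] at h ⊢
      have : W1 = U3 := by
        have hinj : Function.Injective fun i => c * i * c⁻¹ := fun x y h => mul_left_cancel (mul_right_cancel h)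
        exact Finset.image_injective hinj (h.trans hfix.symm)
      rw [h, this]
    · haveI := Fintype.ofFinite G
      obtain ⟨Z, hZ⟩ : ∃ Z : Finset G, Z = Finset.univ.filter (fun i => i ∈ RInv z φ r) := ⟨_, rfl⟩
      have hZc : Z.card ≤ 6 := by
        refine le_trans (le_of_eq ?_) D.F.rInv_card
        rw [hZ, ← Nat.card_eq_finsetCard]
        exact Nat.card_congr (Equiv.subtypeEquivRight fun i => by simp)
      have hsub : ∀ W : Finset G, (∀ i ∈ W, i ∈ RInv z φ r) → W.card = 3 → (¬ ∃ i ∈ W, i ∈ U3) → W = Z \ U3 := by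
        intro W hW hWc hno
        refine Finset.eq_of_subset_of_card_le (fun i hi => ?_) ?_
        · rw [Finset.mem_sdiff, hZ, Finset.mem_filter]
          exact ⟨⟨Finset.mem_univ i, hW i hi⟩, fun h => hno ⟨i, hi, h⟩⟩
        · rw [Finset.card_sdiff_of_subset (fun i hi => by
            rw [hZ, Finset.mem_filter]; exact ⟨Finset.mem_univ i, hm0 i hi⟩), hWc, hcard]
          omega
      rw [hsub W1 hm1 hcard1 hh1, hsub W2 hm2 hcard2 hh2]
  -- the product fixes the four group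
  obtain ⟨g, hg⟩ : ∃ g, (p * c) ^ 6 = g := ⟨_, rfl⟩
  have hgw : g = w1 * w2 := by
    rw [← hg, ← hw2, ← hw1]
    simp only [pow_succ, pow_zero, one_mul, mul_assoc]
  have hw1i : w1⁻¹ = w1 := by
    rw [← hw1]; simp only [mul_inv_rev, hpi, hci, mul_assoc]
  have hgU : ∀ u ∈ U3, g * u * g⁻¹ ∈ U3 := by
    intro u hu
    have hm : w2 * u * w2⁻¹ ∈ W1 := hWeq ▸ hW2 ▸ Finset.mem_image_of_mem _ hu
    rw [← hW1] at hm
    obtain ⟨v, hv, e⟩ := Finset.mem_image.1 hm
    rw [show g * u * g⁻¹ = w1 * (w2 * u * w2⁻¹) * w1⁻¹ by rw [hgw]; group, ← e, hw1i]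
    have h11 : w1 * w1 = 1 := by nth_rewrite 1 [← hw1i]; exact inv_mul_cancel w1
    rwa [show w1 * (w1 * v * w1) * w1 = v by
      simp only [← mul_assoc, h11, one_mul]; rw [mul_assoc, h11, mul_one]]
  have hgT : ∀ a b, g * elT φ r a b * g⁻¹ = elT φ r a b := by
    intro a b
    rw [show g * elT φ r a b * g⁻¹ = w1 * (w2 * elT φ r a b * w2⁻¹) * w1⁻¹ by rw [hgw]; group, h2, h1,
      D.elT_mod, D.elT_mod a b]
    congr 1; omega
  have hgr : g * r = r * g := by
    have := mul_inv_eq_iff_eq_mul.1 (hgT 1 0); simpa [elT] using this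
  have hgd : g * φ 140 = φ 140 * g := by
    have := mul_inv_eq_iff_eq_mul.1 (hgT 0 1); simpa [elT] using this
  obtain ⟨r1, r2, r3, r4⟩ := D.F.r_U
  -- a power of r corrects it into the centraliser
  obtain ⟨j, hj⟩ : ∃ j : ℕ, g * z * g⁻¹ = r ^ j * z * (r ^ j)⁻¹ := by
    obtain ⟨u, hu, hu0, e⟩ := (hU3 _).1 (hgU (φ 16) ((hU3 _).2 ⟨16, by simp [UList], by norm_num, rfl⟩))
    rw [D.F.B.zc] at e
    rw [← e, ← D.F.B.zc]
    simp only [UList, List.mem_cons, List.not_mem_nil, or_false] at hu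
    rcases hu with rfl | rfl | rfl | rfl
    · exact absurd rfl hu0
    · exact ⟨1, by rw [pow_one, r1]⟩
    · exact ⟨0, by simp⟩
    · refine ⟨2, ?_⟩
      rw [← r2, ← r1, sq]; group
  obtain ⟨h, hh⟩ : ∃ h, (r ^ j)⁻¹ * g = h := ⟨_, rfl⟩
  have hhz : h * z = z * h := by
    rw [← hh]
    calc (r ^ j)⁻¹ * g * z = (r ^ j)⁻¹ * (g * z * g⁻¹) * g := by group
      _ = z * ((r ^ j)⁻¹ * g) := by rw [hj]; group
  have hcr : Commute (r ^ j)⁻¹ r := ((Commute.refl r).pow_left j).inv_left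
  have hhr : h * r = r * h := hh ▸ (hcr.mul_left hgr).eq
  have hhd : h * φ 140 = φ 140 * h := hh ▸ (((D.d_facts.2.2.pow_left j).inv_left).mul_left hgd).eq
  obtain ⟨k, hk, hke⟩ := (D.F.B.cent h).1 hhz
  have hkCD : k ∈ CDList := (D.F.CD_mem hk).2 (hke ▸ hhd)
  obtain ⟨b, hb⟩ : ∃ b : ℕ, h = φ 140 ^ b := by
    have hkP : k ∈ PList := by
      have hrow := List.all_eq_true.1 (of_all fix_r D.hγ) k hkCD
      simp only [Bool.or_eq_true, List.contains_iff_mem] at hrow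
      refine hrow.resolve_right fun hrow => ?_
      split_ifs at hrow with hN
      · refine bne_iff_ne.1 hrow ?_
        have e : r * φ k = φ k * r := by rw [hke]; exact hhr.symm
        exact D.F.rep_eq (D.F.rep_mul D.F.rep_r (D.F.rep_code hN))
          (e.symm ▸ D.F.rep_mul (D.F.rep_code hN) D.F.rep_r) (norm_pMul _ _) (norm_pMul _ _)
      · simp only [Bool.and_eq_true, List.contains_iff_mem] at hrow
        refine bne_iff_ne.1 hrow.2 ?_
        have e : φ (mmul 0 γ k) * r = r * φ 196 * φ (mmul 0 γ k) := by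
          rw [D.F.B.mul _ D.γ_facts.1 _ hk, hke, ← D.rel, hc]
          calc c * h * r = c * (r * h) := by rw [mul_assoc, hhr]
            _ = _ := by group
        exact D.F.rep_eq (e ▸ D.F.rep_mul (D.F.rep_code hrow.1) D.F.rep_r)
          (D.F.rep_mul D.F.rep_pT (D.F.rep_code hrow.1)) (norm_pMul _ _) (norm_pMul _ _)
    simp only [PList, List.mem_cons, List.not_mem_nil, or_false] at hkP
    rcases hkP with rfl | rfl | rfl
    · exact ⟨0, by rw [pow_zero, ← hke, D.F.B.one]⟩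
    · exact ⟨1, by rw [pow_one, hke]⟩
    · exact ⟨2, by rw [← D.d_facts.2.1, hke]⟩
  have hgE : g = elT φ r j b := by
    unfold elT
    rw [← hb, ← hh]; group
  -- the element is fixed and inverted
  have hpc : p * c * g * (p * c)⁻¹ = g := by
    rw [← hg, ((Commute.refl (p * c)).pow_right 6).eq, mul_inv_cancel_right]
  have hpg : p * g * p⁻¹ = g⁻¹ := by
    rw [← hg, hpi]
    refine (inv_eq_of_mul_eq_one_right ?_).symm
    simp only [pow_succ, pow_zero, one_mul, ← mul_assoc]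
    simp only [mul_assoc, hp2, mul_one]
    simp only [← mul_assoc, mul_assoc _ c c, hc2, mul_one, mul_assoc _ p p, hp2]
  have key : ∀ a b a' b', elT φ r a b = elT φ r a' b' → a % 3 = a' % 3 ∧ b % 3 = b' % 3 := by
    intro a b a' b' h
    rw [D.elT_mod a b, D.elT_mod a' b'] at h
    have hd := of_range_all (of_range_all (of_range_all (of_range_all p_rel.2.2.2.1 (Nat.mod_lt a (by norm_num : 0 < 3)))
      (Nat.mod_lt b (by norm_num : 0 < 3))) (Nat.mod_lt a' (by norm_num : 0 < 3))) (Nat.mod_lt b' (by norm_num : 0 < 3))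
    simp only [Bool.or_eq_true, Bool.and_eq_true, beq_iff_eq] at hd
    refine hd.resolve_right fun hne => bne_iff_ne.1 hne ?_
    exact D.F.rep_eq (D.rep_elT _ _) (h ▸ D.rep_elT _ _) (by unfold pE; exact norm_pMul _ _)
      (by unfold pE; exact norm_pMul _ _)
  have hi : g⁻¹ = elT φ r (2 * j) (2 * b) := by
    refine inv_eq_of_mul_eq_one_right ?_
    rw [hgE, D.elT_mul, D.elT_mod, show (j + 2 * j) % 3 = 0 by omega, show (b + 2 * b) % 3 = 0 by omega]
    simp [elT]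
  have e1 : elT φ r (2 * j + 2 * b) b = elT φ r (2 * j) (2 * b) := by
    rw [← hi, ← hpg, hgE, ← hp, D.conj_P]
  have e2 : elT φ r (2 * j + 2 * (2 * j + 2 * b)) (2 * j + 2 * b) = elT φ r j b := by
    rw [← D.conj_P, ← D.conj_γ, hp, hc, ← hgE]
    exact Eq.trans (by group) hpc
  obtain ⟨k1, k2⟩ := key _ _ _ _ e1
  obtain ⟨k3, k4⟩ := key _ _ _ _ e2
  rw [hp, hc, hg, hgE, D.elT_mod, show j % 3 = 0 by omega, show b % 3 = 0 by omega]
  simp [elT]

end Main

end CfsgAutL34
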