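import Cfsg.Agent.Lib.AutL34Type.OnlyUCount

/-!
The first model is the only one with a fused involution, and there are two cases.
-/

set_option autoImplicit false
set_option maxRecDepth 100000
set_option maxHeartbeats 4000000

namespace CfsgAutL34

/-- The elements of order at most two commuting with `160` and `y`. -/
def invCount (k y : ℕ) : ℕ :=
  ((centList k 160).filter fun e => mmul k e e == 0 && mmul k e y == mmul k y e).length

/-- A code conjugate to `16` or `160`. -/
def isTop (k y : ℕ) : Bool := y == 16 || (List.range 768).any fun c => mconj k c y == 160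

theorem pair_top : ([0, 2].all fun k => (centList k 160).all fun y => mmul k y y != 0 || y == 0 || mmul k y 160 == 0 ||
    decide (invCount k y < 16) || isTop k y || isTop k (mmul k y 160)) = true := by decide +kernel

theorem invCount_one : invCount 0 1 = 16 ∧ invCount 2 1 = 16 := by decide +kernel

theorem class_one : ([0, 2].all fun k => (List.range 768).all fun c => [1, 17].contains (mconj k c 1) &&
    (!(classReps k).contains (mconj k c 1) || mconj k c 1 == 1)) = true := by decide +kernel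

variable {G : Type*} [Group G] [Finite G] {k : ℕ} {z : G} {φ : ℕ → G}

/-- The exchange with `160` only occurs in the first model. -/
theorem Base.model_zero (B : Base k z φ) (hk : k = 0 ∨ k = 2) {g : G} (hg : g * z * g⁻¹ = φ 160)
    (hg' : g * φ 160 * g⁻¹ = z) : k = 0 := by
  have hk' : k ∈ ([0, 2] : List ℕ) := by rcases hk with rfl | rfl <;> simp
  have h160 : (160 : ℕ) < 768 := by norm_num
  have h1 : (1 : ℕ) < 768 := by norm_num
  have c1 : ∀ a b : ℕ, a < 768 → b < 768 → mmul k a b = mmul k b a → φ a * φ b = φ b * φ a :=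
    fun a b ha hb h => (B.commute_iff ha hb).2 h
  have h1160 : mmul k 1 160 = mmul k 160 1 ∧ mmul k 1 1 = 0 ∧ mmul k 16 1 = 17 := by
    rcases hk with rfl | rfl <;> decide +kernel
  -- the image of an element commuting with both
  have himg : ∀ d < 768, mmul k d 160 = mmul k 160 d →
      ∃ d' < 768, φ d' = g * φ d * g⁻¹ ∧ mmul k d' 160 = mmul k 160 d' := by
    intro d hd hc
    have hzc : g * φ d * g⁻¹ * z = z * (g * φ d * g⁻¹) := by
      rw [← hg', show g * φ d * g⁻¹ * (g * φ 160 * g⁻¹) = g * (φ d * φ 160) * g⁻¹ by group, c1 d 160 hd h160 hc]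
      group
    obtain ⟨d', hd', e⟩ := (B.cent _).1 hzc
    refine ⟨d', hd', e, (B.commute_iff hd' h160).1 ?_⟩
    rw [e, ← hg, show g * φ d * g⁻¹ * (g * z * g⁻¹) = g * (φ d * z) * g⁻¹ by group, B.comm_z hd]
    group
  choose! f hf1 hf2 hf3 using himg
  obtain ⟨y, hy⟩ : ∃ y, f 1 = y := ⟨_, rfl⟩
  have hy1 := hy ▸ hf1 1 h1 h1160.1
  have hy2 := hy ▸ hf2 1 h1 h1160.1
  have hy3 := hy ▸ hf3 1 h1 h1160.1
  have hysq : mmul k y y = 0 := (B.sq_iff hy1 (by norm_num)).1 (by
    rw [B.one, hy2, show g * φ 1 * g⁻¹ * (g * φ 1 * g⁻¹) = g * (φ 1 * φ 1) * g⁻¹ by group,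
      ← B.mul _ h1 _ h1, h1160.2.1, B.one]
    group)
  have hy0 : y ≠ 0 := fun e => by
    rw [e, B.one] at hy2
    have := (B.eq_one_iff h1).1 (conj_eq_one_iff.1 hy2.symm)
    omega
  have hprod : φ (mmul k y 160) = g * φ 17 * g⁻¹ := by
    rw [B.mul _ hy1 _ h160, hy2, ← hg, ← h1160.2.2, B.mul _ (by norm_num) _ h1, B.zc,
      show g * φ 1 * g⁻¹ * (g * z * g⁻¹) = g * (φ 1 * z) * g⁻¹ by group, B.comm_z h1]
  have hy160 : mmul k y 160 ≠ 0 := fun e => by
    rw [e, B.one] at hprod
    have := (B.eq_one_iff (by norm_num : 17 < 768)).1 (conj_eq_one_iff.1 hprod.symm)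
    omega
  have hcount : 16 ≤ invCount k y := by
    have h16 : invCount k 1 = 16 := by rcases hk with rfl | rfl <;> [exact invCount_one.1; exact invCount_one.2]
    rw [← h16]
    have hn : ∀ v, ((centList k 160).filter fun e => mmul k e e == 0 && mmul k e v == mmul k v e).Nodup :=
      fun v => (List.nodup_range.filter _).filter _
    unfold invCount
    rw [← List.toFinset_card_of_nodup (hn 1), ← List.toFinset_card_of_nodup (hn y)]
    refine Finset.card_le_card_of_injOn f (fun e he => ?_) (fun e he e' he' heq => ?_)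
    · simp only [Finset.mem_coe, List.mem_toFinset, List.mem_filter, Bool.and_eq_true, beq_iff_eq, centList,
        List.mem_range] at he ⊢
      obtain ⟨⟨hlt, hc⟩, hsq, hcy⟩ := he
      refine ⟨⟨hf1 e hlt hc, hf3 e hlt hc⟩, ?_, ?_⟩
      · refine (B.sq_iff (hf1 e hlt hc) (by norm_num)).1 ?_
        rw [B.one, hf2 e hlt hc, show g * φ e * g⁻¹ * (g * φ e * g⁻¹) = g * (φ e * φ e) * g⁻¹ by group,
          ← B.mul _ hlt _ hlt, hsq, B.one]
        group
      · refine (B.commute_iff (hf1 e hlt hc) hy1).1 ?_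
        rw [hf2 e hlt hc, hy2, show g * φ e * g⁻¹ * (g * φ 1 * g⁻¹) = g * (φ e * φ 1) * g⁻¹ by group,
          c1 e 1 hlt h1 hcy]
        group
    · simp only [Finset.mem_coe, List.mem_toFinset, List.mem_filter, Bool.and_eq_true, beq_iff_eq, centList,
        List.mem_range] at he he'
      have := hf2 e he.1.1 he.1.2
      rw [heq, hf2 e' he'.1.1 he'.1.2] at this
      exact (B.inj _ he'.1.1 _ he.1.1 (mul_left_cancel (mul_right_cancel this))).symm
  have htop : ∀ v < 768, isTop k v = true → φ v ∈ cls z := by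
    intro v hv h
    simp only [isTop, Bool.or_eq_true, beq_iff_eq, List.any_eq_true, List.mem_range] at h
    rcases h with rfl | ⟨c, hc, e⟩
    · exact B.zc.symm ▸ cls_self z
    · have h' : φ c * φ v * (φ c)⁻¹ ∈ cls z := by rw [← B.conj hc hv, e, ← hg]; exact cls_conj (cls_self z) g
      have := cls_conj h' (φ c)⁻¹
      simpa [mul_assoc] using this
  have hmem : y ∈ centList k 160 := by simp [centList, hy1, hy3]
  have hp := List.all_eq_true.1 (of_all pair_top hk') y hmem
  simp only [hysq, bne_self_eq_false, Bool.false_or, Bool.or_eq_true, beq_iff_eq, hy0, hy160, false_or,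
    decide_eq_true_eq, not_lt.2 hcount] at hp
  -- one of the two generators of the four group is conjugate to the involution
  obtain ⟨u, hu, huK, hune⟩ : ∃ u, (u = 1 ∨ u = 17) ∧ φ u ∈ cls z ∧ φ u ≠ z := by
    have hne : ∀ u, u < 768 → u ≠ 16 → φ u ≠ z := fun u hu h e => h (B.inj _ hu 16 (by norm_num) (e.trans B.zc.symm))
    rcases hp with h | h
    · have := cls_conj (htop y hy1 h) g⁻¹
      rw [hy2] at this
      exact ⟨1, Or.inl rfl, by simpa [mul_assoc] using this, hne 1 h1 (by norm_num)⟩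
    · have := cls_conj (htop _ (B.mul_lt hy1 h160) h) g⁻¹
      rw [hprod] at this
      exact ⟨17, Or.inr rfl, by simpa [mul_assoc] using this, hne 17 (by norm_num) (by norm_num)⟩
  obtain ⟨h, hh⟩ := huK
  have hult : u < 768 := by omega
  obtain ⟨c, r, hc, hr, hcr, hcase, -⟩ := B.swap_of hult hh.symm hune
  have hno : ([0, 2].all fun k => (List.range 768).all fun c =>
      [1, 17].all fun u => mconj k c u != 160) = true := by decide +kernel
  have := of_all (of_range_all (of_all hno hk') hc) (show u ∈ ([1, 17] : List ℕ) by simpa using hu)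
  rcases hcase with ⟨-, h0⟩ | ⟨h1', -⟩
  · exact h0
  · rw [hcr, h1'] at this
    simp at this

/-- The two cases. -/
theorem Base.cases (B : Base k z φ) : Cfsg.IsIsolated z ∨
    k = 0 ∧ ((∃ g : G, g * z * g⁻¹ = φ 160 ∧ g * φ 160 * g⁻¹ = z) ∨ OnlyU z φ) := by
  refine B.isolated_or_swap.imp id ?_
  rintro ⟨r, hr, g, hg, hg'⟩
  have hk : k = 0 := by
    rcases hr with ⟨-, hk⟩ | ⟨rfl, hk⟩
    · exact hk
    · exact B.model_zero hk hg hg'
  subst hk
  refine ⟨rfl, ?_⟩
  rcases hr with ⟨rfl, -⟩ | ⟨rfl, -⟩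
  · refine or_iff_not_imp_left.2 fun hno => ⟨B, ⟨g, hg⟩, fun w hw hc => ?_⟩
    obtain ⟨y, hy, rfl⟩ := (B.cent w).1 hc
    refine or_iff_not_imp_left.2 fun hne => ?_
    obtain ⟨h, hh⟩ := hw
    obtain ⟨c, r, hc', -, hcr, hcase, h', hh'⟩ := B.swap_of hy hh.symm hne
    rcases hcase with ⟨rfl, -⟩ | ⟨rfl, -⟩
    · have e : φ y = (φ c)⁻¹ * φ 1 * φ c := by rw [← hcr, B.conj hc' hy]; group
      have hm := (B.minv_lt hc').1
      have e2 : φ y = φ (mconj 0 (minv 0 c) 1) := by rw [B.conj hm (by norm_num), B.inv hc', inv_inv, e]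
      have := of_range_all (of_all class_one (show (0 : ℕ) ∈ [0, 2] by simp)) hm
      simp only [Bool.and_eq_true, List.contains_iff_mem, List.mem_cons, List.not_mem_nil, or_false] at this
      rcases this.1 with e3 | e3 <;> rw [e3] at e2
      · exact Or.inl e2
      · exact Or.inr e2
    · exact absurd ⟨h', hh'⟩ hno
  · exact Or.inl ⟨g, hg, hg'⟩

end CfsgAutL34
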