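import Mathlib.GroupTheory.OrderOfElement
import Mathlib.Algebra.Group.Semiconj.Basic
import Mathlib.Tactic.Group

/-!
Pairs of involutions.
-/

set_option autoImplicit false

namespace CfsgAutL34

variable {G : Type*} [Group G] {p q : G}

theorem invol_flip (hp : p * p = 1) (hq : q * q = 1) (n : ℕ) : p * ((p * q) ^ n)⁻¹ = (p * q) ^ n * p := by
  have h : SemiconjBy p (p * q)⁻¹ (p * q) := by
    show p * (p * q)⁻¹ = p * q * p
    rw [mul_inv_rev, inv_eq_of_mul_eq_one_right hp, inv_eq_of_mul_eq_one_right hq, mul_assoc]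
  rw [← inv_pow]
  exact (h.pow_right n).eq

/-- Two involutions are conjugate or both commute with the involution in the group of their product. -/
theorem invol_dichotomy [Finite G] (hp : p * p = 1) (hq : q * q = 1) :
    (∃ n : ℕ, (p * q) ^ n * p * ((p * q) ^ n)⁻¹ = q) ∨
      ∃ m : ℕ, (p * q) ^ m * (p * q) ^ m = 1 ∧ (p * q) ^ m ≠ 1 ∧ p * (p * q) ^ m = (p * q) ^ m * p ∧
        q * (p * q) ^ m = (p * q) ^ m * q ∧
          ((Even m ∧ ∃ c : G, (p * q) ^ m * p = c * p * c⁻¹) ∨ (Odd m ∧ ∃ c : G, (p * q) ^ m * p = c * q * c⁻¹)) := by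
  have hn := pow_orderOf_eq_one (p * q)
  rcases Nat.even_or_odd (orderOf (p * q)) with ⟨m, hm⟩ | ⟨m, hm⟩
  · refine Or.inr ⟨m, ?_, ?_, ?_, ?_, ?_⟩
    · rw [← pow_add, ← hm, hn]
    · intro e
      have hpos := orderOf_pos (p * q)
      have := Nat.le_of_dvd (by omega) (orderOf_dvd_of_pow_eq_one e)
      omega
    · have hi : ((p * q) ^ m)⁻¹ = (p * q) ^ m := inv_eq_of_mul_eq_one_right (by rw [← pow_add, ← hm, hn])
      have := invol_flip hp hq m
      rwa [hi] at this
    · have hi : ((p * q) ^ m)⁻¹ = (p * q) ^ m := inv_eq_of_mul_eq_one_right (by rw [← pow_add, ← hm, hn])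
      have h1 := invol_flip hp hq m
      rw [hi] at h1
      have e : q = p * (p * q) := by rw [← mul_assoc, hp, one_mul]
      calc q * (p * q) ^ m = p * ((p * q) * (p * q) ^ m) := by rw [← mul_assoc, ← e]
        _ = p * (p * q) ^ m * (p * q) := by rw [← pow_succ', pow_succ, mul_assoc]
        _ = (p * q) ^ m * q := by rw [h1, mul_assoc, ← e]
    · rcases Nat.even_or_odd m with ⟨j, hj⟩ | ⟨j, hj⟩
      · refine Or.inl ⟨⟨j, hj⟩, (p * q) ^ j, ?_⟩
        rw [mul_assoc ((p * q) ^ j), invol_flip hp hq, ← mul_assoc, ← pow_add, ← hj]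
      · refine Or.inr ⟨⟨j, hj⟩, (p * q) ^ j * p, ?_⟩
        calc (p * q) ^ m * p = (p * q) ^ j * (p * q) * ((p * q) ^ j * p) := by
              rw [hj, show 2 * j + 1 = j + 1 + j by omega, pow_add, pow_succ, mul_assoc]
          _ = (p * q) ^ j * (p * q) * (p * ((p * q) ^ j)⁻¹) := by rw [invol_flip hp hq]
          _ = (p * q) ^ j * p * q * (p⁻¹ * ((p * q) ^ j)⁻¹) := by
              rw [inv_eq_of_mul_eq_one_right hp]; simp only [mul_assoc]
          _ = (p * q) ^ j * p * q * ((p * q) ^ j * p)⁻¹ := by rw [mul_inv_rev]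
  · refine Or.inl ⟨m, ?_⟩
    rw [mul_assoc, invol_flip hp hq, ← mul_assoc, ← pow_add]
    have e2 : (p * q) ^ (m + m) = q * p := by
      have h1 : (p * q) ^ (m + m) * (p * q) = 1 := by
        rw [← pow_succ, show m + m + 1 = orderOf (p * q) by omega, hn]
      rw [eq_inv_of_mul_eq_one_left h1, mul_inv_rev, inv_eq_of_mul_eq_one_right hp, inv_eq_of_mul_eq_one_right hq]
    rw [e2, mul_assoc, hp, mul_one]

end CfsgAutL34
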