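import Mathlib.GroupTheory.Sylow
import Mathlib.GroupTheory.SpecificGroups.Alternating
import Cfsg.Agent.S3278
import Cfsg.Agent.Lib.CoprimeGen
import Cfsg.Agent.Lib.AutL34Type.Invol

/-!
Groups in which a four group is the centraliser of each of its involutions.
-/

set_option autoImplicit false
set_option maxRecDepth 100000

namespace CfsgAutL34

universe u

theorem four_comm {Y : Type u} [Group Y] (U : Subgroup Y) (hexp : ∀ u ∈ U, u * u = 1) {a b : Y}
    (ha : a ∈ U) (hb : b ∈ U) : a * b = b * a := by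
  have ha' := inv_eq_of_mul_eq_one_right (hexp a ha)
  have hb' := inv_eq_of_mul_eq_one_right (hexp b hb)
  have h := inv_eq_of_mul_eq_one_right (hexp _ (U.mul_mem ha hb))
  rw [mul_inv_rev, ha', hb'] at h
  exact h.symm

theorem alt5_count : Nat.card {x : ↥(alternatingGroup (Fin 5)) // x * x = 1 ∧ x ≠ 1} = 15 := by
  rw [Nat.card_eq_fintype_card]
  decide +kernel

section

variable {Y : Type u} [Group Y] [Finite Y]

/-- Every involution is conjugate into the four group. -/
theorem conj_into_four (U : Subgroup Y) (hU : Nat.card ↥U = 4) (hexp : ∀ u ∈ U, u * u = 1)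
    (hc : ∀ u ∈ U, u ≠ 1 → ∀ y, y * u = u * y → y ∈ U) {t : Y} (ht : t * t = 1) : ∃ g : Y, g * t * g⁻¹ ∈ U := by
  haveI : Fact (Nat.Prime 2) := ⟨Nat.prime_two⟩
  obtain ⟨w, hw, hw1⟩ : ∃ w ∈ U, w ≠ 1 := U.bot_or_exists_ne_one.resolve_left (fun e => by
    rw [e, Subgroup.card_bot] at hU; omega)
  obtain ⟨P, hP⟩ := (IsPGroup.of_card (p := 2) (n := 2) (by rw [hU]; rfl) : IsPGroup 2 ↥U).exists_le_sylow
  have hPU : (P : Subgroup Y) = U := by
    refine le_antisymm ?_ hP
    haveI : Nontrivial ↥(P : Subgroup Y) := ⟨⟨⟨w, hP hw⟩, 1, fun e => hw1 (congrArg Subtype.val e)⟩⟩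
    haveI := P.2.center_nontrivial
    obtain ⟨c, hc1⟩ := exists_ne (1 : Subgroup.center ↥(P : Subgroup Y))
    have hcU : ((c : ↥(P : Subgroup Y)) : Y) ∈ U :=
      hc w hw hw1 _ (congrArg Subtype.val (Subgroup.mem_center_iff.1 c.2 ⟨w, hP hw⟩)).symm
    intro y hy
    refine hc _ hcU (fun e => hc1 (Subtype.ext (Subtype.ext e))) y ?_
    exact congrArg Subtype.val (Subgroup.mem_center_iff.1 c.2 ⟨y, hy⟩)
  have h2 : IsPGroup 2 ↥(Subgroup.zpowers t) := by
    rcases (Nat.dvd_prime Nat.prime_two).1 (orderOf_dvd_of_pow_eq_one (show t ^ 2 = 1 by rw [sq, ht])) with h | h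
    · exact IsPGroup.of_card (n := 0) (by rw [Nat.card_zpowers, h]; rfl)
    · exact IsPGroup.of_card (n := 1) (by rw [Nat.card_zpowers, h]; rfl)
  obtain ⟨Q, hQ⟩ := h2.exists_le_sylow
  obtain ⟨g, hg⟩ := MulAction.exists_smul_eq Y Q P
  refine ⟨g, ?_⟩
  rw [← hPU, ← hg, Sylow.coe_subgroup_smul]
  exact ⟨t, hQ (Subgroup.mem_zpowers _), rfl⟩

/-- Either the four group is normal or its involutions are all conjugate. -/
theorem normal_or_one_class (U : Subgroup Y) (hU : Nat.card ↥U = 4) (hexp : ∀ u ∈ U, u * u = 1)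
    (hc : ∀ u ∈ U, u ≠ 1 → ∀ y, y * u = u * y → y ∈ U) :
    U.Normal ∨ ∀ a ∈ U, ∀ b ∈ U, a ≠ 1 → b ≠ 1 → ∃ g : Y, g * a * g⁻¹ = b := by
  classical
  refine or_iff_not_imp_right.2 fun h => ?_
  push Not at h
  obtain ⟨a, ha, b, hb, ha1, hb1, hne⟩ := h
  have hsq : ∀ (g : Y) (u : Y), u ∈ U → g * u * g⁻¹ * (g * u * g⁻¹) = 1 := fun g u hu => by
    rw [show g * u * g⁻¹ * (g * u * g⁻¹) = g * (u * u) * g⁻¹ by group, hexp u hu]; group
  -- conjugates of the two involutions commute
  have key : ∀ g h : Y, (g * a * g⁻¹) * (h * b * h⁻¹) = (h * b * h⁻¹) * (g * a * g⁻¹) := by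
    intro g h
    rcases invol_dichotomy (hsq g a ha) (hsq h b hb) with ⟨n, hn⟩ | ⟨m, hii, hi1, hpi, hqi, -⟩
    · exfalso
      refine hne (h⁻¹ * (g * a * g⁻¹ * (h * b * h⁻¹)) ^ n * g) ?_
      calc h⁻¹ * (g * a * g⁻¹ * (h * b * h⁻¹)) ^ n * g * a * (h⁻¹ * (g * a * g⁻¹ * (h * b * h⁻¹)) ^ n * g)⁻¹
          = h⁻¹ * ((g * a * g⁻¹ * (h * b * h⁻¹)) ^ n * (g * a * g⁻¹) * ((g * a * g⁻¹ * (h * b * h⁻¹)) ^ n)⁻¹) * h := by
            group
        _ = b := by rw [hn]; group
    · obtain ⟨k, hk⟩ := conj_into_four U hU hexp hc hii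
      have hk1 : k * (g * a * g⁻¹ * (h * b * h⁻¹)) ^ m * k⁻¹ ≠ 1 := fun e => hi1 (conj_eq_one_iff.1 e)
      obtain ⟨i, hi⟩ : ∃ i, (g * a * g⁻¹ * (h * b * h⁻¹)) ^ m = i := ⟨_, rfl⟩
      rw [hi] at hk hk1 hpi hqi
      have mv : ∀ x, x * i = i * x → k * x * k⁻¹ ∈ U := fun x hx => hc _ hk hk1 _ (by
        rw [show k * x * k⁻¹ * (k * i * k⁻¹) = k * (x * i) * k⁻¹ by group, hx]; group)
      obtain ⟨p, hp⟩ : ∃ p, g * a * g⁻¹ = p := ⟨_, rfl⟩
      obtain ⟨q, hq⟩ : ∃ q, h * b * h⁻¹ = q := ⟨_, rfl⟩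
      rw [hp] at hpi ⊢
      rw [hq] at hqi ⊢
      have := four_comm U hexp (mv p hpi) (mv q hqi)
      rw [show k * p * k⁻¹ * (k * q * k⁻¹) = k * (p * q) * k⁻¹ by group,
        show k * q * k⁻¹ * (k * p * k⁻¹) = k * (q * p) * k⁻¹ by group] at this
      exact mul_left_cancel (mul_right_cancel this)
  have hga : ∀ g, g * a * g⁻¹ ∈ U := fun g => hc b hb hb1 _ (by simpa using key g 1)
  have hgb : ∀ g, g * b * g⁻¹ ∈ U := fun g => hc a ha ha1 _ (by simpa using (key 1 g).symm)
  have hab : a ≠ b := fun e => hne 1 (by rw [e]; group)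
  have hU3 : ∀ c ∈ U, c = 1 ∨ c = a ∨ c = b ∨ c = a * b := by
    intro c hc'
    by_contra hcon
    push Not at hcon
    obtain ⟨c1, ca, cb, cab⟩ := hcon
    have hab1 : a * b ≠ 1 := fun e => hab (by
      rw [eq_inv_of_mul_eq_one_left e, inv_eq_of_mul_eq_one_right (hexp b hb)])
    have hab2 : a * b ≠ a := fun e => hb1 (mul_left_cancel (e.trans (mul_one a).symm))
    have hab3 : a * b ≠ b := fun e => ha1 (mul_right_cancel (e.trans (one_mul b).symm))
    letI := Fintype.ofFinite ↥U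
    have h5 : ({1, ⟨a, ha⟩, ⟨b, hb⟩, ⟨a * b, U.mul_mem ha hb⟩, ⟨c, hc'⟩} : Finset ↥U).card = 5 := by
      rw [Finset.card_insert_of_notMem, Finset.card_insert_of_notMem, Finset.card_insert_of_notMem,
        Finset.card_insert_of_notMem, Finset.card_singleton] <;>
      simp only [Finset.mem_insert, Finset.mem_singleton, Subtype.ext_iff, OneMemClass.coe_one, not_or] <;>
      refine ?_ <;> simp [Ne.symm ha1, Ne.symm hb1, Ne.symm hab1, hab, Ne.symm hab2, Ne.symm hab3, Ne.symm c1,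
        Ne.symm ca, Ne.symm cb, Ne.symm cab]
    have := Finset.card_le_univ ({1, ⟨a, ha⟩, ⟨b, hb⟩, ⟨a * b, U.mul_mem ha hb⟩, ⟨c, hc'⟩} : Finset ↥U)
    rw [h5, ← Nat.card_eq_fintype_card, hU] at this
    omega
  refine ⟨fun c hc' g => ?_⟩
  rcases hU3 c hc' with rfl | rfl | rfl | rfl
  · simp
  · exact hga g
  · exact hgb g
  · rw [← conj_mul]; exact U.mul_mem (hga g) (hgb g)

end

/-- The four lemma. -/
theorem four_lemma : ∀ (n : ℕ) (Y : Type u) [Group Y] [Finite Y], Nat.card Y = n → ∀ (U : Subgroup Y),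
    Nat.card ↥U = 4 → (∀ u ∈ U, u * u = 1) → (∀ u ∈ U, u ≠ 1 → ∀ y, y * u = u * y → y ∈ U) →
    U.Normal ∨ Nonempty (Y ≃* ↥(alternatingGroup (Fin 5))) := by
  classical
  intro n
  induction n using Nat.strong_induction_on with
  | _ n ih =>
    intro Y _ _ hn U hU hexp hc
    have hcomm : ∀ a ∈ U, ∀ b ∈ U, a * b = b * a := fun a ha b hb => four_comm U hexp ha hb
    obtain ⟨w, hw, hw1⟩ : ∃ w ∈ U, w ≠ 1 := U.bot_or_exists_ne_one.resolve_left (fun e => by
      rw [e, Subgroup.card_bot] at hU; omega)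
    refine or_iff_not_imp_left.2 fun hUn => ?_
    have hone := (normal_or_one_class U hU hexp hc).resolve_left hUn
    haveI : Nontrivial Y := ⟨⟨w, 1, hw1⟩⟩
    have hncyc : ¬ IsCyclic ↥U := fun hcyc => by
      obtain ⟨g, hg⟩ := hcyc
      have h4 : orderOf g = 4 := by rw [orderOf_eq_card_of_forall_mem_zpowers hg, hU]
      have h2 : g ^ 2 = 1 := by rw [sq]; exact Subtype.ext (hexp _ g.2)
      have := Nat.le_of_dvd (by norm_num) (orderOf_dvd_of_pow_eq_one h2)
      omega
    haveI : IsSimpleGroup Y := ⟨fun M hMn => by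
      by_contra hcon
      push Not at hcon
      obtain ⟨hMb, hMt⟩ := hcon
      haveI := hMn
      -- the intersection with the four group is not trivial
      have hne : ∃ u ∈ U, u ∈ M ∧ u ≠ 1 := by
        by_contra hno
        push Not at hno
        have hodd : ¬ 2 ∣ Nat.card ↥M := by
          intro h2
          haveI : Fact (Nat.Prime 2) := ⟨Nat.prime_two⟩
          obtain ⟨x, hx⟩ := exists_prime_orderOf_dvd_card' 2 h2
          have hxx : (x : Y) * x = 1 := by
            have := pow_orderOf_eq_one x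
            rw [hx, sq] at this
            exact congrArg Subtype.val this
          obtain ⟨g, hg⟩ := conj_into_four U hU hexp hc hxx
          have h1 := hno _ hg (hMn.conj_mem _ x.2 g)
          rw [conj_eq_one_iff] at h1
          rw [show x = 1 from Subtype.ext h1, orderOf_one] at hx
          omega
        refine hMb (eq_bot_iff.2 ?_)
        have hcop : Nat.Coprime (Nat.card ↥U) (Nat.card ↥M) := by
          rw [hU]
          exact ((Nat.prime_two.coprime_iff_not_dvd.2 hodd).pow_left 2 : Nat.Coprime (2 ^ 2) _)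
        haveI : IsMulCommutative ↥U := ⟨⟨fun a b => Subtype.ext (hcomm _ a.2 _ b.2)⟩⟩
        have hgen := CfsgLib.coprime_generated_by_centralizers (A := U) (K := M)
          hncyc (by rw [Subgroup.normalizer_eq_top]; exact le_top) hcop
        refine hgen.ge.trans ?_
        refine iSup_le fun a => iSup_le fun ha => fun m hm => ?_
        obtain ⟨hm1, hm2⟩ := hm
        exact hno m (hc a ha.1 ha.2 m (Subgroup.mem_centralizer_singleton_iff.1 hm2)) hm1
      obtain ⟨u, huU, huM, hu1⟩ := hne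
      have hle : U ≤ M := fun v hv => by
        by_cases hv1 : v = 1
        · rw [hv1]; exact M.one_mem
        · obtain ⟨g, rfl⟩ := hone u huU v hv hu1 hv1
          exact hMn.conj_mem _ huM g
      have hlt : Nat.card ↥M < n := hn ▸
        lt_of_le_of_ne (Subgroup.card_le_card_group M) (fun e => hMt (Subgroup.eq_top_of_card_eq M e))
      have hU' : Nat.card ↥(U.subgroupOf M) = 4 :=
        (Nat.card_congr (Subgroup.subgroupOfEquivOfLe hle).toEquiv).trans hU
      rcases ih _ hlt ↥M rfl (U.subgroupOf M) hU' (fun v hv => Subtype.ext (hexp _ hv))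
        (fun v hv hv1 y hy => hc _ hv (fun e => hv1 (Subtype.ext e)) y (congrArg Subtype.val hy)) with hN | ⟨⟨e⟩⟩
      · refine hUn ⟨fun v hv g => ?_⟩
        obtain ⟨t, ht⟩ : ∃ t, t = g * v * g⁻¹ := ⟨_, rfl⟩
        have htM : t ∈ M := ht ▸ hMn.conj_mem _ (hle hv) g
        have htt : t * t = 1 := by
          rw [ht, show g * v * g⁻¹ * (g * v * g⁻¹) = g * (v * v) * g⁻¹ by group, hexp v hv]; group
        rw [← ht]
        have ht' : t⁻¹ = t := inv_eq_of_mul_eq_one_right htt
        have hnorm : t * w * t⁻¹ ∈ U := by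
          have := hN.conj_mem ⟨w, hle hw⟩ hw ⟨t, htM⟩
          exact this
        by_cases hfix : t * w * t⁻¹ = w
        · exact hc w hw hw1 t (mul_inv_eq_iff_eq_mul.1 hfix)
        · refine hc (w * (t * w * t⁻¹)) (U.mul_mem hw hnorm) (fun h => hfix ?_) t ?_
          · rw [eq_inv_of_mul_eq_one_right h, inv_eq_of_mul_eq_one_right (hexp w hw)]
          · rw [hcomm w hw _ hnorm]
            calc t * (t * w * t⁻¹ * w) = t * t * w * (t⁻¹ * w) := by group
              _ = w * (t * w * t⁻¹) * t := by rw [htt, ht']; simp only [mul_assoc, one_mul, htt, mul_one]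
              _ = (t * w * t⁻¹) * w * t := by rw [hcomm w hw _ hnorm]
      · -- the index is at most fifteen
        have hC : Subgroup.centralizer ({w} : Set Y) = U := le_antisymm
          (fun y hy => hc w hw hw1 y (Subgroup.mem_centralizer_singleton_iff.1 hy))
          (fun y hy => Subgroup.mem_centralizer_singleton_iff.2 (hcomm y hy w hw))
        have h15 : Nat.card {x : ↥M // x * x = 1 ∧ x ≠ 1} = 15 := by
          rw [← alt5_count]
          refine Nat.card_congr (e.toEquiv.subtypeEquiv fun x => ?_)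
          show x * x = 1 ∧ x ≠ 1 ↔ e x * e x = 1 ∧ e x ≠ 1
          rw [← map_mul, ne_eq, ne_eq, MulEquiv.map_eq_one_iff, MulEquiv.map_eq_one_iff]
        let f : Y ⧸ U → {x : ↥M // x * x = 1 ∧ x ≠ 1} := fun c =>
          ⟨⟨c.out * w * c.out⁻¹, hMn.conj_mem _ (hle hw) _⟩, Subtype.ext (by
            show c.out * w * c.out⁻¹ * (c.out * w * c.out⁻¹) = 1
            rw [show c.out * w * c.out⁻¹ * (c.out * w * c.out⁻¹) = c.out * (w * w) * c.out⁻¹ by group, hexp w hw]
            group), fun h => hw1 (conj_eq_one_iff.1 (congrArg Subtype.val h))⟩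
        have hf : Function.Injective f := by
          intro c d hcd
          have h : c.out * w * c.out⁻¹ = d.out * w * d.out⁻¹ := congrArg (fun x => ((x.1 : ↥M) : Y)) hcd
          rw [← Quotient.out_eq' c, ← Quotient.out_eq' d]
          refine QuotientGroup.eq.2 (hc w hw hw1 _ ?_)
          calc c.out⁻¹ * d.out * w = c.out⁻¹ * (d.out * w * d.out⁻¹) * d.out := by group
            _ = c.out⁻¹ * (c.out * w * c.out⁻¹) * d.out := by rw [h]
            _ = w * (c.out⁻¹ * d.out) := by group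
        have h1 := Nat.card_le_card_of_injective f hf
        rw [h15, ← Subgroup.index_eq_card] at h1
        have h2 := U.card_mul_index
        rw [hU] at h2
        have h3 : Nat.card ↥M = 60 := by
          rw [Nat.card_congr e.toEquiv, nat_card_alternatingGroup, Nat.card_fin]; rfl
        omega⟩
    have hC : Subgroup.centralizer ({w} : Set Y) = U := le_antisymm
      (fun y hy => hc w hw hw1 y (Subgroup.mem_centralizer_singleton_iff.1 hy))
      (fun y hy => Subgroup.mem_centralizer_singleton_iff.2 (hcomm y hy w hw))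
    refine Cfsg.Agent.S3278.result w ?_ U hC.ge ?_ ?_ ?_
    · exact orderOf_eq_prime (by rw [sq]; exact hexp w hw) hw1
    · refine ⟨hU, ?_⟩
      refine ((Nat.dvd_prime Nat.prime_two).mp (Monoid.exponent_dvd_of_forall_pow_eq_one fun v => by
        rw [sq]; exact Subtype.ext (hexp _ v.2))).resolve_left fun h1 => ?_
      haveI := Monoid.exp_eq_one_iff.mp h1
      exact hw1 (congrArg Subtype.val (Subsingleton.elim (⟨w, hw⟩ : ↥U) 1))
    · rw [hC, Subgroup.relIndex_self]; norm_num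
    · rw [hC, Subgroup.subgroupOf_self]; infer_instance

/-- The number of involutions. -/
theorem four_count {Y : Type u} [Group Y] [Finite Y] (U : Subgroup Y) (hU : Nat.card ↥U = 4)
    (hexp : ∀ u ∈ U, u * u = 1) (hc : ∀ u ∈ U, u ≠ 1 → ∀ y, y * u = u * y → y ∈ U) :
    Nat.card {x : Y // x * x = 1 ∧ x ≠ 1} = 3 ∨ Nat.card {x : Y // x * x = 1 ∧ x ≠ 1} = 15 := by
  classical
  rcases four_lemma _ Y rfl U hU hexp hc with hN | ⟨⟨e⟩⟩
  · left
    have hmem : ∀ x : Y, x * x = 1 → x ∈ U := fun x hx => by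
      obtain ⟨g, hg⟩ := conj_into_four U hU hexp hc hx
      have := hN.conj_mem _ hg g⁻¹
      simpa [mul_assoc] using this
    have e : {x : Y // x * x = 1 ∧ x ≠ 1} ≃ {x : ↥U // x ≠ 1} :=
      { toFun := fun x => ⟨⟨x.1, hmem _ x.2.1⟩, fun h => x.2.2 (congrArg Subtype.val h)⟩
        invFun := fun x => ⟨x.1.1, hexp _ x.1.2, fun h => x.2 (Subtype.ext h)⟩
        left_inv := fun _ => rfl
        right_inv := fun _ => rfl }
    rw [Nat.card_congr e]
    letI := Fintype.ofFinite ↥U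
    rw [Nat.card_eq_fintype_card, Fintype.card_subtype_compl, Fintype.card_subtype_eq, ← Nat.card_eq_fintype_card, hU]
  · right
    rw [← alt5_count]
    refine Nat.card_congr (e.toEquiv.subtypeEquiv fun x => ?_)
    show x * x = 1 ∧ x ≠ 1 ↔ e x * e x = 1 ∧ e x ≠ 1
    rw [← map_mul, ne_eq, ne_eq, MulEquiv.map_eq_one_iff, MulEquiv.map_eq_one_iff]

end CfsgAutL34
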