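import Mathlib.GroupTheory.Transfer
import Cfsg.Agent.Lib.PComplement
import Mathlib.GroupTheory.Sylow

/-!
The sign of a transfer at an element of order dividing four.
-/

set_option autoImplicit false

namespace CfsgAutL34

theorem transfer_sign {X : Type*} [Group X] [Finite X] (P : Subgroup X) (hodd : Odd P.index) (ψ : ↥P →* ℤˣ)
    (g : X) (hg : g ^ 4 = 1)
    (h1 : ∀ (c : X) (h : c⁻¹ * g * c ∈ P), ψ ⟨c⁻¹ * g * c, h⟩ = -1)
    (h2 : ∀ (c : X) (h : c⁻¹ * (g * g) * c ∈ P), ψ ⟨c⁻¹ * (g * g) * c, h⟩ = 1) :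
    MonoidHom.transfer ψ g = -1 := by
  classical
  haveI : Fintype (Quotient (MulAction.orbitRel (Subgroup.zpowers g) (X ⧸ P))) := Fintype.ofFinite _
  have hm : ∀ q : X ⧸ P, Function.minimalPeriod (g • ·) q ∣ 4 := by
    intro q
    refine Function.IsPeriodicPt.minimalPeriod_dvd ?_
    show (fun x : X ⧸ P => g • x)^[4] q = q
    rw [smul_iterate, hg]
    exact one_smul X q
  have hV : MonoidHom.transfer ψ g = (-1) ^ P.index := by
    rw [Subgroup.index_eq_sum_minimalPeriod P g, ← Finset.prod_pow_eq_pow_sum]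
    rw [MonoidHom.transfer_eq_prod_quotient_orbitRel_zpowers_quot]
    refine Finset.prod_congr rfl fun q _ => ?_
    have hval : ∀ (m : ℕ) (g₀ : X) (hmem : g₀⁻¹ * g ^ m * g₀ ∈ P), m ∣ 4 →
        ψ ⟨g₀⁻¹ * g ^ m * g₀, hmem⟩ = (-1) ^ m := by
      intro m g₀ hmem hm4
      have h : m = 1 ∨ m = 2 ∨ m = 4 := by
        obtain ⟨i, hi, rfl⟩ := (Nat.dvd_prime_pow Nat.prime_two (m := 2)).1 hm4
        interval_cases i <;> simp
      rcases h with rfl | rfl | rfl
      · have e : g₀⁻¹ * g ^ 1 * g₀ = g₀⁻¹ * g * g₀ := by rw [pow_one]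
        exact ((congrArg ψ (Subtype.ext e)).trans (h1 g₀ (e ▸ hmem))).trans (pow_one (-1 : ℤˣ)).symm
      · have e : g₀⁻¹ * g ^ 2 * g₀ = g₀⁻¹ * (g * g) * g₀ := by rw [sq]
        exact ((congrArg ψ (Subtype.ext e)).trans (h2 g₀ (e ▸ hmem))).trans (neg_one_sq (R := ℤˣ)).symm
      · rw [show ((-1 : ℤˣ)) ^ 4 = 1 from rfl, ← map_one ψ]
        exact congrArg ψ (Subtype.ext (by simp [hg]))
    exact hval _ _ _ (hm q.out)
  rw [hV, hodd.neg_one_pow]

/-- The kernel of a transfer with value `-1` somewhere. -/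
theorem transfer_kernel {X : Type*} [Group X] (V : X →* ℤˣ) {a b : X} (ha : V a = -1) (hb : V b = -1) :
    a * b ∈ V.ker := by
  rw [MonoidHom.mem_ker, map_mul, ha, hb]; rfl

end CfsgAutL34
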