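import Cfsg.Agent.Lib.AutL34Type.Fusion
import Cfsg.Agent.Lib.AutL34Type.CChecks
import Cfsg.Agent.Lib.AutL34Type.Invol

/-!
Commuting conjugates of the involution when only the four group holds conjugates: they form triangles.
-/

set_option autoImplicit false
set_option maxRecDepth 100000
set_option linter.unusedSectionVars false

namespace CfsgAutL34

variable {G : Type*} [Group G] [Finite G]

/-- The conjugates of an element. -/
def cls (a : G) : Set G := {w | ∃ g : G, g * a * g⁻¹ = w}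

theorem cls_self (a : G) : a ∈ cls a := ⟨1, by group⟩

theorem cls_conj {a w : G} (h : w ∈ cls a) (g : G) : g * w * g⁻¹ ∈ cls a := by
  obtain ⟨k, rfl⟩ := h
  exact ⟨g * k, by group⟩

theorem cls_sq {a w : G} (ha : a * a = 1) (h : w ∈ cls a) : w * w = 1 := by
  obtain ⟨g, rfl⟩ := h
  rw [show g * a * g⁻¹ * (g * a * g⁻¹) = g * (a * a) * g⁻¹ by group, ha]; group

theorem cls_ne_one {a w : G} (ha : a ≠ 1) (h : w ∈ cls a) : w ≠ 1 := by
  obtain ⟨g, rfl⟩ := h
  exact fun e => ha (conj_eq_one_iff.1 e)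

/-- Conjugation preserves commuting. -/
theorem comm_conj (g : G) {a b : G} (h : a * b = b * a) :
    g * a * g⁻¹ * (g * b * g⁻¹) = g * b * g⁻¹ * (g * a * g⁻¹) := by
  rw [show g * a * g⁻¹ * (g * b * g⁻¹) = g * (a * b) * g⁻¹ by group, h]; group

/-- Only the four group holds conjugates of `z` in the centraliser. -/
structure OnlyU (z : G) (φ : ℕ → G) : Prop where
  B : Base 0 z φ
  hx : φ 1 ∈ cls z
  hU : ∀ w ∈ cls z, w * z = z * w → w = z ∨ w = φ 1 ∨ w = φ 17

/-- An element centralising two commuting conjugates of `z`. -/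
def Two (z w : G) : Prop := ∃ a ∈ cls z, ∃ b ∈ cls z, a ≠ b ∧ a * b = b * a ∧ w * a = a * w ∧ w * b = b * w

theorem Two.conj {z w : G} (h : Two z w) (g : G) : Two z (g * w * g⁻¹) := by
  obtain ⟨a, ha, b, hb, hne, hab, hwa, hwb⟩ := h
  exact ⟨_, cls_conj ha g, _, cls_conj hb g, fun e => hne (mul_left_cancel (mul_right_cancel e)),
    comm_conj g hab, comm_conj g hwa, comm_conj g hwb⟩

namespace OnlyU

variable {z : G} {φ : ℕ → G} (D : OnlyU z φ)
include D

theorem z_ne : z ≠ 1 := fun e => by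
  have := D.B.z2
  rw [e, orderOf_one] at this
  omega

theorem x17 : φ 17 = z * φ 1 := by
  have h : mmul 0 16 1 = 17 := by decide +kernel
  rw [← h, D.B.mul 16 (by norm_num) 1 (by norm_num), D.B.zc]

theorem x_comm : φ 1 * z = z * φ 1 := D.B.comm_z (by norm_num)

theorem x_ne : φ 1 ≠ z := by
  rw [← D.B.zc]
  exact fun e => absurd (D.B.inj 1 (by norm_num) 16 (by norm_num) e) (by norm_num)

theorem xz_mem : φ 17 ∈ cls z := by
  have h : mconj 0 32 1 = 17 := by decide +kernel
  rw [← h, D.B.conj (by norm_num) (by norm_num)]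
  exact cls_conj D.hx _

theorem x_sq : φ 1 * φ 1 = 1 := cls_sq D.B.zz D.hx

/-- Two conjugates commuting with a third conjugate. -/
theorem tri {w v : G} (hw : w ∈ cls z) (hv : v ∈ cls z) (hc : v * w = w * v) (hne : v ≠ w) :
    w * v ∈ cls z ∧ ∀ v' ∈ cls z, v' * w = w * v' → v' = w ∨ v' = v ∨ v' = w * v := by
  obtain ⟨g, rfl⟩ := hw
  have pull : ∀ u ∈ cls z, u * (g * z * g⁻¹) = g * z * g⁻¹ * u →
      u = g * z * g⁻¹ ∨ u = g * φ 1 * g⁻¹ ∨ u = g * φ 17 * g⁻¹ := by
    intro u hu hcu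
    have h := comm_conj g⁻¹ hcu
    rw [show g⁻¹ * (g * z * g⁻¹) * g⁻¹⁻¹ = z by group] at h
    rcases D.hU _ (cls_conj hu g⁻¹) h with e | e | e
    · left; rw [← e]; group
    · right; left; rw [← e]; group
    · right; right; rw [← e]; group
  have hzz := D.B.zz
  have h1 : g * z * g⁻¹ * (g * φ 1 * g⁻¹) = g * φ 17 * g⁻¹ := by rw [D.x17]; group
  have h2 : g * z * g⁻¹ * (g * φ 17 * g⁻¹) = g * φ 1 * g⁻¹ := by
    rw [D.x17, show g * z * g⁻¹ * (g * (z * φ 1) * g⁻¹) = g * (z * z * φ 1) * g⁻¹ by group, hzz, one_mul]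
  rcases pull v hv hc with e | e | e
  · exact absurd e hne
  · refine ⟨by rw [e, h1]; exact cls_conj D.xz_mem g, fun v' hv' hc' => ?_⟩
    rw [e, h1]
    exact pull v' hv' hc'
  · refine ⟨by rw [e, h2]; exact cls_conj D.hx g, fun v' hv' hc' => ?_⟩
    rw [e, h2]
    rcases pull v' hv' hc' with a | a | a <;> simp [a]

/-- Conjugates that do not commute are conjugate in the group they generate. -/
theorem conj_of_ncomm {w v : G} (hw : w ∈ cls z) (hv : v ∈ cls z) (hc : v * w ≠ w * v) :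
    ∃ n : ℕ, (w * v) ^ n * w * ((w * v) ^ n)⁻¹ = v := by
  have hw2 := cls_sq D.B.zz hw
  have hv2 := cls_sq D.B.zz hv
  refine (invol_dichotomy hw2 hv2).resolve_right ?_
  rintro ⟨m, hii, hi1, hwi, hvi, hcase⟩
  generalize hidef : (w * v) ^ m = i at *
  have hiw : i * w ∈ cls z := by
    rcases hcase with ⟨-, c, e⟩ | ⟨-, c, e⟩
    · exact e ▸ cls_conj hw c
    · exact e ▸ cls_conj hv c
  have hne : i * w ≠ w := fun e => hi1 (mul_eq_right.1 e)
  have hiK : i ∈ cls z := by
    have := (D.tri hw hiw (by rw [mul_assoc, hw2, mul_one, ← mul_assoc, hwi, mul_assoc, hw2, mul_one]) hne).1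
    rwa [← mul_assoc, hwi, mul_assoc, hw2, mul_one] at this
  have hwi1 : w ≠ i := fun e => hc (e.symm ▸ hvi)
  rcases (D.tri hiK hw hwi hwi1).2 v hv hvi with e | e | e
  · exact hc (e.symm ▸ hwi.symm)
  · exact hc (by rw [e])
  · exact hc (by rw [e, mul_assoc, hw2, mul_one, ← mul_assoc, hwi, mul_assoc, hw2, mul_one])

/-- The property passes to every triangle centralised in part. -/
theorem two_spec {w : G} (h : Two z w) {u : G} (hu : u ∈ cls z) (hwu : w * u = u * w) {v : G} (hv : v ∈ cls z)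
    (huv : v * u = u * v) : w * v = v * w := by
  obtain ⟨a, ha, b, hb, hne, hab, hwa, hwb⟩ := h
  obtain ⟨b', hb', hne', hub', hwb'⟩ : ∃ b' ∈ cls z, b' ≠ u ∧ b' * u = u * b' ∧ w * b' = b' * w := by
    by_cases hc : u * a = a * u
    · rcases (D.tri ha hb hab.symm hne.symm).2 u hu hc with e | e | e
      · exact ⟨b, hb, fun h => hne (e ▸ h.symm), e ▸ hab.symm, hwb⟩
      · exact ⟨a, ha, fun h => hne (h.trans e), hc.symm, hwa⟩
      · refine ⟨a, ha, fun h => ?_, hc.symm, hwa⟩
        exact cls_ne_one D.z_ne hb (mul_eq_left.1 (h.trans e).symm)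
    · obtain ⟨n, hn⟩ := D.conj_of_ncomm ha hu hc
      have hcw : Commute w ((a * u) ^ n) := (Commute.mul_right hwa hwu).pow_right n
      refine ⟨(a * u) ^ n * b * ((a * u) ^ n)⁻¹, cls_conj hb _, fun e => hne ?_, ?_, ?_⟩
      · exact mul_left_cancel (mul_right_cancel (hn.trans e.symm))
      · have := comm_conj ((a * u) ^ n) hab.symm
        rwa [hn] at this
      · have := comm_conj ((a * u) ^ n) hwb
        rwa [hcw.symm.eq, mul_inv_cancel_right] at this
  rcases (D.tri hu hb' hub' hne').2 v hv huv with e | e | e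
  · rw [e]; exact hwu
  · rw [e]; exact hwb'
  · rw [e]; exact (Commute.mul_right hwu hwb').eq

theorem two_s0 : Two z (φ 160) := by
  refine ⟨z, cls_self z, φ 1, D.hx, D.x_ne.symm, D.x_comm.symm, D.B.comm_z (by norm_num), ?_⟩
  exact (D.B.commute_iff (by norm_num) (by norm_num)).2 (by decide +kernel)

theorem mem_U {c : ℕ} (hc : c < 768) (h : φ c ∈ cls z) : c = 16 ∨ c = 1 ∨ c = 17 := by
  rcases D.hU _ h (D.B.comm_z hc) with e | e | e
  · exact Or.inl (D.B.inj _ hc 16 (by norm_num) (e.trans D.B.zc.symm))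
  · exact Or.inr (Or.inl (D.B.inj _ hc 1 (by norm_num) e))
  · exact Or.inr (Or.inr (D.B.inj _ hc 17 (by norm_num) e))

theorem s0_not : φ 160 ∉ cls z := fun h => by
  have := D.mem_U (by norm_num) h
  omega

theorem s0_sq : φ 160 * φ 160 = 1 := by
  rw [← D.B.mul _ (by norm_num) _ (by norm_num), show mmul 0 160 160 = 0 by decide +kernel, D.B.one]

theorem scl_not {y : G} (hy : y ∈ cls (φ 160)) : y ∉ cls z := by
  obtain ⟨g, rfl⟩ := hy
  intro h
  exact D.s0_not (by simpa [mul_assoc] using cls_conj h g⁻¹)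

theorem scl_two {y : G} (hy : y ∈ cls (φ 160)) : Two z y := by
  obtain ⟨g, rfl⟩ := hy
  exact D.two_s0.conj g

/-- The class `34` is not the class `160`. -/
theorem not_34 : φ 34 ∉ cls (φ 160) := by
  rintro ⟨h, hh⟩
  have h34z : φ 34 * z = z * φ 34 := D.B.comm_z (by norm_num)
  have hk : h * z * h⁻¹ ∈ cls z := cls_conj (cls_self z) h
  have hk34 : φ 34 * (h * z * h⁻¹) = h * z * h⁻¹ * φ 34 := by
    rw [← hh]; exact comm_conj h (D.B.comm_z (by norm_num))
  obtain ⟨c, hc34, hcz⟩ : ∃ c : G, c * φ 34 = φ 34 * c ∧ c * (h * z * h⁻¹) * c⁻¹ * z = z * (c * (h * z * h⁻¹) * c⁻¹) := by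
    by_cases hc : h * z * h⁻¹ * z = z * (h * z * h⁻¹)
    · exact ⟨1, by simp, by simpa using hc⟩
    · obtain ⟨n, hn⟩ := D.conj_of_ncomm hk (cls_self z) (fun e => hc e.symm)
      exact ⟨_, ((Commute.mul_right hk34 h34z).pow_right n).symm.eq, by rw [hn]⟩
  obtain ⟨n, hn⟩ : ∃ n, n = c * h := ⟨_, rfl⟩
  have hn0 : n * φ 160 * n⁻¹ = φ 34 := by
    rw [hn, show c * h * φ 160 * (c * h)⁻¹ = c * (h * φ 160 * h⁻¹) * c⁻¹ by group, hh, hc34, mul_inv_cancel_right]
  have hnz : n * z * n⁻¹ * z = z * (n * z * n⁻¹) := by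
    rw [hn, show c * h * z * (c * h)⁻¹ = c * (h * z * h⁻¹) * c⁻¹ by group]; exact hcz
  have hsub : ∀ d ∈ DList.filter (fun d => comm0 d 160), ∃ d' ∈ DList.filter (fun d => comm0 d 34),
      φ d' = n * φ d * n⁻¹ := by
    intro d hd
    simp only [DList, List.mem_filter, List.mem_range, comm0, beq_iff_eq] at hd
    obtain ⟨⟨hd, hd1⟩, hd160⟩ := hd
    rw [← D.B.commute_iff hd (by norm_num)] at hd1 hd160
    -- the triangle of the image of the involution is that of the involution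
    have hdz : n * φ d * n⁻¹ * z = z * (n * φ d * n⁻¹) := by
      refine D.two_spec ?_ (cls_conj (cls_self z) n) (comm_conj n (D.B.comm_z hd)) (cls_self z) hnz.symm
      exact (show Two z (φ d) from
        ⟨z, cls_self z, φ 1, D.hx, D.x_ne.symm, D.x_comm.symm, D.B.comm_z hd, hd1⟩).conj n
    have hdx : n * φ d * n⁻¹ * φ 1 = φ 1 * (n * φ d * n⁻¹) := by
      refine D.two_spec ?_ (cls_self z) hdz D.hx D.x_comm
      exact (show Two z (φ d) from
        ⟨z, cls_self z, φ 1, D.hx, D.x_ne.symm, D.x_comm.symm, D.B.comm_z hd, hd1⟩).conj n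
    obtain ⟨d', hd', e⟩ := (D.B.cent _).1 hdz
    refine ⟨d', ?_, e⟩
    simp only [DList, List.mem_filter, List.mem_range, comm0, beq_iff_eq]
    refine ⟨⟨hd', (D.B.commute_iff hd' (by norm_num)).1 (e ▸ hdx)⟩, (D.B.commute_iff hd' (by norm_num)).1 ?_⟩
    rw [e, ← hn0]
    exact comm_conj n hd160
  choose! f hf1 hf2 using hsub
  have hle : ((DList.filter fun d => comm0 d 160).toFinset).card ≤
      ((DList.filter fun d => comm0 d 34).toFinset).card := by
    refine Finset.card_le_card_of_injOn f (fun d hd => List.mem_toFinset.2 (hf1 d (List.mem_toFinset.1 hd)))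
      (fun d hd e he heq => ?_)
    have h1 := hf2 d (List.mem_toFinset.1 hd)
    rw [heq, hf2 e (List.mem_toFinset.1 he)] at h1
    have hlt : ∀ x ∈ DList.filter (fun d => comm0 d 160), x < 768 := fun x hx => by
      simp only [DList, List.mem_filter, List.mem_range] at hx
      exact hx.1.1
    exact (D.B.inj _ (hlt _ (List.mem_toFinset.1 he)) _ (hlt _ (List.mem_toFinset.1 hd))
      (mul_left_cancel (mul_right_cancel h1))).symm
  have hn' : ∀ r, (DList.filter fun d => comm0 d r).Nodup := fun r => (List.nodup_range.filter _).filter _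
  rw [List.toFinset_card_of_nodup (hn' _), List.toFinset_card_of_nodup (hn' _), cent_sizes.1, cent_sizes.2.1] at hle
  omega

/-- The conjugates of `160` in the centraliser. -/
theorem scl_cent {y : G} (hy : y ∈ cls (φ 160)) (hyz : y * z = z * y) : ∃ c ∈ SList, φ c = y := by
  obtain ⟨c, hc, rfl⟩ := (D.B.cent y).1 hyz
  have hsq : mmul 0 c c = 0 := (D.B.sq_iff hc (by norm_num)).1 (by rw [D.B.one]; exact cls_sq D.s0_sq hy)
  have h1 : mmul 0 c 1 = mmul 0 1 c := (D.B.commute_iff hc (by norm_num)).1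
    (D.two_spec (D.scl_two hy) (cls_self z) hyz D.hx D.x_comm)
  have := of_range_all inv_cases hc
  simp only [hsq, comm0, h1, bne_self_eq_false, beq_self_eq_true, Bool.not_true, Bool.false_or, Bool.or_eq_true,
    List.contains_iff_mem, List.any_eq_true, List.mem_range, beq_iff_eq] at this
  rcases this with (hU | hS) | ⟨d, hd, hd34⟩
  · exfalso
    simp only [UList, List.mem_cons, List.not_mem_nil, or_false] at hU
    rcases hU with rfl | rfl | rfl | rfl
    · exact cls_ne_one (fun h => absurd ((D.B.eq_one_iff (by norm_num)).1 h) (by norm_num)) hy D.B.one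
    · exact D.scl_not hy D.hx
    · exact D.scl_not hy (D.B.zc.symm ▸ cls_self z)
    · exact D.scl_not hy D.xz_mem
  · exact ⟨c, hS, rfl⟩
  · exact absurd (hd34 ▸ (D.B.conj hd hc).symm ▸ cls_conj hy (φ d)) D.not_34

/-- A conjugate of `z` times a commuting conjugate of `160`. -/
theorem scl_mul {y u : G} (hy : y ∈ cls (φ 160)) (hu : u ∈ cls z) (h : y * u = u * y) : u * y ∈ cls (φ 160) := by
  obtain ⟨g, rfl⟩ := hu
  have h' := comm_conj g⁻¹ h
  rw [show g⁻¹ * (g * z * g⁻¹) * g⁻¹⁻¹ = z by group] at h'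
  obtain ⟨c, hc, he⟩ := D.scl_cent (cls_conj hy g⁻¹) h'
  have hok := of_all SList_ok hc
  simp only [Bool.and_eq_true, decide_eq_true_eq] at hok
  obtain ⟨⟨⟨⟨⟨hlt, -⟩, -⟩, h16⟩, -⟩, -⟩ := hok
  have h16' := of_all SList_ok (List.contains_iff_mem.1 h16)
  simp only [Bool.and_eq_true, decide_eq_true_eq, List.any_eq_true, List.mem_range, beq_iff_eq] at h16'
  obtain ⟨-, d, hd, hd'⟩ := h16'
  have : g * φ (mmul 0 16 c) * g⁻¹ ∈ cls (φ 160) := by
    rw [← hd', D.B.conj hd (by norm_num)]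
    exact cls_conj (cls_conj (cls_self _) _) g
  rw [D.B.mul _ (by norm_num) _ hlt, D.B.zc, he] at this
  simpa [mul_assoc] using this

end OnlyU

end CfsgAutL34
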