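import Cfsg.Agent.Lib.AutL34Type.Gamma
import Cfsg.Agent.Lib.AutL34Type.CentdChecks
import Cfsg.Agent.Lib.AutL34Type.FourLemma
import Cfsg.Agent.Lib.AutL34Type.TransferSign
import Cfsg.Agent.Lib.AutL34Type.Triangle

/-!
The conjugates of `z` centralised by the element `140` of order three.
-/

set_option autoImplicit false
set_option maxRecDepth 100000
set_option maxHeartbeats 1000000
set_option linter.unusedSectionVars false

namespace CfsgAutL34

variable {G : Type*} [Group G] [Finite G] {z : G} {φ : ℕ → G}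

attribute [local irreducible] pMul pOf pT mconj mmul minv

/-- The conjugates centralised by `140` and commuting with, but differing from, their conjugates under `r`. -/
def RInv (z : G) (φ : ℕ → G) (r : G) : Set G :=
  {i | i ∈ cls z ∧ i * φ 140 = φ 140 * i ∧ r * i * r⁻¹ ≠ i ∧ i * (r * i * r⁻¹) = r * i * r⁻¹ * i}

namespace Frame

variable {r σ : G} (F : Frame z φ r σ)
include F

theorem r_U : r * φ 16 * r⁻¹ = φ 1 ∧ r * φ 1 * r⁻¹ = φ 17 ∧ r * φ 17 * r⁻¹ = φ 16 ∧ r * φ 140 = φ 140 * r := by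
  obtain ⟨h1, h2, h3, h4, hN⟩ := rU_ok
  have hr3 : r⁻¹ = r * r := inv_eq_of_mul_eq_one_right (by rw [← mul_assoc]; exact F.r3)
  have hNA : ∀ c ∈ ([1, 16, 17, 140] : List ℕ), c ∈ NAList := fun c hc =>
    List.contains_iff_mem.1 (List.all_eq_true.1 hN c hc)
  have go : ∀ a b, a ∈ ([1, 16, 17, 140] : List ℕ) → b ∈ ([1, 16, 17, 140] : List ℕ) →
      pMul (pMul pR (pOf a)) (pMul pR pR) = pOf b → r * φ a * r⁻¹ = φ b := fun a b ha hb h => by
    rw [hr3]
    exact F.rep_unique (h ▸ F.rep_mul (F.rep_mul F.rep_r (F.rep_code (hNA a ha))) (F.rep_mul F.rep_r F.rep_r))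
      (F.rep_code (hNA b hb))
  refine ⟨go 16 1 (by simp) (by simp) h1, go 1 17 (by simp) (by simp) h2, go 17 16 (by simp) (by simp) h3, ?_⟩
  exact F.rep_unique (h4 ▸ F.rep_mul F.rep_r (F.rep_code (hNA 140 (by simp))))
    (F.rep_mul (F.rep_code (hNA 140 (by simp))) F.rep_r)

theorem U_cls {u : ℕ} (hu : u ∈ UList) (hu0 : u ≠ 0) : φ u ∈ cls z := by
  obtain ⟨h1, h2, -, -⟩ := F.r_U
  simp only [UList, List.mem_cons, List.not_mem_nil, or_false] at hu
  have hx : φ 1 ∈ cls z := ⟨r, by rw [← F.B.zc, h1]⟩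
  rcases hu with rfl | rfl | rfl | rfl
  exacts [absurd rfl hu0, hx, F.B.zc.symm ▸ cls_self z, h2 ▸ cls_conj hx r]

theorem CD_row {y : ℕ} (hy : y ∈ CDList) : y < 768 ∧ mmul 0 (mmul 0 y y) (mmul 0 y y) ∈ PList ∧
    mmul 0 y y ∈ UDList ∧ ∀ y' ∈ CDList, (mmul 0 y y' ∈ UDList ↔ (y ∈ UDList ↔ y' ∈ UDList)) := by
  have := of_all CD_ok.2.1 hy
  simp only [Bool.and_eq_true, decide_eq_true_eq, List.all_eq_true, Bool.beq_eq_decide_eq] at this
  obtain ⟨⟨⟨⟨h1, h2⟩, -⟩, h3⟩, h4⟩ := this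
  refine ⟨h1, List.contains_iff_mem.1 h2, List.contains_iff_mem.1 h3, fun y' hy' => ?_⟩
  rw [← List.contains_iff_mem, h4 y' hy', decide_eq_true_eq, Bool.eq_iff_iff, List.contains_iff_mem,
    List.contains_iff_mem]

theorem CD_mem {y : ℕ} (hy : y < 768) : y ∈ CDList ↔ φ y * φ 140 = φ 140 * φ y := by
  have := of_range_all CD_ok.1 hy
  simp only [comm0, beq_iff_eq, Bool.beq_eq_decide_eq, decide_eq_true_eq] at this
  rw [← List.contains_iff_mem, ← this, decide_eq_true_eq, F.B.commute_iff hy (by norm_num)]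

/-- The conjugates of `z` among the codes commuting with `140`. -/
theorem CD_cls {y : ℕ} (hy : y ∈ CDList) (h : φ y ∈ cls z) : y ∈ UList ∧ y ≠ 0 := by
  obtain ⟨hlt, -⟩ := F.CD_row hy
  have h0 : y ≠ 0 := fun e => by
    rw [e, F.B.one] at h
    obtain ⟨g, hg⟩ := h
    have := F.B.z2
    rw [conj_eq_one_iff.1 hg, orderOf_one] at this
    omega
  refine ⟨?_, h0⟩
  by_cases hz : φ y = z
  · rw [F.B.inj _ hlt 16 (by norm_num) (hz.trans F.B.zc.symm)]; decide +kernel
  obtain ⟨g, hg⟩ := h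
  obtain ⟨c, r', hc, -, hcr, hcase, -⟩ := F.B.swap_of hlt hg.symm hz
  have hrow := of_all CD_ok.2.1 hy
  simp only [Bool.and_eq_true, Bool.or_eq_true, bne_iff_ne, List.all_eq_true, List.mem_range,
    List.contains_iff_mem] at hrow
  have hsq : mmul 0 y y = 0 := (F.B.sq_iff hlt (by norm_num)).1 (by
    rw [F.B.one, ← hg, show g * z * g⁻¹ * (g * z * g⁻¹) = g * (z * z) * g⁻¹ by group, F.B.zz]; group)
  rcases hrow.1.1.2 with (h1 | h1) | h1
  · exact absurd hsq h1
  · exact h1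
  · have := h1 c hc
    rw [hcr] at this
    rcases hcase with ⟨rfl, -⟩ | ⟨rfl, -⟩
    · exact absurd rfl this.1
    · exact absurd rfl this.2

/-- Commuting conjugates centralised by `140` of a member of the four group lie in it. -/
theorem U_comm {u : ℕ} (hu : u ∈ UList) (hu0 : u ≠ 0) {i : G} (hi : i ∈ cls z) (hd : i * φ 140 = φ 140 * i)
    (hc : i * φ u = φ u * i) : ∃ v ∈ UList, v ≠ 0 ∧ φ v = i := by
  obtain ⟨h1, h2, h3, h4⟩ := F.r_U
  have base : ∀ j ∈ cls z, j * φ 140 = φ 140 * j → j * φ 16 = φ 16 * j → ∃ v ∈ UList, v ≠ 0 ∧ φ v = j := by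
    intro j hj hjd hjc
    obtain ⟨y, hy, rfl⟩ := (F.B.cent j).1 (by rw [← F.B.zc]; exact hjc)
    obtain ⟨hU, h0⟩ := F.CD_cls ((F.CD_mem hy).2 hjd) hj
    exact ⟨y, hU, h0, rfl⟩
  have step : ∀ (a b : ℕ), r * φ a * r⁻¹ = φ b →
      (∀ j ∈ cls z, j * φ 140 = φ 140 * j → j * φ a = φ a * j → ∃ v ∈ UList, v ≠ 0 ∧ φ v = j) →
      ∀ j ∈ cls z, j * φ 140 = φ 140 * j → j * φ b = φ b * j → ∃ v ∈ UList, v ≠ 0 ∧ φ v = j := by
    intro a b hab ih j hj hjd hjc
    have hr1 : r⁻¹ * φ 140 * r = φ 140 := by rw [mul_assoc, ← h4, inv_mul_cancel_left]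
    obtain ⟨v, hv, hv0, e⟩ := ih (r⁻¹ * j * r) (by simpa using cls_conj hj r⁻¹) (by
        have := comm_conj r⁻¹ hjd
        simp only [inv_inv] at this
        rwa [hr1] at this) (by
        have := comm_conj r⁻¹ hjc
        simp only [inv_inv] at this
        rwa [show r⁻¹ * φ b * r = φ a by rw [← hab]; group] at this)
    have hj' : r * φ v * r⁻¹ = j := by rw [e]; group
    simp only [UList, List.mem_cons, List.not_mem_nil, or_false] at hv
    rcases hv with rfl | rfl | rfl | rfl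
    · exact absurd rfl hv0
    · exact ⟨17, by simp [UList], by norm_num, h2.symm.trans hj'⟩
    · exact ⟨1, by simp [UList], by norm_num, h1.symm.trans hj'⟩
    · exact ⟨16, by simp [UList], by norm_num, h3.symm.trans hj'⟩
  simp only [UList, List.mem_cons, List.not_mem_nil, or_false] at hu
  rcases hu with rfl | rfl | rfl | rfl
  · exact absurd rfl hu0
  · exact step 16 1 h1 base i hi hd hc
  · exact base i hi hd hc
  · exact step 1 17 h2 (step 16 1 h1 base) i hi hd hc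

/-- There are at most six. -/
theorem rInv_card : Nat.card ↥(RInv z φ r) ≤ 6 := by
  classical
  have h140 : (140 : ℕ) < 768 := by norm_num
  set X := Subgroup.centralizer ({φ 140} : Set G) with hXdef
  obtain ⟨dX, hdX⟩ : ∃ dX : ↥X, (dX : G) = φ 140 :=
    ⟨⟨φ 140, Subgroup.mem_centralizer_singleton_iff.2 rfl⟩, rfl⟩
  set P := Subgroup.zpowers dX with hPdef
  have hcen : ∀ x : ↥X, x * dX = dX * x := fun x => Subtype.ext (by
    simp only [Subgroup.coe_mul, hdX]; exact Subgroup.mem_centralizer_singleton_iff.1 x.2)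
  haveI hPn : P.Normal := ⟨fun p hp x => by
    obtain ⟨n, rfl⟩ := hp
    have h : Commute x (dX ^ n) := Commute.zpow_right (hcen x) n
    rw [h.eq, mul_inv_cancel_right]
    exact ⟨n, rfl⟩⟩
  have hd3 : dX * (dX * dX) = 1 := Subtype.ext (by
    simp only [Subgroup.coe_mul, Subgroup.coe_one, hdX]
    rw [← F.B.mul _ h140 _ h140, ← F.B.mul _ h140 _ (F.B.mul_lt h140 h140), gamma_d.2.1, gamma_d.2.2.1, F.B.one])
  have hPel : ∀ p : ↥X, p ∈ P ↔ ∃ c ∈ PList, φ c = (p : G) := by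
    intro p
    constructor
    · rintro ⟨n, rfl⟩
      have hmod : dX ^ n = dX ^ (n % 3) := by
        conv_lhs => rw [← Int.emod_add_mul_ediv n 3]
        rw [zpow_add, zpow_mul]
        rw [show dX ^ (3 : ℤ) = 1 by rw [show (3 : ℤ) = 1 + (1 + 1) from rfl, zpow_add, zpow_add, zpow_one]; exact hd3]
        rw [one_zpow, mul_one]
      have : n % 3 = 0 ∨ n % 3 = 1 ∨ n % 3 = 2 := by omega
      rcases this with h | h | h <;> show ∃ c ∈ PList, φ c = ((dX ^ n : ↥X) : G) <;> rw [hmod, h]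
      · exact ⟨0, by simp [PList], by simp [F.B.one]⟩
      · exact ⟨140, by simp [PList], by simp [hdX]⟩
      · refine ⟨196, by simp [PList], ?_⟩
        rw [show (2 : ℤ) = 1 + 1 from rfl, zpow_add, zpow_one, Subgroup.coe_mul, hdX, ← F.B.mul _ h140 _ h140,
          gamma_d.2.1]
    · rintro ⟨c, hc, e⟩
      simp only [PList, List.mem_cons, List.not_mem_nil, or_false] at hc
      rcases hc with rfl | rfl | rfl
      · rw [show p = 1 from Subtype.ext (e.symm.trans F.B.one)]; exact P.one_mem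
      · rw [show p = dX from Subtype.ext (e.symm.trans hdX.symm)]; exact Subgroup.mem_zpowers dX
      · rw [show p = dX * dX from Subtype.ext (by
          rw [← e, Subgroup.coe_mul, hdX, ← F.B.mul _ h140 _ h140, gamma_d.2.1])]
        exact P.mul_mem (Subgroup.mem_zpowers dX) (Subgroup.mem_zpowers dX)
  have hX : ∀ {c : ℕ}, c ∈ CDList → φ c ∈ X := fun {c} hc =>
    Subgroup.mem_centralizer_singleton_iff.2 ((F.CD_mem (F.CD_row hc).1).1 hc)
  obtain ⟨cd, hcd⟩ : ∃ cd : (c : ℕ) → c ∈ CDList → ↥X, ∀ c h, (cd c h : G) = φ c := ⟨fun c h => ⟨φ c, hX h⟩, fun c h => rfl⟩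
  have hPCD : ∀ p ∈ PList, p ∈ CDList := by decide +kernel
  have hUCD : ∀ u ∈ UList, u ∈ CDList := fun u hu => by
    have := List.all_eq_true.1 (of_all CD_ok.2.2.2.1 hu) 0 (by simp [PList])
    simp only [Bool.and_eq_true, List.contains_iff_mem] at this
    exact this.2
  have hUUD : ∀ u ∈ UList, u ∈ UDList := by decide +kernel
  have hPUD : ∀ p ∈ PList, p ∈ UDList := by decide +kernel
  obtain ⟨π, hπ⟩ : ∃ π : ↥X →* ↥X ⧸ P, π = QuotientGroup.mk' P := ⟨_, rfl⟩
  have hker : ∀ a b : ↥X, π a = π b → ∃ p ∈ PList, (a : G) = (b : G) * φ p := by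
    intro a b h
    rw [hπ, QuotientGroup.mk'_apply, QuotientGroup.mk'_apply, QuotientGroup.eq] at h
    obtain ⟨p, hp, e⟩ := (hPel _).1 h
    obtain ⟨p', hp', e'⟩ := (hPel (b⁻¹ * a)).1 (by
      have := P.inv_mem h
      simpa using this)
    exact ⟨p', hp', by rw [e']; simp⟩
  -- an involution is determined by its image
  have hinj2 : ∀ a b : ↥X, a * a = 1 → b * b = 1 → π a = π b → a = b := by
    intro a b ha hb h
    have hp : b⁻¹ * a ∈ P := by
      rw [hπ, QuotientGroup.mk'_apply, QuotientGroup.mk'_apply, QuotientGroup.eq] at h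
      simpa using P.inv_mem h
    obtain ⟨n, hn⟩ := hp
    obtain ⟨p, hp⟩ : ∃ p, dX ^ n = p := ⟨_, rfl⟩
    have hap : a = b * p := by rw [← hp]; simp only at hn; rw [hn]; group
    have hc : Commute b p := hp ▸ Commute.zpow_right (hcen b) n
    have h2 : p * p = 1 := by
      have := ha
      rw [hap, mul_assoc, ← mul_assoc p b, ← hc.eq, mul_assoc b p, ← mul_assoc b b, hb, one_mul] at this
      exact this
    have h3 : p * (p * p) = 1 := by
      rw [← hp, ← zpow_add, ← zpow_add, show n + (n + n) = 3 * n by ring, zpow_mul,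
        show dX ^ (3 : ℤ) = dX * (dX * dX) by rw [show (3 : ℤ) = 1 + (1 + 1) from rfl, zpow_add, zpow_add, zpow_one],
        hd3, one_zpow]
    rw [h2, mul_one] at h3
    rw [hap, h3, mul_one]
  obtain ⟨zX, hzX⟩ : ∃ zX : ↥X, (zX : G) = z := ⟨cd 16 (by decide +kernel), (hcd _ _).trans F.B.zc⟩
  obtain ⟨rX, hrX⟩ : ∃ rX : ↥X, (rX : G) = r := ⟨⟨r, Subgroup.mem_centralizer_singleton_iff.2 F.r_U.2.2.2⟩, rfl⟩
  set S : Subgroup (↥X ⧸ P) := Subgroup.centralizer ({π zX} : Set (↥X ⧸ P)) with hS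
  have hsurj : Function.Surjective π := hπ ▸ QuotientGroup.mk'_surjective P
  have hzz : zX * zX = 1 := Subtype.ext (by simp [hzX, F.B.zz])
  have hScode : ∀ a : ↥X, π a ∈ S → ∃ c ∈ CDList, φ c = (a : G) := by
    intro a ha
    have h := Subgroup.mem_centralizer_singleton_iff.1 ha
    rw [← map_mul, ← map_mul] at h
    have he : π (a * zX * a⁻¹) = π zX := by
      rw [map_mul, map_inv, h, ← map_inv, ← map_mul, mul_inv_cancel_right]
    have hfix := hinj2 _ _ (by rw [show a * zX * a⁻¹ * (a * zX * a⁻¹) = a * (zX * zX) * a⁻¹ by group, hzz]; group) hzz he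
    obtain ⟨c, hc, e⟩ := (F.B.cent (a : G)).1 (by
      have := congrArg Subtype.val (mul_inv_eq_iff_eq_mul.1 hfix)
      simpa [hzX] using this)
    exact ⟨c, (F.CD_mem hc).2 (by rw [e]; exact Subgroup.mem_centralizer_singleton_iff.1 a.2), e⟩
  have hcdS : ∀ c h, π (cd c h) ∈ S := fun c h => Subgroup.mem_centralizer_singleton_iff.2 (by
    rw [← map_mul, ← map_mul, show cd c h * zX = zX * cd c h from Subtype.ext (by
      simp only [Subgroup.coe_mul, hcd, hzX]; exact F.B.comm_z (F.CD_row h).1)])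
  have hSrep : ∀ s ∈ S, ∃ c, ∃ h : c ∈ CDList, π (cd c h) = s := by
    intro s hs
    obtain ⟨a, rfl⟩ := hsurj s
    obtain ⟨c, hc, e⟩ := hScode a hs
    exact ⟨c, hc, congrArg π (Subtype.ext ((hcd c hc).trans e))⟩
  have hUDval : ∀ {c : ℕ} (hc : c ∈ CDList), c ∈ UDList →
      ∃ u, ∃ hu : u ∈ UList, π (cd c hc) = π (cd u (hUCD u hu)) := by
    intro c hc hUD
    have := of_all CD_ok.2.2.1 hUD
    simp only [List.any_eq_true, beq_iff_eq] at this
    obtain ⟨u, hu, p, hp, e⟩ := this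
    refine ⟨u, hu, ?_⟩
    have h1 : cd c hc = cd u (hUCD u hu) * cd p (hPCD p hp) := Subtype.ext (by
      simp only [Subgroup.coe_mul, hcd, ← e]
      exact F.B.mul _ (F.CD_row (hUCD u hu)).1 _ (F.CD_row (hPCD p hp)).1)
    have h2 : π (cd p (hPCD p hp)) = 1 := by
      rw [hπ, QuotientGroup.mk'_apply, QuotientGroup.eq_one_iff]
      exact (hPel _).2 ⟨p, hp, (hcd _ _).symm⟩
    rw [h1, map_mul, h2, mul_one]
  have hUDiff : ∀ {c c' : ℕ} (hc : c ∈ CDList) (hc' : c' ∈ CDList), π (cd c hc) = π (cd c' hc') →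
      (c ∈ UDList ↔ c' ∈ UDList) := by
    intro c c' hc hc' h
    obtain ⟨p, hp, e⟩ := hker _ _ h
    simp only [hcd, ← F.B.mul _ (F.CD_row hc').1 _ (F.CD_row (hPCD p hp)).1] at e
    have e' := F.B.inj _ (F.CD_row hc).1 _ (F.B.mul_lt (F.CD_row hc').1 (F.CD_row (hPCD p hp)).1) e
    rw [e', (F.CD_row hc').2.2.2 p (hPCD p hp)]
    have hpU : p ∈ UDList := hPUD p hp
    simp [hpU]
  -- the centraliser is a Sylow subgroup
  have hS2 : IsPGroup 2 ↥S := by
    intro s
    refine ⟨2, ?_⟩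
    obtain ⟨c, hc, e⟩ := hSrep s s.2
    refine Subtype.ext ?_
    rw [SubgroupClass.coe_pow, ← e, ← map_pow, Subgroup.coe_one, hπ, QuotientGroup.mk'_apply, QuotientGroup.eq_one_iff]
    refine (hPel _).2 ⟨_, (F.CD_row hc).2.1, ?_⟩
    have hl := (F.CD_row hc).1
    rw [F.B.mul _ (F.B.mul_lt hl hl) _ (F.B.mul_lt hl hl), F.B.mul _ hl _ hl, SubgroupClass.coe_pow, hcd]
    rw [show (2 : ℕ) ^ 2 = 2 + 2 from rfl, pow_add, sq]
  have hSodd : Odd S.index := by
    haveI : Fact (Nat.Prime 2) := ⟨Nat.prime_two⟩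
    obtain ⟨Q, hQ⟩ := hS2.exists_le_sylow
    suffices hQS : (Q : Subgroup (↥X ⧸ P)) ≤ S by
      rw [Nat.odd_iff, ← Nat.two_dvd_ne_zero, ← le_antisymm hQS hQ]
      exact Q.not_dvd_index
    by_contra hne
    haveI := Q.2.isNilpotent
    have hlt : S.subgroupOf (Q : Subgroup (↥X ⧸ P)) < ⊤ := lt_top_iff_ne_top.2 fun e =>
      hne (Subgroup.subgroupOf_eq_top.1 e)
    obtain ⟨t, htN, htS⟩ := SetLike.exists_of_lt (normalizerCondition_of_isNilpotent _ hlt)
    apply htS
    have hzS : π zX ∈ S := Subgroup.mem_centralizer_singleton_iff.2 rfl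
    have hzim : (t : ↥X ⧸ P) * π zX * (t : ↥X ⧸ P)⁻¹ ∈ S :=
      (Subgroup.mem_normalizer_iff.1 htN ⟨π zX, hQ hzS⟩).1 hzS
    have hmem : ∀ s ∈ S, (t : ↥X ⧸ P)⁻¹ * s * t ∈ S := fun s hs => (Subgroup.mem_normalizer_iff''.1 htN ⟨s, hQ hs⟩).1 hs
    obtain ⟨tX, htX⟩ := hsurj (t : ↥X ⧸ P)
    rw [← htX] at hzim hmem
    rw [← map_mul, ← map_inv, ← map_mul] at hzim
    obtain ⟨c, hc, e⟩ := hScode _ hzim
    have hcK : φ c ∈ cls z := by
      rw [e]; simp only [Subgroup.coe_mul, Subgroup.coe_inv, hzX]; exact cls_conj (cls_self z) _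
    obtain ⟨hcU, hc0⟩ := F.CD_cls hc hcK
    have hzt : π (tX * zX * tX⁻¹) = π (cd c hc) := congrArg π (Subtype.ext (e.symm.trans (hcd c hc).symm))
    have hc16 : c = 16 := by
      have hrow := of_all CD_ok.2.2.2.2.1 hcU
      simp only [Bool.or_eq_true, beq_iff_eq, List.any_eq_true, Bool.not_eq_true', List.any_eq_false] at hrow
      rcases hrow with (h | h) | ⟨s, hs, hne⟩
      · exact absurd h hc0
      · exact h
      · exfalso
        have hcomm : π (cd c hc) * π (cd s hs) = π (cd s hs) * π (cd c hc) := by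
          have h := Subgroup.mem_centralizer_singleton_iff.1 (hmem _ (hcdS s hs))
          rw [← hzt, map_mul, map_mul, map_inv]
          calc π tX * π zX * (π tX)⁻¹ * π (cd s hs)
              = π tX * (π zX * ((π tX)⁻¹ * π (cd s hs) * π tX)) * (π tX)⁻¹ := by group
            _ = π tX * ((π tX)⁻¹ * π (cd s hs) * π tX * π zX) * (π tX)⁻¹ := by rw [h]
            _ = _ := by group
        rw [← map_mul, ← map_mul] at hcomm
        obtain ⟨p, hp, e'⟩ := hker _ _ hcomm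
        simp only [Subgroup.coe_mul, hcd] at e'
        have l1 := (F.CD_row hc).1
        have l2 := (F.CD_row hs).1
        have l3 := (F.CD_row (hPCD p hp)).1
        rw [← F.B.mul _ l1 _ l2, ← F.B.mul _ l2 _ l1, ← F.B.mul _ (F.B.mul_lt l2 l1) _ l3] at e'
        exact hne p hp ((F.B.inj _ (F.B.mul_lt l1 l2) _ (F.B.mul_lt (F.B.mul_lt l2 l1) l3) e').symm)
    have : π (tX * zX * tX⁻¹) = π zX := by
      rw [hzt]; exact congrArg π (Subtype.ext (by rw [hcd, hc16, F.B.zc, hzX]))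
    rw [map_mul, map_mul, map_inv, htX] at this
    exact Subgroup.mem_centralizer_singleton_iff.2 (mul_inv_eq_iff_eq_mul.1 this)
  -- the transfer
  let inQ : ↥S → Prop := fun s => ∃ c, ∃ h : c ∈ CDList, c ∈ UDList ∧ π (cd c h) = s
  have inQ_iff : ∀ (s : ↥S) {c : ℕ} (hc : c ∈ CDList), π (cd c hc) = s → (inQ s ↔ c ∈ UDList) :=
    fun s c hc e => ⟨fun ⟨a, ha, haU, e'⟩ => (hUDiff ha hc (e'.trans e.symm)).1 haU, fun h => ⟨c, hc, h, e⟩⟩
  have h0CD : (0 : ℕ) ∈ CDList := by decide +kernel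
  let ψ : ↥S →* ℤˣ :=
    { toFun := fun s => if inQ s then 1 else -1
      map_one' := if_pos ⟨0, h0CD, by decide +kernel, by
        rw [show cd 0 h0CD = 1 from Subtype.ext (by simp [hcd, F.B.one]), map_one]; rfl⟩
      map_mul' := fun s t => by
        obtain ⟨a, ha, ea⟩ := hSrep s s.2
        obtain ⟨b, hb, eb⟩ := hSrep t t.2
        have hab : mmul 0 a b ∈ CDList := (F.CD_mem (F.B.mul_lt (F.CD_row ha).1 (F.CD_row hb).1)).2 (by
          rw [F.B.mul _ (F.CD_row ha).1 _ (F.CD_row hb).1]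
          exact (Commute.mul_left ((F.CD_mem (F.CD_row ha).1).1 ha) ((F.CD_mem (F.CD_row hb).1).1 hb)).eq)
        have e : π (cd _ hab) = ((s * t : ↥S) : ↥X ⧸ P) := by
          rw [Subgroup.coe_mul, ← ea, ← eb, ← map_mul]
          exact congrArg π (Subtype.ext (by simp only [Subgroup.coe_mul, hcd, F.B.mul _ (F.CD_row ha).1 _ (F.CD_row hb).1]))
        rw [if_congr ((inQ_iff _ hab e).trans ((F.CD_row ha).2.2.2 b hb)) rfl rfl,
          if_congr (inQ_iff _ ha ea) rfl rfl, if_congr (inQ_iff _ hb eb) rfl rfl]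
        by_cases h1 : a ∈ UDList <;> by_cases h2 : b ∈ UDList <;> simp [h1, h2] }
  obtain ⟨V, hVdef⟩ : ∃ V : ↥X ⧸ P →* ℤˣ, V = MonoidHom.transfer ψ := ⟨_, rfl⟩
  -- conjugates inside the centraliser of elements of the four group
  have hconjU : ∀ (g : ↥X) {u : ℕ} (hu : u ∈ UList) (a : ↥X), π a ∈ S →
      π g * π (cd u (hUCD u hu)) * (π g)⁻¹ = π a → ∃ c, ∃ h : c ∈ CDList, c ∈ UDList ∧ π (cd c h) = π a := by
    intro g u hu a haS h
    rw [← map_mul, ← map_inv, ← map_mul] at h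
    by_cases h0 : u = 0
    · refine ⟨0, h0CD, by decide +kernel, ?_⟩
      subst h0
      rw [← h]
      exact congrArg π (Subtype.ext (by simp [hcd, F.B.one]))
    · obtain ⟨c, hc, e⟩ := hScode (g * cd u (hUCD u hu) * g⁻¹) (h.symm ▸ haS)
      have hcK : φ c ∈ cls z := by
        rw [e]; simp only [Subgroup.coe_mul, Subgroup.coe_inv, hcd]; exact cls_conj (F.U_cls hu h0) _
      obtain ⟨hcU, -⟩ := F.CD_cls hc hcK
      refine ⟨c, hc, ?_, (congrArg π (Subtype.ext ((hcd c hc).trans e))).trans h⟩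
      exact hUUD c hcU
  have hVs : ∀ {c : ℕ} (hc : c ∈ CDList), c ∉ UDList → V (π (cd c hc)) = -1 := by
    intro c hc hcQ
    rw [hVdef]
    refine transfer_sign S hSodd ψ _ ?_ ?_ ?_
    · have := congrArg Subtype.val ((hS2 ⟨_, hcdS c hc⟩).choose_spec)
      rw [← map_pow, hπ, QuotientGroup.mk'_apply, QuotientGroup.eq_one_iff]
      refine (hPel _).2 ⟨_, (F.CD_row hc).2.1, ?_⟩
      have hl := (F.CD_row hc).1
      rw [F.B.mul _ (F.B.mul_lt hl hl) _ (F.B.mul_lt hl hl), F.B.mul _ hl _ hl, SubgroupClass.coe_pow, hcd,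
        show (4 : ℕ) = 2 + 2 from rfl, pow_add, sq]
    · intro g hg
      refine if_neg ?_
      rintro ⟨a, ha, haU, e⟩
      obtain ⟨gX, rfl⟩ := hsurj g
      obtain ⟨u, hu, eu⟩ := hUDval ha haU
      obtain ⟨c', hc', hc'U, e'⟩ := hconjU gX hu (cd c hc) (hcdS c hc) (by rw [← eu, e]; group)
      exact hcQ ((hUDiff hc' hc e').1 hc'U)
    · intro g hg
      refine if_pos ?_
      obtain ⟨gX, rfl⟩ := hsurj g
      have hl := (F.CD_row hc).1
      have h2 : mmul 0 c c ∈ CDList := (F.CD_mem (F.B.mul_lt hl hl)).2 (by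
        rw [F.B.mul _ hl _ hl]
        exact (Commute.mul_left ((F.CD_mem hl).1 hc) ((F.CD_mem hl).1 hc)).eq)
      obtain ⟨u, hu, eu⟩ := hUDval h2 (F.CD_row hc).2.2.1
      have esq : π (cd c hc) * π (cd c hc) = π (cd u (hUCD u hu)) := by
        rw [← eu, ← map_mul]
        exact congrArg π (Subtype.ext (by simp only [Subgroup.coe_mul, hcd, F.B.mul _ hl _ hl]))
      obtain ⟨a, ha⟩ := hsurj ((π gX)⁻¹ * (π (cd c hc) * π (cd c hc)) * π gX)
      obtain ⟨c', hc', hc'U, e'⟩ := hconjU gX⁻¹ hu a (ha ▸ hg) (by rw [ha, esq, map_inv, inv_inv])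
      exact ⟨c', hc', hc'U, e'.trans ha⟩
  set M := V.ker with hM
  have hMU : ∀ {c : ℕ} (hc : c ∈ CDList), (π (cd c hc) ∈ M ↔ c ∈ UDList) := by
    intro c hc
    refine ⟨fun h => ?_, fun h => ?_⟩
    · by_contra hcA
      have h1 := hVs hc hcA
      rw [MonoidHom.mem_ker.1 h] at h1
      exact absurd h1 (by decide)
    · have h2 : (2 : ℕ) ∈ CDList := List.contains_iff_mem.1 CD_ok.2.2.2.2.2.1
      have h2Q : (2 : ℕ) ∉ UDList := fun h' => by
        have := List.contains_iff_mem.2 h'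
        rw [CD_ok.2.2.2.2.2.2] at this
        exact Bool.false_ne_true this
      have hl := (F.CD_row hc).1
      have hprod : mmul 0 2 c ∈ CDList := (F.CD_mem (F.B.mul_lt (F.CD_row h2).1 hl)).2 (by
        rw [F.B.mul _ (F.CD_row h2).1 _ hl]
        exact (Commute.mul_left ((F.CD_mem (F.CD_row h2).1).1 h2) ((F.CD_mem hl).1 hc)).eq)
      have hpQ : mmul 0 2 c ∉ UDList := fun h' => h2Q ((((F.CD_row h2).2.2.2 c hc).1 h').2 h)
      have h1 := hVs hprod hpQ
      rw [show cd _ hprod = cd 2 h2 * cd c hc from Subtype.ext (by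
        simp only [Subgroup.coe_mul, hcd, F.B.mul _ (F.CD_row h2).1 _ hl]), map_mul, map_mul, hVs h2 h2Q] at h1
      exact MonoidHom.mem_ker.2 (mul_eq_left.1 h1)
  have hrr : rX * (rX * rX) = 1 := Subtype.ext (by simp [hrX, ← mul_assoc, F.r3])
  have hrM : π rX ∈ M := by
    have h := congrArg (fun a => V (π a)) hrr
    simp only [map_mul, map_one] at h
    refine MonoidHom.mem_ker.2 ?_
    rcases Int.units_eq_one_or (V (π rX)) with h' | h'
    · exact h'
    · rw [h'] at h; exact absurd h (by decide)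
  have hzM : π zX ∈ M := by
    have e : cd 16 (by decide +kernel) = zX := Subtype.ext ((hcd _ _).trans (F.B.zc.trans hzX.symm))
    exact e ▸ (hMU (by decide +kernel)).2 (by decide +kernel)
  set W : Subgroup ↥M := Subgroup.centralizer ({(⟨π zX, hzM⟩ : ↥M)} : Set ↥M) with hW
  have hWcode : ∀ v : ↥M, v ∈ W → ∃ u, ∃ hu : u ∈ UList, π (cd u (hUCD u hu)) = (v : ↥X ⧸ P) := by
    intro v hv
    have h : (v : ↥X ⧸ P) ∈ S := Subgroup.mem_centralizer_singleton_iff.2
      (congrArg Subtype.val (Subgroup.mem_centralizer_singleton_iff.1 hv))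
    obtain ⟨c, hc, e⟩ := hSrep _ h
    obtain ⟨u, hu, eu⟩ := hUDval hc ((hMU hc).1 (e ▸ v.2))
    exact ⟨u, hu, eu.symm.trans e⟩
  have hUW : ∀ u (hu : u ∈ UList), ∃ hm : π (cd u (hUCD u hu)) ∈ M, (⟨_, hm⟩ : ↥M) ∈ W := fun u hu =>
    ⟨(hMU _).2 (hUUD u hu), Subgroup.mem_centralizer_singleton_iff.2 (Subtype.ext
      (Subgroup.mem_centralizer_singleton_iff.1 (hcdS u (hUCD u hu))))⟩
  have hU2 : ∀ u (hu : u ∈ UList), cd u (hUCD u hu) * cd u (hUCD u hu) = 1 := fun u hu => Subtype.ext (by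
    simp only [Subgroup.coe_mul, hcd, Subgroup.coe_one]
    have hl := (F.CD_row (hUCD u hu)).1
    rw [← F.B.mul _ hl _ hl, show mmul 0 u u = 0 by revert hu; revert u; decide +kernel, F.B.one])
  have hW4 : Nat.card ↥W = 4 := by
    have hb : Function.Bijective (fun u : {u : ℕ // u ∈ UList.toFinset} =>
        (⟨_, (hUW u.1 (List.mem_toFinset.1 u.2)).2⟩ : ↥W)) := by
      refine ⟨fun a b h => Subtype.ext ?_, fun v => ?_⟩
      · have := congrArg (fun s : ↥W => ((s : ↥M) : ↥X ⧸ P)) h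
        have e := congrArg Subtype.val (hinj2 _ _ (hU2 _ (List.mem_toFinset.1 a.2)) (hU2 _ (List.mem_toFinset.1 b.2)) this)
        simp only [hcd] at e
        exact F.B.inj _ (F.CD_row (hUCD _ (List.mem_toFinset.1 a.2))).1 _
          (F.CD_row (hUCD _ (List.mem_toFinset.1 b.2))).1 e
      · obtain ⟨u, hu, e⟩ := hWcode v v.2
        exact ⟨⟨u, List.mem_toFinset.2 hu⟩, Subtype.ext (Subtype.ext e)⟩
    rw [← Nat.card_eq_of_bijective _ hb, Nat.card_eq_fintype_card, Fintype.card_coe]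
    decide +kernel
  have hWexp : ∀ v ∈ W, v * v = 1 := by
    intro v hv
    obtain ⟨u, hu, e⟩ := hWcode v hv
    refine Subtype.ext ?_
    rw [Subgroup.coe_mul, ← e, ← map_mul, hU2 u hu, map_one, Subgroup.coe_one]
  obtain ⟨rM, hrM'⟩ : ∃ rM : ↥M, (rM : ↥X ⧸ P) = π rX := ⟨⟨_, hrM⟩, rfl⟩
  have hWc : ∀ v ∈ W, v ≠ 1 → ∀ y, y * v = v * y → y ∈ W := by
    obtain ⟨h1, h2, h3, -⟩ := F.r_U
    have step : ∀ (a b : ℕ) (ha : a ∈ UList) (hb : b ∈ UList), r * φ a * r⁻¹ = φ b →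
        (∀ y, y * (⟨_, (hUW a ha).1⟩ : ↥M) = ⟨_, (hUW a ha).1⟩ * y → y ∈ W) →
        ∀ y, y * (⟨_, (hUW b hb).1⟩ : ↥M) = ⟨_, (hUW b hb).1⟩ * y → y ∈ W := by
      intro a b ha hb hab ih y hy
      have ev : rM * ⟨_, (hUW a ha).1⟩ * rM⁻¹ = (⟨_, (hUW b hb).1⟩ : ↥M) := Subtype.ext (by
        simp only [Subgroup.coe_mul, Subgroup.coe_inv, hrM', ← map_mul, ← map_inv]
        exact congrArg π (Subtype.ext (by simp only [Subgroup.coe_mul, Subgroup.coe_inv, hcd, hrX, hab])))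
      rw [← ev] at hy
      have hyc := ih (rM⁻¹ * y * rM) (by
        calc rM⁻¹ * y * rM * (⟨_, (hUW a ha).1⟩ : ↥M)
            = rM⁻¹ * (y * (rM * ⟨_, (hUW a ha).1⟩ * rM⁻¹)) * rM := by group
          _ = rM⁻¹ * (rM * ⟨_, (hUW a ha).1⟩ * rM⁻¹ * y) * rM := by rw [hy]
          _ = _ := by group)
      obtain ⟨u, hu, e⟩ := hWcode _ hyc
      have hmap : ∃ v, ∃ hv : v ∈ UList, r * φ u * r⁻¹ = φ v := by
        have hu' := hu
        simp only [UList, List.mem_cons, List.not_mem_nil, or_false] at hu'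
        rcases hu' with rfl | rfl | rfl | rfl
        exacts [⟨0, hu, by rw [F.B.one]; group⟩, ⟨17, by simp [UList], h2⟩, ⟨1, by simp [UList], h1⟩,
          ⟨16, by simp [UList], h3⟩]
      obtain ⟨v, hv, hrv⟩ := hmap
      have hy' : y = ⟨_, (hUW v hv).1⟩ := Subtype.ext (by
        calc (y : ↥X ⧸ P) = (rM : ↥X ⧸ P) * ((rM⁻¹ * y * rM : ↥M) : ↥X ⧸ P) * (rM : ↥X ⧸ P)⁻¹ := by
              simp only [Subgroup.coe_mul, Subgroup.coe_inv]; group
          _ = π (cd v (hUCD v hv)) := by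
              rw [← e, hrM', ← map_inv, ← map_mul, ← map_mul]
              exact congrArg π (Subtype.ext (by simp only [Subgroup.coe_mul, Subgroup.coe_inv, hcd, hrX, hrv])))
      rw [hy']; exact (hUW v hv).2
    intro v hv hv1
    obtain ⟨u, hu, e⟩ := hWcode v hv
    have hb : ∀ y, y * (⟨_, (hUW 16 (by simp [UList])).1⟩ : ↥M) = ⟨_, (hUW 16 (by simp [UList])).1⟩ * y → y ∈ W := by
      intro y hy
      refine Subgroup.mem_centralizer_singleton_iff.2 ?_
      rwa [show (⟨π zX, hzM⟩ : ↥M) = ⟨_, (hUW 16 (by simp [UList])).1⟩ from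
        Subtype.ext (congrArg π (Subtype.ext (by rw [hcd, hzX, F.B.zc])))]
    rw [show v = ⟨_, (hUW u hu).1⟩ from Subtype.ext e.symm]
    have hu0 : u ≠ 0 := fun h0 => hv1 (Subtype.ext (by
      subst h0
      rw [← e, show cd 0 (hUCD 0 hu) = 1 from Subtype.ext (by simp [hcd, F.B.one]), map_one, Subgroup.coe_one]))
    have hu' := hu
    simp only [UList, List.mem_cons, List.not_mem_nil, or_false] at hu'
    rcases hu' with rfl | rfl | rfl | rfl
    · exact absurd rfl hu0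
    · exact step 16 1 (by simp [UList]) hu h1 hb
    · exact hb
    · exact step 1 17 (by simp [UList]) hu h2 (step 16 1 (by simp [UList]) (by simp [UList]) h1 hb)
  -- the conjugates inside
  have hin : ∀ i : ↥(RInv z φ r), ∃ y : ↥M, y * y = 1 ∧ y ≠ 1 ∧ rM * y * rM⁻¹ ≠ y ∧
      y * (rM * y * rM⁻¹) = rM * y * rM⁻¹ * y ∧ ∃ a : ↥X, (a : G) = i.1 ∧ π a = y := by
    rintro ⟨i, hiK, hid, hine, hic⟩
    have hia : i ∈ X := Subgroup.mem_centralizer_singleton_iff.2 hid
    obtain ⟨a, ha⟩ : ∃ a : ↥X, (a : G) = i := ⟨⟨i, hia⟩, rfl⟩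
    have haa : a * a = 1 := Subtype.ext (by simp [ha, cls_sq F.B.zz hiK])
    have haM : π a ∈ M := by
      haveI : Fact (Nat.Prime 2) := ⟨Nat.prime_two⟩
      have h2 : IsPGroup 2 ↥(Subgroup.zpowers (π a)) := by
        rcases (Nat.dvd_prime Nat.prime_two).1 (orderOf_dvd_of_pow_eq_one
          (show π a ^ 2 = 1 by rw [sq, ← map_mul, haa, map_one])) with h | h
        · exact IsPGroup.of_card (n := 0) (by rw [Nat.card_zpowers, h]; rfl)
        · exact IsPGroup.of_card (n := 1) (by rw [Nat.card_zpowers, h]; rfl)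
      obtain ⟨Q, hQ⟩ := h2.exists_le_sylow
      obtain ⟨S', hS'⟩ := hS2.exists_le_sylow
      have hSeq : (S' : Subgroup (↥X ⧸ P)) = S := by
        refine le_antisymm (fun x hx => ?_) hS'
        have hd : S.relIndex (S' : Subgroup (↥X ⧸ P)) ∣ S.index := Subgroup.relIndex_dvd_index_of_le hS'
        obtain ⟨n, hn⟩ := S'.2.index (S.subgroupOf (S' : Subgroup (↥X ⧸ P)))
        rcases n with _ | n
        · exact Subgroup.relIndex_eq_one.1 (by rw [pow_zero] at hn; exact hn) hx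
        · exfalso
          have h2' : 2 ∣ S.index := (Dvd.intro_left _ (pow_succ 2 n).symm).trans (hn ▸ hd)
          rw [Nat.odd_iff] at hSodd
          omega
      obtain ⟨g, hg⟩ := MulAction.exists_smul_eq (↥X ⧸ P) Q S'
      have hm : g * π a * g⁻¹ ∈ S := by
        rw [← hSeq, ← hg, Sylow.coe_subgroup_smul]
        exact ⟨π a, hQ (Subgroup.mem_zpowers _), rfl⟩
      obtain ⟨gX, rfl⟩ := hsurj g
      rw [← map_mul, ← map_inv, ← map_mul] at hm
      obtain ⟨c, hc, e⟩ := hScode _ hm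
      have hcK : φ c ∈ cls z := by
        rw [e]; simp only [Subgroup.coe_mul, Subgroup.coe_inv, ha]; exact cls_conj hiK _
      obtain ⟨hcU, -⟩ := F.CD_cls hc hcK
      have hcm : π (gX * a * gX⁻¹) ∈ M := by
        rw [show gX * a * gX⁻¹ = cd c hc from Subtype.ext (e.symm.trans (hcd c hc).symm)]
        refine (hMU hc).2 ?_
        exact hUUD c hcU
      have := (inferInstance : M.Normal).conj_mem _ hcm (π gX)⁻¹
      simpa [map_mul, map_inv, mul_assoc] using this
    refine ⟨⟨π a, haM⟩, Subtype.ext (by simp [← map_mul, haa]), fun h => ?_, fun h => hine ?_, Subtype.ext ?_,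
      a, ha, rfl⟩
    · have h1 : π a = π 1 := by rw [map_one]; exact congrArg Subtype.val h
      have := congrArg Subtype.val (hinj2 a 1 haa (mul_one 1) h1)
      rw [ha] at this
      exact cls_ne_one (fun hz1 => by
        have := F.B.z2
        rw [hz1, orderOf_one] at this
        omega) hiK this
    · have h1 : π (rX * a * rX⁻¹) = π a := by
        simpa [map_mul, map_inv, hrM'] using congrArg Subtype.val h
      have := congrArg Subtype.val (hinj2 _ _ (by
        rw [show rX * a * rX⁻¹ * (rX * a * rX⁻¹) = rX * (a * a) * rX⁻¹ by group, haa]; group) haa h1)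
      simpa [ha, hrX] using this
    · simp only [Subgroup.coe_mul, Subgroup.coe_inv, hrM', ← map_mul, ← map_inv]
      exact congrArg π (Subtype.ext (by simpa [ha, hrX] using hic))
  choose f hf1 hf2 hf3 hf4 a hfa hfπ using hin
  have hfinj : Function.Injective (fun i => (⟨f i, hf1 i, hf2 i, hf3 i, hf4 i⟩ :
      {y : ↥M // y * y = 1 ∧ y ≠ 1 ∧ rM * y * rM⁻¹ ≠ y ∧ y * (rM * y * rM⁻¹) = rM * y * rM⁻¹ * y})) := by
    intro i j h
    have h1 : f i = f j := congrArg Subtype.val h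
    have hsq : ∀ i, a i * a i = 1 := fun i => Subtype.ext (by simp [hfa, cls_sq F.B.zz i.2.1])
    refine Subtype.ext ?_
    rw [← hfa i, ← hfa j, hinj2 _ _ (hsq i) (hsq j) (by rw [hfπ, hfπ, h1])]
  refine (Nat.card_le_card_of_injective _ hfinj).trans ?_
  rcases four_lemma _ ↥M rfl W hW4 hWexp hWc with hN | ⟨⟨e⟩⟩
  · have hle : ∀ y : ↥M, y * y = 1 → y ∈ W := fun y hy => by
      obtain ⟨g, hg⟩ := conj_into_four W hW4 hWexp hWc hy
      simpa [mul_assoc] using hN.conj_mem _ hg g⁻¹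
    refine le_trans ?_ (by norm_num : (4 : ℕ) ≤ 6)
    rw [← hW4]
    exact Nat.card_le_card_of_injective (fun y => (⟨y.1, hle _ y.2.1⟩ : ↥W))
      (fun x y h => Subtype.ext (congrArg (fun w : ↥W => (w : ↥M)) h))
  · refine le_trans (le_of_eq ?_) (alt5_six (e rM))
    rw [← Nat.card_eq_finsetCard]
    refine Nat.card_congr (e.toEquiv.subtypeEquiv fun y => ?_)
    simp only [Finset.mem_filter, Finset.mem_univ, true_and, MulEquiv.toEquiv_eq_coe, EquivLike.coe_coe,
      ← map_mul, ← map_inv, ne_eq, MulEquiv.map_eq_one_iff, EmbeddingLike.apply_eq_iff_eq]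

end Frame

end CfsgAutL34
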