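import Cfsg.Agent.Lib.AutL34Type.Model
import Cfsg.Agent.Lib.AutL34Type.Util

/-!
Kernel checks on the extraspecial group and its automorphisms.
-/

set_option autoImplicit false
set_option maxRecDepth 100000
set_option Elab.async false

namespace CfsgAutL34

theorem emul_lt : ∀ a < 32, ∀ b < 32, emul a b < 32 := by decide +kernel

theorem emul_assoc : ∀ a < 32, ∀ b < 32, ∀ c < 32, emul (emul a b) c = emul a (emul b c) := by decide +kernel

theorem emul_one : ∀ a < 32, emul 0 a = a ∧ emul a 0 = a ∧ einv a < 32 ∧ emul (einv a) a = 0 := by decide +kernel

theorem center_eq : ∀ a < 32, (∀ g < 32, emul g a = emul a g) ↔ a = 0 ∨ a = 16 := by decide +kernel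

theorem sq_eq : ∀ a < 32, emul a a = 0 ∨ emul a a = 16 := by decide +kernel

theorem roots_count : ((List.range 32).filter fun a => emul a a == 0).length = 12 := by decide +kernel

/-- An element from its four coordinates and its sign. -/
def esplit (x : ℕ) : List ℕ :=
  [1, 2, 4, 8].filter fun g => x / g % 2 == 1

theorem esplit_ok : ((List.range 32).all fun x =>
    let w := (esplit x).foldl emul 0
    w == x || emul w 16 == x) = true := by decide +kernel

theorem act_hom : ((List.range 24).all fun s => (List.range 32).all fun x => decide (act s x < 32) &&
    [1, 2, 4, 8, 16].all fun g => act s (emul x g) == emul (act s x) (act s g)) = true := by decide +kernel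

theorem act_fix : ((List.range 24).all fun s => act s 0 == 0 && act s 16 == 16 && (act s 1 == 1 || act s 1 == 17)) = true
    ∧ ((List.range 32).all fun x => act 0 x == x) = true := by decide +kernel

theorem act_outer : ((List.range 24).all fun s => s == 0 || (List.range 32).all fun e =>
    [1, 2, 4, 8].any fun g => act s g != econj e g) = true := by decide +kernel

theorem cands_count : (cands [1, 17]).length = 384 ∧ (cands invs).length = 1920 ∧ invs.length = 10 ∧
    (cands [1, 17]).Nodup := by decide +kernel

theorem act_mem_cands : ((List.range 24).all fun s => (cands [1, 17]).contains (tup (act s))) = true := by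
  decide +kernel

end CfsgAutL34
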