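import Cfsg.Agent.Lib.AutL34Type.Engine
import Cfsg.Agent.Lib.AutL34Type.RepData
import Cfsg.Agent.Lib.AutL34Type.EChecks

/-!
Kernel checks on the representatives of the quotient by the extraspecial group.
-/

set_option autoImplicit false
set_option maxRecDepth 100000
set_option maxHeartbeats 4000000
set_option Elab.async false

namespace CfsgAutL34

open Enum

/-- The relators of the cover `k`. -/
def repRels : ℕ → List (List ℕ)
  | k =>
    let e := if k / 2 = 1 then [6] else []
    let d := if k % 2 = 1 then [6] else []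
    [[6, 6], [0, 6, 1, 7], [2, 6, 3, 7], [4, 6, 5, 7], [0, 0] ++ e, [2, 2] ++ e, [4, 4] ++ e,
      [0, 2, 0, 2, 0, 2], [2, 4, 2, 4, 2, 4], [0, 4, 0, 4] ++ d]

/-- The four enumerations. -/
def repCert : ℕ → Cert
  | 0 => ⟨Rep0.facts, Rep0.nf, Rep0.par, Rep0.rep, Rep0.rows, rulesOf (repRels 0) Rep0.spec, Rep0.codes, [], 48, 8⟩
  | 1 => ⟨Rep1.facts, Rep1.nf, Rep1.par, Rep1.rep, Rep1.rows, rulesOf (repRels 1) Rep1.spec, Rep1.codes, [], 48, 8⟩
  | 2 => ⟨Rep2.facts, Rep2.nf, Rep2.par, Rep2.rep, Rep2.rows, rulesOf (repRels 2) Rep2.spec, Rep2.codes, [], 48, 8⟩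
  | _ => ⟨Rep3.facts, Rep3.nf, Rep3.par, Rep3.rep, Rep3.rows, rulesOf (repRels 3) Rep3.spec, Rep3.codes, [], 48, 8⟩

/-- The point reached from the base along a word. -/
def runW (codes : List ℕ) (w : List ℕ) : ℕ := w.foldl (fun d x => CfsgPC.ap (codes.getD x 0) d) 0

/-- A step of the table of products. -/
def stepS (k : ℕ) (v x : ℕ) : ℕ :=
  2 * (smul k (v / 2) (x / 2 + 1) / 2) + (v + smul k (v / 2) (x / 2 + 1)) % 2

theorem rep0_facts : (repCert 0).okFacts 0 (repCert 0).nf = true ∧
    ((List.range 48).all fun d => (repCert 0).okRow d) = true ∧ (repCert 0).rep.getD 0 0 = 0 := by decide +kernel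

theorem rep1_facts : (repCert 1).okFacts 0 (repCert 1).nf = true ∧
    ((List.range 48).all fun d => (repCert 1).okRow d) = true ∧ (repCert 1).rep.getD 0 0 = 0 := by decide +kernel

theorem rep2_facts : (repCert 2).okFacts 0 (repCert 2).nf = true ∧
    ((List.range 48).all fun d => (repCert 2).okRow d) = true ∧ (repCert 2).rep.getD 0 0 = 0 := by decide +kernel

theorem rep3_facts : (repCert 3).okFacts 0 (repCert 3).nf = true ∧
    ((List.range 48).all fun d => (repCert 3).okRow d) = true ∧ (repCert 3).rep.getD 0 0 = 0 := by decide +kernel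

theorem rep_steps : ((List.range 4).all fun k => (List.range 24).all fun s => [0, 2, 4].all fun x =>
    runW (repCert k).codes (repWord.getD s [] ++ [x]) ==
      runW (repCert k).codes (List.replicate (smul k s (x / 2 + 1) % 2) 6 ++
        repWord.getD (smul k s (x / 2 + 1) / 2) [])) = true := by decide +kernel

theorem repWord_ok : repWord.length = 24 ∧ repWord.getD 0 [] = [] ∧
    (repWord.all fun w => w.all fun x => [0, 2, 4].contains x) = true ∧
    ((List.range 4).all fun k => (List.range 24).all fun s => (List.range 24).all fun t =>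
      decide (smul k s t / 2 < 24) &&
      (repWord.getD t []).foldl (stepS k) (2 * s) == smul k s t) = true ∧
    ((List.range 4).all fun k => (List.range 24).all fun s => [1, 2, 3].all fun i => (List.range 32).all fun x =>
      act (smul k s i / 2) x == act s (act i x)) = true := by decide +kernel

theorem minv_ok : ((List.range 4).all fun k => (List.range 768).all fun x =>
    decide (minv k x < 768) && mmul k (minv k x) x == 0 && mmul k 0 x == x && mmul k x 0 == x) = true := by
  decide +kernel

end CfsgAutL34
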