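import Cfsg.Agent.Lib.AutL34Type.Extra
import Cfsg.Agent.Lib.AutL34Type.RepChecks

/-!
The centraliser of the involution is one of the four models.
-/

set_option autoImplicit false
set_option maxRecDepth 100000
set_option linter.unusedSectionVars false

namespace CfsgAutL34

open Enum (evW letG)

/-- The centraliser of `z` with its coordinates. -/
structure Base {G : Type*} [Group G] (k : ℕ) (z : G) (φ : ℕ → G) : Prop where
  hk : k < 4
  z2 : orderOf z = 2
  mul : ∀ x < 768, ∀ y < 768, φ (mmul k x y) = φ x * φ y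
  inj : ∀ x < 768, ∀ y < 768, φ x = φ y → x = y
  cent : ∀ c : G, c * z = z * c ↔ ∃ x < 768, φ x = c
  zc : φ 16 = z

theorem smul_bound {k s t : ℕ} (hk : k < 4) (hs : s < 24) (ht : t < 24) : smul k s t / 2 < 24 := by
  have := of_range_all (of_range_all (of_range_all repWord_ok.2.2.2.1 hk) hs) ht
  simp only [Bool.and_eq_true, decide_eq_true_eq] at this
  exact this.1

theorem act_lt {s x : ℕ} (hs : s < 24) (hx : x < 32) : act s x < 32 := by
  have := of_range_all (of_range_all act_hom hs) hx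
  simp only [Bool.and_eq_true, decide_eq_true_eq] at this
  exact this.1

theorem act_emul_gen {s x g : ℕ} (hs : s < 24) (hx : x < 32) (hg : g = 1 ∨ g = 2 ∨ g = 4 ∨ g = 8 ∨ g = 16) :
    act s (emul x g) = emul (act s x) (act s g) := by
  have := of_range_all (of_range_all act_hom hs) hx
  simp only [Bool.and_eq_true, List.all_cons, List.all_nil, and_true, beq_iff_eq] at this
  obtain ⟨-, h1, h2, h4, h8, h16⟩ := this
  rcases hg with rfl | rfl | rfl | rfl | rfl <;> assumption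

section Lift

variable {H : Type*} [Group H] [Finite H] {E : Subgroup H} [E.Normal] {ψ : ℕ → H}

theorem eq_or_eq_z (D : EData E ψ) (hC : Subgroup.centralizer (E : Set H) ≤ E) {c : H}
    (h : ∀ a < 32, c * ψ a = ψ a * c) : c = 1 ∨ c = ψ 16 := by
  have hc : c ∈ E := hC (Subgroup.mem_centralizer_iff.2 fun g hg => by
    obtain ⟨a, ha, rfl⟩ := (D.mem g).1 hg
    exact (h a ha).symm)
  obtain ⟨x, hx, rfl⟩ := (D.mem c).1 hc
  rcases (center_eq x hx).1 (fun g hg => D.inj _ (emul_lt _ hg _ hx) _ (emul_lt _ hx _ hg) (by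
      rw [D.mul _ hg _ hx, D.mul _ hx _ hg, h g hg])) with rfl | rfl
  · exact Or.inl D.zero
  · exact Or.inr rfl

theorem lifts_unique (D : EData E ψ) (hC : Subgroup.centralizer (E : Set H) ≤ E) {c c' : H}
    (h : tup (cd ψ c) = tup (cd ψ c')) : c = c' ∨ c = c' * ψ 16 := by
  obtain ⟨h1, hm, -, h0, h16⟩ := D.cd_hom c
  obtain ⟨g1, gm, -, g0, g16⟩ := D.cd_hom c'
  rcases eq_or_eq_z D hC (c := c'⁻¹ * c) (fun a ha => by
    have e : c * ψ a * c⁻¹ = c' * ψ a * c'⁻¹ := by
      rw [← (D.cd_spec c ha).2, ← (D.cd_spec c' ha).2, eq_autOf h1 hm h0 h16 ha, eq_autOf g1 gm g0 g16 ha, h]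
    calc c'⁻¹ * c * ψ a = c'⁻¹ * (c * ψ a * c⁻¹) * c := by group
      _ = ψ a * (c'⁻¹ * c) := by rw [e]; group) with e | e
  · exact Or.inl (inv_mul_eq_one.1 e).symm
  · exact Or.inr (inv_mul_eq_iff_eq_mul.1 e)

/-- Every candidate is induced by some element. -/
theorem exists_lift (D : EData E ψ) (hC : Subgroup.centralizer (E : Set H) ≤ E) (hcard : Nat.card H = 768)
    (hfix : ∀ c : H, cd ψ c 1 = 1 ∨ cd ψ c 1 = 17) {s : ℕ} (hs : s < 24) :
    ∃ c : H, ∀ a < 32, cd ψ c a = act s a := by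
  classical
  haveI := Fintype.ofFinite H
  obtain ⟨f, hf⟩ : ∃ f : H → ℕ, ∀ c, f c = tup (cd ψ c) := ⟨_, fun c => rfl⟩
  have hsub : Finset.univ.image f ⊆ (cands [1, 17]).toFinset := fun t ht => by
    obtain ⟨c, -, rfl⟩ := Finset.mem_image.1 ht
    obtain ⟨h1, hm, hi, h0, h16⟩ := D.cd_hom c
    rw [List.mem_toFinset, hf]
    exact (tup_mem_cands h1 hm hi h0 h16 [1, 17] (by simpa using hfix c)).2
  have hcnt := Finset.card_le_mul_card_image (f := f) (Finset.univ : Finset H) 2 fun t ht => by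
    obtain ⟨c, -, rfl⟩ := Finset.mem_image.1 ht
    refine le_trans (Finset.card_le_card (t := ({c, c * ψ 16} : Finset H)) fun x hx => ?_) Finset.card_le_two
    simp only [Finset.mem_filter, Finset.mem_univ, true_and, hf] at hx
    simpa using lifts_unique D hC hx
  rw [Finset.card_univ, ← Nat.card_eq_fintype_card, hcard] at hcnt
  have hl : (cands [1, 17]).toFinset.card = 384 := by
    rw [List.toFinset_card_of_nodup cands_count.2.2.2, cands_count.1]
  have heq := Finset.eq_of_subset_of_card_le hsub (by omega)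
  have hm : tup (act s) ∈ (cands [1, 17]).toFinset := by
    have := of_range_all act_mem_cands hs
    rw [List.mem_toFinset]
    simpa [List.contains_iff_mem] using this
  rw [← heq, Finset.mem_image] at hm
  obtain ⟨c, -, hc⟩ := hm
  rw [hf] at hc
  refine ⟨c, fun a ha => ?_⟩
  obtain ⟨h1, hmul, -, h0, h16⟩ := D.cd_hom c
  rw [eq_autOf h1 hmul h0 h16 ha, hc]
  have key : ∀ s < 24, ∀ a < 32, autOf (tup (act s)) a = act s a := by decide +kernel
  exact key s hs a ha

theorem cd_mul (D : EData E ψ) (c c' : H) {a : ℕ} (ha : a < 32) : cd ψ (c * c') a = cd ψ c (cd ψ c' a) :=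
  D.cd_eq _ ha (D.cd_spec c (D.cd_spec c' ha).1).1 (by
    rw [(D.cd_spec c (D.cd_spec c' ha).1).2, (D.cd_spec c' ha).2]; group)

theorem cd_one (D : EData E ψ) {a : ℕ} (ha : a < 32) : cd ψ 1 a = a := D.cd_eq 1 ha ha (by simp)

theorem cd_z (D : EData E ψ) {a : ℕ} (ha : a < 32) : cd ψ (ψ 16) a = a := by
  refine D.cd_eq _ ha ha ?_
  rw [← D.conj (by norm_num) ha]
  congr 1
  have : ∀ a < 32, econj 16 a = a := by decide +kernel
  exact (this a ha).symm

/-- Three elements satisfying the relators of one of the covers. -/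
theorem exists_gens (D : EData E ψ) (hC : Subgroup.centralizer (E : Set H) ≤ E) (hcard : Nat.card H = 768)
    (hfix : ∀ c : H, cd ψ c 1 = 1 ∨ cd ψ c 1 = 17) :
    ∃ k, k < 4 ∧ ∃ g : ℕ → H, (∀ i, i = 1 ∨ i = 2 ∨ i = 3 → ∀ a < 32, cd ψ (g i) a = act i a) ∧
      ∀ w ∈ repRels k, evW [g 1, g 2, g 3, ψ 16] w = 1 := by
  classical
  obtain ⟨c₁, h₁⟩ := exists_lift D hC hcard hfix (s := 1) (by norm_num)
  obtain ⟨c₂, h₂⟩ := exists_lift D hC hcard hfix (s := 2) (by norm_num)
  obtain ⟨c₃, h₃⟩ := exists_lift D hC hcard hfix (s := 3) (by norm_num)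
  have hzz : ψ 16 * ψ 16 = 1 := by
    rw [← D.mul 16 (by norm_num) 16 (by norm_num), show emul 16 16 = 0 by decide +kernel, D.zero]
  have hzc : ∀ c : H, c * ψ 16 = ψ 16 * c := fun c => by
    have := (D.cd_spec c (a := 16) (by norm_num)).2
    rw [(D.cd_hom c).2.2.2.2] at this
    exact mul_inv_eq_iff_eq_mul.1 this.symm
  have hpm : ∀ w : H, (∀ a < 32, cd ψ w a = a) → w = 1 ∨ w = ψ 16 := fun w hw =>
    eq_or_eq_z D hC fun a ha => mul_inv_eq_iff_eq_mul.1 (by rw [← (D.cd_spec w ha).2, hw a ha])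
  have hfix3 : ∀ x y : H, (∀ a < 32, cd ψ (x * y * (x * y) * (x * y)) a = a) →
      ∃ y', (y' = y ∨ y' = y * ψ 16) ∧ x * y' * (x * y') * (x * y') = 1 := fun x y hxy => by
    rcases hpm _ hxy with e | e
    · exact ⟨y, Or.inl rfl, e⟩
    · refine ⟨y * ψ 16, Or.inr rfl, ?_⟩
      have hc := hzc (x * y)
      calc x * (y * ψ 16) * (x * (y * ψ 16)) * (x * (y * ψ 16))
          = (x * y * ψ 16) * (x * y * ψ 16) * (x * y * ψ 16) := by group
        _ = x * y * (ψ 16 * (x * y)) * (ψ 16 * (x * y)) * ψ 16 := by group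
        _ = x * y * ((x * y) * ψ 16) * ((x * y) * ψ 16) * ψ 16 := by rw [hc]
        _ = x * y * (x * y) * (ψ 16 * (x * y)) * (ψ 16 * ψ 16) := by group
        _ = (x * y * (x * y) * (x * y)) * ψ 16 := by rw [← hc, hzz]; group
        _ = 1 := by rw [e, hzz]
  have hact : ∀ i < 24, ∀ j < 24, ∀ a < 32, act i (act j a) < 32 := fun i hi j hj a ha => act_lt hi (act_lt hj ha)
  have trip : ∀ (x y : H) (i j : ℕ), i < 24 → j < 24 → (∀ a < 32, cd ψ x a = act i a) →
      (∀ a < 32, cd ψ y a = act j a) → (∀ a < 32, act i (act j (act i (act j (act i (act j a))))) = a) →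
      ∀ a < 32, cd ψ (x * y * (x * y) * (x * y)) a = a := fun x y i j hi hj hx hy hcyc a ha => by
    have l1 := act_lt hj ha; have l2 := act_lt hi l1; have l3 := act_lt hj l2; have l4 := act_lt hi l3
    have l5 := act_lt hj l4
    simp only [mul_assoc]
    rw [cd_mul D _ _ ha, cd_mul D _ _ ha, cd_mul D _ _ ha, cd_mul D _ _ ha, cd_mul D _ _ ha, hy _ ha, hx _ l1, hy _ l2,
      hx _ l3, hy _ l4, hx _ l5, hcyc a ha]
  have cyc : ∀ a < 32, act 1 (act 2 (act 1 (act 2 (act 1 (act 2 a))))) = a ∧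
      act 2 (act 3 (act 2 (act 3 (act 2 (act 3 a))))) = a ∧ act 1 (act 3 (act 1 (act 3 a))) = a ∧
      act 1 (act 1 a) = a ∧ act 2 (act 2 a) = a ∧ act 3 (act 3 a) = a := by decide +kernel
  have shift : ∀ (y y' : H) (i : ℕ), (y' = y ∨ y' = y * ψ 16) → (∀ a < 32, cd ψ y a = act i a) →
      ∀ a < 32, cd ψ y' a = act i a := fun y y' i hy h a ha => by
    rcases hy with rfl | rfl
    · exact h a ha
    · rw [cd_mul D _ _ ha, cd_z D ha, h a ha]
  obtain ⟨y₂, hy₂, e12⟩ := hfix3 c₁ c₂ (trip _ _ 1 2 (by norm_num) (by norm_num) h₁ h₂ fun a ha => (cyc a ha).1)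
  have k₂ := shift _ _ 2 hy₂ h₂
  obtain ⟨y₃, hy₃, e23⟩ := hfix3 y₂ c₃ (trip _ _ 2 3 (by norm_num) (by norm_num) k₂ h₃ fun a ha => (cyc a ha).2.1)
  have k₃ := shift _ _ 3 hy₃ h₃
  have sq1 := hpm (c₁ * c₁) fun a ha => by
    rw [cd_mul D _ _ ha, h₁ _ ha, h₁ _ (act_lt (by norm_num) ha), (cyc a ha).2.2.2.1]
  have sq13 := hpm (c₁ * y₃ * (c₁ * y₃)) fun a ha => by
    simp only [mul_assoc]
    have l1 := act_lt (s := 3) (by norm_num) ha; have l2 := act_lt (s := 1) (by norm_num) l1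
    rw [cd_mul D _ _ ha, cd_mul D _ _ ha, cd_mul D _ _ ha, k₃ _ ha, h₁ _ l1, k₃ _ l2,
      h₁ _ (act_lt (by norm_num) l2), (cyc a ha).2.2.1]
  -- generators joined by a braid relation are conjugate, so have the same square
  have cz : ∀ w : H, w = 1 ∨ w = ψ 16 → (∀ c : H, c * w = w * c) ∧ w⁻¹ = w := by
    rintro w (rfl | rfl)
    exacts [⟨fun c => by rw [one_mul, mul_one], inv_one⟩, ⟨hzc, inv_eq_of_mul_eq_one_right hzz⟩]
  have braid : ∀ x y : H, (x * x = 1 ∨ x * x = ψ 16) → (y * y = 1 ∨ y * y = ψ 16) →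
      x * y * (x * y) * (x * y) = 1 → y * y = x * x := fun x y hx hy he => by
    obtain ⟨cX, iX⟩ := cz _ hx
    obtain ⟨cY, iY⟩ := cz _ hy
    have hc : x * y * x * (x * y)⁻¹ = x * x * y := by
      calc x * y * x * (x * y)⁻¹ = (x * y * (x * y) * (x * y)) * y⁻¹ * x⁻¹ * (y * y)⁻¹ * x⁻¹ := by group
        _ = y⁻¹ * x⁻¹ * ((y * y) * x⁻¹) := by rw [he, iY]; group
        _ = y⁻¹ * (x * x)⁻¹ * (y * y) := by rw [← cY]; group
        _ = y⁻¹ * ((y * y) * (x * x)) := by rw [iX, mul_assoc, cY (x * x)]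
        _ = y * (x * x) := by group
        _ = x * x * y := cX y
    calc y * y = (x * x) * (x * x)⁻¹ * (y * y) := by group
      _ = (x * x) * (x * x) * (y * y) := by rw [iX]
      _ = (x * x * y) * (x * x * y) := by rw [mul_assoc (x * x) y, ← mul_assoc y (x * x), cX y]; group
      _ = (x * y) * (x * x) * (x * y)⁻¹ := by rw [← hc]; group
      _ = x * x := by rw [cX (x * y)]; group
  have s2 := hpm (y₂ * y₂) fun a ha => by rw [cd_mul D _ _ ha, k₂ _ ha, k₂ _ (act_lt (by norm_num) ha), (cyc a ha).2.2.2.2.1]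
  have s3 := hpm (y₃ * y₃) fun a ha => by rw [cd_mul D _ _ ha, k₃ _ ha, k₃ _ (act_lt (by norm_num) ha), (cyc a ha).2.2.2.2.2]
  have q2 : y₂ * y₂ = c₁ * c₁ := braid _ _ sq1 s2 e12
  have q3 : y₃ * y₃ = c₁ * c₁ := (braid _ _ s2 s3 e23).trans q2
  refine ⟨2 * (if c₁ * c₁ = 1 then 0 else 1) + (if c₁ * y₃ * (c₁ * y₃) = 1 then 0 else 1), by split_ifs <;> norm_num,
    fun i => if i = 1 then c₁ else if i = 2 then y₂ else y₃, ?_, ?_⟩
  · rintro i (rfl | rfl | rfl) <;> simp only [Nat.reduceEqDiff, if_true, if_false] <;> assumption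
  · have com : ∀ c : H, c * (ψ 16 * (c⁻¹ * (ψ 16)⁻¹)) = 1 := fun c => by rw [← mul_assoc, hzc]; group
    rcases sq1 with hs | hs <;> rcases sq13 with hd | hd <;> intro w hw <;>
      simp only [repRels, hs, hd, q2, q3, hzz, D.zero, Nat.reduceMul, Nat.reduceAdd, Nat.reduceDiv, Nat.reduceMod,
        Nat.reduceEqDiff, if_true, if_false, List.append_nil, List.cons_append, List.nil_append, List.mem_cons,
        List.not_mem_nil, or_false, show ψ 16 ≠ (1 : H) from fun e => absurd (D.inj 16 (by norm_num) 0 (by norm_num)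
          (e.trans D.zero.symm)) (by norm_num)] at hw <;>
      rcases hw with rfl | rfl | rfl | rfl | rfl | rfl | rfl | rfl | rfl | rfl <;>
      simp only [evW, letG, List.map_cons, List.map_nil, List.prod_cons, List.prod_nil, Nat.reduceMod, Nat.reduceDiv,
        Nat.reduceEqDiff, if_true, if_false, List.getD_cons_zero, List.getD_cons_succ, mul_one, com, hzz]
    all_goals simp only [← mul_assoc] at e12 e23 hs hd q2 q3 ⊢
    all_goals simp only [e12, e23, hs, hd, q2, q3, hzz]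

end Lift

end CfsgAutL34
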