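/-
Certified enumeration of the cosets for the element 46.
-/
import Cfsg.Agent.Lib.CosetEnum.Basic

set_option autoImplicit false
set_option maxRecDepth 1000000

namespace CfsgAutL34

namespace P46

def nf : ℕ := 4253

def facts : CfsgLib.CosetEnum.Tree :=
  .node (.node (.node (.node (.node (.node (.node (.node (.node (.node (.node (.node (.node (.leaf 1099511627776) (.leaf 24303857670156806693131022027521)) (.node (.leaf 13270980098) (.leaf 0))) (.node (.node (.leaf 10385254917) (.leaf 0)) (.node (.leaf 22209102336551934557504128876802) (.leaf 0)))) (.node (.node (.node (.leaf 5956001025) (.leaf 0)) (.node (.leaf 23957001892052351816686891106048) (.leaf 0))) (.node (.node (.leaf 5709606890356294903861585385478) (.leaf 0)) (.node (.leaf 2131792872283326132158989707235221764) (.leaf 0))))) (.node (.node (.node (.node (.leaf 2516620544) (.leaf 0)) (.node (.leaf 22565518451153629408474838575108) (.leaf 0))) (.node (.node (.leaf 10953483722300212387383135457536) (.leaf 0)) (.node (.leaf 20550303334040209601411562870276) (.leaf 0)))) (.node (.node (.node (.leaf 22441945342241402940876420414461028553070289374809392496026762564715209589233455678491141) (.leaf 0)) (.node (.leaf 27878701715852370329997158828304) (.leaf 0))) (.node (.node (.leaf 17539386839862418186596310326785) (.leaf 0)) (.node (.leaf 35043889445176777028251181663751) (.leaf 0)))))) (.node (.node (.node (.node (.node (.leaf 1140867841) (.leaf 3177020020486143745924100775348891817505615078783058750524680)) (.node (.leaf 15200389376) (.leaf 0))) (.node (.node (.leaf 6576110138404859597294070163968) (.leaf 0)) (.node (.leaf 28978174942978686114793508758273) (.leaf 0)))) (.node (.node (.node (.leaf 3773337047115349470428188922114) (.leaf 0)) (.node (.leaf 20434960640) (.leaf 0))) (.node (.node (.leaf 16469674117426874357771359352848) (.leaf 0)) (.node (.leaf 26814342041388216388428979434241) (.leaf 0))))) (.node (.node (.node (.node (.leaf 4446029824) (.leaf 0)) (.node (.leaf 17498903040) (.leaf 0))) (.node (.node (.leaf 744125564702068926153247017698073349) (.leaf 0)) (.node (.leaf 29790182610719981606060540568839) (.leaf 0)))) (.node (.node (.node (.leaf 54861807589787458253130657161653350649014900582796223752995066616342002124661518787306496) (.leaf 0)) (.node (.leaf 28794885468226543569597676952066) (.leaf 0))) (.node (.node (.leaf 11777785092) (.leaf 0)) (.node (.leaf 18346870858302442976242594489345) (.leaf 0))))))) (.node (.node (.node (.node (.node (.node (.leaf 623927748873372026910856450320) (.leaf 33355333338078147711978763732231)) (.node (.leaf 14160186112) (.leaf 0))) (.node (.node (.leaf 4253724273278155892063073212164) (.leaf 0)) (.node (.leaf 1961094924739465770300540308328473088) (.leaf 0)))) (.node (.node (.node (.leaf 6694211079) (.leaf 0)) (.node (.leaf 19428312324) (.leaf 0))) (.node (.node (.leaf 8116174415985270234190868125188) (.leaf 0)) (.node (.leaf 3080544652318665535653048009730) (.leaf 0))))) (.node (.node (.node (.node (.leaf 3489713920) (.leaf 0)) (.node (.leaf 23441930357451210629430810698000) (.leaf 0))) (.node (.node (.leaf 10151305074819566397871928500224) (.leaf 0)) (.node (.leaf 33583269652274478109639204652560) (.leaf 0)))) (.node (.node (.node (.leaf 9277941766) (.leaf 0)) (.node (.leaf 24056084469975738527697244175364) (.leaf 0))) (.node (.node (.leaf 10855024129) (.leaf 0)) (.node (.leaf 2501099215376614653002364735377689602) (.leaf 0)))))) (.node (.node (.node (.node (.node (.leaf 1895854082) (.leaf 0)) (.node (.leaf 16089595397) (.leaf 0))) (.node (.node (.leaf 12032877447141366581459127652624) (.leaf 0)) (.node (.leaf 26071504273341991731108656741889) (.leaf 0)))) (.node (.node (.node (.leaf 7851856640) (.leaf 0)) (.node (.leaf 1772871831287769370686163022344368131) (.leaf 0))) (.node (.node (.leaf 16955087150453273678947131857410) (.leaf 0)) (.node (.leaf 220873972209936018844988708726628943934916258359018852172372814992552925219577283850985731) (.leaf 0))))) (.node (.node (.node (.node (.leaf 5352013313) (.leaf 0)) (.node (.leaf 18505551360) (.leaf 0))) (.node (.node (.leaf 5655127554989726139969032985088) (.leaf 0)) (.node (.leaf 34553913170528514784656667874564) (.leaf 0)))) (.node (.node (.node (.leaf 4986566567089942999083421617922) (.leaf 0)) (.node (.leaf 29780279165963562272183485214736) (.leaf 0))) (.node (.node (.leaf 12566326277) (.leaf 0)) (.node (.leaf 2542641140632747428109050086036612357) (.leaf 0)))))))) (.node (.node (.node (.node (.node (.node (.node (.leaf 301994244) (.leaf 40129687514737204265642128219906)) (.node (.leaf 13690416900) (.leaf 0))) (.node (.node (.leaf 4635006329716321483936208262656) (.leaf 0)) (.node (.leaf 25893214613548320423707108626947) (.leaf 0)))) (.node (.node (.node (.leaf 6341884161) (.leaf 0)) (.node (.leaf 25655460915002354367852974419200) (.leaf 0))) (.node (.node (.leaf 15519026458902854879815128964624) (.leaf 0)) (.node (.leaf 35801268021865598835134316980240) (.leaf 0))))) (.node (.node (.node (.node (.leaf 2986389760) (.leaf 0)) (.node (.leaf 21634592981777211602027541627905) (.leaf 0))) (.node (.node (.leaf 7992338779673819263092972867589) (.leaf 0)) (.node (.leaf 33266431955618236690354231502352) (.leaf 0)))) (.node (.node (.node (.leaf 14616389279971095638047026015546882313252977643270) (.leaf 0)) (.node (.leaf 28106618762793450795419991812100) (.leaf 0))) (.node (.node (.leaf 1153356380023613277965319813959008519) (.leaf 0)) (.node (.leaf 36732740756848983386236729219076) (.leaf 0)))))) (.node (.node (.node (.node (.node (.leaf 1577082114) (.leaf 0)) (.node (.leaf 15636555013) (.leaf 0))) (.node (.node (.leaf 49107721133575749431695915734893913473284) (.leaf 0)) (.node (.leaf 31998669907541011565230753612048) (.leaf 0)))) (.node (.node (.node (.leaf 7314977536) (.leaf 0)) (.node (.leaf 26888468461385843405728562537221) (.leaf 0))) (.node (.node (.leaf 811307421766190460223036527818587907) (.leaf 0)) (.node (.leaf 32647271076811775122015638469383) (.leaf 0))))) (.node (.node (.node (.node (.leaf 4882244097) (.leaf 0)) (.node (.leaf 187890672360231059172782751422412896070444321680092773839685490265432058637254542275638015930784820105792214921611281702748112751014719234) (.leaf 0))) (.node (.node (.leaf 4882647228078005678941369602048) (.leaf 0)) (.node (.leaf 2250568727814153860003559168253371400) (.leaf 0)))) (.node (.node (.node (.leaf 1153898387506898878141114095365) (.leaf 0)) (.node (.leaf 29007858756437776302897771849218) (.leaf 0))) (.node (.node (.leaf 12230776837) (.leaf 0)) (.node (.leaf 18282502207499971853149867768321) (.leaf 0))))))) (.node (.node (.node (.node (.node (.node (.leaf 671098628) (.leaf 3255511730298937516799676618083505532648144108263722014778888)) (.node (.leaf 14697065217) (.leaf 0))) (.node (.node (.leaf 11082065148032288089906796829456) (.leaf 0)) (.node (.leaf 31364719105815248296707107067664) (.leaf 0)))) (.node (.node (.node (.leaf 7197535234) (.leaf 0)) (.node (.leaf 19898081536) (.leaf 0))) (.node (.node (.leaf 16152730790877144321364972378896) (.leaf 0)) (.node (.leaf 2084411826667834880158577821772606978) (.leaf 0))))) (.node (.node (.node (.node (.leaf 4009815557) (.leaf 0)) (.node (.leaf 17028884231) (.leaf 0))) (.node (.node (.leaf 13617368464108931288872888855312) (.leaf 0)) (.node (.leaf 29488028980415961968952746190086) (.leaf 0)))) (.node (.node (.node (.leaf 9814820864) (.leaf 0)) (.node (.leaf 148639336762251922859407798936353514571718110758676579475811823485452528017759612195566085) (.leaf 0))) (.node (.node (.leaf 11308015872) (.leaf 0)) (.node (.leaf 38797630182543185915418133974275) (.leaf 0)))))) (.node (.node (.node (.node (.node (.leaf 2365623301) (.leaf 0)) (.node (.leaf 16525566729) (.leaf 0))) (.node (.node (.leaf 12349712121483058682701572755984) (.leaf 0)) (.node (.leaf 32632401138114787643378282723344) (.leaf 0)))) (.node (.node (.node (.leaf 8304848384) (.leaf 0)) (.node (.leaf 19114212797133618872606571635456) (.leaf 0))) (.node (.node (.leaf 16964993390850651029986613412103) (.leaf 0)) (.node (.leaf 18445881731813153653822551278849) (.leaf 0))))) (.node (.node (.node (.node (.leaf 4743845770140499290219465478416) (.leaf 0)) (.node (.leaf 19008875520) (.leaf 0))) (.node (.node (.leaf 5719510183996986697949080785156) (.leaf 0)) (.node (.leaf 34573723762376675951842590507011) (.leaf 0)))) (.node (.node (.node (.leaf 9814411072142327472270526665488) (.leaf 0)) (.node (.leaf 24422535726690326752512360588544) (.leaf 0))) (.node (.node (.leaf 13036095489) (.leaf 0)) (.node (.leaf 18668749171163567591874223053830) (.leaf 0))))))))) (.node (.node (.node (.node (.node (.node (.node (.node (.leaf 201329412) (.leaf 2589372550201140741978052788901431299)) (.node (.leaf 5490252353878398281925989340334017286724854279) (.leaf 0))) (.node (.node (.leaf 1322276971199914446357943827200) (.leaf 0)) (.node (.leaf 24432444158265752084695708869123) (.leaf 0)))) (.node (.node (.node (.leaf 32792365680330202923663183043177501335995194709591883271742598087092438301660094128016385) (.leaf 0)) (.node (.leaf 19042430464) (.leaf 0))) (.node (.node (.leaf 15360588418877347840717519659280) (.leaf 0)) (.node (.leaf 33405117281119196735782506361094) (.leaf 0))))) (.node (.node (.node (.node (.leaf 2717948673) (.leaf 0)) (.node (.leaf 22792968021591837518817738633476) (.leaf 0))) (.node (.node (.leaf 12567754813445254115335275042064) (.leaf 0)) (.node (.leaf 24491907441439409503636551810822) (.leaf 0)))) (.node (.node (.node (.leaf 7348530094583463158336310014979) (.leaf 0)) (.node (.leaf 1015536676336276976529622182145) (.leaf 0))) (.node (.node (.leaf 17168008303738535531370476750338) (.leaf 0)) (.node (.leaf 37237817875025779414708491705095) (.leaf 0)))))) (.node (.node (.node (.node (.node (.leaf 1325416451) (.leaf 41411980020029696494686640809225)) (.node (.leaf 15418496512) (.leaf 0))) (.node (.node (.leaf 2882098799008150658577588054275) (.leaf 0)) (.node (.leaf 21496068518968124292069687751939) (.leaf 0)))) (.node (.node (.node (.leaf 3788195501017050627681678288901) (.leaf 0)) (.node (.leaf 20703400194) (.leaf 0))) (.node (.node (.leaf 16628243854808855876645215641616) (.leaf 0)) (.node (.leaf 36910893732467174461869108944400) (.leaf 0))))) (.node (.node (.node (.node (.leaf 4647317254) (.leaf 0)) (.node (.leaf 1911798980993890951849377215543788443228145291930252188066824) (.leaf 0))) (.node (.node (.leaf 5065860238272057669211115264513) (.leaf 0)) (.node (.leaf 34375632879909945437858574824208) (.leaf 0)))) (.node (.node (.node (.leaf 8819221599604698881301745307905) (.leaf 0)) (.node (.leaf 29289978370290597173796834328322) (.leaf 0))) (.node (.node (.leaf 12012669696) (.leaf 0)) (.node (.leaf 39169024359144859834909569744130) (.leaf 0))))))) (.node (.node (.node (.node (.node (.node (.leaf 419436545) (.leaf 111383177669210120791684591383277426398998592527045901828430654480)) (.node (.leaf 14428625666) (.leaf 0))) (.node (.node (.leaf 3718936896389965675852795494146) (.leaf 0)) (.node (.leaf 29488198607820026417910403838480) (.leaf 0)))) (.node (.node (.node (.leaf 6929095684) (.leaf 0)) (.node (.leaf 19679974401) (.leaf 0))) (.node (.node (.leaf 15043689671467215953019613002768) (.leaf 0)) (.node (.leaf 36029560515831533140123328765968) (.leaf 0))))) (.node (.node (.node (.node (.leaf 3758153475) (.leaf 0)) (.node (.leaf 23600388118079150061805805692944) (.leaf 0))) (.node (.node (.leaf 7888353403088985388280260336384) (.leaf 0)) (.node (.leaf 33741633267804215087944863826960) (.leaf 0)))) (.node (.node (.node (.leaf 9546381316) (.leaf 0)) (.node (.leaf 22085286874190098440714941831428) (.leaf 0))) (.node (.node (.leaf 51066298096464873802023397005071363434076098949126) (.leaf 0)) (.node (.leaf 38297504068944894289665488636420) (.leaf 0)))))) (.node (.node (.node (.node (.node (.leaf 2130738689) (.leaf 0)) (.node (.leaf 16324480005) (.leaf 0))) (.node (.node (.leaf 12191245369469335831340839343888) (.leaf 0)) (.node (.leaf 23986816420615687942131033556228) (.leaf 0)))) (.node (.node (.node (.leaf 8086741248) (.leaf 0)) (.node (.leaf 27403456655663294874295566608656) (.leaf 0))) (.node (.node (.leaf 17088785581390459371646584121616) (.leaf 0)) (.node (.leaf 37544796403833744639613808672016) (.leaf 0))))) (.node (.node (.node (.node (.leaf 18059126383640885013936035556960844738332419868466954590890817809760771835956637416377347) (.leaf 0)) (.node (.leaf 18773990914) (.leaf 0))) (.node (.node (.leaf 792157351042764243223958271287115525) (.leaf 0)) (.node (.leaf 35008990325731869171559004422160) (.leaf 0)))) (.node (.node (.node (.leaf 3974317211209185913545028966497291838409847579799377705755844274560446827354133634381898720272) (.leaf 0)) (.node (.leaf 26314106217771794664702049792000) (.leaf 0))) (.node (.node (.leaf 119204048536232872659523494054096481391735566186992189873691472548056051175729181971643136) (.leaf 0)) (.node (.leaf 2542641140365121474791826368113943812) (.leaf 0)))))))) (.node (.node (.node (.node (.node (.node (.node (.leaf 128336219366263112652626525094366221757564950523369388167019779120234722869012597492613644560) (.leaf 41030900231992724946759568241168)) (.node (.leaf 13925301505) (.leaf 0))) (.node (.node (.leaf 2436426104429169702544215139591) (.leaf 0)) (.node (.leaf 19644095335298041290143201158400) (.leaf 0)))) (.node (.node (.node (.leaf 6483204730181449799518782621748586436190032769646167568) (.leaf 0)) (.node (.leaf 19193427716) (.leaf 0))) (.node (.node (.leaf 8126074007290639423292143834881) (.leaf 0)) (.node (.leaf 19277750615171306639708611723781) (.leaf 0))))) (.node (.node (.node (.node (.leaf 3221274368) (.leaf 0)) (.node (.leaf 19163666476752322100822479480580) (.leaf 0))) (.node (.node (.leaf 8710346722542433779529371621632) (.leaf 0)) (.node (.leaf 33424657526930946458373161381136) (.leaf 0)))) (.node (.node (.node (.leaf 9026279681) (.leaf 0)) (.node (.leaf 22055570268618151135418322528001) (.leaf 0))) (.node (.node (.leaf 10586584578) (.leaf 0)) (.node (.leaf 3184569167876909293347836798211) (.leaf 0)))))) (.node (.node (.node (.node (.node (.leaf 1677746944) (.leaf 0)) (.node (.leaf 15837933316) (.leaf 0))) (.node (.node (.leaf 11557588563391329849156931980048) (.leaf 0)) (.node (.leaf 2025676518537564958996627476686543376) (.leaf 0)))) (.node (.node (.node (.leaf 7583417088) (.leaf 0)) (.node (.leaf 27086485674935441153232128363792) (.leaf 0))) (.node (.node (.leaf 12527977376086746607732855430402) (.leaf 0)) (.node (.leaf 24893066202856496648836209625351) (.leaf 0))))) (.node (.node (.node (.node (.leaf 3858332173408995830402323768974052720494043433989410244274729423553123695468801799457413482386783547648) (.leaf 0)) (.node (.leaf 18237111808) (.leaf 0))) (.node (.node (.leaf 8239948850427103320239977285126) (.leaf 0)) (.node (.leaf 33013683572342271847219255764480) (.leaf 0)))) (.node (.node (.node (.leaf 7833825257342450000389329727747) (.leaf 0)) (.node (.leaf 29621859259825349522884707733008) (.leaf 0))) (.node (.node (.leaf 19242836913058699839873015096836) (.leaf 0)) (.node (.leaf 2534852586354842382219168410528552965) (.leaf 0))))))) (.node (.node (.node (.node (.node (.node (.leaf 939538176) (.leaf 3012227841686415469562215939772234300472820377532772395303944)) (.node (.leaf 14965504768) (.leaf 0))) (.node (.node (.leaf 3471353950909759292316659508739) (.leaf 0)) (.node (.leaf 21753553398047475438419869631233) (.leaf 0)))) (.node (.node (.node (.leaf 6169906227311065929590914424336) (.leaf 0)) (.node (.leaf 20166521088) (.leaf 0))) (.node (.node (.leaf 64611878014776043880386705050956491408642) (.leaf 0)) (.node (.leaf 35930265771426804360760095068676) (.leaf 0))))) (.node (.node (.node (.node (.leaf 4227922693) (.leaf 0)) (.node (.leaf 17247193092) (.leaf 0))) (.node (.node (.leaf 13775970918045905847172030536976) (.leaf 0)) (.node (.leaf 1933510906944954437175384162818860035) (.leaf 0)))) (.node (.node (.node (.leaf 10066482946) (.leaf 0)) (.node (.leaf 27150516808760648529081110900737) (.leaf 0))) (.node (.node (.leaf 11576455426) (.leaf 0)) (.node (.leaf 36613910602335783026140324727044) (.leaf 0)))))) (.node (.node (.node (.node (.node (.leaf 1896560030172778288435739770625) (.leaf 0)) (.node (.leaf 141646036565539120005626830145094427956299420896447147717313292841874675390375619111151360) (.leaf 0))) (.node (.node (.leaf 11151552844102189961184406428930) (.leaf 0)) (.node (.leaf 19995703778588719903444736076033) (.leaf 0)))) (.node (.node (.node (.leaf 8539732994) (.leaf 0)) (.node (.leaf 25521793009442114032500425631493) (.leaf 0))) (.node (.node (.leaf 5927523325128204192928818541824) (.leaf 0)) (.node (.leaf 2361200081942099498384408060746580995) (.leaf 0))))) (.node (.node (.node (.node (.leaf 5737895172) (.leaf 0)) (.node (.leaf 22456615542123921992488493169667) (.leaf 0))) (.node (.node (.leaf 911250817418506639369155247398223873) (.leaf 0)) (.node (.leaf 113949450722848008254629947617001147011217225532969370813523917243871501292378308663759365) (.leaf 0)))) (.node (.node (.node (.leaf 9799632785134039492521629864194) (.leaf 0)) (.node (.leaf 29136613058562056809440841271040) (.leaf 0))) (.node (.node (.leaf 20114353047576160547797016440848) (.leaf 0)) (.node (.leaf 40396750259738179816250079887888) (.leaf 0)))))))))) (.node (.node (.node (.node (.node (.node (.node (.node (.node (.leaf 83887105) (.leaf 38599541869043822064924046300932)) (.node (.leaf 13371644931) (.leaf 0))) (.node (.node (.leaf 10210603717408164961550807865360) (.leaf 0)) (.node (.leaf 1956551387683634367102391769037455106) (.leaf 0)))) (.node (.node (.node (.leaf 13863095800394102841617830743064561770022170327779123070282526077146275912447961400961280) (.leaf 0)) (.node (.leaf 25387991819810260902792648671746) (.leaf 0))) (.node (.node (.leaf 4164659081369687316874810901764) (.leaf 0)) (.node (.leaf 18539932156012394506069290828294) (.leaf 0))))) (.node (.node (.node (.node (.leaf 2617252610) (.leaf 0)) (.node (.leaf 22887369563183812395882537788944) (.leaf 0))) (.node (.node (.leaf 8031945834049624781115816418305) (.leaf 0)) (.node (.leaf 18629021904226573933052157914372) (.leaf 0)))) (.node (.node (.node (.leaf 7259397505060551102755929911044) (.leaf 0)) (.node (.leaf 20396725251367416991949661594880) (.leaf 0))) (.node (.node (.leaf 17539392280028606663533829038599) (.leaf 0)) (.node (.leaf 2215570583164960813627939160569645777786358773576611663878040009278611476126061314638238346631899591097768720) (.leaf 0)))))) (.node (.node (.node (.node (.node (.leaf 1241519874) (.leaf 3268804387056795042388887315149327483890237110470752153533192)) (.node (.leaf 15301054208) (.leaf 0))) (.node (.node (.leaf 7511995377071973801397296579841) (.leaf 0)) (.node (.leaf 26343848739690999888242857222913) (.leaf 0)))) (.node (.node (.node (.leaf 3827808146674771863368884092929) (.leaf 0)) (.node (.leaf 20569180416) (.leaf 0))) (.node (.node (.leaf 12151641639639534060022653800704) (.leaf 0)) (.node (.leaf 24318656055556845854050509572103) (.leaf 0))))) (.node (.node (.node (.node (.leaf 4563472133) (.leaf 0)) (.node (.leaf 17616339968) (.leaf 0))) (.node (.node (.leaf 13884943491425968450610948844560) (.leaf 0)) (.node (.leaf 31563042102039344819501155915268) (.leaf 0)))) (.node (.node (.node (.leaf 8759799571024636022687738632196) (.leaf 0)) (.node (.leaf 20802790060434091480083180037889) (.leaf 0))) (.node (.node (.leaf 11895227393) (.leaf 0)) (.node (.leaf 18307257985971130422074930111745) (.leaf 0))))))) (.node (.node (.node (.node (.node (.node (.leaf 3020051439298150416558249046303873958146) (.leaf 41011101578287032315705829793539)) (.node (.leaf 14294405888) (.leaf 0))) (.node (.node (.leaf 10844398718818925676204373615120) (.leaf 0)) (.node (.leaf 23090523351425225426862843553540) (.leaf 0)))) (.node (.node (.node (.leaf 6811653383) (.leaf 0)) (.node (.leaf 19562532096) (.leaf 0))) (.node (.node (.leaf 15915112038675792818859698973456) (.leaf 0)) (.node (.leaf 36197412839003697926184095498256) (.leaf 0))))) (.node (.node (.node (.node (.leaf 3623933700) (.leaf 0)) (.node (.leaf 23521195921108019259426971298832) (.leaf 0))) (.node (.node (.leaf 8670730147875798690744248582657) (.leaf 0)) (.node (.leaf 19733276508527329319739772278533) (.leaf 0)))) (.node (.node (.node (.leaf 9412161536) (.leaf 0)) (.node (.leaf 22075381691602813322847500573185) (.leaf 0))) (.node (.node (.leaf 10989243904) (.leaf 0)) (.node (.leaf 3278655330945692291971625831170) (.leaf 0)))))) (.node (.node (.node (.node (.node (.leaf 2030073858) (.leaf 0)) (.node (.leaf 16207037696) (.leaf 0))) (.node (.node (.leaf 5145062106649745388620210005505) (.leaf 0)) (.node (.leaf 23872924879191340864408329063174) (.leaf 0)))) (.node (.node (.node (.leaf 7986076416) (.leaf 0)) (.node (.leaf 27323826298640417424392016896528) (.leaf 0))) (.node (.node (.leaf 1203538392817549894418587196160) (.leaf 0)) (.node (.leaf 32785888324677517854760134417157) (.leaf 0))))) (.node (.node (.node (.node (.leaf 5452678148) (.leaf 0)) (.node (.leaf 18639771136) (.leaf 0))) (.node (.node (.leaf 11943863634580231469680897860608) (.leaf 0)) (.node (.leaf 34929999339351840549394695896848) (.leaf 0)))) (.node (.node (.node (.leaf 5872933675280595805230306769664) (.leaf 0)) (.node (.leaf 29859409103254982710062498372112) (.leaf 0))) (.node (.node (.leaf 12683768580) (.leaf 0)) (.node (.leaf 39797889965526141969483490707719) (.leaf 0)))))))) (.node (.node (.node (.node (.node (.node (.node (.leaf 371387754185563325865291415558) (.leaf 40951104403248287638932349307920)) (.node (.leaf 1516727838270152021919356140163679061052126492671211814789640) (.leaf 0))) (.node (.node (.leaf 10527541906023161776514768313616) (.leaf 0)) (.node (.leaf 25818939117885562247816197364481) (.leaf 0)))) (.node (.node (.node (.leaf 6476103941) (.leaf 0)) (.node (.leaf 20490776053355976438591900558084) (.leaf 0))) (.node (.node (.leaf 15340787573993607175734330254608) (.leaf 0)) (.node (.leaf 35881001062025279872979972440592) (.leaf 0))))) (.node (.node (.node (.node (.leaf 3087054595) (.leaf 0)) (.node (.leaf 16978801408) (.leaf 0))) (.node (.node (.leaf 13062896148099956136181996985104) (.leaf 0)) (.node (.leaf 33345429742206000926273061416720) (.leaf 0)))) (.node (.node (.node (.leaf 7104319315919742845028397178256404677697725251850277287124983929445207345379717627466012618598868194049) (.leaf 0)) (.node (.leaf 1813107700130580752981230595705156866) (.leaf 0))) (.node (.node (.leaf 165174333004048851616409961003665256312256009670987977192005996763613836432012380885228699633409506561748543049155280314187116584561176326) (.leaf 0)) (.node (.leaf 3224182040208221777146756998145) (.leaf 0)))))) (.node (.node (.node (.node (.node (.leaf 1237964897824852104250530994948) (.leaf 0)) (.node (.leaf 15754045952) (.leaf 0))) (.node (.node (.leaf 2198760657468035409068798535937) (.leaf 0)) (.node (.leaf 23689703104285096492151733393152) (.leaf 0)))) (.node (.node (.node (.leaf 7449197314) (.leaf 0)) (.node (.leaf 26947890867755224964278668764932) (.leaf 0))) (.node (.node (.leaf 13523432585631099151424023445764) (.leaf 0)) (.node (.leaf 24912871883443515455670575091969) (.leaf 0))))) (.node (.node (.node (.node (.leaf 4999686404) (.leaf 0)) (.node (.leaf 18102892034) (.leaf 0))) (.node (.node (.leaf 14330494008939304814296464121360) (.leaf 0)) (.node (.leaf 122810940138404915328072583287313386457803226135481396506061465186929049845578821787643141) (.leaf 0)))) (.node (.node (.node (.leaf 7541669896913825772415771238660) (.leaf 0)) (.node (.leaf 20327423578758008515247051126020) (.leaf 0))) (.node (.node (.leaf 12348219141) (.leaf 0)) (.node (.leaf 39456229546131480821173426747650) (.leaf 0))))))) (.node (.node (.node (.node (.node (.node (.leaf 805318403) (.leaf 3136245444399004734911820485737170586474022536363458680635400)) (.node (.leaf 14831284992) (.leaf 0))) (.node (.node (.leaf 4224020361427314716294648960774) (.leaf 0)) (.node (.leaf 31444072921056888829826436465168) (.leaf 0)))) (.node (.node (.node (.leaf 16380842588463216613017120303885638752935025403910051644309048015764677506488876157475843) (.leaf 0)) (.node (.leaf 20032301314) (.leaf 0))) (.node (.node (.leaf 4205146964450224660761079897743891347198195216) (.leaf 0)) (.node (.leaf 34895353867655460692631451004417) (.leaf 0))))) (.node (.node (.node (.node (.leaf 5222050974020698272677093330798162145073891549751734241645814179790705236078154276184577) (.leaf 0)) (.node (.leaf 17129798657) (.leaf 0))) (.node (.node (.leaf 13696593604308646554704979957264) (.leaf 0)) (.node (.leaf 33796278830470980705021210029319) (.leaf 0)))) (.node (.node (.node (.leaf 9949040646) (.leaf 0)) (.node (.leaf 28908674099840495969603349046288) (.leaf 0))) (.node (.node (.leaf 11442235648) (.leaf 0)) (.node (.leaf 39049861523357674221277152446736) (.leaf 0)))))) (.node (.node (.node (.node (.node (.leaf 2267941135264027659934183227649) (.leaf 0)) (.node (.leaf 16660029445) (.leaf 0))) (.node (.node (.leaf 12428961969104212428077702095376) (.leaf 0)) (.node (.leaf 32711584570373726098954723016976) (.leaf 0)))) (.node (.node (.node (.leaf 8422290689) (.leaf 0)) (.node (.leaf 22877551876602721974762394887936) (.leaf 0))) (.node (.node (.leaf 16143002262575250655069096396294) (.leaf 0)) (.node (.leaf 2401148481285636614068341610121315585) (.leaf 0))))) (.node (.node (.node (.node (.leaf 2827528643089383451223952201984) (.leaf 0)) (.node (.leaf 25105732348351683346901569289232) (.leaf 0))) (.node (.node (.leaf 2733595484694645605026997762054) (.leaf 0)) (.node (.leaf 2292109405415621694761466939561786884) (.leaf 0)))) (.node (.node (.node (.leaf 3728826362941595662803477226241) (.leaf 0)) (.node (.leaf 24174948549969751682589724430592) (.leaf 0))) (.node (.node (.leaf 13153537792) (.leaf 0)) (.node (.leaf 40317515599247635014832229620496) (.leaf 0))))))))) (.node (.node (.node (.node (.node (.node (.node (.node (.leaf 222832682735405774710021030658) (.leaf 40238625407057816815151467371268)) (.node (.leaf 13572974592) (.leaf 0))) (.node (.node (.leaf 1277712036480005608170911177220) (.leaf 0)) (.node (.leaf 26101187935685354537760265006340) (.leaf 0)))) (.node (.node (.node (.leaf 6257996801) (.leaf 0)) (.node (.leaf 122872170231675050670303592646139113437674671933301487536366982168912207939456245619258117) (.leaf 0))) (.node (.node (.leaf 2951480411837381328558853482756) (.leaf 0)) (.node (.leaf 2768579002273334903406829020672) (.leaf 0))))) (.node (.node (.node (.node (.leaf 2852169990) (.leaf 0)) (.node (.leaf 5967968952313545343266245266714017606278837410376332915410763798409249122141679386881536) (.leaf 0))) (.node (.node (.leaf 12904376127792306480035156564752) (.leaf 0)) (.node (.leaf 24348311157027719948428516532737) (.leaf 0)))) (.node (.node (.node (.leaf 7779327561414996015238265042178) (.leaf 0)) (.node (.leaf 28116392323582125141835101954832) (.leaf 0))) (.node (.node (.leaf 17519547460468177586792045757958) (.leaf 0)) (.node (.leaf 38257348691152029547511731509264) (.leaf 0)))))) (.node (.node (.node (.node (.node (.leaf 1459639813) (.leaf 41778637700827984058162538924297)) (.node (.leaf 123244796037729312070603203901468070018349674871247825817394216242268721586955990086163715) (.leaf 0))) (.node (.node (.leaf 11636688806442306248988856189200) (.leaf 0)) (.node (.leaf 20520572825821336692695062550272) (.leaf 0)))) (.node (.node (.node (.leaf 6115463613066267977651025124096) (.leaf 0)) (.node (.leaf 20820534537) (.leaf 0))) (.node (.node (.leaf 14939520009252754907422240282628) (.leaf 0)) (.node (.leaf 21441685897667124944787254472196) (.leaf 0))))) (.node (.node (.node (.node (.leaf 4764801796) (.leaf 0)) (.node (.leaf 17851229954) (.leaf 0))) (.node (.node (.leaf 14172084227554831372694753197072) (.leaf 0)) (.node (.leaf 22139845469755715512808132239877) (.leaf 0)))) (.node (.node (.node (.leaf 4496335586883060733479437222144) (.leaf 0)) (.node (.leaf 119887562351444666442186070608356915029764) (.leaf 0))) (.node (.node (.leaf 12096557056) (.leaf 0)) (.node (.leaf 39149217545189885033806683077637) (.leaf 0))))))) (.node (.node (.node (.node (.node (.node (.leaf 536878848) (.leaf 22506382031298450541171789950216)) (.node (.leaf 14562845440) (.leaf 0))) (.node (.node (.leaf 11002852248206496387006331920912) (.leaf 0)) (.node (.leaf 21505962065644395408025089930240) (.leaf 0)))) (.node (.node (.node (.leaf 7063315458) (.leaf 0)) (.node (.leaf 19780639234) (.leaf 0))) (.node (.node (.leaf 16073426617151971678776035646992) (.leaf 0)) (.node (.leaf 36088792063037143232610216180996) (.leaf 0))))) (.node (.node (.node (.node (.leaf 3892373248) (.leaf 0)) (.node (.leaf 23531099592538029735862625033472) (.leaf 0))) (.node (.node (.leaf 13538287186081750234274520406544) (.leaf 0)) (.node (.leaf 26140858005319507609070740947204) (.leaf 0)))) (.node (.node (.node (.leaf 9680601091) (.leaf 0)) (.node (.leaf 22095192585682429639982647010567) (.leaf 0))) (.node (.node (.leaf 11173796097) (.leaf 0)) (.node (.leaf 38376733138153523443787469211911) (.leaf 0)))))) (.node (.node (.node (.node (.node (.leaf 2248180994) (.leaf 0)) (.node (.leaf 16425144834) (.leaf 0))) (.node (.node (.leaf 1564942082003792279510070613504) (.leaf 0)) (.node (.leaf 29810087952129254841122866636560) (.leaf 0)))) (.node (.node (.node (.leaf 31984589636294182198336174714238945709913921450208520892847199773371484696402447300683520) (.leaf 0)) (.node (.leaf 27482558560987273209054727683088) (.leaf 0))) (.node (.node (.leaf 17341075706222926773094247825680) (.leaf 0)) (.node (.leaf 37510121011223329355961586466307) (.leaf 0))))) (.node (.node (.node (.node (.leaf 28751939273300529965550531901405762865915705642956929440596150149162643973628478489711360) (.leaf 0)) (.node (.leaf 18891154441) (.leaf 0))) (.node (.node (.leaf 14805790750707168865764975340048) (.leaf 0)) (.node (.leaf 31067876815541841683817869525761) (.leaf 0)))) (.node (.node (.node (.leaf 8220070407617316035699694208000) (.leaf 0)) (.node (.leaf 21684211226423109730902384771073) (.leaf 0))) (.node (.node (.leaf 12901875712) (.leaf 0)) (.node (.leaf 2589372550149761394644466233348506116) (.leaf 0)))))))) (.node (.node (.node (.node (.node (.node (.node (.leaf 544693617287873201348441800720) (.leaf 40862209820996112125502091861760)) (.node (.leaf 14059521287) (.leaf 0))) (.node (.node (.leaf 10685925544386786051753882179088) (.leaf 0)) (.node (.leaf 23204411643861432360638234163204) (.leaf 0)))) (.node (.node (.node (.leaf 5600524984747420867209925237255) (.leaf 0)) (.node (.leaf 19310870017) (.leaf 0))) (.node (.node (.leaf 15568571336863075093105239669250) (.leaf 0)) (.node (.leaf 19619422292687662597402282586368) (.leaf 0))))) (.node (.node (.node (.node (.leaf 3355494150) (.leaf 0)) (.node (.leaf 21698968886134600518448466371844) (.leaf 0))) (.node (.node (.leaf 5635298829254270788528536316162) (.leaf 0)) (.node (.leaf 33504091962413182612440766151952) (.leaf 0)))) (.node (.node (.node (.leaf 9160499463) (.leaf 0)) (.node (.leaf 28433427452936282269699321079824) (.leaf 0))) (.node (.node (.leaf 10720804352) (.leaf 0)) (.node (.leaf 34494549925966430441096045710592) (.leaf 0)))))) (.node (.node (.node (.node (.node (.leaf 1778411776) (.leaf 0)) (.node (.leaf 15972153088) (.leaf 0))) (.node (.node (.leaf 11953601456499363599367444398352) (.leaf 0)) (.node (.leaf 32236383938208521445694771496976) (.leaf 0)))) (.node (.node (.node (.leaf 7717636865) (.leaf 0)) (.node (.leaf 1771569394571757201325373240448659714) (.leaf 0))) (.node (.node (.leaf 812929464780301827382899180103014150) (.leaf 0)) (.node (.leaf 18941051702898207690637082531585) (.leaf 0))))) (.node (.node (.node (.node (.leaf 5217793536) (.leaf 0)) (.node (.leaf 18371331585) (.leaf 0))) (.node (.node (.leaf 5055962460355417866869229525251) (.leaf 0)) (.node (.leaf 34771787595128192588503754937616) (.leaf 0)))) (.node (.node (.node (.leaf 4625085884440563836928552616704) (.leaf 0)) (.node (.leaf 20698807101700897116003760258052) (.leaf 0))) (.node (.node (.leaf 121255472737425549050450404338501335878546985472572103256713129008301851176346462831437312) (.leaf 0)) (.node (.leaf 20743531236839676490854625757185) (.leaf 0))))))) (.node (.node (.node (.node (.node (.node (.leaf 14706587417631582840319769679242018892180975786502) (.leaf 3225690336799033493404278060651359553002938166240724320831752)) (.node (.leaf 15082947076) (.leaf 0))) (.node (.node (.leaf 11319756964687862692302989330704) (.leaf 0)) (.node (.leaf 19381662549512598573955307171072) (.leaf 0)))) (.node (.node (.node (.leaf 6249146781314981317136502243600) (.leaf 0)) (.node (.leaf 20300740865) (.leaf 0))) (.node (.node (.leaf 16390445954912610020177848956944) (.leaf 0)) (.node (.leaf 25586304389049163267012552745217) (.leaf 0))))) (.node (.node (.node (.node (.leaf 4345364992) (.leaf 0)) (.node (.leaf 17381460736) (.leaf 0))) (.node (.node (.leaf 4025986071800514824172709354757) (.leaf 0)) (.node (.leaf 29408928359575666833999695718402) (.leaf 0)))) (.node (.node (.node (.leaf 10183925248) (.leaf 0)) (.node (.leaf 26175447337523139093900288039942) (.leaf 0))) (.node (.node (.leaf 11710675200) (.leaf 0)) (.node (.leaf 18386483655075891769311563359232) (.leaf 0)))))) (.node (.node (.node (.node (.node (.leaf 2312506825562574003554719121156) (.leaf 0)) (.node (.leaf 1074878538022926745599614133505) (.leaf 0))) (.node (.node (.leaf 12587565707524870432472032177680) (.leaf 0)) (.node (.leaf 32870283587260542516506145242896) (.leaf 0)))) (.node (.node (.node (.leaf 8657175296) (.leaf 0)) (.node (.leaf 27799196255978231922021323778320) (.leaf 0))) (.node (.node (.leaf 17222480234434459120474173478663) (.leaf 0)) (.node (.leaf 3303402798051840975136740131841) (.leaf 0))))) (.node (.node (.node (.node (.leaf 7895125900105208629076738607480233475075777027751327308364963411900365480167236492680193) (.leaf 0)) (.node (.leaf 25264177641932108249701237832720) (.leaf 0))) (.node (.node (.leaf 15122849680788399586269273791760) (.leaf 0)) (.node (.leaf 35405615313093946483334304692240) (.leaf 0)))) (.node (.node (.node (.leaf 9200391754846686675527092147973) (.leaf 0)) (.node (.leaf 19961002696304637967252695732484) (.leaf 0))) (.node (.node (.leaf 20124253696691621846922245107456) (.leaf 0)) (.node (.leaf 40392043760406692771366124569350) (.leaf 0))))))))))) (.node (.node (.node (.node (.node (.node (.node (.node (.node (.node (.leaf 16777220) (.leaf 170207569611068571451818701998497101565186)) (.node (.leaf 13338089989) (.leaf 0))) (.node (.node (.leaf 10170953519492171805707458342672) (.leaf 0)) (.node (.leaf 19896630947629754011303964500226) (.leaf 0)))) (.node (.node (.node (.leaf 31797872402738820381438193603049569989937544092609863866011973919466497673972223775434245) (.leaf 0)) (.node (.leaf 23966906167945272258766823423492) (.leaf 0))) (.node (.node (.leaf 14627727386715356618977640980226) (.leaf 0)) (.node (.leaf 18163598384069638691401391718912) (.leaf 0))))) (.node (.node (.node (.node (.leaf 2583730432) (.leaf 0)) (.node (.leaf 22476387372787991695259083028480) (.leaf 0))) (.node (.node (.leaf 699988253547536153524429704463929604) (.leaf 0)) (.node (.leaf 130393769070667098847734337193749440905479) (.leaf 0)))) (.node (.node (.node (.leaf 7239589784411211485128599575300) (.leaf 0)) (.node (.leaf 27918437445270101396776797943824) (.leaf 0))) (.node (.node (.leaf 1149461979148685265823783315585373957) (.leaf 0)) (.node (.leaf 35524466548251126531842726089221) (.leaf 0)))))) (.node (.node (.node (.node (.node (.leaf 1191188228) (.leaf 3272727551642630952023554375310773586302860581258768102357512)) (.node (.leaf 5845410572149750143033583680819731470476262149670110665119957062169430919876317106353921) (.leaf 0))) (.node (.node (.leaf 11438593994966662005051436854032) (.leaf 0)) (.node (.leaf 24150209923133659036953532896516) (.leaf 0)))) (.node (.node (.node (.leaf 3694109640179722462346522681604) (.leaf 0)) (.node (.leaf 20502070528) (.leaf 0))) (.node (.node (.leaf 10314536354604118095379770119940) (.leaf 0)) (.node (.leaf 26794535605222560322451379765767) (.leaf 0))))) (.node (.node (.node (.node (.leaf 4496319749) (.leaf 0)) (.node (.leaf 17566012933) (.leaf 0))) (.node (.node (.leaf 8690546104332284433027379093505) (.leaf 0)) (.node (.leaf 23640568247775081374216595830076506625786859476830295568) (.leaf 0)))) (.node (.node (.node (.leaf 2619616749495558646251076458755) (.leaf 0)) (.node (.leaf 28973130019975570506142758234368) (.leaf 0))) (.node (.node (.leaf 11844894980) (.leaf 0)) (.node (.leaf 18327064422136786769527506478083) (.leaf 0))))))) (.node (.node (.node (.node (.node (.node (.leaf 123804204242446888724013777664) (.leaf 2672775011556447061365334129862942471)) (.node (.leaf 14227296000) (.leaf 0))) (.node (.node (.leaf 10804759023445990316897084653328) (.leaf 0)) (.node (.leaf 31087448342309174251600100909840) (.leaf 0)))) (.node (.node (.node (.leaf 6744540928) (.leaf 0)) (.node (.leaf 19495422212) (.leaf 0))) (.node (.node (.leaf 985899017746450833664727347368135696) (.leaf 0)) (.node (.leaf 36158298421899385299176268030992) (.leaf 0))))) (.node (.node (.node (.node (.leaf 3556823808) (.leaf 0)) (.node (.leaf 23481542171972431161532281445136) (.leaf 0))) (.node (.node (.leaf 13340073446528601330816399736592) (.leaf 0)) (.node (.leaf 33622735262329388680864302536464) (.leaf 0)))) (.node (.node (.node (.leaf 9345051651) (.leaf 0)) (.node (.leaf 26269521940238771851710683164672) (.leaf 0))) (.node (.node (.leaf 10922134018) (.leaf 0)) (.node (.leaf 37445799206296368370118845058053) (.leaf 0)))))) (.node (.node (.node (.node (.node (.leaf 1962963968) (.leaf 0)) (.node (.leaf 16139927812) (.leaf 0))) (.node (.node (.leaf 12072423148531826657062025199632) (.leaf 0)) (.node (.leaf 24378002904062501287175242392064) (.leaf 0)))) (.node (.node (.node (.leaf 7918966528) (.leaf 0)) (.node (.leaf 27284214408561333307103443431696) (.leaf 0))) (.node (.node (.leaf 16865955467624726369524128946692) (.leaf 0)) (.node (.leaf 30374524008069902712875813882115) (.leaf 0))))) (.node (.node (.node (.node (.leaf 5385492233) (.leaf 0)) (.node (.leaf 18572661248) (.leaf 0))) (.node (.node (.leaf 14607751852050681728045357797392) (.leaf 0)) (.node (.leaf 34652948600344936419576124719365) (.leaf 0)))) (.node (.node (.node (.leaf 9537157460271319033798864223248) (.leaf 0)) (.node (.leaf 29819811569170006762780895683088) (.leaf 0))) (.node (.node (.leaf 12616658688) (.leaf 0)) (.node (.leaf 38599505979058552150067305956097) (.leaf 0)))))))) (.node (.node (.node (.node (.node (.node (.node (.leaf 489945497359588471604322471861529706507710127820675857340455886085812315922313696775220111236376040705) (.leaf 34999663991938588547214305566470)) (.node (.leaf 13757526785) (.leaf 0))) (.node (.node (.leaf 9349082603777959483618065663491) (.leaf 0)) (.node (.leaf 25962539557979756517205737662208) (.leaf 0)))) (.node (.node (.node (.leaf 6408994049) (.leaf 0)) (.node (.leaf 25665336176675603918091853232384) (.leaf 0))) (.node (.node (.leaf 62783013794303496740347407447164939418370) (.leaf 0)) (.node (.leaf 35747303084435276201499440632848) (.leaf 0))))) (.node (.node (.node (.node (.leaf 3019940358) (.leaf 0)) (.node (.leaf 21614786545611555360128081527298) (.leaf 0))) (.node (.node (.leaf 13023151351738578100414375285008) (.leaf 0)) (.node (.leaf 25858599818344613516856818592007) (.leaf 0)))) (.node (.node (.node (.leaf 7932840739882848099485234501895) (.leaf 0)) (.node (.leaf 22436853685097864040039850260484) (.leaf 0))) (.node (.node (.leaf 10401891590) (.leaf 0)) (.node (.leaf 3243988400816014293131893679360) (.leaf 0)))))) (.node (.node (.node (.node (.node (.leaf 338153069764179774661266273511714810029375186366056403095722464262797747834352706822439190544) (.leaf 0)) (.node (.leaf 15703713541) (.leaf 0))) (.node (.node (.leaf 4674639980460158664542645146112) (.leaf 0)) (.node (.leaf 23882828172832032552942708132353) (.leaf 0)))) (.node (.node (.node (.leaf 7382087425) (.leaf 0)) (.node (.leaf 6063397850491586633386888235951076977209568625548962615199833167013565773670269103122181) (.leaf 0))) (.node (.node (.leaf 13954079163408771287058315493633) (.leaf 0)) (.node (.leaf 24922775177084207320126814605825) (.leaf 0))))) (.node (.node (.node (.node (.leaf 4949353989) (.leaf 0)) (.node (.leaf 18035782145) (.leaf 0))) (.node (.node (.leaf 3659562998169096083925318533377) (.leaf 0)) (.node (.leaf 31166747075868158399657973825536) (.leaf 0)))) (.node (.node (.node (.leaf 4451771256626061561869470013440) (.leaf 0)) (.node (.leaf 20173918636097302731587405751812) (.leaf 0))) (.node (.node (.leaf 12281109248) (.leaf 0)) (.node (.leaf 39525553281637097475964053649924) (.leaf 0))))))) (.node (.node (.node (.node (.node (.node (.leaf 738208518) (.leaf 2855340627978864110851042368980614393757042746458780723095304)) (.node (.leaf 14764175106) (.leaf 0))) (.node (.node (.leaf 694154713630260032715887770991652352) (.leaf 0)) (.node (.leaf 31404075383641347505094985259536) (.leaf 0)))) (.node (.node (.node (.leaf 3220684578829720941775604964404486626315624622285954832) (.leaf 0)) (.node (.leaf 19965191425) (.leaf 0))) (.node (.node (.leaf 16192268180902594687125822642704) (.leaf 0)) (.node (.leaf 36168201866655804633053323634179) (.leaf 0))))) (.node (.node (.node (.node (.leaf 4060147968) (.leaf 0)) (.node (.leaf 17079466240) (.leaf 0))) (.node (.node (.leaf 5605600962032527650721345051651) (.leaf 0)) (.node (.leaf 29809897092965483234318467920641) (.leaf 0)))) (.node (.node (.node (.leaf 9881930756) (.leaf 0)) (.node (.leaf 24095705351440606028783191005444) (.leaf 0))) (.node (.node (.leaf 11375125760) (.leaf 0)) (.node (.leaf 38040016469782449010392835344390) (.leaf 0)))))) (.node (.node (.node (.node (.node (.leaf 2432733189) (.leaf 0)) (.node (.leaf 16592919554) (.leaf 0))) (.node (.node (.leaf 12389328091686784034536977095952) (.leaf 0)) (.node (.leaf 32671738526474955408369325708816) (.leaf 0)))) (.node (.node (.node (.leaf 7366713801027491051188937814432211072190319358074773205314816810786739591582572313965061) (.leaf 0)) (.node (.leaf 20644307290153258699698288658688) (.leaf 0))) (.node (.node (.leaf 14974386563258396771906626797830) (.leaf 0)) (.node (.leaf 36138484052158037783495871348994) (.leaf 0))))) (.node (.node (.node (.node (.leaf 2847334928139312487585370086150) (.leaf 0)) (.node (.leaf 25066128316290426724705936558096) (.leaf 0))) (.node (.node (.leaf 14924618336253002544772001308432) (.leaf 0)) (.node (.leaf 34920346973376582569551162556423) (.leaf 0)))) (.node (.node (.node (.leaf 9854029460197691842265933177872) (.leaf 0)) (.node (.leaf 21600032739351114664581271842305) (.leaf 0))) (.node (.node (.leaf 13086427907) (.leaf 0)) (.node (.leaf 18891579587160755480063731997441) (.leaf 0))))))))) (.node (.node (.node (.node (.node (.node (.node (.node (.leaf 714906895240939503191754622223780289857589901672737532935287023038523649700942818840320) (.leaf 36930768548499502920105816397831)) (.node (.leaf 13505864192) (.leaf 0))) (.node (.node (.leaf 1337132856134248816971270330112) (.leaf 0)) (.node (.leaf 23194511599208880640129157493506) (.leaf 0)))) (.node (.node (.node (.leaf 6207664385) (.leaf 0)) (.node (.leaf 144567855162860271934597599035133474923456372576583818582203527683006534112353761672589571) (.leaf 0))) (.node (.node (.leaf 5977005112272213426088682986243) (.leaf 0)) (.node (.leaf 35682918717597150299341493369872) (.leaf 0))))) (.node (.node (.node (.node (.leaf 2785060102) (.leaf 0)) (.node (.leaf 16827804160) (.leaf 0))) (.node (.node (.leaf 12864732427852593893558307590416) (.leaf 0)) (.node (.leaf 33147383589994596065608217064464) (.leaf 0)))) (.node (.node (.node (.leaf 7299013399706412728680903142149) (.leaf 0)) (.node (.leaf 22530934861347641057949515855873) (.leaf 0))) (.node (.node (.leaf 17271994209228415311660770662914) (.leaf 0)) (.node (.leaf 36326694761690376685965220567556) (.leaf 0)))))) (.node (.node (.node (.node (.node (.leaf 1392529924) (.leaf 41620178957947816153716950614025)) (.node (.leaf 15485606400) (.leaf 0))) (.node (.node (.leaf 7388200844238389798060068727556) (.leaf 0)) (.node (.leaf 23763974973170395894528461700100) (.leaf 0)))) (.node (.node (.node (.leaf 6115444345811017939867297388290) (.leaf 0)) (.node (.leaf 20770510080) (.leaf 0))) (.node (.node (.leaf 1089099795007583755511336433067499010) (.leaf 0)) (.node (.leaf 32102734544324893765830568995841) (.leaf 0))))) (.node (.node (.node (.node (.leaf 4697691908) (.leaf 0)) (.node (.leaf 17784120064) (.leaf 0))) (.node (.node (.leaf 872962005429190783242695116025077504) (.leaf 0)) (.node (.leaf 22149747856702042490373381747456) (.leaf 0)))) (.node (.node (.node (.leaf 7333693854693697560631360625156) (.leaf 0)) (.node (.leaf 18024854425666427565140221110017) (.leaf 0))) (.node (.node (.leaf 7897709050137275772028282716575622445121990882021000478392194343845434681459819550352076882944) (.leaf 0)) (.node (.leaf 39119506984247035801664108002306) (.leaf 0))))))) (.node (.node (.node (.node (.node (.node (.leaf 469768963) (.leaf 24962454464777735199257081845512)) (.node (.leaf 14495735552) (.leaf 0))) (.node (.node (.leaf 10963348859219722682698251192592) (.leaf 0)) (.node (.leaf 22214072910617143760901529335808) (.leaf 0)))) (.node (.node (.node (.leaf 6996205568) (.leaf 0)) (.node (.leaf 19713529344) (.leaf 0))) (.node (.node (.leaf 977455553629293152179651326232264707) (.leaf 0)) (.node (.leaf 33612849649228808803503485155332) (.leaf 0))))) (.node (.node (.node (.node (.leaf 3825263360) (.leaf 0)) (.node (.leaf 23635109223197119523620072378626) (.leaf 0))) (.node (.node (.leaf 4531060469894216438236437289472) (.leaf 0)) (.node (.leaf 33781420603242870848659717809424) (.leaf 0)))) (.node (.node (.node (.leaf 9613491206) (.leaf 0)) (.node (.leaf 26249717770809027387240925639169) (.leaf 0))) (.node (.node (.leaf 1134857411036859441677704760293113351) (.leaf 0)) (.node (.leaf 2528037860214680784901763764053920002) (.leaf 0)))))) (.node (.node (.node (.node (.node (.leaf 2181071106) (.leaf 0)) (.node (.leaf 16358034944) (.leaf 0))) (.node (.node (.leaf 11765567627926007115111230099456) (.leaf 0)) (.node (.leaf 32513556552049615492905647139088) (.leaf 0)))) (.node (.node (.node (.leaf 22970375944895053306006967719358836471652046569497560228426381942827694158023463868162562) (.leaf 0)) (.node (.leaf 27442965031469074488956123552528) (.leaf 0))) (.node (.node (.leaf 17301706810233585161091961341456) (.leaf 0)) (.node (.leaf 18475590630483000845489437570050) (.leaf 0))))) (.node (.node (.node (.node (.leaf 5637230336) (.leaf 0)) (.node (.leaf 18841100800) (.leaf 0))) (.node (.node (.leaf 5996802028147040132414648096512) (.leaf 0)) (.node (.leaf 34306327504965214233025600077572) (.leaf 0)))) (.node (.node (.node (.leaf 9695630408029867586061263275280) (.leaf 0)) (.node (.leaf 19351931890177998389332020480001) (.leaf 0))) (.node (.node (.leaf 12851543299) (.leaf 0)) (.node (.leaf 2538746868477213807206682896275522050) (.leaf 0)))))))) (.node (.node (.node (.node (.node (.node (.node (.leaf 505080140493650980603695202320) (.leaf 41070184276501102181046288556816)) (.node (.leaf 13992411392) (.leaf 0))) (.node (.node (.leaf 10646297182693409685150101412880) (.leaf 0)) (.node (.leaf 22357660279200913482297490200064) (.leaf 0)))) (.node (.node (.node (.leaf 5367792937382542697653229131265) (.leaf 0)) (.node (.leaf 19260537600) (.leaf 0))) (.node (.node (.leaf 15717120590357725590530381873168) (.leaf 0)) (.node (.leaf 35999845270301133182773969998352) (.leaf 0))))) (.node (.node (.node (.node (.leaf 3288384260) (.leaf 0)) (.node (.leaf 19336978384483730242965868652036) (.leaf 0))) (.node (.node (.leaf 6036391401982733927227729144064) (.leaf 0)) (.node (.leaf 33464477881156050443641595034896) (.leaf 0)))) (.node (.node (.node (.leaf 9093389568) (.leaf 0)) (.node (.leaf 25472285079277255632977427361538) (.leaf 0))) (.node (.node (.leaf 10653694464) (.leaf 0)) (.node (.leaf 3164762731711252945895260431105) (.leaf 0)))))) (.node (.node (.node (.node (.node (.leaf 1624196296568520163885565624581) (.leaf 0)) (.node (.leaf 15905043204) (.leaf 0))) (.node (.node (.leaf 11913960703316336358730309324816) (.leaf 0)) (.node (.leaf 32196682512060922084755251641104) (.leaf 0)))) (.node (.node (.node (.leaf 7650526976) (.leaf 0)) (.node (.leaf 22966677137012852651821870625024) (.leaf 0))) (.node (.node (.leaf 11309859866791996264853511608835) (.leaf 0)) (.node (.leaf 13758374821165026601460016839464214411859545889844356577788941990863912313633329507792775714832) (.leaf 0))))) (.node (.node (.node (.node (.leaf 5184238597) (.leaf 0)) (.node (.leaf 18304221696) (.leaf 0))) (.node (.node (.leaf 8165667234577383415657579691782) (.leaf 0)) (.node (.leaf 34009218722106446373090748448513) (.leaf 0)))) (.node (.node (.node (.leaf 9378671441002346109465467567888) (.leaf 0)) (.node (.leaf 29661415917106049785708675346448) (.leaf 0))) (.node (.node (.leaf 12398551556) (.leaf 0)) (.node (.leaf 39802526876065137412086624844560) (.leaf 0))))))) (.node (.node (.node (.node (.node (.node (.leaf 1006648068) (.leaf 3169194960548138141105521480367536644775590060021238221293576)) (.node (.leaf 15032614657) (.leaf 0))) (.node (.node (.leaf 11280270651778290903886006861584) (.leaf 0)) (.node (.leaf 23065771048615798214812286244099) (.leaf 0)))) (.node (.node (.node (.leaf 6209533002289304051994238930960) (.leaf 0)) (.node (.leaf 20233630976) (.leaf 0))) (.node (.node (.leaf 15994434875193305815069520578051) (.leaf 0)) (.node (.leaf 2339153587957593876663223832859952896) (.leaf 0))))) (.node (.node (.node (.node (.leaf 4278255104) (.leaf 0)) (.node (.leaf 17314350852) (.leaf 0))) (.node (.node (.leaf 8824247482026155489162791250176) (.leaf 0)) (.node (.leaf 29408945889000051210938356869121) (.leaf 0)))) (.node (.node (.node (.leaf 10133592837) (.leaf 0)) (.node (.leaf 8956970619237830029880645272515036777641972547497523613376006302232073184891177796507753775632) (.leaf 0))) (.node (.node (.leaf 11643565312) (.leaf 0)) (.node (.leaf 2528036513340753745686518374877792259) (.leaf 0)))))) (.node (.node (.node (.node (.node (.leaf 2243183467846276048704101190404) (.leaf 0)) (.node (.leaf 20406549587040515381478259963139) (.leaf 0))) (.node (.node (.leaf 692524351571135314423754260312251649) (.leaf 0)) (.node (.leaf 2005554560834152296663312458741753872) (.leaf 0)))) (.node (.node (.node (.leaf 8590065411) (.leaf 0)) (.node (.leaf 23036010015019980107077885613313) (.leaf 0))) (.node (.node (.leaf 17618376466200899830267720508176) (.leaf 0)) (.node (.leaf 37901349278168783289955850962192) (.leaf 0))))) (.node (.node (.node (.node (.leaf 28627606567031583427914438846764356617423860997746202689621958429393421041212865493686528) (.leaf 0)) (.node (.leaf 25224636398455607651209583010064) (.leaf 0))) (.node (.node (.leaf 15083135560919694342086073560336) (.leaf 0)) (.node (.leaf 34974579838991677013894004662530) (.leaf 0)))) (.node (.node (.node (.leaf 9200478873063562549188878262274) (.leaf 0)) (.node (.leaf 28869218236750005882987389054209) (.leaf 0))) (.node (.node (.leaf 20153953603975685742746413310480) (.leaf 0)) (.node (.leaf 40436683421853826486050312211472) (.leaf 0)))))))))) (.node (.node (.node (.node (.node (.node (.node (.node (.node (.leaf 134217985) (.leaf 38113990111779622053008856214533)) (.node (.leaf 13405005058) (.leaf 0))) (.node (.node (.leaf 10250251875261837658444913565712) (.leaf 0)) (.node (.leaf 30532843648922951297013236547600) (.leaf 0)))) (.node (.node (.node (.leaf 6123777029) (.leaf 0)) (.node (.leaf 25120621856535375766976322589954) (.leaf 0))) (.node (.node (.leaf 11716094152147007943629651081219) (.leaf 0)) (.node (.leaf 34702478442290275052760892338432) (.leaf 0))))) (.node (.node (.node (.node (.leaf 478083475951578548445832029504559179842494215) (.leaf 0)) (.node (.leaf 22902236328450523350933954618882) (.leaf 0))) (.node (.node (.leaf 12409302190752048168285832756996) (.leaf 0)) (.node (.leaf 32404822968192518079620747285254) (.leaf 0)))) (.node (.node (.node (.leaf 7338625969806270238453768711681) (.leaf 0)) (.node (.leaf 22298201529499079864506673973508) (.leaf 0))) (.node (.node (.leaf 17068976727373163953265349498370) (.leaf 0)) (.node (.leaf 37435888281311440117948840205059) (.leaf 0)))))) (.node (.node (.node (.node (.node (.leaf 1308642560) (.leaf 11200949779765235133295804552969)) (.node (.leaf 15368164101) (.leaf 0))) (.node (.node (.leaf 3451550612616515848088831672069) (.leaf 0)) (.node (.leaf 24021465670205254006650291077380) (.leaf 0)))) (.node (.node (.node (.leaf 3808001937182706764028022123009) (.leaf 0)) (.node (.leaf 20636290305) (.leaf 0))) (.node (.node (.leaf 16588606652845423437327938739728) (.leaf 0)) (.node (.leaf 36336578485844363468244460423426) (.leaf 0))))) (.node (.node (.node (.node (.leaf 4613804544) (.leaf 0)) (.node (.leaf 17683455239) (.leaf 0))) (.node (.node (.leaf 8175570528218075104191958751489) (.leaf 0)) (.node (.leaf 2025673116720271617139567279948862721) (.leaf 0)))) (.node (.node (.node (.leaf 4486430933200821943302864509700) (.leaf 0)) (.node (.leaf 20792887144582718350751674080004) (.leaf 0))) (.node (.node (.leaf 11962337281) (.leaf 0)) (.node (.leaf 39406704086542238027134210836496) (.leaf 0))))))) (.node (.node (.node (.node (.node (.node (.leaf 197922091151155824916583376015567755688280069) (.leaf 41011069692868539944676974709250)) (.node (.leaf 14361515777) (.leaf 0))) (.node (.node (.leaf 10884115483212861362564675746832) (.leaf 0)) (.node (.leaf 20352200286757419056886601400321) (.leaf 0)))) (.node (.node (.node (.leaf 6878763265) (.leaf 0)) (.node (.leaf 19612828164) (.leaf 0))) (.node (.node (.leaf 15954610365285697062838812579856) (.leaf 0)) (.node (.leaf 36237516006312728079133814541072) (.leaf 0))))) (.node (.node (.node (.node (.leaf 3691043590) (.leaf 0)) (.node (.leaf 23560807357839921091594439289360) (.leaf 0))) (.node (.node (.leaf 8002242828893148245950763899905) (.leaf 0)) (.node (.leaf 32305796454204016172959510206215) (.leaf 0)))) (.node (.node (.node (.leaf 9479271424) (.leaf 0)) (.node (.leaf 26259620082197490885179704881411) (.leaf 0))) (.node (.node (.leaf 11056353792) (.leaf 0)) (.node (.leaf 3263800957168632404460294949377) (.leaf 0)))))) (.node (.node (.node (.node (.node (.leaf 37177285201842645724520339049023201895393332827910) (.leaf 0)) (.node (.leaf 35302251270170144363491406092225666552278357025808524214656722959652148754542188164507116845126377523456) (.leaf 0))) (.node (.node (.leaf 12047816521283663007819721890320) (.leaf 0)) (.node (.leaf 1992243070812398888322811841407522816) (.leaf 0)))) (.node (.node (.node (.leaf 8053186305) (.leaf 0)) (.node (.leaf 1025430147454684472123817207809) (.leaf 0))) (.node (.node (.leaf 2456333712574354873355717319428) (.leaf 0)) (.node (.leaf 18505299755826439144530549719553) (.leaf 0))))) (.node (.node (.node (.node (.leaf 5519788037) (.leaf 0)) (.node (.leaf 18706881025) (.leaf 0))) (.node (.node (.leaf 746720638611244824862367017794053124) (.leaf 0)) (.node (.leaf 34593528838500785162469859574275) (.leaf 0)))) (.node (.node (.node (.leaf 9393556566829942426509915536642) (.leaf 0)) (.node (.leaf 20317523005200410678153338613249) (.leaf 0))) (.node (.node (.leaf 12750878469) (.leaf 0)) (.node (.leaf 38599552371586879896646257269506) (.leaf 0)))))))) (.node (.node (.node (.node (.node (.node (.node (.leaf 346629708978492944326204588037) (.leaf 18698471368017430298171426262016)) (.node (.leaf 13858191616) (.leaf 0))) (.node (.node (.leaf 4714235776714269232441927427330) (.leaf 0)) (.node (.leaf 21763447851418111476453385372164) (.leaf 0)))) (.node (.node (.node (.leaf 8329182125368302979763986863499845987426275521911972343185751492490456529524547961733676568993188644101) (.leaf 0)) (.node (.leaf 25704978289900178647395415893255) (.leaf 0))) (.node (.node (.leaf 4110199617721278679555550243332) (.leaf 0)) (.node (.leaf 35524474784058272462989932286736) (.leaf 0))))) (.node (.node (.node (.node (.leaf 3154164480) (.leaf 0)) (.node (.leaf 19346881602566558240770296391424) (.leaf 0))) (.node (.node (.leaf 3877422991216802326099156540673) (.leaf 0)) (.node (.leaf 31592736795830811504090011445252) (.leaf 0)))) (.node (.node (.node (.leaf 8959058176) (.leaf 0)) (.node (.leaf 22278398417879427527653072203012) (.leaf 0))) (.node (.node (.leaf 10519474689) (.leaf 0)) (.node (.leaf 3204375604042565500062924808705) (.leaf 0)))))) (.node (.node (.node (.node (.node (.leaf 1658861639983059848155694649349) (.leaf 0)) (.node (.leaf 15787552518) (.leaf 0))) (.node (.node (.leaf 11042605658164339264962032588036) (.leaf 0)) (.node (.leaf 32117456087377523443190911452432) (.leaf 0)))) (.node (.node (.node (.leaf 7516307200) (.leaf 0)) (.node (.leaf 22615101032487848870599991502851) (.leaf 0))) (.node (.node (.leaf 55126518402392186332061831049602096176386) (.leaf 0)) (.node (.leaf 37188274659338560890058569861136) (.leaf 0))))) (.node (.node (.node (.node (.leaf 5066796288) (.leaf 0)) (.node (.leaf 18170001920) (.leaf 0))) (.node (.node (.leaf 811299875350201896623720531738269956) (.leaf 0)) (.node (.leaf 30478546181334370861672940367105) (.leaf 0)))) (.node (.node (.node (.leaf 8730092939090700502897438822144) (.leaf 0)) (.node (.leaf 29582259685678052659269287817232) (.leaf 0))) (.node (.node (.leaf 19232933014955098132917816141059) (.leaf 0)) (.node (.leaf 39485940107074330123707311356167) (.leaf 0))))))) (.node (.node (.node (.node (.node (.node (.leaf 872428288) (.leaf 3075783628452563769584818727118927217773983991162695667728648)) (.node (.leaf 14898394880) (.leaf 0))) (.node (.node (.leaf 3753603448730324939567777454849) (.leaf 0)) (.node (.leaf 31483731128106436932587783189008) (.leaf 0)))) (.node (.node (.node (.leaf 2604719081062583774650252139777) (.leaf 0)) (.node (.leaf 20099411200) (.leaf 0))) (.node (.node (.leaf 2778185126835992993119665682439) (.leaf 0)) (.node (.leaf 34974808477087311560267926795008) (.leaf 0))))) (.node (.node (.node (.node (.leaf 4160812800) (.leaf 0)) (.node (.leaf 17196908549) (.leaf 0))) (.node (.node (.leaf 5882893863992673283172080881664) (.leaf 0)) (.node (.leaf 32558264442247694130431448507399) (.leaf 0)))) (.node (.node (.node (.leaf 276367711712244282854481883491490159703619143177010721936378375244660981214801016892118667905267849933657035815067049161066893171453734617896017112421499549824134748323749476518379743322076448417496977780673793928651498748480474005838718179226878511350468002530281864671260070680964685336454362192186332163) (.leaf 0)) (.node (.leaf 24977119792779752673227628020228) (.leaf 0))) (.node (.node (.leaf 11509345537) (.leaf 0)) (.node (.leaf 36425743716364405118811701938433) (.leaf 0)))))) (.node (.node (.node (.node (.node (.leaf 2277844882251902020612442324997) (.leaf 0)) (.node (.leaf 16710361860) (.leaf 0))) (.node (.node (.leaf 4560761132756917610795187064836) (.leaf 0)) (.node (.leaf 32751410818112200705538789768464) (.leaf 0)))) (.node (.node (.node (.leaf 8472623106) (.leaf 0)) (.node (.leaf 21882248387248731172584208669185) (.leaf 0))) (.node (.node (.leaf 16925383918623206106775926349318) (.leaf 0)) (.node (.leaf 18213150364469049193414596281344) (.leaf 0))))) (.node (.node (.node (.node (.leaf 4689360767934151100342074349568) (.leaf 0)) (.node (.leaf 23927287779889907712853549444868) (.leaf 0))) (.node (.node (.leaf 15003851561144136518626506184976) (.leaf 0)) (.node (.leaf 34821313885853936367616047235332) (.leaf 0)))) (.node (.node (.node (.leaf 9898625373641728428466692489728) (.leaf 0)) (.node (.leaf 29032625264125583986842574967043) (.leaf 0))) (.node (.node (.leaf 8186972574342225075817596398103812649163304898308216058527838660235349577792009154275712373008) (.leaf 0)) (.node (.leaf 39753313243779491747917218241287) (.leaf 0))))))))) (.node (.node (.node (.node (.node (.node (.node (.node (.leaf 232734994123869202279955431938) (.leaf 2208099503403675954903955832145021050498124112223592311161048100573772026816602146303311789154389669095579408)) (.node (.leaf 13640084481) (.leaf 0))) (.node (.node (.leaf 1262857058240035983713737120517) (.leaf 0)) (.node (.leaf 25739709746445478365961014746627) (.leaf 0)))) (.node (.node (.node (.leaf 73532031109771735724167039234731135880201362306817) (.leaf 0)) (.node (.leaf 19159872768) (.leaf 0))) (.node (.node (.leaf 13657186853829578224440359095824) (.leaf 0)) (.node (.leaf 33246662769479397447354405660165) (.leaf 0))))) (.node (.node (.node (.node (.leaf 2919279874) (.leaf 0)) (.node (.leaf 136113135803921761538685745917624665507891875295300400410562980422452101615627149383037186) (.leaf 0))) (.node (.node (.leaf 12944076118340495118969597947152) (.leaf 0)) (.node (.leaf 19574811569902335749582108010753) (.leaf 0)))) (.node (.node (.node (.leaf 8808172545) (.leaf 0)) (.node (.leaf 28156133115376725774492713888016) (.leaf 0))) (.node (.node (.leaf 17578815351006239509815150852097) (.leaf 0)) (.node (.leaf 36722836480956063120088539126021) (.leaf 0)))))) (.node (.node (.node (.node (.node (.leaf 1509969921) (.leaf 41937096443708151962615828085513)) (.node (.leaf 15586271232) (.leaf 0))) (.node (.node (.leaf 11676415242242798993119390028560) (.leaf 0)) (.node (.leaf 20589898072484227795404101523968) (.leaf 0)))) (.node (.node (.node (.leaf 7247867648) (.leaf 0)) (.node (.leaf 20887952385) (.leaf 0))) (.node (.node (.leaf 15801225786301906467179139712256) (.leaf 0)) (.node (.leaf 12312064824504792272349661022315685365610208337632511387800613041602877861388949963733123382800) (.leaf 0))))) (.node (.node (.node (.node (.leaf 4831911680) (.leaf 0)) (.node (.leaf 17918339841) (.leaf 0))) (.node (.node (.leaf 14211725056295722409616750952720) (.leaf 0)) (.node (.leaf 30478550865921921833176620266240) (.leaf 0)))) (.node (.node (.node (.leaf 8739994343784799360233081212932) (.leaf 0)) (.node (.leaf 20456168662822914636148048406279) (.leaf 0))) (.node (.node (.leaf 12163666946) (.leaf 0)) (.node (.leaf 2555602031210695680140043310373960450) (.leaf 0))))))) (.node (.node (.node (.node (.node (.node (.leaf 603988736) (.leaf 41461720517299103117741851319048)) (.node (.leaf 14629955328) (.leaf 0))) (.node (.node (.leaf 10270116868771881536721648677893) (.leaf 0)) (.node (.leaf 30325047283302763098383197704208) (.leaf 0)))) (.node (.node (.node (.leaf 7130425345) (.leaf 0)) (.node (.leaf 19847749121) (.leaf 0))) (.node (.node (.leaf 1019977075717215857877232393211978768) (.leaf 0)) (.node (.leaf 35955274517625717361215923187974) (.leaf 0))))) (.node (.node (.node (.node (.leaf 3942705668) (.leaf 0)) (.node (.leaf 23511290814078598096175409324292) (.leaf 0))) (.node (.node (.leaf 13577778863599646281131844758032) (.leaf 0)) (.node (.leaf 144962418156210157212120479179307321844998) (.leaf 0)))) (.node (.node (.node (.leaf 9747710976) (.leaf 0)) (.node (.leaf 26229912845800645698812306011139) (.leaf 0))) (.node (.node (.leaf 11240905986) (.leaf 0)) (.node (.leaf 35356160348991560178441683781636) (.leaf 0)))))) (.node (.node (.node (.node (.node (.leaf 5097637164323667005020554523900126828581017038385557467533348510742737501982929453091077) (.leaf 0)) (.node (.leaf 16492254721) (.leaf 0))) (.node (.node (.leaf 7437729930605091207295788914432) (.leaf 0)) (.node (.leaf 24472096094012610831015464849664) (.leaf 0)))) (.node (.node (.node (.leaf 8237738496) (.leaf 0)) (.node (.leaf 21892151378657968238936270772996) (.leaf 0))) (.node (.node (.leaf 16846150542616344610726110828036) (.leaf 0)) (.node (.leaf 37663134525538361740085122090256) (.leaf 0))))) (.node (.node (.node (.node (.leaf 4600256663725863749649837354754) (.leaf 0)) (.node (.leaf 18958543106) (.leaf 0))) (.node (.node (.leaf 14845409894341170811555683534608) (.leaf 0)) (.node (.leaf 31107490896798974028543531598598) (.leaf 0)))) (.node (.node (.node (.leaf 9690719449119137970731725364227) (.leaf 0)) (.node (.leaf 20243249474042109446403580411393) (.leaf 0))) (.node (.node (.leaf 12968985600) (.leaf 0)) (.node (.leaf 18658845424175693231194554669826) (.leaf 0)))))))) (.node (.node (.node (.node (.node (.node (.node (.leaf 584307698545005370145062780944) (.leaf 40966197162085402733349590704641)) (.node (.leaf 5719303566220024131321257477192092483352979308909150001981050264175420999133336084625155) (.leaf 0))) (.node (.node (.leaf 5159896382035054112552750421760) (.leaf 0)) (.node (.leaf 31008198570245884161771916389648) (.leaf 0)))) (.node (.node (.node (.leaf 6627101186) (.leaf 0)) (.node (.leaf 19377979909) (.leaf 0))) (.node (.node (.leaf 4120103364709152793944614017537) (.leaf 0)) (.node (.leaf 35747305804518370334415083798032) (.leaf 0))))) (.node (.node (.node (.node (.leaf 3422604035) (.leaf 0)) (.node (.leaf 19426111276238097131834798428161) (.leaf 0))) (.node (.node (.leaf 13260907468136183244790276594448) (.leaf 0)) (.node (.leaf 33474410113458549192546198944784) (.leaf 0)))) (.node (.node (.node (.leaf 9210831876) (.leaf 0)) (.node (.leaf 28472918374875541303705055973392) (.leaf 0))) (.node (.node (.leaf 10787914240) (.leaf 0)) (.node (.leaf 2508241505481284823765731574359837955) (.leaf 0)))))) (.node (.node (.node (.node (.node (.leaf 1845521664) (.leaf 0)) (.node (.leaf 16022485505) (.leaf 0))) (.node (.node (.leaf 5154965400290437253076449515009) (.leaf 0)) (.node (.leaf 21486173461134578446721584657920) (.leaf 0)))) (.node (.node (.node (.leaf 7784746754) (.leaf 0)) (.node (.leaf 27205299735623667823226986379024) (.leaf 0))) (.node (.node (.leaf 16806534345739027975590492772864) (.leaf 0)) (.node (.leaf 37346689351984176551261884368144) (.leaf 0))))) (.node (.node (.node (.node (.leaf 5284903426) (.leaf 0)) (.node (.leaf 18438441474) (.leaf 0))) (.node (.node (.leaf 14528476239197997586627027801872) (.leaf 0)) (.node (.leaf 25898236038055817272997286428676) (.leaf 0)))) (.node (.node (.node (.leaf 9457926879905415502132836118288) (.leaf 0)) (.node (.leaf 29740568672872315801537922383376) (.leaf 0))) (.node (.node (.leaf 12499216384) (.leaf 0)) (.node (.leaf 37806736023442648400965706762247) (.leaf 0))))))) (.node (.node (.node (.node (.node (.node (.leaf 22105439456683080509439488148491219803418862305286) (.leaf 3208384744656852123504429188734956475203963952538966416215048)) (.node (.leaf 15150056965) (.leaf 0))) (.node (.node (.leaf 1723384051038213101344553714178) (.leaf 0)) (.node (.leaf 31642179670675001838597679859216) (.leaf 0)))) (.node (.node (.node (.leaf 6288759049183383888065000921616) (.leaf 0)) (.node (.leaf 20367850754) (.leaf 0))) (.node (.node (.leaf 3412013524822520245250085126145) (.leaf 0)) (.node (.leaf 2333638510613895799755525289601589509) (.leaf 0))))) (.node (.node (.node (.node (.leaf 11531859455046119974032003595466095247952296864047029721211713968103780985982972575417603) (.leaf 0)) (.node (.leaf 17431742466) (.leaf 0))) (.node (.node (.leaf 13894815730784669175386881434384) (.leaf 0)) (.node (.leaf 29680864586786963911228348441859) (.leaf 0)))) (.node (.node (.node (.leaf 10217459716) (.leaf 0)) (.node (.leaf 27150851227865499566614052348677) (.leaf 0))) (.node (.node (.leaf 11744064769) (.leaf 0)) (.node (.leaf 18366677294468099253326426677761) (.leaf 0)))))) (.node (.node (.node (.node (.node (.leaf 2386779147795055515121800462081) (.leaf 0)) (.node (.leaf 1064975546613689784800668296193) (.leaf 0))) (.node (.node (.leaf 10616762973804497036092144377095) (.leaf 0)) (.node (.leaf 32909870618802460772788647162640) (.leaf 0)))) (.node (.node (.node (.leaf 8707507712) (.leaf 0)) (.node (.leaf 21872347284786087465193276905732) (.leaf 0))) (.node (.node (.leaf 17361099295688931239980341140996) (.leaf 0)) (.node (.leaf 35915651520540665499337434906373) (.leaf 0))))) (.node (.node (.node (.node (.leaf 5905669888) (.leaf 0)) (.node (.leaf 25303797541144747243535406923536) (.leaf 0))) (.node (.node (.leaf 5036166753406410599250578671361) (.leaf 0)) (.node (.leaf 33613088865425364889921755840528) (.leaf 0)))) (.node (.node (.node (.leaf 10318145024) (.leaf 0)) (.node (.leaf 19361839943964105091943751665924) (.leaf 0))) (.node (.node (.leaf 13203865601) (.leaf 0)) (.node (.leaf 40515905086391810430194451274512) (.leaf 0)))))))))))) (.node (.node (.node (.node (.node (.node (.node (.node (.node (.node (.node (.leaf 1099511627782) (.leaf 731035945011182836547578094519038723009561657133574)) (.node (.leaf 13304535045) (.leaf 0))) (.node (.node (.leaf 1018531136479946946704278502797451255142061424954924541306288636431233564329444756329743935504) (.leaf 0)) (.node (.leaf 23100419467068863294273986171651) (.leaf 0)))) (.node (.node (.node (.leaf 5989557251) (.leaf 0)) (.node (.leaf 20822538014813223864296313730304) (.leaf 0))) (.node (.node (.leaf 957982667662801888297123860149444352) (.leaf 0)) (.node (.leaf 34944854619823265095093397274371) (.leaf 0))))) (.node (.node (.node (.node (.leaf 2550175488) (.leaf 0)) (.node (.leaf 1055072630762316690653534233349) (.leaf 0))) (.node (.node (.leaf 9933421129929059111227938066690) (.leaf 0)) (.node (.leaf 24358207197113494195478451987459) (.leaf 0)))) (.node (.node (.node (.leaf 1110207017810317807313070092357556092051996042154888151055395375965664711447997973172681042192) (.leaf 0)) (.node (.leaf 27898641587205366677313746381072) (.leaf 0))) (.node (.node (.leaf 17088542813974308132070740727299) (.leaf 0)) (.node (.leaf 37767650016095096506637839549699) (.leaf 0)))))) (.node (.node (.node (.node (.node (.leaf 1174422785) (.leaf 217261084848964186329902987160965206790191615937168781815956167440)) (.node (.leaf 15233944322) (.leaf 0))) (.node (.node (.leaf 11418786727664504672535867058448) (.leaf 0)) (.node (.leaf 21788219648156379904027654294275) (.leaf 0)))) (.node (.node (.node (.leaf 1609418160675959723927755840004) (.leaf 0)) (.node (.leaf 20468515585) (.leaf 0))) (.node (.node (.leaf 3392207390888319082929779146759) (.leaf 0)) (.node (.leaf 26804438823305388249887063338497) (.leaf 0))))) (.node (.node (.node (.node (.leaf 4479584768) (.leaf 0)) (.node (.leaf 17532457985) (.leaf 0))) (.node (.node (.leaf 827201650903218458428122364406438401) (.leaf 0)) (.node (.leaf 29567407200847585831667074547458) (.leaf 0)))) (.node (.node (.node (.leaf 8769702864665327746406489790720) (.leaf 0)) (.node (.leaf 28101662922511668039747576538627) (.leaf 0))) (.node (.node (.leaf 11811340036) (.leaf 0)) (.node (.leaf 18336967640219615048806910927623) (.leaf 0))))))) (.node (.node (.node (.node (.node (.node (.leaf 643734789501938111309225660688) (.leaf 33182058755931420136317745523718)) (.node (.leaf 14193741057) (.leaf 0))) (.node (.node (.leaf 4664720668552357082171868978181) (.leaf 0)) (.node (.leaf 1976665685035995711983080865597153794) (.leaf 0)))) (.node (.node (.node (.leaf 6727766016) (.leaf 0)) (.node (.leaf 19461867266) (.leaf 0))) (.node (.node (.leaf 2971296066062412026452654456832) (.leaf 0)) (.node (.leaf 10113529932391505296358805593921190406672918018) (.leaf 0))))) (.node (.node (.node (.node (.leaf 3523268870) (.leaf 0)) (.node (.leaf 19317173459475348484168505020676) (.leaf 0))) (.node (.node (.leaf 7130731681194693430782942354176) (.leaf 0)) (.node (.leaf 32102773003277530203444631238416) (.leaf 0)))) (.node (.node (.node (.leaf 9311496704) (.leaf 0)) (.node (.leaf 27685725118507655690840965370384) (.leaf 0))) (.node (.node (.leaf 10888579072) (.leaf 0)) (.node (.leaf 2497856248228580785136020978791402499) (.leaf 0)))))) (.node (.node (.node (.node (.node (.leaf 1929409024) (.leaf 0)) (.node (.leaf 36588888159373544242019470791507983359050007128350551712149015283243967387863907119787677318871798497283) (.leaf 0))) (.node (.node (.leaf 12052607872096114447996078283280) (.leaf 0)) (.node (.leaf 20530484959732084559495886281218) (.leaf 0)))) (.node (.node (.node (.leaf 7885411585) (.leaf 0)) (.node (.leaf 1779362326155319623078360059100709904) (.leaf 0))) (.node (.node (.leaf 12577731171540169062087512824323) (.leaf 0)) (.node (.leaf 15387983056514711570580307892998204020089129123047128853800612006255648498068376128973751623184) (.leaf 0))))) (.node (.node (.node (.node (.leaf 10766464273213140942043681830215511112669936688122266863007849438151617447669136876206633825352479092762456570235300317298508214497787911) (.leaf 0)) (.node (.leaf 18539106305) (.leaf 0))) (.node (.node (.leaf 935276039682134098753120656487980816) (.leaf 0)) (.node (.leaf 34628189799559228778893770146052) (.leaf 0)))) (.node (.node (.node (.leaf 5234155330525656242837484813568) (.leaf 0)) (.node (.leaf 29800000675090390586395350725136) (.leaf 0))) (.node (.node (.leaf 113142764576888579563478125829888608143983981773247339535868925861781649136494219133906437) (.leaf 0)) (.node (.leaf 39683684330062285984436595095809) (.leaf 0)))))))) (.node (.node (.node (.node (.node (.node (.node (.leaf 335549184) (.leaf 35385901284195627122597260599044)) (.node (.leaf 13723971847) (.leaf 0))) (.node (.node (.leaf 9963100258800598257466840454658) (.leaf 0)) (.node (.leaf 30750724722614637069287435719440) (.leaf 0)))) (.node (.node (.node (.leaf 6375439105) (.leaf 0)) (.node (.leaf 25630702416448101666012302388736) (.leaf 0))) (.node (.node (.leaf 9775007495093535507263998933760) (.leaf 0)) (.node (.leaf 35821576011130667837054248862736) (.leaf 0))))) (.node (.node (.node (.node (.leaf 10902694545541583348482841943469960504194068571914743819899475307719753798950565123083525290844135824985183310466353058780767838716080897) (.leaf 0)) (.node (.leaf 21624689763694383604223113888517) (.leaf 0))) (.node (.node (.leaf 12151813382663783045687599459600) (.leaf 0)) (.node (.leaf 26393386817443484997942413290758) (.leaf 0)))) (.node (.node (.node (.leaf 8858492929) (.leaf 0)) (.node (.leaf 22441805445255005420401991956480) (.leaf 0))) (.node (.node (.leaf 17296758450180311358912537339399) (.leaf 0)) (.node (.leaf 38356383743179132658401346115344) (.leaf 0)))))) (.node (.node (.node (.node (.node (.leaf 1610637061) (.leaf 0)) (.node (.leaf 15670158597) (.leaf 0))) (.node (.node (.leaf 1485706061471700517195517795586) (.leaf 0)) (.node (.leaf 25838773132671478483628077545473) (.leaf 0)))) (.node (.node (.node (.leaf 7348532480) (.leaf 0)) (.node (.leaf 26918178342307918858355564927489) (.leaf 0))) (.node (.node (.leaf 16212237595380307849363264137732) (.leaf 0)) (.node (.leaf 32102751015939186050337446467330) (.leaf 0))))) (.node (.node (.node (.node (.leaf 4915799047) (.leaf 0)) (.node (.leaf 18002227200) (.leaf 0))) (.node (.node (.leaf 2713776808155065518716539142400) (.leaf 0)) (.node (.leaf 33578186648108044622577382126340) (.leaf 0)))) (.node (.node (.node (.leaf 7323791845536688931165502998785) (.leaf 0)) (.node (.leaf 19683694380540292107530766657027) (.leaf 0))) (.node (.node (.leaf 12247552001) (.leaf 0)) (.node (.leaf 18277550447342830367234609805826) (.leaf 0))))))) (.node (.node (.node (.node (.node (.node (.leaf 704653568) (.leaf 215615700362201775556409372390734266232675285485754010077382098448)) (.node (.leaf 14730620160) (.leaf 0))) (.node (.node (.leaf 5189612383144091680903526390533) (.leaf 0)) (.node (.leaf 31384526750906724012502615596560) (.leaf 0)))) (.node (.node (.node (.leaf 103766844843596238476861766701578095492668676222208) (.leaf 0)) (.node (.leaf 19931636480) (.leaf 0))) (.node (.node (.leaf 16172603566847151916038683257616) (.leaf 0)) (.node (.leaf 2295354536466825966362778112117337351) (.leaf 0))))) (.node (.node (.node (.node (.leaf 4026561282) (.leaf 0)) (.node (.leaf 5756383769168834630898277296915813435227502594) (.leaf 0))) (.node (.node (.leaf 398514840096657472722338584320829959) (.leaf 0)) (.node (.leaf 29809904119846809849903661982212) (.leaf 0)))) (.node (.node (.node (.leaf 9848375811) (.leaf 0)) (.node (.leaf 8358086207622413901256534877372155006807430305427714660005597301580117772403628298154753135376) (.leaf 0))) (.node (.node (.leaf 11341570817) (.leaf 0)) (.node (.leaf 18426094487344883829345611728899) (.leaf 0)))))) (.node (.node (.node (.node (.node (.leaf 2399178245) (.leaf 0)) (.node (.leaf 16559364612) (.leaf 0))) (.node (.node (.leaf 12369677531393994283517885869584) (.leaf 0)) (.node (.leaf 32652302021610101348556398166032) (.leaf 0)))) (.node (.node (.node (.leaf 8338403330) (.leaf 0)) (.node (.leaf 25511887222391919036949653035776) (.leaf 0))) (.node (.node (.leaf 16133098062240194114829206691591) (.leaf 0)) (.node (.leaf 18435978664846053178215514555399) (.leaf 0))))) (.node (.node (.node (.node (.leaf 4763619187519707166820341390096) (.leaf 0)) (.node (.leaf 7331298231041028852382408812766594356961171907168598643824548624145751296518742956174817341200) (.leaf 0))) (.node (.node (.leaf 13979041592637220178882830895632) (.leaf 0)) (.node (.leaf 2286917148170865892810236767066177541) (.leaf 0)))) (.node (.node (.node (.leaf 3911170804929402711133959083596194039735282712351489274750431042352354469389283228727870776592) (.leaf 0)) (.node (.leaf 19718363879637336611547647241728) (.leaf 0))) (.node (.node (.leaf 13052870916) (.leaf 0)) (.node (.leaf 18901482880801447344519971511297) (.leaf 0))))))))) (.node (.node (.node (.node (.node (.node (.node (.node (.leaf 234884352) (.leaf 71549370689445194343502594336266516182792347716781571654285576565526380929884985484641967361495289350663)) (.node (.leaf 13472309761) (.leaf 0))) (.node (.node (.leaf 1327228731357056108195062233860) (.leaf 0)) (.node (.leaf 30136868610304644053964312250128) (.leaf 0)))) (.node (.node (.node (.leaf 6174093313) (.leaf 0)) (.node (.leaf 144752235561502899441357337951732203983023335212306654954345628172453832487235501483651074) (.leaf 0))) (.node (.node (.leaf 2540487718898502637883161058561) (.leaf 0)) (.node (.leaf 35662622590916686195605737881360) (.leaf 0))))) (.node (.node (.node (.node (.leaf 2751505152) (.leaf 0)) (.node (.leaf 16794249220) (.leaf 0))) (.node (.node (.leaf 12844939969891726805066426920208) (.leaf 0)) (.node (.leaf 33127637600119920519986408560656) (.leaf 0)))) (.node (.node (.node (.leaf 7289109274929219703245245574144) (.leaf 0)) (.node (.leaf 1820901156596790822821864772112230660) (.leaf 0))) (.node (.node (.leaf 17222234520261622306356926094083) (.leaf 0)) (.node (.leaf 36386115883576074833608487000577) (.leaf 0)))))) (.node (.node (.node (.node (.node (.leaf 1358974976) (.leaf 41540949586507732201494164841993)) (.node (.leaf 15452051456) (.leaf 0))) (.node (.node (.leaf 11121827700491641838678493391109) (.leaf 0)) (.node (.leaf 21575296983713843533320642821123) (.leaf 0)))) (.node (.node (.node (.leaf 6511661320708975349474265157890) (.leaf 0)) (.node (.leaf 20736955136) (.leaf 0))) (.node (.node (.leaf 16647831475401161694748585501456) (.leaf 0)) (.node (.leaf 36866408889082815040080994038531) (.leaf 0))))) (.node (.node (.node (.node (.leaf 15071968406212842542327941375415263240186157405702) (.leaf 0)) (.node (.leaf 17750565120) (.leaf 0))) (.node (.node (.leaf 2788050565986958033762383862275) (.leaf 0)) (.node (.leaf 34395440525001421399935376673296) (.leaf 0)))) (.node (.node (.node (.leaf 1163800698895362164973660805633) (.leaf 0)) (.node (.leaf 25442591141064426137163111868160) (.leaf 0))) (.node (.node (.leaf 12046224640) (.leaf 0)) (.node (.leaf 2568907267150605906547312216101780741) (.leaf 0))))))) (.node (.node (.node (.node (.node (.node (.leaf 436213504) (.leaf 29829715165042153478117853766150)) (.node (.leaf 14462180608) (.leaf 0))) (.node (.node (.leaf 7982402769478133901812832428544) (.leaf 0)) (.node (.leaf 31225813604699390954530309940240) (.leaf 0)))) (.node (.node (.node (.leaf 6962650624) (.leaf 0)) (.node (.leaf 2064805670490741479366386313194050816791455783469234534753544) (.leaf 0))) (.node (.node (.leaf 16014022646901339313687658264848) (.leaf 0)) (.node (.leaf 36296953297581263642809778358032) (.leaf 0))))) (.node (.node (.node (.node (.leaf 3791708420) (.leaf 0)) (.node (.leaf 23620195007591988835113016420112) (.leaf 0))) (.node (.node (.leaf 7893305163246126944564195367681) (.leaf 0)) (.node (.leaf 33761573214715074914909899984144) (.leaf 0)))) (.node (.node (.node (.leaf 9579936256) (.leaf 0)) (.node (.leaf 24075894759592444756042826580226) (.leaf 0))) (.node (.node (.leaf 11106565891) (.leaf 0)) (.node (.leaf 38317312016267824979483948009729) (.leaf 0)))))) (.node (.node (.node (.node (.node (.leaf 2147512324) (.leaf 0)) (.node (.leaf 1763500189635405055991706969089058534210944277950858300236552) (.leaf 0))) (.node (.node (.leaf 5135161684207875249645748809221) (.leaf 0)) (.node (.leaf 22169520896291932124432495207430) (.leaf 0)))) (.node (.node (.node (.leaf 8120296193) (.leaf 0)) (.node (.leaf 27423263847407588516070850306832) (.leaf 0))) (.node (.node (.leaf 17281668411426290327035249180944) (.leaf 0)) (.node (.leaf 18485493924123692639576932796160) (.leaf 0))))) (.node (.node (.node (.node (.leaf 5603675396) (.leaf 0)) (.node (.leaf 18807545856) (.leaf 0))) (.node (.node (.leaf 2560279647954323539416896789761) (.leaf 0)) (.node (.leaf 35028797139686844043029309865488) (.leaf 0)))) (.node (.node (.node (.leaf 9675809313638648340861199403792) (.leaf 0)) (.node (.leaf 19252896687035167932155567458304) (.leaf 0))) (.node (.node (.leaf 12817986561) (.leaf 0)) (.node (.leaf 2589372550188900368054384299763358465) (.leaf 0)))))))) (.node (.node (.node (.node (.node (.node (.node (.leaf 485274384348768096011436427280) (.leaf 2676988657733721991319453178808934914)) (.node (.leaf 13958856450) (.leaf 0))) (.node (.node (.leaf 10626489159812615163864923772688) (.leaf 0)) (.node (.leaf 23828332668082626654491176527105) (.leaf 0)))) (.node (.node (.node (.leaf 5555956574365780267529769391632) (.leaf 0)) (.node (.leaf 19226982660) (.leaf 0))) (.node (.node (.leaf 985901270792788861233272804369021456) (.leaf 0)) (.node (.leaf 35980032185043469130782272956432) (.leaf 0))))) (.node (.node (.node (.node (.leaf 3254829315) (.leaf 0)) (.node (.leaf 21689064459125952694908631393794) (.leaf 0))) (.node (.node (.leaf 5501600927222131018899002523648) (.leaf 0)) (.node (.leaf 24328506912040111793228807847427) (.leaf 0)))) (.node (.node (.node (.leaf 9059834626) (.leaf 0)) (.node (.leaf 25615886123834359674504363568896) (.leaf 0))) (.node (.node (.leaf 10620139520) (.leaf 0)) (.node (.leaf 3174665949794081084437176525825) (.leaf 0)))))) (.node (.node (.node (.node (.node (.leaf 1711301890) (.leaf 0)) (.node (.leaf 15871488260) (.leaf 0))) (.node (.node (.leaf 11894277275352825764611887287056) (.leaf 0)) (.node (.leaf 32176837012479719615517247597072) (.leaf 0)))) (.node (.node (.node (.leaf 7616972034) (.leaf 0)) (.node (.leaf 22629957068537910587493596538624) (.leaf 0))) (.node (.node (.leaf 10354150058071931669788760229125) (.leaf 0)) (.node (.leaf 37202954796681868942278419031045) (.leaf 0))))) (.node (.node (.node (.node (.leaf 5150683653) (.leaf 0)) (.node (.leaf 18270666754) (.leaf 0))) (.node (.node (.leaf 6006705321787732207977120144390) (.leaf 0)) (.node (.leaf 31245935117156784347114039866114) (.leaf 0)))) (.node (.node (.node (.leaf 9358891827878312672707058151440) (.leaf 0)) (.node (.leaf 29641672042851558741587301486864) (.leaf 0))) (.node (.node (.leaf 12364987904) (.leaf 0)) (.node (.leaf 1072133274381903875782731599094193396498329136860281343665949843771651610943466958427212030194907664) (.leaf 0))))))) (.node (.node (.node (.node (.node (.node (.leaf 973093123) (.leaf 216438282396543350944110597382960642549664043315604135931986101520)) (.node (.leaf 14999059712) (.leaf 0))) (.node (.node (.leaf 10487998698042204374611915778832) (.leaf 0)) (.node (.leaf 1843610290201796933197143830205491968) (.leaf 0)))) (.node (.node (.node (.leaf 6189712890150313314051925482256) (.leaf 0)) (.node (.leaf 20200076034) (.leaf 0))) (.node (.node (.leaf 1024196034796906907103471638136505603) (.leaf 0)) (.node (.leaf 36029053749239523450348342658304) (.leaf 0))))) (.node (.node (.node (.node (.leaf 4244658434) (.leaf 0)) (.node (.leaf 17280795908) (.leaf 0))) (.node (.node (.leaf 13795622913938106320202240115216) (.leaf 0)) (.node (.leaf 29408518231491362500683432470528) (.leaf 0)))) (.node (.node (.node (.leaf 10100037893) (.leaf 0)) (.node (.leaf 27244600176188473739243358793730) (.leaf 0))) (.node (.node (.leaf 11610010368) (.leaf 0)) (.node (.leaf 2497838441706913722053571550680090625) (.leaf 0)))))) (.node (.node (.node (.node (.node (.leaf 1901511790329919844719741910786) (.leaf 0)) (.node (.leaf 22595227576497067601962834343168) (.leaf 0))) (.node (.node (.leaf 11161456364416473073757427096836) (.leaf 0)) (.node (.leaf 1970172130012327091031984787448588549) (.leaf 0)))) (.node (.node (.node (.leaf 8556509188) (.leaf 0)) (.node (.leaf 20634406036574887575666269816836) (.leaf 0))) (.node (.node (.leaf 3382320795535510504801526917379) (.leaf 0)) (.node (.leaf 3090475146790298870003206767622) (.leaf 0))))) (.node (.node (.node (.node (.leaf 5771450112) (.leaf 0)) (.node (.leaf 25204756822277864653872785532176) (.leaf 0))) (.node (.node (.leaf 841164386528501369171999843441219344) (.leaf 0)) (.node (.leaf 35162739320292409746435097149188) (.leaf 0)))) (.node (.node (.node (.leaf 9344105456178606020122250468610) (.leaf 0)) (.node (.leaf 24041251856863431668326702745346) (.leaf 0))) (.node (.node (.leaf 20134159030394634328658241846032) (.leaf 0)) (.node (.leaf 40416840415682126936802706244368) (.leaf 0)))))))))) (.node (.node (.node (.node (.node (.node (.node (.node (.node (.leaf 117442049) (.leaf 2538746868442381632029071577551389443)) (.node (.leaf 13388422401) (.leaf 0))) (.node (.node (.leaf 10230403882271131987745829895184) (.leaf 0)) (.node (.leaf 30513045070775122409469665011472) (.leaf 0)))) (.node (.node (.node (.leaf 6090222082) (.leaf 0)) (.node (.leaf 25184997005314127283520517941505) (.leaf 0))) (.node (.node (.leaf 15301091739127923673196694346512) (.leaf 0)) (.node (.leaf 35162986394506793380719561326081) (.leaf 0))))) (.node (.node (.node (.node (.leaf 2650840321) (.leaf 0)) (.node (.leaf 22466484759168073364031754422272) (.leaf 0))) (.node (.node (.leaf 9448149238992099885974661635075) (.leaf 0)) (.node (.leaf 32082954780085132683727369079568) (.leaf 0)))) (.node (.node (.node (.leaf 7269301327606288907874945003008) (.leaf 0)) (.node (.leaf 27977743190297890002874946216976) (.leaf 0))) (.node (.node (.leaf 17479889102302902032201347514630) (.leaf 0)) (.node (.leaf 36871387623397306642225457847041) (.leaf 0)))))) (.node (.node (.node (.node (.node (.leaf 1275087616) (.leaf 217672537140021394993028626708085236433614261854359258273159487248)) (.node (.leaf 15334609155) (.leaf 0))) (.node (.node (.leaf 4516178441939033042004645789956) (.leaf 0)) (.node (.leaf 24452268274971520260915593225220) (.leaf 0)))) (.node (.node (.node (.leaf 3817905155265534972938682434819) (.leaf 0)) (.node (.leaf 20602735360) (.leaf 0))) (.node (.node (.leaf 6815927786638200796289431721024701370601427994187210284246811253430303134269037908447364987408) (.leaf 0)) (.node (.leaf 13465031043050351345196397291689836541371038392016109529569557165861843306468268019066201098512) (.leaf 0))))) (.node (.node (.node (.node (.leaf 4911196441430670713447266967440248248228857451692768478821254874263343691942879486349573) (.leaf 0)) (.node (.leaf 17649900292) (.leaf 0))) (.node (.node (.leaf 14033440836668239297675228369680) (.leaf 0)) (.node (.leaf 34029018660295822432652253894151) (.leaf 0)))) (.node (.node (.node (.leaf 1173703388073144222115312966401) (.leaf 0)) (.node (.leaf 25432685807361413743381535794946) (.leaf 0))) (.node (.node (.leaf 11928782336) (.leaf 0)) (.node (.leaf 18297354767888302424270502372357) (.leaf 0))))))) (.node (.node (.node (.node (.node (.node (.leaf 3020051439684378717429504273083541750017) (.leaf 40847606601558077388315907112965)) (.node (.leaf 14327960832) (.leaf 0))) (.node (.node (.leaf 10864255552079687032586746501904) (.leaf 0)) (.node (.leaf 20263068603928871641909374926848) (.leaf 0)))) (.node (.node (.node (.leaf 6845208321) (.leaf 0)) (.node (.leaf 19596087041) (.leaf 0))) (.node (.node (.leaf 60039372004079531151835268737124880369154) (.leaf 0)) (.node (.leaf 36217219728516536558753817870096) (.leaf 0))))) (.node (.node (.node (.node (.leaf 3657488640) (.leaf 0)) (.node (.leaf 23541000166095627484998679108880) (.leaf 0))) (.node (.node (.leaf 8774717413407225502308864367616) (.leaf 0)) (.node (.leaf 23754107493957110007908406565633) (.leaf 0)))) (.node (.node (.node (.leaf 9445716486) (.leaf 0)) (.node (.leaf 24065989728120887125188404248576) (.leaf 0))) (.node (.node (.leaf 11022798849) (.leaf 0)) (.node (.leaf 38238082040364831360683476044549) (.leaf 0)))))) (.node (.node (.node (.node (.node (.leaf 2063628805) (.leaf 0)) (.node (.leaf 16240592641) (.leaf 0))) (.node (.node (.leaf 781767424238977426545325612919181568) (.leaf 0)) (.node (.leaf 19604507925966804545024389468933) (.leaf 0)))) (.node (.node (.node (.leaf 8019631360) (.leaf 0)) (.node (.leaf 27344030169169272116366710988048) (.leaf 0))) (.node (.node (.leaf 1118632251091724584574402908622166787) (.leaf 0)) (.node (.leaf 18510251515983580630445807682048) (.leaf 0))))) (.node (.node (.node (.node (.leaf 5486233090) (.leaf 0)) (.node (.leaf 18673326080) (.leaf 0))) (.node (.node (.leaf 685068719064193373562643866984686594) (.leaf 0)) (.node (.leaf 34662853480700766387495466353153) (.leaf 0)))) (.node (.node (.node (.leaf 9552039185995047719885797858562) (.leaf 0)) (.node (.leaf 21525752483542941791272357260800) (.leaf 0))) (.node (.node (.leaf 12717323523) (.leaf 0)) (.node (.leaf 170207569611068550748964041203525600945157) (.leaf 0)))))))) (.node (.node (.node (.node (.node (.node (.node (.leaf 336725886432754822547840696320) (.leaf 26408362159360369863179255323393)) (.node (.leaf 13824636676) (.leaf 0))) (.node (.node (.leaf 4862788581428514830240282862849) (.leaf 0)) (.node (.leaf 29047487042573288978777171493379) (.leaf 0)))) (.node (.node (.node (.leaf 6509658881) (.leaf 0)) (.node (.leaf 20579908265089569759047547298816) (.leaf 0))) (.node (.node (.leaf 15618087805066534432980066170384) (.leaf 0)) (.node (.leaf 35900307909595980228634070795536) (.leaf 0))))) (.node (.node (.node (.node (.leaf 3120609540) (.leaf 0)) (.node (.leaf 20168819915895214342300917494277) (.leaf 0))) (.node (.node (.leaf 4540963763534908408245793089795) (.leaf 0)) (.node (.leaf 33365257107899909246447524167184) (.leaf 0)))) (.node (.node (.node (.leaf 8942392325) (.leaf 0)) (.node (.leaf 20381873975462769937294385406721) (.leaf 0))) (.node (.node (.leaf 10485919744) (.leaf 0)) (.node (.leaf 3214278822125393638604840903425) (.leaf 0)))))) (.node (.node (.node (.node (.node (.leaf 1436035681899831577806259624964) (.leaf 0)) (.node (.leaf 121535219429551978102077012155359770796587205196302895261832822748058321740758112673180672) (.leaf 0))) (.node (.node (.leaf 11755644915914337673077592224784) (.leaf 0)) (.node (.leaf 19391575287886256248070718265090) (.leaf 0)))) (.node (.node (.node (.leaf 7482752256) (.leaf 0)) (.node (.leaf 26928084129358113642804232071168) (.leaf 0))) (.node (.node (.leaf 16618120763342585309829930164743) (.leaf 0)) (.node (.leaf 32761412110302144975319370851344) (.leaf 0))))) (.node (.node (.node (.node (.leaf 5033241351) (.leaf 0)) (.node (.leaf 18136446976) (.leaf 0))) (.node (.node (.leaf 796378503735733291851601799045726467) (.leaf 0)) (.node (.leaf 34405343969757840733812432213767) (.leaf 0)))) (.node (.node (.node (.leaf 4615179946274641706208481788420) (.leaf 0)) (.node (.leaf 29384192226149076914837724866320) (.leaf 0))) (.node (.node (.leaf 378894412650467726756804408164036052175828812907564996452570207571281355389718088854223895824) (.leaf 0)) (.node (.leaf 2581563386759419121332639512265914628) (.leaf 0))))))) (.node (.node (.node (.node (.node (.node (.leaf 838873348) (.leaf 216027167547140032669786614410997617252339785593414312850479956496)) (.node (.leaf 14864839937) (.leaf 0))) (.node (.node (.leaf 4342862605198711328233450641161) (.leaf 0)) (.node (.leaf 25393096206852128841206375570436) (.leaf 0)))) (.node (.node (.node (.leaf 1540090647277156703051525922048) (.leaf 0)) (.node (.leaf 20065856256) (.leaf 0))) (.node (.node (.leaf 982970858757131887874055141658204677) (.leaf 0)) (.node (.leaf 36123642372102083955153352828420) (.leaf 0))))) (.node (.node (.node (.node (.leaf 4127257859) (.leaf 0)) (.node (.leaf 17163353607) (.leaf 0))) (.node (.node (.leaf 2797953859627649933402995452420) (.leaf 0)) (.node (.leaf 31245945619699842214020623089921) (.leaf 0)))) (.node (.node (.node (.leaf 9982595584) (.leaf 0)) (.node (.leaf 10270870511132242397205162371708762423056875100650538426706949577034732257621775077458021909008) (.leaf 0))) (.node (.node (.leaf 11475790592) (.leaf 0)) (.node (.leaf 38069727408514616731377625893381) (.leaf 0)))))) (.node (.node (.node (.node (.node (.leaf 2262989375106886244387669442820) (.leaf 0)) (.node (.leaf 16676792577) (.leaf 0))) (.node (.node (.leaf 9953227943884033947514425069568) (.leaf 0)) (.node (.leaf 19594609845818709663102695297538) (.leaf 0)))) (.node (.node (.node (.leaf 8439064580) (.leaf 0)) (.node (.leaf 21907006885802984015162452748037) (.leaf 0))) (.node (.node (.leaf 17356183878864241725340265782544) (.leaf 0)) (.node (.leaf 37742892122003753576927366006018) (.leaf 0))))) (.node (.node (.node (.node (.leaf 2817625425006555418235152373763) (.leaf 0)) (.node (.leaf 20862148242619306117015774883587) (.leaf 0))) (.node (.node (.leaf 14984045880557117500685019006224) (.leaf 0)) (.node (.leaf 150513423871622120308286254994643539247360) (.leaf 0)))) (.node (.node (.node (.leaf 9913450279851935332539842978320) (.leaf 0)) (.node (.leaf 25972437487012123912113758589186) (.leaf 0))) (.node (.node (.leaf 13187092737) (.leaf 0)) (.node (.leaf 38678248682298377558501609233155) (.leaf 0))))))))) (.node (.node (.node (.node (.node (.node (.node (.node (.leaf 158459800692566070784077857540) (.leaf 40782981054018937980601711631104)) (.node (.leaf 13606529536) (.leaf 0))) (.node (.node (.leaf 9834353890252008831197925874432) (.leaf 0)) (.node (.leaf 25729806226131195288573020478978) (.leaf 0)))) (.node (.node (.node (.leaf 224423984023418984850841658342476657788548615) (.leaf 0)) (.node (.leaf 7091720640120086172745062066861863115182863361) (.leaf 0))) (.node (.node (.leaf 3580354631815127900697823048448) (.leaf 0)) (.node (.leaf 2333646156116995758564860864684402177) (.leaf 0))))) (.node (.node (.node (.node (.leaf 2885724933) (.leaf 0)) (.node (.leaf 16911691520) (.leaf 0))) (.node (.node (.leaf 12924124384402893767903604144400) (.leaf 0)) (.node (.leaf 19307416521416693575019239876864) (.leaf 0)))) (.node (.node (.node (.leaf 8774616577) (.leaf 0)) (.node (.leaf 28136177679103801924009890835728) (.leaf 0))) (.node (.node (.leaf 17425463110788123869372684976387) (.leaf 0)) (.node (.leaf 37396275862327309919266277480707) (.leaf 0)))))) (.node (.node (.node (.node (.node (.leaf 1493194757) (.leaf 41857867072268068010385526017289)) (.node (.leaf 15552716292) (.leaf 0))) (.node (.node (.leaf 11656456330308143680193476697360) (.leaf 0)) (.node (.leaf 24387897810780319786247814913542) (.leaf 0)))) (.node (.node (.node (.leaf 7214243329) (.leaf 0)) (.node (.leaf 20854397441) (.leaf 0))) (.node (.node (.leaf 1019977075701273148631187616272752131) (.leaf 0)) (.node (.leaf 36866353807400158742986105213440) (.leaf 0))))) (.node (.node (.node (.node (.leaf 4798356740) (.leaf 0)) (.node (.leaf 17884784896) (.leaf 0))) (.node (.node (.leaf 14191757681880330110942708768272) (.leaf 0)) (.node (.leaf 34340980305774375485880779576838) (.leaf 0)))) (.node (.node (.node (.leaf 4605274310340174232855100014849) (.leaf 0)) (.node (.leaf 25799117872378615867443496625926) (.leaf 0))) (.node (.node (.leaf 12130112004) (.leaf 0)) (.node (.leaf 2584808696088193928408971075572103937) (.leaf 0))))))) (.node (.node (.node (.node (.node (.node (.leaf 570433798) (.leaf 20904421385)) (.node (.leaf 14596400386) (.leaf 0))) (.node (.node (.leaf 11022672435903350815682640014864) (.leaf 0)) (.node (.leaf 21585190228158659780803123409921) (.leaf 0)))) (.node (.node (.node (.leaf 7096870400) (.leaf 0)) (.node (.leaf 19814194176) (.leaf 0))) (.node (.node (.leaf 4139917129987590695824050380039) (.leaf 0)) (.node (.leaf 32899983192313151297560160434177) (.leaf 0))))) (.node (.node (.node (.node (.leaf 44746887447159727409216353291632193055947459334271504814453370187208291276937187677203962563029459653880105047341575404290062820311433190612928948091064002863746550009146730131553538950258953507903209924220341535788984214394281695572942596041419264645912488949674855422275501038808333174212576717949692163) (.leaf 0)) (.node (.leaf 23367648968275081955353345314051) (.leaf 0))) (.node (.node (.leaf 13558027660232373752975105056784) (.leaf 0)) (.node (.leaf 22238870472586942760447442609408) (.leaf 0)))) (.node (.node (.node (.leaf 9714156036) (.leaf 0)) (.node (.leaf 26239815459420564065224006841092) (.leaf 0))) (.node (.node (.leaf 11207351040) (.leaf 0)) (.node (.leaf 30503435394992869430477231015938) (.leaf 0)))))) (.node (.node (.node (.node (.node (.leaf 2281735941) (.leaf 0)) (.node (.leaf 16458699776) (.leaf 0))) (.node (.node (.leaf 6546412800088162540888552134145) (.leaf 0)) (.node (.leaf 32573043258161027874924850840336) (.leaf 0)))) (.node (.node (.node (.leaf 8204183554) (.leaf 0)) (.node (.leaf 21897103138815109619298412468992) (.leaf 0))) (.node (.node (.leaf 851967728458734414201243047684) (.leaf 0)) (.node (.leaf 14966329569406804807319947301521815941489507596210552732896423811971437398857629729542621007376) (.leaf 0))))) (.node (.node (.node (.node (.leaf 2872092368883472850701120466689) (.leaf 0)) (.node (.leaf 18924988164) (.leaf 0))) (.node (.node (.leaf 14825609502804612502061823597328) (.leaf 0)) (.node (.leaf 19525323889244956071026877448963) (.leaf 0)))) (.node (.node (.node (.leaf 8229974230163054051924941832962) (.leaf 0)) (.node (.leaf 19886722742727919892047958556160) (.leaf 0))) (.node (.node (.leaf 12935430660) (.leaf 0)) (.node (.leaf 37465630500999190297093305703168) (.leaf 0)))))))) (.node (.node (.node (.node (.node (.node (.node (.leaf 564500884590030569042947866640) (.leaf 40783318797669792852811767257857)) (.node (.leaf 14093076226) (.leaf 0))) (.node (.node (.leaf 5511470597613464992218808870404) (.leaf 0)) (.node (.leaf 28839514702688483407158772430853) (.leaf 0)))) (.node (.node (.node (.leaf 6593546244) (.leaf 0)) (.node (.leaf 19344424967) (.leaf 0))) (.node (.node (.leaf 2159205435786745868267408070149) (.leaf 0)) (.node (.leaf 32820814871626958024848252760325) (.leaf 0))))) (.node (.node (.node (.node (.leaf 3389049088) (.leaf 0)) (.node (.leaf 19327076073095266674658345406464) (.leaf 0))) (.node (.node (.leaf 13241183692273443364264470426640) (.leaf 0)) (.node (.leaf 2050654296090635917285013423315381249) (.leaf 0)))) (.node (.node (.node (.leaf 9177144323) (.leaf 0)) (.node (.leaf 28453186438763518637407079772176) (.leaf 0))) (.node (.node (.leaf 10754359298) (.leaf 0)) (.node (.leaf 36524771590394454127114159443201) (.leaf 0)))))) (.node (.node (.node (.node (.node (.leaf 1811966721) (.leaf 0)) (.node (.leaf 36606386432094942851091929259634753920849883846259669018454559748371268206841816897559543740080024959234) (.leaf 0))) (.node (.node (.leaf 11973509517991731336769391636752) (.leaf 0)) (.node (.leaf 24011570536813844435387864564225) (.leaf 0)))) (.node (.node (.node (.leaf 7751191808) (.leaf 0)) (.node (.leaf 27185513926754808861488016532240) (.leaf 0))) (.node (.node (.leaf 14667155368954132036718715512327) (.leaf 0)) (.node (.leaf 18931148635931107144661301619973) (.leaf 0))))) (.node (.node (.node (.node (.leaf 5251348481) (.leaf 0)) (.node (.leaf 18404886528) (.leaf 0))) (.node (.node (.leaf 55126518402392256223085777432390328679696) (.leaf 0)) (.node (.leaf 34791357535180386718572221743376) (.leaf 0)))) (.node (.node (.node (.leaf 8720191836628056795509694797059) (.leaf 0)) (.node (.leaf 27363876273213384551250285214725) (.leaf 0))) (.node (.node (.leaf 12465651459) (.leaf 0)) (.node (.leaf 166124099102788079924292824505232664873735) (.leaf 0))))))) (.node (.node (.node (.node (.node (.node (.leaf 214647841462455191460700190011046496842039042) (.leaf 216849729132627361264855687671525785421892138635282423116137024272)) (.node (.leaf 15116502018) (.leaf 0))) (.node (.node (.leaf 11339549800438048164067896475920) (.leaf 0)) (.node (.leaf 31463957332937910127340040645890) (.leaf 0)))) (.node (.node (.node (.leaf 6268950497397543320564367642896) (.leaf 0)) (.node (.leaf 20334295808) (.leaf 0))) (.node (.node (.leaf 8096378331246944512922460651527) (.leaf 0)) (.node (.leaf 30552919826662108965093888942338) (.leaf 0))))) (.node (.node (.node (.node (.leaf 11718358512850194678098849348272092295091117290769127465739663447727388781018644863845378) (.leaf 0)) (.node (.leaf 17415015681) (.leaf 0))) (.node (.node (.leaf 11433819644673548825223686548240) (.leaf 0)) (.node (.leaf 1945193560011328132039432691416834562) (.leaf 0)))) (.node (.node (.node (.leaf 54986140287046193818929186587848361549898638393597496270815301528230268885625428311695360) (.leaf 0)) (.node (.leaf 29086971013189085035150518229520) (.leaf 0))) (.node (.node (.leaf 628341065513181718626998049074790899305873885450316878272794076368264583945652381733474733194322690608655971733160875237986050181802873934001592120733091953641183466060864845884696020238607122354498627428487964341124311231813163339090695733079473538436281044478376235590771413640756677265165963968959920898) (.leaf 0)) (.node (.leaf 18376580512550927427052714861826) (.leaf 0)))))) (.node (.node (.node (.node (.node (.leaf 2347166124348015649862239420421) (.leaf 0)) (.node (.leaf 22575421367005002502621972637952) (.leaf 0))) (.node (.node (.leaf 12607372899269163933517142355728) (.leaf 0)) (.node (.leaf 32890079747556731963683104913680) (.leaf 0)))) (.node (.node (.node (.leaf 8673949441) (.leaf 0)) (.node (.leaf 27819340360236879275031288606224) (.leaf 0))) (.node (.node (.leaf 17539147623665861906663993253376) (.leaf 0)) (.node (.leaf 3293499731084740499529703408903) (.leaf 0))))) (.node (.node (.node (.node (.leaf 5872114944) (.leaf 0)) (.node (.leaf 25284056311415486289775700482832) (.leaf 0))) (.node (.node (.leaf 2941576664849507003063557188097) (.leaf 0)) (.node (.leaf 25918053052322395178086397310980) (.leaf 0)))) (.node (.node (.node (.leaf 10284451843) (.leaf 0)) (.node (.leaf 30235905249046885391473773299971) (.leaf 0))) (.node (.node (.leaf 20144062701824645016200127980294) (.leaf 0)) (.node (.leaf 1067743044246012427697870442583590743003620294317139099910127379647417837005666114373423214970960656) (.leaf 0))))))))))) (.node (.node (.node (.node (.node (.node (.node (.node (.node (.node (.leaf 50332160) (.leaf 1214835191644472587162671209229374803272347247255797169053409272626835616790463630088308137226999858566080267932244331226790873012036925920189937650524828440248594115629611935121137541977316938426826421667263880446162727656485678216965060156450082813467324605210039953997705465067046687578541068462221061122)) (.node (.leaf 127656746965583022347883671697840702602734513942994097472257508626435629083247071383964161) (.leaf 0))) (.node (.node (.leaf 10190869212328775825271698832656) (.leaf 0)) (.node (.leaf 19985762630458301461465579839748) (.leaf 0)))) (.node (.node (.node (.leaf 6039889668) (.leaf 0)) (.node (.leaf 25402892586115648484115080280080) (.leaf 0))) (.node (.node (.leaf 13300655664601428999474430091011) (.leaf 0)) (.node (.leaf 35543780876050335770607968371472) (.leaf 0))))) (.node (.node (.node (.node (.leaf 5097637164323679814789836073613168617564048495911798154611023844083183112502072160852738) (.leaf 0)) (.node (.leaf 22555615837533710936510021478144) (.leaf 0))) (.node (.node (.leaf 4550858141347680509258752859136) (.leaf 0)) (.node (.leaf 25883350307765311166226125476100) (.leaf 0)))) (.node (.node (.node (.leaf 7249493682514813016161938086400) (.leaf 0)) (.node (.leaf 25452473580734729684453697793537) (.leaf 0))) (.node (.node (.leaf 17648341581586641509444357207296) (.leaf 0)) (.node (.leaf 35746798584579178394707273230083) (.leaf 0)))))) (.node (.node (.node (.node (.node (.leaf 1224755204) (.leaf 217466854523178876126373931783522708656449673900098266340398375440)) (.node (.leaf 15267499267) (.leaf 0))) (.node (.node (.leaf 11111922442346493100451958909445) (.leaf 0)) (.node (.leaf 1843610265447151829994569173127315715) (.leaf 0)))) (.node (.node (.node (.leaf 1599515698171768738975957670657) (.leaf 0)) (.node (.leaf 20535625474) (.leaf 0))) (.node (.node (.leaf 4205146964450224660669050419725780477831814657) (.leaf 0)) (.node (.leaf 14984557588117398182140928068617500143828046817768871298401130204582919143826850501372233918224) (.leaf 0))))) (.node (.node (.node (.node (.leaf 4529917189) (.leaf 0)) (.node (.leaf 17599567877) (.leaf 0))) (.node (.node (.leaf 9765078360663449450486182242818) (.leaf 0)) (.node (.leaf 19545120200656873005222627284481) (.leaf 0)))) (.node (.node (.node (.leaf 2624568509652700308090342349063) (.leaf 0)) (.node (.leaf 25422782287047130630825393006336) (.leaf 0))) (.node (.node (.leaf 31776413246448521302076822495082781014201851712166861209849704009434706153231368450552776772037407589124) (.leaf 0)) (.node (.leaf 18317161204053958560616846205441) (.leaf 0))))))) (.node (.node (.node (.node (.node (.node (.leaf 42836944269128357149251700904690448) (.leaf 40847606450442349901302888185860)) (.node (.leaf 14260850946) (.leaf 0))) (.node (.node (.leaf 10824669427232133592824712139024) (.leaf 0)) (.node (.leaf 21778306531993403600343646013953) (.leaf 0)))) (.node (.node (.node (.leaf 6778098436) (.leaf 0)) (.node (.leaf 19528977159) (.leaf 0))) (.node (.node (.leaf 15895269939198457910220933953552) (.leaf 0)) (.node (.leaf 2368370463356678132921374967565832453) (.leaf 0))))) (.node (.node (.node (.node (.leaf 3590378755) (.leaf 0)) (.node (.leaf 23501387218206451380838451094288) (.leaf 0))) (.node (.node (.leaf 13330342273701476905681187535104) (.leaf 0)) (.node (.leaf 19738228268684470664917541885696) (.leaf 0)))) (.node (.node (.node (.leaf 9378606596) (.leaf 0)) (.node (.leaf 25997175433827443094889783545856) (.leaf 0))) (.node (.node (.leaf 10955688960) (.leaf 0)) (.node (.leaf 3273703570788550735687623691009) (.leaf 0)))))) (.node (.node (.node (.node (.node (.leaf 1996518912) (.leaf 0)) (.node (.leaf 16173482759) (.leaf 0))) (.node (.node (.leaf 7417921303261387019434065937924) (.leaf 0)) (.node (.leaf 20599810206394975732573669432068) (.leaf 0)))) (.node (.node (.node (.leaf 7952521474) (.leaf 0)) (.node (.leaf 27304019484685442552915671655440) (.leaf 0))) (.node (.node (.leaf 16905569548881858608688084818438) (.leaf 0)) (.node (.leaf 37421022271623366404445871184641) (.leaf 0))))) (.node (.node (.node (.node (.leaf 5419123200) (.leaf 0)) (.node (.leaf 18606216194) (.leaf 0))) (.node (.node (.leaf 14162256869567184069724058226948) (.leaf 0)) (.node (.leaf 144111767403199575477239409461272481284359) (.leaf 0)))) (.node (.node (.node (.leaf 5863029701619130548282644839428) (.leaf 0)) (.node (.leaf 29839600551469142142566864703760) (.leaf 0))) (.node (.node (.leaf 12650213636) (.leaf 0)) (.node (.leaf 70639473851979268308485883154121341069268049923512246042641671519542334995747391106764498267189498924039) (.leaf 0)))))))) (.node (.node (.node (.node (.node (.node (.node (.leaf 1645528881449611865597476297872968668069396297159164352882802704) (.leaf 40931534312080366197782840778256)) (.node (.leaf 13791081729) (.leaf 0))) (.node (.node (.leaf 10507654925174773745130395407888) (.leaf 0)) (.node (.leaf 19861971648844312329810914499328) (.leaf 0)))) (.node (.node (.node (.leaf 6442548999) (.leaf 0)) (.node (.leaf 20500679573670259410422366151426) (.leaf 0))) (.node (.node (.leaf 2149301688798871472403367598848) (.leaf 0)) (.node (.leaf 35860924128707484646690919706640) (.leaf 0))))) (.node (.node (.node (.node (.leaf 3053499648) (.leaf 0)) (.node (.leaf 16945219330) (.leaf 0))) (.node (.node (.leaf 13043123561857249174261210291216) (.leaf 0)) (.node (.leaf 33325648466808965167558282116112) (.leaf 0)))) (.node (.node (.node (.leaf 8892059904) (.leaf 0)) (.node (.leaf 26289323087353967525898108352518) (.leaf 0))) (.node (.node (.leaf 10435587331) (.leaf 0)) (.node (.leaf 3234085258291049950873045180930) (.leaf 0)))))) (.node (.node (.node (.node (.node (.leaf 1426131783796229870851060669187) (.leaf 0)) (.node (.leaf 113267202126931072239577830605923453509563313750756970784465938751841732057063840045836549) (.leaf 0))) (.node (.node (.leaf 7482289349600948194474700334336) (.leaf 0)) (.node (.leaf 2041569296749402875983824517400286208) (.leaf 0)))) (.node (.node (.node (.leaf 7415642368) (.leaf 0)) (.node (.leaf 26903324799667359955906019400448) (.leaf 0))) (.node (.node (.leaf 13954219096572391821122776079109) (.leaf 0)) (.node (.leaf 24927726937241348911595188834819) (.leaf 0))))) (.node (.node (.node (.node (.leaf 4794526480469560011285833863836373337522527855283974998484872776515683657847169471673510981784850999299) (.leaf 0)) (.node (.leaf 18069337088) (.leaf 0))) (.node (.node (.leaf 812929464954916050453258483106188048) (.leaf 0)) (.node (.leaf 32439279696345310408885749858051) (.leaf 0)))) (.node (.node (.node (.leaf 4506240920586073197622409060608) (.leaf 0)) (.node (.leaf 21986262853611099524411470915078) (.leaf 0))) (.node (.node (.leaf 12314664194) (.leaf 0)) (.node (.leaf 39446326025817197743790163654913) (.leaf 0))))))) (.node (.node (.node (.node (.node (.node (.leaf 771763456) (.leaf 215821218931742064292012532665452733373947310357524871834245316368)) (.node (.leaf 14797730048) (.leaf 0))) (.node (.node (.leaf 9626390088405804287898391997954) (.leaf 0)) (.node (.leaf 31424164255101611214739362468880) (.leaf 0)))) (.node (.node (.node (.leaf 6070898829462086503333923692816) (.leaf 0)) (.node (.leaf 19998746368) (.leaf 0))) (.node (.node (.leaf 14122667420173626513814798235907) (.leaf 0)) (.node (.leaf 35747299382099953860396011536902) (.leaf 0))))) (.node (.node (.node (.node (.leaf 4093702914) (.leaf 0)) (.node (.leaf 17096174593) (.leaf 0))) (.node (.node (.leaf 3981423630490108835600938310662) (.leaf 0)) (.node (.leaf 29488021500187452997881611428355) (.leaf 0)))) (.node (.node (.node (.leaf 9915485696) (.leaf 0)) (.node (.leaf 27859043524215344261627711329296) (.leaf 0))) (.node (.node (.leaf 11408680706) (.leaf 0)) (.node (.leaf 2497856327463165717816955736709827072) (.leaf 0)))))) (.node (.node (.node (.node (.node (.leaf 7615442762652131198957693398815334961571600064667261265068239653192252435203595379446277) (.leaf 0)) (.node (.leaf 16626474501) (.leaf 0))) (.node (.node (.leaf 749324066097720091222353312890248710) (.leaf 0)) (.node (.leaf 32691534535655417509280787473424) (.leaf 0)))) (.node (.node (.node (.leaf 8388735747) (.leaf 0)) (.node (.leaf 23026104227969785357817717373955) (.leaf 0))) (.node (.node (.leaf 16281651244743758377384524398855) (.leaf 0)) (.node (.leaf 18203246541923311247558092834048) (.leaf 0))))) (.node (.node (.node (.node (.leaf 2837431861172211589765868306176) (.leaf 0)) (.node (.leaf 25085951526301830295510260623632) (.leaf 0))) (.node (.node (.leaf 836937237239928259509372600377679364) (.leaf 0)) (.node (.leaf 2295354085872669933594075963540422146) (.leaf 0)))) (.node (.node (.node (.leaf 4966765948879793582216677712897) (.leaf 0)) (.node (.leaf 25779318614210013341111858241024) (.leaf 0))) (.node (.node (.leaf 13119982848) (.leaf 0)) (.node (.leaf 40203955681287180869521710953488) (.leaf 0))))))))) (.node (.node (.node (.node (.node (.node (.node (.node (.leaf 1025745775316871965905212678927278218024563612405747640947072193666156340770257911154691) (.leaf 16549136209966469062779859462493302169993524139994985788655914319977539104861034373040077708304)) (.node (.leaf 13539419394) (.leaf 0))) (.node (.node (.leaf 1272760276322863946333792770560) (.leaf 0)) (.node (.leaf 21515864905937905057732877284100) (.leaf 0)))) (.node (.node (.node (.leaf 6224353538) (.leaf 0)) (.node (.leaf 19092727301) (.leaf 0))) (.node (.node (.leaf 8135972843017371529172045798659) (.leaf 0)) (.node (.leaf 35553684320806755104485023990273) (.leaf 0))))) (.node (.node (.node (.node (.leaf 2818615043) (.leaf 0)) (.node (.leaf 16861359105) (.leaf 0))) (.node (.node (.leaf 12884588278861126883430350577680) (.leaf 0)) (.node (.leaf 33167132753299547923710671340816) (.leaf 0)))) (.node (.node (.node (.leaf 7308917222252150568984290322946) (.leaf 0)) (.node (.leaf 22045662819294954451227411229956) (.leaf 0))) (.node (.node (.leaf 17296754218939942531788565398786) (.leaf 0)) (.node (.leaf 32929787293891293282013502560774) (.leaf 0)))))) (.node (.node (.node (.node (.node (.leaf 1426084866) (.leaf 41699408329387900105939719603209)) (.node (.leaf 123431295094708356212639857483657720452308535740762140911259496930949146691444869643344898) (.leaf 0))) (.node (.node (.leaf 11616849200374474471443500373520) (.leaf 0)) (.node (.leaf 26081407566982683701118012418820) (.leaf 0)))) (.node (.node (.node (.leaf 6407637938518687445309955529984) (.leaf 0)) (.node (.leaf 20804065025) (.leaf 0))) (.node (.node (.leaf 11433658253076630360189793475074) (.leaf 0)) (.node (.leaf 36440495180331070346199495264259) (.leaf 0))))) (.node (.node (.node (.node (.leaf 4731246852) (.leaf 0)) (.node (.leaf 17817675009) (.leaf 0))) (.node (.node (.leaf 7101039783044184745753052290820) (.leaf 0)) (.node (.leaf 22323059839991314534353021867525) (.leaf 0)))) (.node (.node (.node (.leaf 4461672963551615393231150258694) (.leaf 0)) (.node (.leaf 17816880499066483714141238339330) (.leaf 0))) (.node (.node (.leaf 12062997763) (.leaf 0)) (.node (.leaf 39129410504561318879040123337731) (.leaf 0))))))) (.node (.node (.node (.node (.node (.node (.leaf 503323908) (.leaf 26863930667351534205159447107592)) (.node (.leaf 14529290497) (.leaf 0))) (.node (.node (.leaf 10983045132020066611880058198800) (.leaf 0)) (.node (.leaf 21540633529245897032092954589188) (.leaf 0)))) (.node (.node (.node (.leaf 7029760513) (.leaf 0)) (.node (.leaf 19747084289) (.leaf 0))) (.node (.node (.leaf 4205146964450224660757150888830143802380400656) (.leaf 0)) (.node (.leaf 34944860815568090725621034030854) (.leaf 0))))) (.node (.node (.node (.node (.leaf 3858818310) (.leaf 0)) (.node (.leaf 23496397981348901612717221273088) (.leaf 0))) (.node (.node (.leaf 11310020502810277435559798443536) (.leaf 0)) (.node (.leaf 22367615707767576544280483884297) (.leaf 0)))) (.node (.node (.node (.leaf 9647046144) (.leaf 0)) (.node (.leaf 26016985345654830764032493020928) (.leaf 0))) (.node (.node (.leaf 11140241152) (.leaf 0)) (.node (.leaf 38347022577210674211623469631748) (.leaf 0)))))) (.node (.node (.node (.node (.node (.leaf 2214626048) (.leaf 0)) (.node (.leaf 16391589889) (.leaf 0))) (.node (.node (.leaf 9804670605697964830035332321282) (.leaf 0)) (.node (.leaf 24130418674098611668648707996420) (.leaf 0)))) (.node (.node (.node (.leaf 8153851140) (.leaf 0)) (.node (.leaf 27462766631931452413071071578384) (.leaf 0))) (.node (.node (.leaf 17321297528698304023151746522896) (.leaf 0)) (.node (.leaf 34974815730642229353596091286019) (.leaf 0))))) (.node (.node (.node (.node (.leaf 5670785280) (.leaf 0)) (.node (.leaf 18874655745) (.leaf 0))) (.node (.node (.leaf 12825279662634516340732279791888) (.leaf 0)) (.node (.leaf 34484590870622309062973828677382) (.leaf 0)))) (.node (.node (.node (.leaf 8210166433955850638014543922432) (.leaf 0)) (.node (.leaf 20708714475466230039095976067072) (.leaf 0))) (.node (.node (.leaf 124239457687881175028700295388712955231789054598687945526114044229283978043222330320289541) (.leaf 0)) (.node (.leaf 169952359458421074924569611178438903768581) (.leaf 0)))))))) (.node (.node (.node (.node (.node (.node (.node (.leaf 524886803332898400246159114256) (.leaf 36475291163291992206694148121093)) (.node (.leaf 14025966337) (.leaf 0))) (.node (.node (.leaf 10666103543301202201131194784016) (.leaf 0)) (.node (.leaf 30889543407745072966474945198080) (.leaf 0)))) (.node (.node (.node (.leaf 5323227095968269078125554505219) (.leaf 0)) (.node (.leaf 42713318614695334033731561810184897063820634230358490228177488835259600116139381513529114228557244300546) (.leaf 0))) (.node (.node (.leaf 5689812619006698463799451609349) (.leaf 0)) (.node (.leaf 36019150304483104186840031217168) (.leaf 0))))) (.node (.node (.node (.node (.leaf 3321939200) (.leaf 0)) (.node (.leaf 19173570903760969713256081926144) (.leaf 0))) (.node (.node (.leaf 5348096740140062529565654804737) (.leaf 0)) (.node (.leaf 33484078573258780950474388565008) (.leaf 0)))) (.node (.node (.node (.leaf 9126944513) (.leaf 0)) (.node (.leaf 1829339025234566783081254168708764432) (.leaf 0))) (.node (.node (.leaf 10687249409) (.leaf 0)) (.node (.leaf 3154859513628424948090832691717) (.leaf 0)))))) (.node (.node (.node (.node (.node (.leaf 1744856836) (.leaf 0)) (.node (.leaf 15938598148) (.leaf 0))) (.node (.node (.leaf 7853673779238201506196243933696) (.leaf 0)) (.node (.leaf 32216459631775452883005839962640) (.leaf 0)))) (.node (.node (.node (.leaf 7684081920) (.leaf 0)) (.node (.leaf 19218194698056721214622750748929) (.leaf 0))) (.node (.node (.leaf 984603582739662874047817027860579843) (.leaf 0)) (.node (.leaf 37287037778614114294564703606544) (.leaf 0))))) (.node (.node (.node (.node (.leaf 335437754331466799372131593214573687642965305685540052408072) (.leaf 0)) (.node (.leaf 18337776640) (.leaf 0))) (.node (.node (.leaf 2921753530395967263729877260032) (.leaf 0)) (.node (.leaf 34751743302807527273868764037136) (.leaf 0)))) (.node (.node (.node (.leaf 7531768794451181853921794654209) (.leaf 0)) (.node (.leaf 19490580947904369907930700456964) (.leaf 0))) (.node (.node (.leaf 12432106496) (.leaf 0)) (.node (.leaf 20753434303806777212752267213570) (.leaf 0))))))) (.node (.node (.node (.node (.node (.node (.leaf 1040203008) (.leaf 216644045789932773880271838964153825106250444291492593535629183504)) (.node (.leaf 15049171465) (.leaf 0))) (.node (.node (.leaf 11299956270919849479147809184528) (.leaf 0)) (.node (.leaf 22347765825830277690554579080452) (.leaf 0)))) (.node (.node (.node (.leaf 6229327500312491493877247647504) (.leaf 0)) (.node (.leaf 20267185920) (.leaf 0))) (.node (.node (.leaf 7616056689309852184912318187013) (.leaf 0)) (.node (.leaf 35524204589137588646145943564545) (.leaf 0))))) (.node (.node (.node (.node (.leaf 4311810048) (.leaf 0)) (.node (.leaf 17347905796) (.leaf 0))) (.node (.node (.leaf 10002766399425837581235501689090) (.leaf 0)) (.node (.leaf 29572272673924352358597330477826) (.leaf 0)))) (.node (.node (.node (.leaf 10150351616) (.leaf 0)) (.node (.leaf 26106122695323157728137109019652) (.leaf 0))) (.node (.node (.leaf 11677120257) (.leaf 0)) (.node (.leaf 39188510505526182049134556645136) (.leaf 0)))))) (.node (.node (.node (.node (.node (.leaf 2025306398721367855444592193287) (.leaf 0)) (.node (.leaf 22585324282856375878244083251204) (.leaf 0))) (.node (.node (.leaf 682472392342621640846629031043423491) (.leaf 0)) (.node (.leaf 32850444056750574218581857468944) (.leaf 0)))) (.node (.node (.node (.leaf 8623620352) (.leaf 0)) (.node (.leaf 22545786061694424492243584820739) (.leaf 0))) (.node (.node (.leaf 17638438136830222245936045859344) (.leaf 0)) (.node (.leaf 37920625978151857076158163108880) (.leaf 0))))) (.node (.node (.node (.node (.leaf 5821782528) (.leaf 0)) (.node (.leaf 25244375210333229199789197031696) (.leaf 0))) (.node (.node (.leaf 15102881097447187497045421202192) (.leaf 0)) (.node (.leaf 14520011403149869121184268037988319245661914973936731139719860680534977641622573428161684619024) (.leaf 0)))) (.node (.node (.node (.leaf 9066690377152815549022516296452) (.leaf 0)) (.node (.leaf 30314975495625962656091982720016) (.leaf 0))) (.node (.node (.leaf 19708313097046651903069581746692) (.leaf 0)) (.node (.leaf 38574744911536932731955265585664) (.leaf 0)))))))))) (.node (.node (.node (.node (.node (.node (.node (.node (.node (.leaf 167774464) (.leaf 39569794224237349699093199485699)) (.node (.leaf 13438754817) (.leaf 0))) (.node (.node (.leaf 10086891995993224507526563880962) (.leaf 0)) (.node (.leaf 30334942265578445129863529505280) (.leaf 0)))) (.node (.node (.node (.leaf 6157331973) (.leaf 0)) (.node (.leaf 145686849519281063107057059951480822590998917357876766486574001603322833897254812924496131) (.leaf 0))) (.node (.node (.leaf 15043677204419701177156248834832) (.leaf 0)) (.node (.leaf 35623239943396146572743044919824) (.leaf 0))))) (.node (.node (.node (.node (.leaf 2701172480) (.leaf 0)) (.node (.leaf 22847714454006677213921885037317) (.leaf 0))) (.node (.node (.leaf 12419205711066331280849005199110) (.leaf 0)) (.node (.leaf 26383483070455610637262744904194) (.leaf 0)))) (.node (.node (.node (.leaf 7279205150152026959284564716803) (.leaf 0)) (.node (.leaf 1785502102717100345332308374580111616) (.leaf 0))) (.node (.node (.leaf 17068977180720346449488778368774) (.leaf 0)) (.node (.leaf 19144086260830661211221403949828) (.leaf 0)))))) (.node (.node (.node (.node (.node (.leaf 572415905828724068854912047758045064020771278437884644144928767990906577827922318787931555584) (.leaf 41431720569738183774479696536329)) (.node (.leaf 15384893698) (.leaf 0))) (.node (.node (.leaf 3565441700693680499953194002689) (.leaf 0)) (.node (.leaf 21550537578465226014954939938560) (.leaf 0)))) (.node (.node (.node (.leaf 3798098719099878625486106028289) (.leaf 0)) (.node (.leaf 20669845248) (.leaf 0))) (.node (.node (.leaf 16598537071759192764288780476688) (.leaf 0)) (.node (.leaf 36890905352965666359016394222608) (.leaf 0))))) (.node (.node (.node (.node (.leaf 9760116493734688307472813552439357793363686626367586564844087664354828255269017568220160) (.leaf 0)) (.node (.leaf 17717010177) (.leaf 0))) (.node (.node (.leaf 2911844116568313600213440796160) (.leaf 0)) (.node (.leaf 19535217133689772459246846383365) (.leaf 0)))) (.node (.node (.node (.leaf 8749896957404717550722921599232) (.leaf 0)) (.node (.leaf 20782984228731345080682679572995) (.leaf 0))) (.node (.node (.leaf 11978941186) (.leaf 0)) (.node (.leaf 39426193330795972986257241439248) (.leaf 0))))))) (.node (.node (.node (.node (.node (.node (.leaf 385881600) (.leaf 2323585511355339781768888221509362952)) (.node (.leaf 14395070720) (.leaf 0))) (.node (.node (.leaf 4243824908646377669598535236097) (.leaf 0)) (.node (.leaf 26333927009931558971060447617795) (.leaf 0)))) (.node (.node (.node (.leaf 998178214321257991421222208484771827423714661977830094323274837126941063279836193200202160897) (.leaf 0)) (.node (.leaf 19646419463) (.leaf 0))) (.node (.node (.leaf 15974606376131441553409101024528) (.leaf 0)) (.node (.leaf 3342991416308897475622214878464) (.leaf 0))))) (.node (.node (.node (.node (.leaf 3724598528) (.leaf 0)) (.node (.leaf 23580581228566311429236083321104) (.leaf 0))) (.node (.node (.leaf 1847205709144874743108244347904) (.leaf 0)) (.node (.leaf 33721982254164243016633599326224) (.leaf 0)))) (.node (.node (.node (.leaf 9512826371) (.leaf 0)) (.node (.leaf 26007080616414728177572852715778) (.leaf 0))) (.node (.node (.leaf 11089908738) (.leaf 0)) (.node (.leaf 38277697028316328134899734202882) (.leaf 0)))))) (.node (.node (.node (.node (.node (.leaf 2097183747) (.leaf 0)) (.node (.leaf 16290925061) (.leaf 0))) (.node (.node (.leaf 12171523406995325267201132353040) (.leaf 0)) (.node (.leaf 32454120091917580949469649869072) (.leaf 0)))) (.node (.node (.node (.leaf 2449758726064643391429492122685093224709996771322164253920375987047057946997053319419964374727633526786) (.leaf 0)) (.node (.leaf 27150917492111986999961644614928) (.leaf 0))) (.node (.node (.leaf 16717403267373390543849294665476) (.leaf 0)) (.node (.leaf 2296636324395948918052237411054940418) (.leaf 0))))) (.node (.node (.node (.node (.leaf 5553342981) (.leaf 0)) (.node (.leaf 18740435968) (.leaf 0))) (.node (.node (.leaf 877180825857557370185726293815885827) (.leaf 0)) (.node (.leaf 33296167677329706739936360841734) (.leaf 0)))) (.node (.node (.node (.leaf 45163856500806565716285789872046601645249267367663921148785241103558846936954241120592130) (.leaf 0)) (.node (.leaf 29295064170097988502091169197571) (.leaf 0))) (.node (.node (.leaf 12784433408) (.leaf 0)) (.node (.leaf 25171888459761185701363770953311327555207978798198924650578871012628367661556586439752092873189003482316982303380267562381909732813226503) (.leaf 0)))))))) (.node (.node (.node (.node (.node (.node (.node (.leaf 356533531524230749444900917505) (.leaf 40783322197773660466179763120912)) (.node (.leaf 13891746560) (.leaf 0))) (.node (.node (.leaf 2426522584114886554793566823684) (.leaf 0)) (.node (.leaf 29077197603516138210930366546438) (.leaf 0)))) (.node (.node (.node (.leaf 6543209984) (.leaf 0)) (.node (.leaf 25665336403349195342125427860487) (.leaf 0))) (.node (.node (.leaf 5967106276545481320208781024257) (.leaf 0)) (.node (.leaf 35940417499323426943560033923344) (.leaf 0))))) (.node (.node (.node (.node (.leaf 3187719430) (.leaf 0)) (.node (.leaf 20342185394152004016974671652609) (.leaf 0))) (.node (.node (.leaf 3882374751373943987936274947333) (.leaf 0)) (.node (.leaf 1884176822755062440373522003583499270) (.leaf 0)))) (.node (.node (.node (.leaf 8992724736) (.leaf 0)) (.node (.leaf 1829338470636522488866180042019843088) (.leaf 0))) (.node (.node (.leaf 10553029632) (.leaf 0)) (.node (.leaf 3194472385959737572627241248007) (.leaf 0)))))) (.node (.node (.node (.node (.node (.leaf 1644192002) (.leaf 0)) (.node (.leaf 16898873405287593762326280486506337241032261086726) (.leaf 0))) (.node (.node (.leaf 7472386055960256505940237369093) (.leaf 0)) (.node (.leaf 22179424189932623812966874277121) (.leaf 0)))) (.node (.node (.node (.leaf 7549862145) (.leaf 0)) (.node (.leaf 27066732658179439167959619086096) (.leaf 0))) (.node (.node (.leaf 13657015337478920662808988227335) (.leaf 0)) (.node (.leaf 37207817851906996081639492339984) (.leaf 0))))) (.node (.node (.node (.node (.leaf 5100351233) (.leaf 0)) (.node (.leaf 18203556865) (.leaf 0))) (.node (.node (.leaf 7952740414452342014099111088131) (.leaf 0)) (.node (.leaf 33474381325912469707149906439426) (.leaf 0)))) (.node (.node (.node (.leaf 8799417883522136737133556210177) (.leaf 0)) (.node (.leaf 29601930873267639620102120468240) (.leaf 0))) (.node (.node (.leaf 19015055568040871239719657153796) (.leaf 0)) (.node (.leaf 39743409799023072414040162852624) (.leaf 0))))))) (.node (.node (.node (.node (.node (.node (.leaf 905983238) (.leaf 216232782599534620694977858179870237139462463091834175656267247888)) (.node (.leaf 14931949826) (.leaf 0))) (.node (.node (.leaf 6526589136729576896076552608517) (.leaf 0)) (.node (.leaf 23892723532897033301948104892676) (.leaf 0)))) (.node (.node (.node (.leaf 1351923761305779006818868010243) (.leaf 0)) (.node (.leaf 20132966145) (.leaf 0))) (.node (.node (.leaf 15469547391841939761980164293888) (.leaf 0)) (.node (.leaf 29879314595779983889510537634823) (.leaf 0))))) (.node (.node (.node (.node (.leaf 4194367747) (.leaf 0)) (.node (.leaf 17230463489) (.leaf 0))) (.node (.node (.leaf 7086172111083109062144094641666) (.leaf 0)) (.node (.leaf 29978381230994124045581914654720) (.leaf 0)))) (.node (.node (.node (.leaf 10032928004) (.leaf 0)) (.node (.leaf 24987023766441217965359662039809) (.leaf 0))) (.node (.node (.leaf 11542900480) (.leaf 0)) (.node (.leaf 2556593759824647461967496016021326082) (.leaf 0)))))) (.node (.node (.node (.node (.node (.leaf 2253086383697649178035607341569) (.leaf 0)) (.node (.leaf 16743916800) (.leaf 0))) (.node (.node (.leaf 11102036300340867018549970882565) (.leaf 0)) (.node (.leaf 32771032364185319599903514717456) (.leaf 0)))) (.node (.node (.node (.leaf 8506178048) (.leaf 0)) (.node (.leaf 19124118584183813832972972336132) (.leaf 0))) (.node (.node (.leaf 16251944537251959272415493627399) (.leaf 0)) (.node (.leaf 36316785801209905272374209594369) (.leaf 0))))) (.node (.node (.node (.node (.leaf 5704281600) (.leaf 0)) (.node (.leaf 22035715626535437724996149160193) (.leaf 0))) (.node (.node (.leaf 961226679633664512435247189640380416) (.leaf 0)) (.node (.leaf 2304441080745894356259592574647451910) (.leaf 0)))) (.node (.node (.node (.leaf 9849196023655145155769258823426) (.leaf 0)) (.node (.leaf 19871869275645224891430385932804) (.leaf 0))) (.node (.node (.leaf 20094546158063321774491231780880) (.leaf 0)) (.node (.leaf 21125899419817348664530517105523710647938091750360584819091709910337410881461102657617213885781811841900254715580073734176558205969502751081232) (.leaf 0))))))))) (.node (.node (.node (.node (.node (.node (.node (.node (.leaf 268438020) (.leaf 40852306376239692861993780420624)) (.node (.leaf 13656860160) (.leaf 0))) (.node (.node (.leaf 4283431131885682343305738732801) (.leaf 0)) (.node (.leaf 20471036939246899951170234621444) (.leaf 0)))) (.node (.node (.node (.leaf 6308328961) (.leaf 0)) (.node (.leaf 439455534311494279526619347540156913835126403921153) (.leaf 0))) (.node (.node (.leaf 15499063693517149615633538785808) (.leaf 0)) (.node (.leaf 2758675784190506835233657104130) (.leaf 0))))) (.node (.node (.node (.node (.leaf 2952834817) (.leaf 0)) (.node (.leaf 21644496199860039740569457722625) (.leaf 0))) (.node (.node (.leaf 8680633441516490590384860188674) (.leaf 0)) (.node (.leaf 33013889014173742590672446454800) (.leaf 0)))) (.node (.node (.node (.leaf 8824925446) (.leaf 0)) (.node (.leaf 1005635422757905711760114984961) (.leaf 0))) (.node (.node (.leaf 17648327527823988594933317509891) (.leaf 0)) (.node (.leaf 37049653406906040666254122997762) (.leaf 0)))))) (.node (.node (.node (.node (.node (.leaf 1543527168) (.leaf 0)) (.node (.leaf 15619826176) (.leaf 0))) (.node (.node (.leaf 11696086278716658396558446849808) (.leaf 0)) (.node (.leaf 24204683289428993348061452489735) (.leaf 0)))) (.node (.node (.node (.leaf 7281422594) (.leaf 0)) (.node (.leaf 2618062616798428469493485504129616680392816737974846456439881777428247458588237020330559097381030082778553104) (.leaf 0))) (.node (.node (.leaf 16330957359854604578266556679426) (.leaf 0)) (.node (.leaf 20773199032031656961051432500743) (.leaf 0))))) (.node (.node (.node (.node (.leaf 4812024753190846289161669295351102034068505177029935929956444530247274411529156750573374894219764769026) (.leaf 0)) (.node (.leaf 17951894791) (.leaf 0))) (.node (.node (.leaf 5645223808001852060764341299716) (.leaf 0)) (.node (.leaf 32102734090977711551082116872197) (.leaf 0)))) (.node (.node (.node (.leaf 8809319288216235559284826511620) (.leaf 0)) (.node (.leaf 20203629197040151717446456190464) (.leaf 0))) (.node (.node (.leaf 12197221893) (.leaf 0)) (.node (.leaf 39079893960799995901213329750789) (.leaf 0))))))) (.node (.node (.node (.node (.node (.node (.leaf 637543683) (.leaf 1350362510850252192879140849723768963753910776779427280864520)) (.node (.leaf 14663510272) (.leaf 0))) (.node (.node (.leaf 11062385497961964072980294145808) (.leaf 0)) (.node (.leaf 31345068621080322166055380393488) (.leaf 0)))) (.node (.node (.node (.leaf 7163980295) (.leaf 0)) (.node (.leaf 205926022956004441617613840636897566213234848794497994880433920697936381813984142621688582403385615654403428892854784716812987562276986887) (.leaf 0))) (.node (.node (.leaf 2991107640162801876816711678214) (.leaf 0)) (.node (.leaf 29705903027226321055279902544129) (.leaf 0))))) (.node (.node (.node (.node (.leaf 3976260610) (.leaf 0)) (.node (.leaf 17012356352) (.leaf 0))) (.node (.node (.leaf 13597707552388811087589090008336) (.leaf 0)) (.node (.leaf 30909403641109702076959966872080) (.leaf 0)))) (.node (.node (.node (.leaf 9781265926) (.leaf 0)) (.node (.leaf 27720258235660675183386042573828) (.leaf 0))) (.node (.node (.leaf 11274460928) (.leaf 0)) (.node (.leaf 33117964757963592711807692752902) (.leaf 0)))))) (.node (.node (.node (.node (.node (.leaf 2332068353) (.leaf 0)) (.node (.leaf 9857902042466796932803961994078712445250304099234283871363310307093490296892717667459431983586548433405178776974357638361115736093743111) (.leaf 0))) (.node (.node (.leaf 5125258390567183314817040576259) (.leaf 0)) (.node (.leaf 24001673967823024353228269798150) (.leaf 0)))) (.node (.node (.node (.leaf 8271293440) (.leaf 0)) (.node (.leaf 23050861442040354754299296755204) (.leaf 0))) (.node (.node (.leaf 1683861319238325633333237651972) (.leaf 0)) (.node (.leaf 37683449919474075740867066381584) (.leaf 0))))) (.node (.node (.node (.node (.leaf 4724007901903532927222296876560) (.leaf 0)) (.node (.leaf 18975229954) (.leaf 0))) (.node (.node (.leaf 14865196458788667032430975130128) (.leaf 0)) (.node (.leaf 35147639761247559214176336396560) (.leaf 0)))) (.node (.node (.node (.leaf 1797638390499127950855525913090) (.leaf 0)) (.node (.leaf 26843946141301075666560539193856) (.leaf 0))) (.node (.node (.leaf 13002540544) (.leaf 0)) (.node (.leaf 2633162208181885468697414677005769731) (.leaf 0)))))))) (.node (.node (.node (.node (.node (.node (.node (.leaf 604114814731435215642194608144) (.leaf 41011067426132628096878527958016)) (.node (.leaf 14126631168) (.leaf 0))) (.node (.node (.leaf 9517445320319592750564415379202) (.leaf 0)) (.node (.leaf 22199205163098204421739342135808) (.leaf 0)))) (.node (.node (.node (.leaf 6660656132) (.leaf 0)) (.node (.leaf 44987916791131313624732074234854935999998220366110687654623348249106987260496812321908826251510738617347) (.leaf 0))) (.node (.node (.leaf 5957206685240112131107505315076) (.leaf 0)) (.node (.leaf 24224560145523641966188478779905) (.leaf 0))))) (.node (.node (.node (.node (.leaf 3456158980) (.leaf 0)) (.node (.leaf 19183475330769617536795916904706) (.leaf 0))) (.node (.node (.leaf 13280680129936754073359939080208) (.leaf 0)) (.node (.leaf 33563314064885826736939159688976) (.leaf 0)))) (.node (.node (.node (.leaf 9244386816) (.leaf 0)) (.node (.leaf 28492738033667349615791929760272) (.leaf 0))) (.node (.node (.leaf 10821469184) (.leaf 0)) (.node (.leaf 36455446948194473042833943088391) (.leaf 0)))))) (.node (.node (.node (.node (.node (.leaf 1862276610) (.leaf 0)) (.node (.leaf 16056040455) (.leaf 0))) (.node (.node (.leaf 9636308342503513918582774846979) (.leaf 0)) (.node (.leaf 22313117407377212716645995443719) (.leaf 0)))) (.node (.node (.node (.leaf 7818301696) (.leaf 0)) (.node (.leaf 27175673950603919190076396941314) (.leaf 0))) (.node (.node (.leaf 16786727305110461926375824562689) (.leaf 0)) (.node (.leaf 37366270776831657125858798384912) (.leaf 0))))) (.node (.node (.node (.node (.leaf 5318458368) (.leaf 0)) (.node (.leaf 18471996416) (.leaf 0))) (.node (.node (.leaf 14548426235304732995376837192464) (.leaf 0)) (.node (.leaf 20273036877332367792683754886400) (.leaf 0)))) (.node (.node (.node (.leaf 9477748578759544449091250515728) (.leaf 0)) (.node (.leaf 29760488219159969737185715083280) (.leaf 0))) (.node (.node (.leaf 12532771331) (.leaf 0)) (.node (.leaf 336978603681746270862628770685330416602074360891654) (.leaf 0))))))) (.node (.node (.node (.node (.node (.node (.leaf 1107312897) (.leaf 217055402293158232443616856824843049122944870842842916543042582800)) (.node (.leaf 15166796546) (.leaf 0))) (.node (.node (.leaf 11379305854921121325876879834896) (.leaf 0)) (.node (.leaf 22189320456691989272944152079620) (.leaf 0)))) (.node (.node (.node (.leaf 3684205062055347116609296679168) (.leaf 0)) (.node (.leaf 20401405696) (.leaf 0))) (.node (.node (.leaf 15350707565922182467256112441104) (.leaf 0)) (.node (.leaf 26824244957239589623313601839873) (.leaf 0))))) (.node (.node (.node (.node (.leaf 4412474884) (.leaf 0)) (.node (.leaf 17465348096) (.leaf 0))) (.node (.node (.leaf 13914474829116059849177878785808) (.leaf 0)) (.node (.leaf 29631762704581768786393018935302) (.leaf 0)))) (.node (.node (.node (.leaf 10251035136) (.leaf 0)) (.node (.leaf 29037486430404118031117574210304) (.leaf 0))) (.node (.node (.leaf 11760837121) (.leaf 0)) (.node (.leaf 18356774076385271114784510584065) (.leaf 0)))))) (.node (.node (.node (.node (.node (.leaf 2483065604) (.leaf 0)) (.node (.leaf 22486289986407910237592644232198) (.leaf 0))) (.node (.node (.leaf 7457543846999256349895961897216) (.leaf 0)) (.node (.leaf 2098038501110295182790734958075084806) (.leaf 0)))) (.node (.node (.node (.leaf 8741062658) (.leaf 0)) (.node (.leaf 19970871762233061851782938019840) (.leaf 0))) (.node (.node (.leaf 17405655919043830297961296838914) (.leaf 0)) (.node (.leaf 37807263190657864034831457888005) (.leaf 0))))) (.node (.node (.node (.node (.leaf 5939224834) (.leaf 0)) (.node (.leaf 25323590981357842522614834148624) (.leaf 0))) (.node (.node (.leaf 1936365197267273435293994195461) (.leaf 0)) (.node (.leaf 25927957252657451859067634096135) (.leaf 0)))) (.node (.node (.node (.leaf 10351699971) (.leaf 0)) (.node (.leaf 20718622529252336636154590986496) (.leaf 0))) (.node (.node (.leaf 13237425152) (.leaf 0)) (.node (.leaf 24293953696495341365814615923459) (.leaf 0))))))))))))) (.node (.node (.node (.node (.node (.node (.node (.node (.node (.node (.node (.node (.leaf 1099511627778) (.leaf 40564866808759794054328683121168)) (.node (.leaf 13287757568) (.leaf 0))) (.node (.node (.leaf 5346305420968619399490019903071883095471225803293201148160174998481646905421270077303552) (.leaf 0)) (.node (.leaf 30423918072534126071548530065936) (.leaf 0)))) (.node (.node (.node (.leaf 5972779779) (.leaf 0)) (.node (.leaf 25353314991600434861965253475856) (.leaf 0))) (.node (.node (.leaf 15211892960916387857407410247184) (.leaf 0)) (.node (.leaf 35400671939859678661862393692420) (.leaf 0))))) (.node (.node (.node (.node (.leaf 2533398018) (.leaf 0)) (.node (.leaf 22818045072099558728238543120144) (.leaf 0))) (.node (.node (.leaf 12676528291854399075278313771536) (.leaf 0)) (.node (.leaf 32959172427115074878027677582864) (.leaf 0)))) (.node (.node (.node (.leaf 2411536437423488743069309760005) (.leaf 0)) (.node (.leaf 1794613133429745176845069027664472066) (.leaf 0))) (.node (.node (.leaf 17088549840855634747655934974726) (.leaf 0)) (.node (.leaf 37727741863632343184847419902726) (.leaf 0)))))) (.node (.node (.node (.node (.node (.leaf 1157645316) (.leaf 21055458569)) (.node (.leaf 15217166848) (.leaf 0))) (.node (.node (.leaf 2693930175205907090397020056065) (.leaf 0)) (.node (.leaf 31691696970014961970016118054416) (.leaf 0)))) (.node (.node (.node (.leaf 1510382655301674398278381228292) (.leaf 0)) (.node (.leaf 20451738115) (.leaf 0))) (.node (.node (.leaf 64526980399862807864619927229554248181264) (.leaf 0)) (.node (.leaf 36762385506892527118333423840784) (.leaf 0))))) (.node (.node (.node (.node (.leaf 4462807298) (.leaf 0)) (.node (.leaf 17515680516) (.leaf 0))) (.node (.node (.leaf 13944315651815972487245720470032) (.leaf 0)) (.node (.leaf 2139581238445573438277098772151591168) (.leaf 0)))) (.node (.node (.node (.leaf 495007357585802212069162369538973522440285397724412635978307322145063421476911957283124059152) (.leaf 0)) (.node (.leaf 27220215840175391835514122564100) (.leaf 0))) (.node (.node (.leaf 11794562561) (.leaf 0)) (.node (.leaf 39297182509724342895036688507664) (.leaf 0))))))) (.node (.node (.node (.node (.node (.node (.leaf 108948092634521516289543897093) (.leaf 41080087721257521514923344175619)) (.node (.leaf 14176963587) (.leaf 0))) (.node (.node (.leaf 10775050124776143336337219536656) (.leaf 0)) (.node (.leaf 2005553610063938917680348696672395777) (.leaf 0)))) (.node (.node (.node (.leaf 6710988549) (.leaf 0)) (.node (.leaf 19445089792) (.leaf 0))) (.node (.node (.leaf 15845669903997717902622411747856) (.leaf 0)) (.node (.leaf 35727499821699896412817208830480) (.leaf 0))))) (.node (.node (.node (.node (.leaf 3506491394) (.leaf 0)) (.node (.leaf 21798005298203250484700961231106) (.leaf 0))) (.node (.node (.leaf 13310439501259570140604004425488) (.leaf 0)) (.node (.leaf 33414989596035760975366060141830) (.leaf 0)))) (.node (.node (.node (.leaf 9294719232) (.leaf 0)) (.node (.leaf 28522446705663605594532966760464) (.leaf 0))) (.node (.node (.leaf 10871801604) (.leaf 0)) (.node (.leaf 38663391059533177509451231447824) (.leaf 0)))))) (.node (.node (.node (.node (.node (.leaf 1912631556) (.leaf 0)) (.node (.leaf 16106372865) (.leaf 0))) (.node (.node (.leaf 2233425774208983915595974070273) (.leaf 0)) (.node (.leaf 32325485700123033328232538865424) (.leaf 0)))) (.node (.node (.node (.leaf 7868634115) (.leaf 0)) (.node (.leaf 22976581337347909367987227865092) (.leaf 0))) (.node (.node (.leaf 17113537959757750415165168314640) (.leaf 0)) (.node (.leaf 37356586525437906669434468211457) (.leaf 0))))) (.node (.node (.node (.node (.leaf 5368790785) (.leaf 0)) (.node (.leaf 18522328835) (.leaf 0))) (.node (.node (.leaf 14578035246478734528308012183312) (.leaf 0)) (.node (.leaf 19559983641377580002452768473346) (.leaf 0)))) (.node (.node (.node (.leaf 7843732555549919303120472583938) (.leaf 0)) (.node (.leaf 19673793353635512055700631069188) (.leaf 0))) (.node (.node (.leaf 12583103744) (.leaf 0)) (.node (.leaf 170207569611068575380827615781226291448067) (.leaf 0)))))))) (.node (.node (.node (.node (.node (.node (.node (.leaf 318771719) (.leaf 37614193354909311582239952379651)) (.node (.leaf 13707194369) (.leaf 0))) (.node (.node (.leaf 10458129314469803446479196526352) (.leaf 0)) (.node (.leaf 24184857359334495679529061896708) (.leaf 0)))) (.node (.node (.node (.leaf 6358661636) (.leaf 0)) (.node (.leaf 25670260358212485533243315301904) (.leaf 0))) (.node (.node (.leaf 4347878060634973689559388265990) (.leaf 0)) (.node (.leaf 33395215876425097948819433236228) (.leaf 0))))) (.node (.node (.node (.node (.leaf 3003167234) (.leaf 0)) (.node (.leaf 23134927347895398085131518542608) (.leaf 0))) (.node (.node (.leaf 12993444719804642826921793559568) (.leaf 0)) (.node (.leaf 22268569775408096760995254541057) (.leaf 0)))) (.node (.node (.node (.leaf 9572257061551598925750033959015655448430263040829689616) (.leaf 0)) (.node (.leaf 28205637494321989020865974511376) (.leaf 0))) (.node (.node (.leaf 11077153660216512745020464305928) (.leaf 0)) (.node (.leaf 19579843572510754332418836060165) (.leaf 0)))))) (.node (.node (.node (.node (.node (.leaf 1593859584) (.leaf 0)) (.node (.leaf 15653381120) (.leaf 0))) (.node (.node (.leaf 11725801524247058600206010452496) (.leaf 0)) (.node (.leaf 30374577427479556811157169010704) (.leaf 0)))) (.node (.node (.node (.leaf 7331755008) (.leaf 0)) (.node (.leaf 26918178568981510141651651451908) (.leaf 0))) (.node (.node (.leaf 12528053236181927355344824065280) (.leaf 0)) (.node (.leaf 37044434625258491904672246480390) (.leaf 0))))) (.node (.node (.node (.node (.leaf 4899021572) (.leaf 0)) (.node (.leaf 17985416704) (.leaf 0))) (.node (.node (.leaf 14261201856620725662057073104144) (.leaf 0)) (.node (.leaf 34454684917043864651568402076932) (.leaf 0)))) (.node (.node (.node (.leaf 9190488158974539889821389704720) (.leaf 0)) (.node (.leaf 29472890660187020042648621688080) (.leaf 0))) (.node (.node (.leaf 120227978749595088080968981941353728787563227588882479321559477087054635760253380302395649) (.leaf 0)) (.node (.leaf 39614359763420168397371394390288) (.leaf 0))))))) (.node (.node (.node (.node (.node (.node (.leaf 687876096) (.leaf 20921230857)) (.node (.leaf 14713842692) (.leaf 0))) (.node (.node (.leaf 8022018890797586846218247555333) (.leaf 0)) (.node (.leaf 24397790904109408476348532399617) (.leaf 0)))) (.node (.node (.node (.leaf 48971104257201256435831392410979717919952110971860468810785053571944610256754414761819036308572449929440695671350230949108963826963950849) (.leaf 0)) (.node (.leaf 19914859008) (.leaf 0))) (.node (.node (.leaf 1104487926986246872918185221633) (.leaf 0)) (.node (.leaf 26220125986827955609065943657991) (.leaf 0))))) (.node (.node (.node (.node (.leaf 16256511779360739473173413785152035330051969383787567145414013937084580919987512727891713) (.leaf 0)) (.node (.leaf 17045911297) (.leaf 0))) (.node (.node (.leaf 10072081596892853278074799680006) (.leaf 0)) (.node (.leaf 1938054132035589142225502232503133190) (.leaf 0)))) (.node (.node (.node (.leaf 9831598336) (.leaf 0)) (.node (.leaf 28036880819078888607923849668864) (.leaf 0))) (.node (.node (.leaf 11324793347) (.leaf 0)) (.node (.leaf 4405242883267466255483421419226435351114177198179752777579643046789838082827588578560811028884119185237526544) (.leaf 0)))))) (.node (.node (.node (.node (.node (.leaf 2382400768) (.leaf 0)) (.node (.leaf 16542574592) (.leaf 0))) (.node (.node (.leaf 1574847264591077291824395605248) (.leaf 0)) (.node (.leaf 26061607099888261771265730445060) (.leaf 0)))) (.node (.node (.node (.leaf 8321625861) (.leaf 0)) (.node (.leaf 27571414533171084692292036994064) (.leaf 0))) (.node (.node (.leaf 17430418119933405727936175296528) (.leaf 0)) (.node (.leaf 37712652051551913189982341219344) (.leaf 0))))) (.node (.node (.node (.node (.leaf 2857237843990685546548132058625) (.leaf 0)) (.node (.leaf 125576032383077294938168813711394472666767577837530212125935449033922289647612799175912704) (.leaf 0))) (.node (.node (.leaf 14895117977287039052561776646160) (.leaf 0)) (.node (.leaf 19054907429895148860892296298500) (.leaf 0)))) (.node (.node (.node (.leaf 9438131097398544526189296370432) (.leaf 0)) (.node (.leaf 30106998471153605866689751163408) (.leaf 0))) (.node (.node (.leaf 5719303567240430653950376831182962545005737846006055773380476156294784076543787672996101) (.leaf 0)) (.node (.leaf 40203954396803497528978212828688) (.leaf 0))))))))) (.node (.node (.node (.node (.node (.node (.node (.node (.leaf 218106880) (.leaf 36930768397383775433092797470726)) (.node (.leaf 328477502371235069265490905852682539692928350036998) (.leaf 0))) (.node (.node (.leaf 10299678505165326763033272269328) (.leaf 0)) (.node (.leaf 30582360419357865417403325922320) (.leaf 0)))) (.node (.node (.node (.leaf 1473265417339539216657358106881920097568465415) (.leaf 0)) (.node (.leaf 19059207941) (.leaf 0))) (.node (.node (.leaf 12854999743868194932533334414864) (.leaf 0)) (.node (.leaf 18183407086971206781099298570241) (.leaf 0))))) (.node (.node (.node (.node (.leaf 2734727684) (.leaf 0)) (.node (.leaf 16777397507) (.leaf 0))) (.node (.node (.leaf 764891721648640638725935418302273539) (.leaf 0)) (.node (.leaf 25848690102285504844129972183300) (.leaf 0)))) (.node (.node (.node (.leaf 7764414025830638789592617120528) (.leaf 0)) (.node (.leaf 28046784188277444215886665754640) (.leaf 0))) (.node (.node (.leaf 17360884182450903597085938949637) (.leaf 0)) (.node (.leaf 35366053291204921451906666125824) (.leaf 0)))))) (.node (.node (.node (.node (.node (.leaf 1342197508) (.leaf 41471623886497658743307288717321)) (.node (.leaf 15435273988) (.leaf 0))) (.node (.node (.leaf 2703835433351055934178784733444) (.leaf 0)) (.node (.leaf 31850022731054972335617239873040) (.leaf 0)))) (.node (.node (.node (.leaf 6496736829234377936618821543696) (.leaf 0)) (.node (.leaf 20720177670) (.leaf 0))) (.node (.node (.leaf 5902752057294981811567455117824) (.leaf 0)) (.node (.leaf 32102824533740591277013203190032) (.leaf 0))))) (.node (.node (.node (.node (.leaf 4664136960) (.leaf 0)) (.node (.leaf 17733712384) (.leaf 0))) (.node (.node (.leaf 14102652217630495447497549322512) (.leaf 0)) (.node (.leaf 147195499111409057965063571109381736142599) (.leaf 0)))) (.node (.node (.node (.leaf 9032083591082663325217566300432) (.leaf 0)) (.node (.leaf 30764023503029756294325778606042613490297189414385755920) (.leaf 0))) (.node (.node (.leaf 12029447170) (.leaf 0)) (.node (.leaf 39178927879459142912293201935619) (.leaf 0))))))) (.node (.node (.node (.node (.node (.node (.leaf 6586981484278903066905462284694294091526044259517969604516282434773825103825412587414738446500708725187348732082830759982783629287758086) (.leaf 21456607820174355905256787962888)) (.node (.leaf 14445403142) (.leaf 0))) (.node (.node (.leaf 10933504938647397422868339889680) (.leaf 0)) (.node (.leaf 24442364527983645935420296930561) (.leaf 0)))) (.node (.node (.node (.leaf 6945873152) (.leaf 0)) (.node (.leaf 8119749237043757546117100836924357690769394602585509894803061610725150957714749379610235147525) (.leaf 0))) (.node (.node (.leaf 2981203893174927516137043294210) (.leaf 0)) (.node (.leaf 3333088349341796859277689799682) (.leaf 0))))) (.node (.node (.node (.node (.leaf 3774930945) (.leaf 0)) (.node (.leaf 21812863752104951641954450597893) (.leaf 0))) (.node (.node (.leaf 13468812637080136584129295685136) (.leaf 0)) (.node (.leaf 26150760090034379718160317347840) (.leaf 0)))) (.node (.node (.node (.leaf 9563158784) (.leaf 0)) (.node (.leaf 28680904617407272513919336519696) (.leaf 0))) (.node (.node (.leaf 1337043023124456893609361703419164438841882719247172840200968) (.leaf 0)) (.node (.leaf 38307407589259177367049053719045) (.leaf 0)))))) (.node (.node (.node (.node (.node (.leaf 12526521105197983373840858346209699704076733258357074219213159518160872355233678619606789) (.leaf 0)) (.node (.leaf 8211417379056329831630974303550589220834115202097176643537086090776136265267925865948434910465) (.leaf 0))) (.node (.node (.leaf 11037658582594748592219521902608) (.leaf 0)) (.node (.leaf 32483886187890268728654282605584) (.leaf 0)))) (.node (.node (.node (.leaf 8103518724) (.leaf 0)) (.node (.leaf 19104308747914289889744586289156) (.leaf 0))) (.node (.node (.leaf 16727309432212903993051300502276) (.leaf 0)) (.node (.leaf 36638646509088781521269190463760) (.leaf 0))))) (.node (.node (.node (.node (.leaf 5586895361) (.leaf 0)) (.node (.leaf 18790768390) (.leaf 0))) (.node (.node (.leaf 14736612237415633594218253986064) (.leaf 0)) (.node (.leaf 18569633725569460072948793655041) (.leaf 0)))) (.node (.node (.node (.leaf 8195310624579379993315440151552) (.leaf 0)) (.node (.leaf 29948618157335985461313935782160) (.leaf 0))) (.node (.node (.leaf 365472094290928093311186419608971143519534156096262) (.leaf 0)) (.node (.leaf 38114266275771540234676581067780) (.leaf 0)))))))) (.node (.node (.node (.node (.node (.node (.node (.leaf 307016383299997893935111340289) (.leaf 2676972618982573009932541217011311104)) (.node (.leaf 13942078982) (.leaf 0))) (.node (.node (.leaf 4263625980203709371581032568320) (.leaf 0)) (.node (.leaf 30899410206937585267084649242128) (.leaf 0)))) (.node (.node (.node (.leaf 5531200795894621716196909741825) (.leaf 0)) (.node (.leaf 19210205185) (.leaf 0))) (.node (.node (.leaf 15687187964853385966557841069584) (.leaf 0)) (.node (.leaf 33078306173124725979473453826566) (.leaf 0))))) (.node (.node (.node (.node (.leaf 3238051840) (.leaf 0)) (.node (.leaf 23293094361863720410292806494224) (.leaf 0))) (.node (.node (.leaf 13151887066628382102407056726032) (.leaf 0)) (.node (.leaf 18960798675025111743517128027139) (.leaf 0)))) (.node (.node (.node (.leaf 9043057158) (.leaf 0)) (.node (.leaf 28364037377626314262131624844048) (.leaf 0))) (.node (.node (.leaf 10603362054) (.leaf 0)) (.node (.leaf 38505408708983801459630411883536) (.leaf 0)))))) (.node (.node (.node (.node (.node (.leaf 1694524416) (.leaf 0)) (.node (.leaf 15854710785) (.leaf 0))) (.node (.node (.leaf 2208666444518230299066455038979) (.leaf 0)) (.node (.leaf 21743669749451352346872091175682) (.leaf 0)))) (.node (.node (.node (.leaf 7600194560) (.leaf 0)) (.node (.leaf 26873615069861011955087849826564) (.leaf 0))) (.node (.node (.leaf 16509418913788252587046048137223) (.leaf 0)) (.node (.leaf 232377787218751195179216433241182539797901342383563150666261682284371180750985509426326532) (.leaf 0))))) (.node (.node (.node (.node (.leaf 5133888519) (.leaf 0)) (.node (.leaf 18253889280) (.leaf 0))) (.node (.node (.leaf 11557622564430006510602470664976) (.leaf 0)) (.node (.leaf 59003350185084252829141871158201900540730357389023922274238303136039841670242204312593090003172648536832) (.leaf 0)))) (.node (.node (.node (.leaf 7383215083042571615514916892932) (.leaf 0)) (.node (.leaf 1927344044404718720978489744512002055) (.leaf 0))) (.node (.node (.leaf 19430996696590887300146705474049) (.leaf 0)) (.node (.leaf 2589372550155957139470026392240964101) (.leaf 0))))))) (.node (.node (.node (.node (.node (.node (.leaf 956315648) (.leaf 20988347401)) (.node (.leaf 14982282240) (.leaf 0))) (.node (.node (.leaf 11250425975627328314547690824976) (.leaf 0)) (.node (.leaf 31533250920855900019173542357264) (.leaf 0)))) (.node (.node (.node (.leaf 3664396056922324228807212407810) (.leaf 0)) (.node (.leaf 20183298560) (.leaf 0))) (.node (.node (.leaf 16321053763982457862929598441744) (.leaf 0)) (.node (.leaf 35727477683245824878250121416964) (.leaf 0))))) (.node (.node (.node (.node (.leaf 16971413456995663931739374557057742485440250723010832344698559867758564996616483460152320) (.leaf 0)) (.node (.leaf 17264018433) (.leaf 0))) (.node (.node (.leaf 8660832974422068625348206018817) (.leaf 0)) (.node (.leaf 29502937151391994531540390388994) (.leaf 0)))) (.node (.node (.node (.leaf 10083260417) (.leaf 0)) (.node (.leaf 28413583162280899291942639300354) (.leaf 0))) (.node (.node (.leaf 11593232902) (.leaf 0)) (.node (.leaf 36188059228821612246759398082821) (.leaf 0)))))) (.node (.node (.node (.node (.node (.leaf 2376875551922908729416098020112) (.leaf 0)) (.node (.leaf 7808078099540134083233259720345398351015264699902751719223624798058299825728022504901238267664) (.leaf 0))) (.node (.node (.leaf 12518073931330327344224543989264) (.leaf 0)) (.node (.leaf 32800758490048096264853613897744) (.leaf 0)))) (.node (.node (.node (.leaf 36647066116365861039751487006898083301164193721604397565160918983108256168668077888765184) (.leaf 0)) (.node (.leaf 27730268594794266686037849810960) (.leaf 0))) (.node (.node (.leaf 17499786585694347807346498004240) (.leaf 0)) (.node (.leaf 36653505491895528812698964902916) (.leaf 0))))) (.node (.node (.node (.node (.leaf 5754672640) (.leaf 0)) (.node (.leaf 20852245704557251441334025200129) (.leaf 0))) (.node (.node (.leaf 15053389185549439061730097402640) (.leaf 0)) (.node (.leaf 30082404159837229629444202877187) (.leaf 0)))) (.node (.node (.node (.leaf 9829271641664212691241928780033) (.leaf 0)) (.node (.leaf 30265602285132127526633653600784) (.leaf 0))) (.node (.node (.leaf 19693457287670181152817361894401) (.leaf 0)) (.node (.leaf 26195427783448956046117838176771) (.leaf 0)))))))))) (.node (.node (.node (.node (.node (.node (.node (.node (.node (.leaf 100664578) (.leaf 40451518377259909007078196301063)) (.node (.leaf 127409941697740315893903206542937061631959867537316738781874315463292969773489063037443328) (.leaf 0))) (.node (.node (.leaf 10131456930713133451275839552769) (.leaf 0)) (.node (.leaf 30443880384572648892290178400003) (.leaf 0)))) (.node (.node (.node (.leaf 6073429760) (.leaf 0)) (.node (.leaf 25076031912162573440042894702592) (.leaf 0))) (.node (.node (.leaf 5021313890786625335578882742531) (.leaf 0)) (.node (.leaf 3050826837820898791649114629892) (.leaf 0))))) (.node (.node (.node (.node (.leaf 2634062855) (.leaf 0)) (.node (.leaf 19198322828781078295735022137601) (.leaf 0))) (.node (.node (.leaf 12755747085193561364307036347664) (.leaf 0)) (.node (.leaf 33038576034988910788677768300048) (.leaf 0)))) (.node (.node (.node (.leaf 7685184956622009846580174188048) (.leaf 0)) (.node (.leaf 20297690048224586605141986305281) (.leaf 0))) (.node (.node (.leaf 17143252978614559353114955094531) (.leaf 0)) (.node (.leaf 19139134500673519549385862601472) (.leaf 0)))))) (.node (.node (.node (.node (.node (.leaf 1258310148) (.leaf 21089123081)) (.node (.leaf 15317831680) (.leaf 0))) (.node (.node (.leaf 11488103285173067295103500961296) (.leaf 0)) (.node (.leaf 31770506919753503371830560301584) (.leaf 0)))) (.node (.node (.node (.leaf 6417538512076285194445606946064) (.leaf 0)) (.node (.leaf 20585957888) (.leaf 0))) (.node (.node (.leaf 15241531061867923568279865532160) (.leaf 0)) (.node (.leaf 36821798997433989142134055419395) (.leaf 0))))) (.node (.node (.node (.node (.leaf 4580249601) (.leaf 0)) (.node (.leaf 17633122816) (.leaf 0))) (.node (.node (.leaf 6016602646357189549279949121793) (.leaf 0)) (.node (.leaf 32503876531896233898792160761350) (.leaf 0)))) (.node (.node (.node (.leaf 8952841903710792224881906880784) (.leaf 0)) (.node (.leaf 29235547165283221975658695695120) (.leaf 0))) (.node (.node (.leaf 11912004868) (.leaf 0)) (.node (.leaf 39376410823354334684458812187664) (.leaf 0))))))) (.node (.node (.node (.node (.node (.node (.leaf 40564933108591733074610584058593540) (.leaf 40847661758798597235403258907139)) (.node (.leaf 14311183360) (.leaf 0))) (.node (.node (.leaf 3540672775154233621939463658753) (.leaf 0)) (.node (.leaf 31136967001690681625400569948176) (.leaf 0)))) (.node (.node (.node (.leaf 6828430853) (.leaf 0)) (.node (.leaf 19579309573) (.leaf 0))) (.node (.node (.leaf 680842094687357689521789136701244929) (.leaf 0)) (.node (.leaf 3362797625800962610147448897537) (.leaf 0))))) (.node (.node (.node (.node (.leaf 3640711168) (.leaf 0)) (.node (.leaf 21852476397762672877641656408065) (.leaf 0))) (.node (.node (.leaf 13389732870210229907083766022416) (.leaf 0)) (.node (.leaf 33048559948870197992610846733840) (.leaf 0)))) (.node (.node (.node (.leaf 9428939010) (.leaf 0)) (.node (.leaf 28601676606008735452232562186512) (.leaf 0))) (.node (.node (.leaf 11006021379) (.leaf 0)) (.node (.leaf 38228178520050548283299910961924) (.leaf 0)))))) (.node (.node (.node (.node (.node (.leaf 2046851328) (.leaf 0)) (.node (.leaf 16223815173) (.leaf 0))) (.node (.node (.leaf 12122072296343988684892428909840) (.leaf 0)) (.node (.leaf 19609459686123945890202159076096) (.leaf 0)))) (.node (.node (.node (.leaf 8002853888) (.leaf 0)) (.node (.leaf 22936968313900869291637322495746) (.leaf 0))) (.node (.node (.leaf 17192536275250560451017489520144) (.leaf 0)) (.node (.leaf 4227496171856677939146723675658137185427387982787774158111046952895389126209649874468598425589200558103892752) (.leaf 0))))) (.node (.node (.node (.node (.leaf 5469455617) (.leaf 0)) (.node (.leaf 18656548608) (.leaf 0))) (.node (.node (.leaf 14657251697524121349176829191440) (.leaf 0)) (.node (.leaf 19659020204561957420533909996032) (.leaf 0)))) (.node (.node (.node (.leaf 8883497616466242068608467344130) (.leaf 0)) (.node (.leaf 29572362512224322382766945840400) (.leaf 0))) (.node (.node (.leaf 12700546048) (.leaf 0)) (.node (.leaf 2538746868456888741864517496392020229) (.leaf 0)))))))) (.node (.node (.node (.node (.node (.node (.node (.leaf 396141190362946444222869274640) (.leaf 2672775011896306332404232873811684368)) (.node (.leaf 13807852289) (.leaf 0))) (.node (.node (.leaf 2466136665372018582851860587776) (.leaf 0)) (.node (.leaf 30820116611313334252509295992336) (.leaf 0)))) (.node (.node (.node (.leaf 6492881410) (.leaf 0)) (.node (.leaf 25749465248904722429957114110992) (.leaf 0))) (.node (.node (.leaf 57380960800600962017059484674579694121731) (.leaf 0)) (.node (.leaf 22337936805569628259140772086784) (.leaf 0))))) (.node (.node (.node (.node (.leaf 3103832065) (.leaf 0)) (.node (.leaf 124519204379660654733411322722384679082271465120177354841391528415604009841448279861359616) (.leaf 0))) (.node (.node (.leaf 11433808764341172293561114248976) (.leaf 0)) (.node (.leaf 24338407863387028189525393286404) (.leaf 0)))) (.node (.node (.node (.leaf 8925614337) (.leaf 0)) (.node (.leaf 28284850469705644379296533611792) (.leaf 0))) (.node (.node (.leaf 10469025536) (.leaf 0)) (.node (.leaf 38425672722067435181500490851088) (.leaf 0)))))) (.node (.node (.node (.node (.node (.leaf 1228061377510569132420048624390) (.leaf 0)) (.node (.leaf 15770823426) (.leaf 0))) (.node (.node (.leaf 11805148765954554802851972928272) (.leaf 0)) (.node (.leaf 32087689689173380901087681353744) (.leaf 0)))) (.node (.node (.node (.leaf 7465974790) (.leaf 0)) (.node (.leaf 27016818000034144277194069780496) (.leaf 0))) (.node (.node (.leaf 13612474505717540250553688267271) (.leaf 0)) (.node (.leaf 37158564098395711763460923770896) (.leaf 0))))) (.node (.node (.node (.node (.leaf 5016463873) (.leaf 0)) (.node (.leaf 18119669510) (.leaf 0))) (.node (.node (.leaf 817473606119895343001421842239996162) (.leaf 0)) (.node (.leaf 1945193560019639497049424004481295110) (.leaf 0)))) (.node (.node (.node (.leaf 9269795581687852746732239650832) (.leaf 0)) (.node (.leaf 29552404733657623310412305067536) (.leaf 0))) (.node (.node (.leaf 121379805443397405224682093611983561624372273223014085000955222398704688171225427610886144) (.leaf 0)) (.node (.leaf 39466133066445763898557058939139) (.leaf 0))))))) (.node (.node (.node (.node (.node (.node (.leaf 822095873) (.leaf 20954791945)) (.node (.leaf 14848062467) (.leaf 0))) (.node (.node (.leaf 11171208920119031862282606898960) (.leaf 0)) (.node (.leaf 19852076591010766660384671849474) (.leaf 0)))) (.node (.node (.node (.leaf 2509665063097131416429382382386652200898939413685155449189828594449674578424587891331509001488) (.leaf 0)) (.node (.leaf 20049078790) (.leaf 0))) (.node (.node (.leaf 1094586900081466996997880815367) (.leaf 0)) (.node (.leaf 36440402999737324836278040303878) (.leaf 0))))) (.node (.node (.node (.node (.leaf 4110447105) (.leaf 0)) (.node (.leaf 17146576132) (.leaf 0))) (.node (.node (.leaf 11310022769546189212989500992528) (.leaf 0)) (.node (.leaf 30909313651694004530592960668928) (.leaf 0)))) (.node (.node (.node (.leaf 9965818112) (.leaf 0)) (.node (.leaf 24115513223205673203792284410887) (.leaf 0))) (.node (.node (.leaf 11459013120) (.leaf 0)) (.node (.leaf 36604006402000726450712690723332) (.leaf 0)))))) (.node (.node (.node (.node (.node (.leaf 2297648598334464006452315979792) (.leaf 0)) (.node (.leaf 128060821593750009883315669629796253516761750892189381363239557708599469389050093794222337) (.leaf 0))) (.node (.node (.leaf 12151808093613322231684960176400) (.leaf 0)) (.node (.leaf 2017885107158953447389649336814195200) (.leaf 0)))) (.node (.node (.node (.leaf 45972019082537570715954311560676769748580695032660315713167129618293033229261025973499397) (.leaf 0)) (.node (.leaf 27650643073474667659461862106640) (.leaf 0))) (.node (.node (.leaf 17509644015711758323283734440208) (.leaf 0)) (.node (.leaf 37791880214066177527568285090832) (.leaf 0))))) (.node (.node (.node (.node (.leaf 4832930002630626655077828401168) (.leaf 0)) (.node (.leaf 24046130023661304148875305742082) (.leaf 0))) (.node (.node (.leaf 4174557992654282937562803750400) (.leaf 0)) (.node (.leaf 18530021155469602598350435171846) (.leaf 0)))) (.node (.node (.node (.leaf 3733778123098737324640595632901) (.leaf 0)) (.node (.leaf 30186223913584776071367283102224) (.leaf 0))) (.node (.node (.leaf 13170315269) (.leaf 0)) (.node (.leaf 18871773302110826865914779179783) (.leaf 0))))))))) (.node (.node (.node (.node (.node (.node (.node (.node (.leaf 153508040535424514499941499651) (.leaf 40248528927372099927720243403526)) (.node (.leaf 13589752066) (.leaf 0))) (.node (.node (.leaf 10378922534830973683372189059344) (.leaf 0)) (.node (.leaf 30661598706625869133070901373968) (.leaf 0)))) (.node (.node (.node (.leaf 6274774274) (.leaf 0)) (.node (.leaf 19126236935) (.leaf 0))) (.node (.node (.leaf 15449668420127106800661137761040) (.leaf 0)) (.node (.leaf 35731943228549890052717618964240) (.leaf 0))))) (.node (.node (.node (.node (.leaf 2868947458) (.leaf 0)) (.node (.leaf 16894905603) (.leaf 0))) (.node (.node (.leaf 5204492219921227025619938736641) (.leaf 0)) (.node (.leaf 33196897715904279708625339950352) (.leaf 0)))) (.node (.node (.node (.leaf 12371103325166282564160326640365481642436772535716857891522515953471252645286828117719040) (.leaf 0)) (.node (.leaf 22288299973689253555342384720896) (.leaf 0))) (.node (.node (.leaf 17316554610476500770910946477315) (.leaf 0)) (.node (.leaf 35375957718213569275446551435522) (.leaf 0)))))) (.node (.node (.node (.node (.node (.leaf 1476417281) (.leaf 41818252386548026034281112456201)) (.node (.leaf 15535888130) (.leaf 0))) (.node (.node (.leaf 1475800954442279195611144133633) (.leaf 0)) (.node (.leaf 31928961960298348741652130044432) (.leaf 0)))) (.node (.node (.node (.leaf 6387829160059255805622337167620) (.leaf 0)) (.node (.leaf 20837382149) (.leaf 0))) (.node (.node (.leaf 985901270733475938208588390159378692) (.leaf 0)) (.node (.leaf 2405036771554415505459413657199846661) (.leaf 0))))) (.node (.node (.node (.node (.leaf 4781579265) (.leaf 0)) (.node (.leaf 17868007429) (.leaf 0))) (.node (.node (.leaf 5739300375221941903453377797380) (.leaf 0)) (.node (.leaf 34301324063229284045785273658112) (.leaf 0)))) (.node (.node (.node (.leaf 9111264907721417631110180921616) (.leaf 0)) (.node (.leaf 29393662875462074404984382826512) (.leaf 0))) (.node (.node (.leaf 12113334528) (.leaf 0)) (.node (.leaf 39040279879542863556495116761856) (.leaf 0))))))) (.node (.node (.node (.node (.node (.node (.leaf 553656322) (.leaf 2692114486074427395159809390479006379459534120812863354316808)) (.node (.leaf 14579622912) (.leaf 0))) (.node (.node (.leaf 4417136363030603421071662183424) (.leaf 0)) (.node (.leaf 31295425442339394485449430070544) (.leaf 0)))) (.node (.node (.node (.leaf 7080092933) (.leaf 0)) (.node (.leaf 19797416709) (.leaf 0))) (.node (.node (.leaf 14390058690766082234330243998736) (.leaf 0)) (.node (.leaf 35915664516493226215863574643713) (.leaf 0))))) (.node (.node (.node (.node (.leaf 3909150720) (.leaf 0)) (.node (.leaf 23407264938478807342388355454469) (.leaf 0))) (.node (.node (.leaf 8700443428901742090994992551941) (.leaf 0)) (.node (.leaf 33830764572843443838175211143696) (.leaf 0)))) (.node (.node (.node (.leaf 9697378561) (.leaf 0)) (.node (.leaf 24085799488832547342502466880000) (.leaf 0))) (.node (.node (.leaf 11190573572) (.leaf 0)) (.node (.leaf 166124099100450833716317826248594908301313) (.leaf 0)))))) (.node (.node (.node (.node (.node (.leaf 2264958464) (.leaf 0)) (.node (.leaf 16441922309) (.leaf 0))) (.node (.node (.leaf 12280388008188123468703509533968) (.leaf 0)) (.node (.leaf 26363668020693489535577298759168) (.leaf 0)))) (.node (.node (.node (.leaf 8187376384) (.leaf 0)) (.node (.leaf 26987510313620681514659373884944) (.leaf 0))) (.node (.node (.leaf 17108593604271253892931107429648) (.leaf 0)) (.node (.leaf 36638624219518982570057828181765) (.leaf 0))))) (.node (.node (.node (.node (.leaf 1890398169058955919601149602191226588534906477965360561550744546129516304780683228212126314256) (.leaf 0)) (.node (.leaf 18908153600) (.leaf 0))) (.node (.node (.leaf 2931663095339348484628076829187) (.leaf 0)) (.node (.leaf 2286913325411269000918583182220247810) (.leaf 0)))) (.node (.node (.node (.leaf 9745147707369827752662479766288) (.leaf 0)) (.node (.leaf 30027782549013265092029595194128) (.leaf 0))) (.node (.node (.leaf 12918653186) (.leaf 0)) (.node (.leaf 916078891747770999971589185771177460280680036724432742327280659093139988968835885000032920428256528) (.leaf 0)))))))) (.node (.node (.node (.node (.node (.node (.node (.leaf 188175046222966133701014978562) (.leaf 40783317286512518475262787218693)) (.node (.leaf 14076298752) (.leaf 0))) (.node (.node (.leaf 9656093849140918047026752546305) (.leaf 0)) (.node (.leaf 30978513170071655905386205214480) (.leaf 0)))) (.node (.node (.node (.leaf 6576764674) (.leaf 0)) (.node (.leaf 19327647492) (.leaf 0))) (.node (.node (.leaf 15766421567533838675527214315792) (.leaf 0)) (.node (.leaf 36049357431706360022380348221712) (.leaf 0))))) (.node (.node (.node (.node (.leaf 3372271616) (.leaf 0)) (.node (.leaf 23372605110788319667459343957520) (.leaf 0))) (.node (.node (.leaf 5358000260454345747682497161478) (.leaf 0)) (.node (.leaf 32315697632224523641446654438661) (.leaf 0)))) (.node (.node (.node (.leaf 51424395672649533939023177991768029982592281695859994424302453313022432762587148795820472357209327255885278004043778571275615350072418816) (.leaf 0)) (.node (.leaf 26279422589354233309165602975232) (.leaf 0))) (.node (.node (.leaf 10737581824) (.leaf 0)) (.node (.leaf 38584163048134640553326599523344) (.leaf 0)))))) (.node (.node (.node (.node (.node (.leaf 1795189251) (.leaf 0)) (.node (.leaf 15988930565) (.leaf 0))) (.node (.node (.leaf 7408015365095464677607762618882) (.leaf 0)) (.node (.leaf 28799922306538240505411526641667) (.leaf 0)))) (.node (.node (.node (.leaf 7734414340) (.leaf 0)) (.node (.leaf 20674012184256328523459149705476) (.leaf 0))) (.node (.node (.leaf 10388826130703120398709147310596) (.leaf 0)) (.node (.leaf 37316748188441235969333618961680) (.leaf 0))))) (.node (.node (.node (.node (.leaf 5234571011) (.leaf 0)) (.node (.leaf 18388109060) (.leaf 0))) (.node (.node (.leaf 14498973084591076059666704271376) (.leaf 0)) (.node (.leaf 34256807183310704783556195041281) (.leaf 0)))) (.node (.node (.node (.leaf 9428227501526397810852338162704) (.leaf 0)) (.node (.leaf 29710869143377570658432502136848) (.leaf 0))) (.node (.node (.leaf 19430997074380206070455811096069) (.leaf 0)) (.node (.leaf 39852359553928289650626841856784) (.leaf 0))))))) (.node (.node (.node (.node (.node (.node (.leaf 1056971009) (.leaf 21021903113)) (.node (.leaf 15099724545) (.leaf 0))) (.node (.node (.leaf 10032437594721685436102522978816) (.leaf 0)) (.node (.leaf 31612320562972067423697754035984) (.leaf 0)))) (.node (.node (.node (.leaf 1520285268921592588768221614080) (.leaf 0)) (.node (.leaf 20317518340) (.leaf 0))) (.node (.node (.leaf 984603582829350058290354184456903440) (.leaf 0)) (.node (.leaf 36682936942089774288656822091280) (.leaf 0))))) (.node (.node (.node (.node (.leaf 4362142469) (.leaf 0)) (.node (.leaf 17398238213) (.leaf 0))) (.node (.node (.leaf 13865128895011029950705034137616) (.leaf 0)) (.node (.leaf 29651575487607978075464356866055) (.leaf 0)))) (.node (.node (.node (.leaf 10200702725) (.leaf 0)) (.node (.leaf 26116026593426759294354819619585) (.leaf 0))) (.node (.node (.leaf 11727452672) (.leaf 0)) (.node (.leaf 39217954573883669770370554012944) (.leaf 0)))))) (.node (.node (.node (.node (.node (.leaf 2347163177591330163281765625600) (.leaf 0)) (.node (.leaf 22738496695358823789804734391312) (.leaf 0))) (.node (.node (.leaf 3842755078834896101479502863621) (.leaf 0)) (.node (.leaf 129117858175278033606708247652381996808193) (.leaf 0)))) (.node (.node (.node (.leaf 28223523369649303863933945462867684100866936621850438216000631283786898530270997823751173) (.leaf 0)) (.node (.leaf 21916912823968906145882523576321) (.leaf 0))) (.node (.node (.leaf 1149461979146116298457067044217034500) (.leaf 0)) (.node (.leaf 37950844967959717880238012679440) (.leaf 0))))) (.node (.node (.node (.node (.leaf 5855290372) (.leaf 0)) (.node (.leaf 24264009888427170236147475683840) (.leaf 0))) (.node (.node (.leaf 11310046645831126601915701442576) (.leaf 0)) (.node (.leaf 151023846439767435099509509088539905801989) (.leaf 0)))) (.node (.node (.node (.leaf 8942999434150399739040739994886) (.leaf 0)) (.node (.leaf 30344744462797471914462135113232) (.leaf 0))) (.node (.node (.leaf 20124256643448307333502718902277) (.leaf 0)) (.node (.leaf 170207569611068421998364252210334122648580) (.leaf 0))))))))))) (.node (.node (.node (.node (.node (.node (.node (.node (.node (.node (.leaf 33554688) (.leaf 40580280764075608256818823985415)) (.node (.leaf 5719303567240442138564139528570581770805145949356193767965765753304686879420856756542210) (.leaf 0))) (.node (.node (.leaf 10121552881493804398045109960451) (.leaf 0)) (.node (.leaf 30463526411393615070853534507536) (.leaf 0)))) (.node (.node (.node (.leaf 6023055362) (.leaf 0)) (.node (.leaf 20812635250077578186793454483459) (.leaf 0))) (.node (.node (.leaf 15251517620274441513466285018384) (.leaf 0)) (.node (.leaf 18158646623912497205478483345921) (.leaf 0))))) (.node (.node (.node (.node (.leaf 2600507909) (.leaf 0)) (.node (.leaf 22857643286205308314289791256592) (.leaf 0))) (.node (.node (.leaf 12716217024280892588155639715344) (.leaf 0)) (.node (.leaf 32998805397838138560588233615632) (.leaf 0)))) (.node (.node (.node (.leaf 7645557123833679561376506354192) (.leaf 0)) (.node (.leaf 27383658379746920890389575739664) (.leaf 0))) (.node (.node (.leaf 17579001978929642729300228578823) (.leaf 0)) (.node (.leaf 35727225168865252978134370763015) (.leaf 0)))))) (.node (.node (.node (.node (.node (.leaf 1207977729) (.leaf 21072345609)) (.node (.leaf 15250682369) (.leaf 0))) (.node (.node (.leaf 2589943211905935252858475670020) (.leaf 0)) (.node (.leaf 31731216906173891825486411315728) (.leaf 0)))) (.node (.node (.node (.leaf 6377925564187109090285378931472) (.leaf 0)) (.node (.leaf 20518848000) (.leaf 0))) (.node (.node (.leaf 14617796363338677449517353147653) (.leaf 0)) (.node (.leaf 36673279589295510398461903270148) (.leaf 0))))) (.node (.node (.node (.node (.leaf 4513139712) (.leaf 0)) (.node (.leaf 17582790400) (.leaf 0))) (.node (.node (.leaf 13983891954141241558146767523856) (.leaf 0)) (.node (.leaf 19550071960814014491137885246976) (.leaf 0)))) (.node (.node (.node (.leaf 8913186265628610697644474383888) (.leaf 0)) (.node (.leaf 10464413547216111198743998737644215247772335390655543589781647890043323732201255922492508219152) (.leaf 0))) (.node (.node (.leaf 11861672449) (.leaf 0)) (.node (.leaf 39337302601994847582426109059600) (.leaf 0))))))) (.node (.node (.node (.node (.node (.node (.leaf 673444821539741050953407665424) (.leaf 41040803676749144280636623854343)) (.node (.leaf 14244073472) (.leaf 0))) (.node (.node (.leaf 1738230717913173015963589679365) (.leaf 0)) (.node (.leaf 30879641323030200927756428173830) (.leaf 0)))) (.node (.node (.node (.leaf 6761320960) (.leaf 0)) (.node (.leaf 19512199681) (.leaf 0))) (.node (.node (.leaf 5679911365428327058292456060929) (.leaf 0)) (.node (.leaf 32533615729269435076551249012228) (.leaf 0))))) (.node (.node (.node (.node (.leaf 3573601280) (.leaf 0)) (.node (.leaf 21718777891267623476619294990596) (.leaf 0))) (.node (.node (.leaf 12939147025542471196240301366032) (.leaf 0)) (.node (.leaf 19767939509648093500665942415365) (.leaf 0)))) (.node (.node (.node (.leaf 9361829121) (.leaf 0)) (.node (.leaf 28562125313336359553426832765200) (.leaf 0))) (.node (.node (.leaf 10938911494) (.leaf 0)) (.node (.leaf 38198467959107699015965497936640) (.leaf 0)))))) (.node (.node (.node (.node (.node (.leaf 1979741443) (.leaf 0)) (.node (.leaf 16156705281) (.leaf 0))) (.node (.node (.leaf 10453348617316137325034614159632) (.leaf 0)) (.node (.leaf 32364718214168349664878788616976) (.leaf 0)))) (.node (.node (.node (.leaf 7935744000) (.leaf 0)) (.node (.leaf 20664110099541456132894596539136) (.leaf 0))) (.node (.node (.leaf 17153157330065343468334313653520) (.leaf 0)) (.node (.leaf 116781191854525791363381474736532122390625621816898941415441313677939641384004385329312517) (.leaf 0))))) (.node (.node (.node (.node (.leaf 5402279428) (.leaf 0)) (.node (.leaf 18589438720) (.leaf 0))) (.node (.node (.leaf 14152353349252900957156708258050) (.leaf 0)) (.node (.leaf 33870570495516576121022102814982) (.leaf 0)))) (.node (.node (.node (.leaf 5214348289897090299177157606660) (.leaf 0)) (.node (.leaf 25462401204007541258139451183104) (.leaf 0))) (.node (.node (.leaf 12633436162) (.leaf 0)) (.node (.leaf 38574729346617005334342129426948) (.leaf 0)))))))) (.node (.node (.node (.node (.node (.node (.node (.leaf 559944462616438275073994301178387494822991904964876721827616400689114222556152921781921852562587259655) (.leaf 2652975978262327630707484624637042439)) (.node (.leaf 13774304261) (.leaf 0))) (.node (.node (.leaf 4273528442707900391717202839044) (.leaf 0)) (.node (.leaf 30780579750192930003335631898896) (.leaf 0)))) (.node (.node (.node (.leaf 6425771524) (.leaf 0)) (.node (.leaf 28776669920998866670939247748826882859572411484403344656) (.leaf 0))) (.node (.node (.leaf 15316025826451214259576257938960) (.leaf 0)) (.node (.leaf 19287652926559769891356786337536) (.leaf 0))))) (.node (.node (.node (.node (.leaf 3036722176) (.leaf 0)) (.node (.leaf 23169615509784783083485868035331) (.leaf 0))) (.node (.node (.leaf 1857108700554111844644678553604) (.leaf 0)) (.node (.leaf 22110115037094706330008723584001) (.leaf 0)))) (.node (.node (.node (.leaf 8875153669) (.leaf 0)) (.node (.leaf 28245174506558120757053412845840) (.leaf 0))) (.node (.node (.leaf 10418809856) (.leaf 0)) (.node (.leaf 38386341453894229145200682344976) (.leaf 0)))))) (.node (.node (.node (.node (.node (.leaf 1223109617353427400213531728640) (.leaf 0)) (.node (.leaf 15720491009) (.leaf 0))) (.node (.node (.leaf 10488006707175759321530198261520) (.leaf 0)) (.node (.leaf 32048096915233819404950590130960) (.leaf 0)))) (.node (.node (.node (.leaf 7398864900) (.leaf 0)) (.node (.leaf 8512942251082335267233328770664590011207851091993496472117477621394018993458677387619532594448) (.leaf 0))) (.node (.node (.leaf 13038013130186283180305422489860) (.leaf 0)) (.node (.leaf 37118688058025041849704874430736) (.leaf 0))))) (.node (.node (.node (.node (.leaf 4966131457) (.leaf 0)) (.node (.leaf 18052559620) (.leaf 0))) (.node (.node (.leaf 14300715219245511151876002840592) (.leaf 0)) (.node (.leaf 1997441978113205354013584489827200259) (.leaf 0)))) (.node (.node (.node (.leaf 9230155357409871270838771150608) (.leaf 0)) (.node (.leaf 29512788007875260734613676544016) (.leaf 0))) (.node (.node (.leaf 12297886720) (.leaf 0)) (.node (.leaf 39535456801951380553347618732549) (.leaf 0))))))) (.node (.node (.node (.node (.node (.node (.leaf 754985984) (.leaf 20938008329)) (.node (.leaf 14780952582) (.leaf 0))) (.node (.node (.leaf 11131609874876780939326657719568) (.leaf 0)) (.node (.leaf 24194769493245243370408025182977) (.leaf 0)))) (.node (.node (.node (.leaf 2669091207526786254617467461376) (.leaf 0)) (.node (.leaf 19981968900) (.leaf 0))) (.node (.node (.leaf 13360095600395194882187579136528) (.leaf 0)) (.node (.leaf 35044143395156759685554705055747) (.leaf 0))))) (.node (.node (.node (.node (.leaf 4076925440) (.leaf 0)) (.node (.leaf 17086773913248784140910735439590412807408632199686) (.leaf 0))) (.node (.node (.leaf 13667007411609490318271342267152) (.leaf 0)) (.node (.leaf 29502887132086208081811403369989) (.leaf 0)))) (.node (.node (.node (.leaf 9898708224) (.leaf 0)) (.node (.leaf 28878975023692933357904773453840) (.leaf 0))) (.node (.node (.leaf 11391903232) (.leaf 0)) (.node (.leaf 39020464603107151611317882992656) (.leaf 0)))))) (.node (.node (.node (.node (.node (.leaf 2449510657) (.leaf 0)) (.node (.leaf 16609697025) (.leaf 0))) (.node (.node (.leaf 10715796892463644011993600384516) (.leaf 0)) (.node (.leaf 24368105730608771221779199828736) (.leaf 0)))) (.node (.node (.node (.leaf 8371956737) (.leaf 0)) (.node (.leaf 27611319285529970453492814514192) (.leaf 0))) (.node (.node (.leaf 17469985657546482768693036193552) (.leaf 0)) (.node (.leaf 15528555169807426960152666060793790199923192586799579032814680580725371928495951750821708875024) (.leaf 0))))) (.node (.node (.node (.node (.leaf 4793329446231101636051214548752) (.leaf 0)) (.node (.leaf 22025811577316108706949791561732) (.leaf 0))) (.node (.node (.leaf 14399941659341431950978500795907) (.leaf 0)) (.node (.leaf 2278479111178911429518274475495308801) (.leaf 0)))) (.node (.node (.node (.leaf 618537344893888462164929108017964291) (.leaf 0)) (.node (.leaf 30146615801398878214615306792208) (.leaf 0))) (.node (.node (.leaf 13103205381) (.leaf 0)) (.node (.leaf 40288092233744808088577983553040) (.leaf 0))))))))) (.node (.node (.node (.node (.node (.node (.node (.node (.leaf 870327995285151058278658519000977226545684906683927740828284051334123505464868631219715) (.leaf 40203912235515538521562303077121)) (.node (.leaf 13522642180) (.leaf 0))) (.node (.node (.leaf 10339287675161316747398971660816) (.leaf 0)) (.node (.leaf 30622013412914816467259957151760) (.leaf 0)))) (.node (.node (.node (.leaf 32606253167639109467101022368905138483759461991758133233673979594026937819440530260587009) (.leaf 0)) (.node (.leaf 144381356103456850367664913266206430019751219125327129492959083468088566764959187488450562) (.leaf 0))) (.node (.node (.leaf 15409890378305689292233406159888) (.leaf 0)) (.node (.leaf 23848221613435471630016182383617) (.leaf 0))))) (.node (.node (.node (.node (.leaf 2801837568) (.leaf 0)) (.node (.leaf 16844581635) (.leaf 0))) (.node (.node (.leaf 11854709737739748847007307929605) (.leaf 0)) (.node (.leaf 20560211236710588641088414696961) (.leaf 0)))) (.node (.node (.node (.leaf 7804026595930496510471597779472) (.leaf 0)) (.node (.leaf 28086658717490839611372084409616) (.leaf 0))) (.node (.node (.leaf 17247240244145986199864496637443) (.leaf 0)) (.node (.leaf 34524254064490863040896467786245) (.leaf 0)))))) (.node (.node (.node (.node (.node (.leaf 1409307393) (.leaf 41659793643667858129835540922633)) (.node (.leaf 15502383877) (.leaf 0))) (.node (.node (.leaf 7502092083431282042494173332996) (.leaf 0)) (.node (.leaf 30909365408830656764312316841744) (.leaf 0)))) (.node (.node (.node (.leaf 6407637862960823754580004199169) (.leaf 0)) (.node (.leaf 20787287555) (.leaf 0))) (.node (.node (.leaf 15563535707477197912660233950981) (.leaf 0)) (.node (.leaf 2295354536460932452992121610518555910) (.leaf 0))))) (.node (.node (.node (.node (.leaf 4714469377) (.leaf 0)) (.node (.leaf 17800897539) (.leaf 0))) (.node (.node (.leaf 10022578275757682124146828484354) (.leaf 0)) (.node (.leaf 34425103786721577928249533727248) (.leaf 0)))) (.node (.node (.node (.leaf 9071657853345612113085911304464) (.leaf 0)) (.node (.leaf 29354389409054618482035925392144) (.leaf 0))) (.node (.node (.leaf 1400579312757614240773616476380514942231671387056204586950152) (.leaf 0)) (.node (.leaf 39495517821880226900191706512144) (.leaf 0))))))) (.node (.node (.node (.node (.node (.node (.leaf 486546433) (.leaf 139459675288331811275954383850667150227584662004958095191153219600)) (.node (.leaf 14512513027) (.leaf 0))) (.node (.node (.leaf 5179706747209624137181400441344) (.leaf 0)) (.node (.leaf 31255982575201465238510532562192) (.leaf 0)))) (.node (.node (.node (.leaf 7012983043) (.leaf 0)) (.node (.leaf 19730306819) (.leaf 0))) (.node (.node (.leaf 16043927542669691456740095195664) (.leaf 0)) (.node (.leaf 60946496447110463707896603611520685366815585325642808344280279019972371601078490403891019030531032777474) (.leaf 0))))) (.node (.node (.node (.node (.leaf 3842040834) (.leaf 0)) (.node (.leaf 23248806195598639332378359636738) (.leaf 0))) (.node (.node (.leaf 13508414326847617702973688257296) (.leaf 0)) (.node (.leaf 32791070838550478388577934929159) (.leaf 0)))) (.node (.node (.node (.leaf 9630268672) (.leaf 0)) (.node (.leaf 28720581940596343097086808699664) (.leaf 0))) (.node (.node (.leaf 11123453184) (.leaf 0)) (.node (.leaf 38337119056896391134251229169923) (.leaf 0)))))) (.node (.node (.node (.node (.node (.leaf 2197848580) (.leaf 0)) (.node (.leaf 16374812419) (.leaf 0))) (.node (.node (.leaf 12240773246910217766681819762960) (.leaf 0)) (.node (.leaf 24239357095324270229182704970244) (.leaf 0)))) (.node (.node (.node (.leaf 8136987395) (.leaf 0)) (.node (.leaf 20654208392615902653376637182980) (.leaf 0))) (.node (.node (.leaf 13637409129652138023500042475014) (.leaf 0)) (.node (.leaf 37044574407306384740617455595011) (.leaf 0))))) (.node (.node (.node (.node (.leaf 5654007810) (.leaf 0)) (.node (.leaf 18857878275) (.leaf 0))) (.node (.node (.leaf 14776064775960119652643422345744) (.leaf 0)) (.node (.leaf 34444976789365176858997851995909) (.leaf 0)))) (.node (.node (.node (.leaf 8185407330938688199219254217474) (.leaf 0)) (.node (.leaf 29988151542794658318421256751376) (.leaf 0))) (.node (.node (.leaf 12868320769) (.leaf 0)) (.node (.leaf 38599484218393799227479649588997) (.leaf 0)))))))) (.node (.node (.node (.node (.node (.node (.node (.leaf 212933544777218835541687009282) (.leaf 19074805971096687027527685939716)) (.node (.leaf 14009188866) (.leaf 0))) (.node (.node (.leaf 1748132651512317673224519292929) (.leaf 0)) (.node (.leaf 30938891986375333359904905942288) (.leaf 0)))) (.node (.node (.node (.leaf 5585646054664649864031147988240) (.leaf 0)) (.node (.leaf 19277315077) (.leaf 0))) (.node (.node (.leaf 11433850925629131353753582144784) (.leaf 0)) (.node (.leaf 2348575485212681414991723274107405568) (.leaf 0))))) (.node (.node (.node (.node (.leaf 3305161728) (.leaf 0)) (.node (.leaf 23332991331762642402316677992464) (.leaf 0))) (.node (.node (.leaf 13191516939479032987294587972112) (.leaf 0)) (.node (.leaf 2086677529241427724200897664711290113) (.leaf 0)))) (.node (.node (.node (.leaf 9110167042) (.leaf 0)) (.node (.leaf 28403679717524480028434327932688) (.leaf 0))) (.node (.node (.leaf 10670471939) (.leaf 0)) (.node (.leaf 38544514814723104236062059274768) (.leaf 0)))))) (.node (.node (.node (.node (.node (.leaf 1728070147) (.leaf 0)) (.node (.leaf 15921820673) (.leaf 0))) (.node (.node (.leaf 11537782429457128475733883222032) (.leaf 0)) (.node (.leaf 26353752486678874213738153517572) (.leaf 0)))) (.node (.node (.node (.leaf 7667304448) (.leaf 0)) (.node (.leaf 27135661528289223983374524231696) (.leaf 0))) (.node (.node (.leaf 812929464771083768008196895157523970) (.leaf 0)) (.node (.leaf 18950954920981035829178998626305) (.leaf 0))))) (.node (.node (.node (.node (.leaf 890198367173630019449342469228052071560380244991034320955326688931233760602275561101919859969) (.leaf 0)) (.node (.leaf 18320999168) (.leaf 0))) (.node (.node (.leaf 14459221185790507999069097522960) (.leaf 0)) (.node (.leaf 2221027205267820628883102913414741764) (.leaf 0)))) (.node (.node (.node (.leaf 8051703384277450567558652576774) (.leaf 0)) (.node (.leaf 29443611836877500649746431223312) (.leaf 0))) (.node (.node (.leaf 12415329024) (.leaf 0)) (.node (.leaf 39763241244841621951172894161414) (.leaf 0))))))) (.node (.node (.node (.node (.node (.node (.leaf 1023425536) (.leaf 21005125641)) (.node (.leaf 31374256144450676783426838529306420380749022977826351296656837488181559582171288182750819440880825360124448642836985660368479936976891695473510223484992103048203144800072514420930204411541798113071153356831002656014112377242010634315124178642467768569068428690035959022036605661054431057587750098794938372) (.leaf 0))) (.node (.node (.leaf 3763508933549064925905523055107) (.leaf 0)) (.node (.leaf 31572717135373720644009553220624) (.leaf 0)))) (.node (.node (.node (.leaf 1366780099587295627365958295040) (.leaf 0)) (.node (.leaf 20250408448) (.leaf 0))) (.node (.node (.leaf 16360775817426854328117193927184) (.leaf 0)) (.node (.leaf 36366285571125481273142041167620) (.leaf 0))))) (.node (.node (.node (.node (.leaf 4295032580) (.leaf 0)) (.node (.leaf 17331128321) (.leaf 0))) (.node (.node (.leaf 13825342239593147688040490101264) (.leaf 0)) (.node (.leaf 29572323373250912517477088897028) (.leaf 0)))) (.node (.node (.node (.leaf 16411745533919833329005260531190772146552201664806861060142270103480419978993077003115521) (.leaf 0)) (.node (.leaf 23902589425395180803629879892995) (.leaf 0))) (.node (.node (.leaf 11660342787) (.leaf 0)) (.node (.leaf 36574297276657288151668977993733) (.leaf 0)))))) (.node (.node (.node (.node (.node (.leaf 2005499358092801665494750883588) (.leaf 0)) (.node (.leaf 22698885031953330920634821129232) (.leaf 0))) (.node (.node (.leaf 12557687785913868229724575128592) (.leaf 0)) (.node (.leaf 26373575772248141228978620003072) (.leaf 0)))) (.node (.node (.node (.leaf 8606842885) (.leaf 0)) (.node (.leaf 27769813389490362050660360508432) (.leaf 0))) (.node (.node (.leaf 4382576045046642757711018603776) (.leaf 0)) (.node (.leaf 3313305260556031854535422035201) (.leaf 0))))) (.node (.node (.node (.node (.leaf 5804983040) (.leaf 0)) (.node (.leaf 23937192584687873990043141077505) (.leaf 0))) (.node (.node (.leaf 5986903645767490452389430827520) (.leaf 0)) (.node (.leaf 35024333483329372051596434915844) (.leaf 0)))) (.node (.node (.node (.leaf 9259914199827641203912540709120) (.leaf 0)) (.node (.leaf 1825761690507233818350964614044511492) (.leaf 0))) (.node (.node (.leaf 19802396313358749626219079331588) (.leaf 0)) (.node (.leaf 2528036067702740226155721831632391174) (.leaf 0)))))))))) (.node (.node (.node (.node (.node (.node (.node (.node (.node (.leaf 150996996) (.leaf 36138494328027504543028228440579)) (.node (.leaf 13421977351) (.leaf 0))) (.node (.node (.leaf 10141361055490326441527125031941) (.leaf 0)) (.node (.leaf 26834047532247934879161095844610) (.leaf 0)))) (.node (.node (.node (.leaf 6140554496) (.leaf 0)) (.node (.leaf 25056242325400528077030225538817) (.leaf 0))) (.node (.node (.leaf 15330877857934498714113733107984) (.leaf 0)) (.node (.leaf 35326400222090106816863553089795) (.leaf 0))))) (.node (.node (.node (.node (.leaf 2684395265) (.leaf 0)) (.node (.leaf 22669469297794740294135306003714) (.leaf 0))) (.node (.node (.leaf 12795385798314268357097083142160) (.leaf 0)) (.node (.leaf 30478585244749917106601590040848) (.leaf 0)))) (.node (.node (.node (.leaf 7724800095689234002255731029008) (.leaf 0)) (.node (.leaf 28007447631053777506337158229008) (.leaf 0))) (.node (.node (.leaf 17207378862000879254223940747527) (.leaf 0)) (.node (.leaf 38148410269926371057347619510800) (.leaf 0)))))) (.node (.node (.node (.node (.node (.leaf 1364865011156116498530609213696193221121040357503898759844077799943233872908297139078108431262110731780) (.leaf 41362379909271092585248763945481)) (.node (.leaf 129927677101991984533181341178938367195746019744901843947438152618485688668976455281251328) (.leaf 0))) (.node (.node (.leaf 11527871655587927921681502382352) (.leaf 0)) (.node (.leaf 31810446428729703229537575485968) (.leaf 0)))) (.node (.node (.node (.leaf 6457123050208700530741888444688) (.leaf 0)) (.node (.leaf 20653067780) (.leaf 0))) (.node (.node (.leaf 4392464302672453411507502325255) (.leaf 0)) (.node (.leaf 25952737436318593792766044719364) (.leaf 0))))) (.node (.node (.node (.node (.leaf 4630582018) (.leaf 0)) (.node (.leaf 17700232709) (.leaf 0))) (.node (.node (.leaf 14063017206845111200436411449104) (.leaf 0)) (.node (.leaf 2044170684182322254849284555982148866) (.leaf 0)))) (.node (.node (.node (.leaf 8992421908371384006314102374672) (.leaf 0)) (.node (.leaf 29275116138495709949526230112784) (.leaf 0))) (.node (.node (.leaf 31986784206541224481658936784960386948319361200779331295088033291092158710619329163895033307699358124292) (.leaf 0)) (.node (.leaf 18401342260093320272840633777408) (.leaf 0))))))) (.node (.node (.node (.node (.node (.node (.leaf 369099014) (.leaf 29502858571213719756565894929927)) (.node (.leaf 14378293252) (.leaf 0))) (.node (.node (.leaf 10314681047913153062979443437072) (.leaf 0)) (.node (.leaf 31176572620467076315867701756176) (.leaf 0)))) (.node (.node (.node (.leaf 6895540741) (.leaf 0)) (.node (.leaf 19629641985) (.leaf 0))) (.node (.node (.leaf 5947305582777468282982272867843) (.leaf 0)) (.node (.leaf 35915669578870095799346685600016) (.leaf 0))))) (.node (.node (.node (.node (.leaf 3707821056) (.leaf 0)) (.node (.leaf 21832670188270607778300794432001) (.leaf 0))) (.node (.node (.leaf 13429186466564808233852344474896) (.leaf 0)) (.node (.leaf 26160662552538570738296487581700) (.leaf 0)))) (.node (.node (.node (.leaf 9496048896) (.leaf 0)) (.node (.leaf 28641353626966351378033378865680) (.leaf 0))) (.node (.node (.leaf 11073131264) (.leaf 0)) (.node (.leaf 38782233001073119006631103875344) (.leaf 0)))))) (.node (.node (.node (.node (.node (.leaf 2080404481) (.leaf 0)) (.node (.leaf 16274129927) (.leaf 0))) (.node (.node (.leaf 1555038335015918200305378939140) (.leaf 0)) (.node (.leaf 2072719398750673103432431136571299843) (.leaf 0)))) (.node (.node (.node (.leaf 168871061880253119938280023209169317594434559208222448910354687277886547257547391431892217173706241880922937909100440808672683869929528425755811208475798737806988440047802494570871809542821769296283388880756540948961532300376680099447596617685052520787300557581104462088637742797317668573182356594920382468) (.leaf 0)) (.node (.leaf 27373681946094142376052655386128) (.leaf 0))) (.node (.node (.leaf 17232150809854875116039418429712) (.leaf 0)) (.node (.leaf 37515079949377524750961531201296) (.leaf 0))))) (.node (.node (.node (.node (.leaf 5536565505) (.leaf 0)) (.node (.leaf 18723658500) (.leaf 0))) (.node (.node (.leaf 14696900535398567579298906070288) (.leaf 0)) (.node (.leaf 2281074853561579221816137680177775108) (.leaf 0)))) (.node (.node (.node (.leaf 49577639109944760632814993928330577329672097861177583015139931753952534695726161386834947) (.leaf 0)) (.node (.leaf 29908931313856085201832728784144) (.leaf 0))) (.node (.node (.leaf 12767655938) (.leaf 0)) (.node (.leaf 34945100031764647005553351104263) (.leaf 0)))))))) (.node (.node (.node (.node (.node (.node (.node (.leaf 435760862901994225126491558160) (.leaf 41001163981376208833370216645392)) (.node (.leaf 13874969094) (.leaf 0))) (.node (.node (.leaf 10576986669813945206102873368080) (.leaf 0)) (.node (.leaf 30859673117478307450509792051984) (.leaf 0)))) (.node (.node (.node (.leaf 15255680549298689100606520035126988472081881069574) (.leaf 0)) (.node (.leaf 25685170871482293898238859753478) (.leaf 0))) (.node (.node (.leaf 15647737013024038222702980405776) (.leaf 0)) (.node (.leaf 32414770312067761941016643420672) (.leaf 0))))) (.node (.node (.node (.node (.leaf 3170941954) (.leaf 0)) (.node (.leaf 23253480053932996923015810786832) (.leaf 0))) (.node (.node (.leaf 13112354663421937611804025854736) (.leaf 0)) (.node (.leaf 2182737655457627762205350264037369350) (.leaf 0)))) (.node (.node (.node (.leaf 8975947270) (.leaf 0)) (.node (.leaf 990781804559483294498301159686) (.leaf 0))) (.node (.node (.leaf 10536252164) (.leaf 0)) (.node (.leaf 38465570523102858158581668128016) (.leaf 0)))))) (.node (.node (.node (.node (.node (.leaf 1627406592) (.leaf 0)) (.node (.leaf 15804378368) (.leaf 0))) (.node (.node (.leaf 11052509178478622342350697944325) (.leaf 0)) (.node (.leaf 30325062697106963184905175154192) (.leaf 0)))) (.node (.node (.node (.leaf 7533084675) (.leaf 0)) (.node (.leaf 22620052792644990426888640931844) (.leaf 0))) (.node (.node (.leaf 16638147299565275140153526984454) (.leaf 0)) (.node (.leaf 24902968967592142220785952671745) (.leaf 0))))) (.node (.node (.node (.node (.leaf 5083573765) (.leaf 0)) (.node (.leaf 18186779395) (.leaf 0))) (.node (.node (.leaf 14379950635314693353163787900944) (.leaf 0)) (.node (.leaf 32464023536674000283346705487875) (.leaf 0)))) (.node (.node (.node (.leaf 9309431650283329015861047596304) (.leaf 0)) (.node (.leaf 26294297741543817999037717553926) (.leaf 0))) (.node (.node (.leaf 19450528177690445027795582068240) (.leaf 0)) (.node (.leaf 2484856803300828480423069364594465543) (.leaf 0))))))) (.node (.node (.node (.node (.node (.node (.leaf 889205762) (.leaf 20971569417)) (.node (.leaf 14915172352) (.leaf 0))) (.node (.node (.leaf 11210797538376088151661144447504) (.leaf 0)) (.node (.leaf 30062606715057356613020159312144) (.leaf 0)))) (.node (.node (.node (.leaf 6105613512161639227253659278594) (.leaf 0)) (.node (.leaf 20116188675) (.leaf 0))) (.node (.node (.leaf 16271715914568846461370703573776) (.leaf 0)) (.node (.leaf 27586547715465293291606339930117) (.leaf 0))))) (.node (.node (.node (.node (.leaf 4177590272) (.leaf 0)) (.node (.leaf 17213686018) (.leaf 0))) (.node (.node (.leaf 13746218800278007467701419791632) (.leaf 0)) (.node (.leaf 30547717667744579728733150319873) (.leaf 0)))) (.node (.node (.node (.leaf 10016067584) (.leaf 0)) (.node (.leaf 28958197217135963348268176573200) (.leaf 0))) (.node (.node (.leaf 11526123012) (.leaf 0)) (.node (.leaf 39099378973813361980444319582224) (.leaf 0)))))) (.node (.node (.node (.node (.node (.leaf 2337262528475868864156536958992) (.leaf 0)) (.node (.leaf 16727139328) (.leaf 0))) (.node (.node (.leaf 12478622903943115768910900632592) (.leaf 0)) (.node (.leaf 18619113623766876052697456482049) (.leaf 0)))) (.node (.node (.node (.leaf 8489400580) (.leaf 0)) (.node (.leaf 27690552737094695569906521544976) (.leaf 0))) (.node (.node (.leaf 17549275173046092548714981832208) (.leaf 0)) (.node (.leaf 37831494370881173457470983554320) (.leaf 0))))) (.node (.node (.node (.node (.leaf 4758702788442789356033529682176) (.leaf 0)) (.node (.leaf 25155249496575916343149853866512) (.leaf 0))) (.node (.node (.leaf 966427795565856645281403155412722704) (.leaf 0)) (.node (.leaf 19040054265043908658378884301061) (.leaf 0)))) (.node (.node (.node (.leaf 10910980867237743470274229114599138138091084287777762649942791459760962245966001432774912) (.leaf 0)) (.node (.leaf 19782737592816677476453159459331) (.leaf 0))) (.node (.node (.leaf 20064838694992885427973099028737) (.leaf 0)) (.node (.leaf 38857000680660187876385328513285) (.leaf 0))))))))) (.node (.node (.node (.node (.node (.node (.node (.node (.leaf 272349453170319965463989193985) (.leaf 40466407205422827630045996162816)) (.node (.leaf 33824161056780824219945659076021099614411777502042417417294931736318586684967000523969365132455627140359) (.leaf 0))) (.node (.node (.leaf 2173981304943394319690423616768) (.leaf 0)) (.node (.leaf 30701183698105466719298413141520) (.leaf 0)))) (.node (.node (.node (.leaf 15163415413167760856984723124745071669701322569478) (.leaf 0)) (.node (.leaf 358707563264056705307742608796210838699244997867014) (.leaf 0))) (.node (.node (.leaf 5699712361427795034360629959680) (.leaf 0)) (.node (.leaf 17717942916683587314193157629446) (.leaf 0))))) (.node (.node (.node (.node (.leaf 2936057345) (.leaf 0)) (.node (.leaf 8908094313409137955523634647682248410670492378480194342823806242228264855577635499663071315216) (.leaf 0))) (.node (.node (.leaf 12151813080432328142030305890832) (.leaf 0)) (.node (.leaf 23699627780801222966283125958917) (.leaf 0)))) (.node (.node (.node (.leaf 47774455834525258727989836113061961281809387075102521177617221752685214272107910506089729) (.leaf 0)) (.node (.leaf 22372480274149978254713492088838) (.leaf 0))) (.node (.node (.leaf 17559178617802511812223293201926) (.leaf 0)) (.node (.leaf 19025246434910903828537713678337) (.leaf 0)))))) (.node (.node (.node (.node (.node (.leaf 1526749700) (.leaf 0)) (.node (.leaf 15603048706) (.leaf 0))) (.node (.node (.leaf 7492190527621455803698628269570) (.leaf 0)) (.node (.leaf 31968576192671208362277649521424) (.leaf 0)))) (.node (.node (.node (.leaf 7264645120) (.leaf 0)) (.node (.leaf 135551755246298460153927327478279165424956821393132572453163707483295478536518144406904067) (.leaf 0))) (.node (.node (.leaf 16058801485933456303284063061506) (.leaf 0)) (.node (.leaf 34246938419613735697130297933314) (.leaf 0))))) (.node (.node (.node (.node (.leaf 4848689157) (.leaf 0)) (.node (.leaf 17935117313) (.leaf 0))) (.node (.node (.leaf 13840381050115562426859151001616) (.leaf 0)) (.node (.leaf 34301140608736157666545500348932) (.leaf 0)))) (.node (.node (.node (.leaf 9150912007764998165208439525136) (.leaf 0)) (.node (.leaf 29433625127355255622167758632720) (.leaf 0))) (.node (.node (.leaf 12180444417) (.leaf 0)) (.node (.leaf 39069990440485712823829764668164) (.leaf 0))))))) (.node (.node (.node (.node (.node (.node (.leaf 620766208) (.leaf 131821183785318727556054613899313551334218189963711934906632)) (.node (.leaf 14646732800) (.leaf 0))) (.node (.node (.leaf 4233921615005685910695411989252) (.leaf 0)) (.node (.leaf 26091302473700501848346864051456) (.leaf 0)))) (.node (.node (.node (.leaf 7147202817) (.leaf 0)) (.node (.leaf 19864526593) (.leaf 0))) (.node (.node (.leaf 5937406520377145210465633188359) (.leaf 0)) (.node (.leaf 35727492945934297372205963702528) (.leaf 0))))) (.node (.node (.node (.node (.leaf 3959483137) (.leaf 0)) (.node (.leaf 16995552005) (.leaf 0))) (.node (.node (.leaf 6041348828979654891899031939584) (.leaf 0)) (.node (.leaf 2108101671141787396338467644685664774) (.leaf 0)))) (.node (.node (.node (.leaf 9764488450) (.leaf 0)) (.node (.leaf 1779362326098273435965382705849313538) (.leaf 0))) (.node (.node (.leaf 11257683462) (.leaf 0)) (.node (.leaf 35425484991191541509020406827013) (.leaf 0)))))) (.node (.node (.node (.node (.node (.leaf 2315288836) (.leaf 0)) (.node (.leaf 16509032193) (.leaf 0))) (.node (.node (.leaf 12319991738017925187244952394256) (.leaf 0)) (.node (.leaf 32602682870269838367970826572304) (.leaf 0)))) (.node (.node (.node (.leaf 8254515972) (.leaf 0)) (.node (.leaf 27532096563181894522469957704208) (.leaf 0))) (.node (.node (.leaf 17390838493062132540884027196944) (.leaf 0)) (.node (.leaf 18455784723222390614621497115649) (.leaf 0))))) (.node (.node (.node (.node (.leaf 2867140608726331399972851838723) (.leaf 0)) (.node (.leaf 125451691140022064226053936652735435551919161671112109098226672025335684223087109277510145) (.leaf 0))) (.node (.node (.leaf 2035395262475370319190087964416) (.leaf 0)) (.node (.leaf 19049955669738007199055177891840) (.leaf 0)))) (.node (.node (.node (.leaf 737414856433419450032165223512810298298671247188793068916240100421081029713421333673961083408) (.leaf 0)) (.node (.leaf 30067378043035920685900641779472) (.leaf 0))) (.node (.node (.leaf 12985763074) (.leaf 0)) (.node (.leaf 40208863013420451693736658908688) (.leaf 0)))))))) (.node (.node (.node (.node (.node (.node (.node (.leaf 198079171000158912845916930048) (.leaf 39030368047863570874826194208774)) (.node (.leaf 14109849350) (.leaf 0))) (.node (.node (.leaf 10735428487732638435371623914000) (.leaf 0)) (.node (.leaf 23679780845620609458384704531457) (.leaf 0)))) (.node (.node (.node (.leaf 6643878656) (.leaf 0)) (.node (.leaf 19394757377) (.leaf 0))) (.node (.node (.leaf 15806057711687178705757687290128) (.leaf 0)) (.node (.leaf 23863082938535994407198333642501) (.leaf 0))))) (.node (.node (.node (.node (.leaf 3439381505) (.leaf 0)) (.node (.leaf 23412217378656722238387439983120) (.leaf 0))) (.node (.node (.leaf 9586804114673978088867076575488) (.leaf 0)) (.node (.leaf 19832311484996568388066888281344) (.leaf 0)))) (.node (.node (.node (.leaf 9227609344) (.leaf 0)) (.node (.leaf 22065476206784073512428998171396) (.leaf 0))) (.node (.node (.leaf 10804691712) (.leaf 0)) (.node (.leaf 33959759828995146338249388117253) (.leaf 0)))))) (.node (.node (.node (.node (.node (.leaf 4973307302161684704417016836753794491041716673168606886947966363604933245936116493741573) (.leaf 0)) (.node (.leaf 16039262980) (.leaf 0))) (.node (.node (.leaf 12003093670628566903148358166032) (.leaf 0)) (.node (.leaf 32285777775999153609025989572368) (.leaf 0)))) (.node (.node (.node (.leaf 7801524230) (.leaf 0)) (.node (.leaf 1045235601368112277137072861184) (.leaf 0))) (.node (.node (.leaf 17073681639989512894678770391824) (.leaf 0)) (.node (.leaf 2165859090800090568100454953593780224) (.leaf 0))))) (.node (.node (.node (.node (.leaf 5301680901) (.leaf 0)) (.node (.leaf 18455218950) (.leaf 0))) (.node (.node (.leaf 5729403201768211732504218967553) (.leaf 0)) (.node (.leaf 2278478665516266046412900231559692294) (.leaf 0)))) (.node (.node (.node (.leaf 4431968598353591686054925057795) (.leaf 0)) (.node (.leaf 29730817855000622814600380818693) (.leaf 0))) (.node (.node (.leaf 12515993856) (.leaf 0)) (.node (.leaf 37965195295227862351627052702470) (.leaf 0))))))) (.node (.node (.node (.node (.node (.node (.leaf 1090535428) (.leaf 21038681097)) (.node (.leaf 127596474906401577777631665941347412907299177668373164963379634487049604109301583173617409) (.leaf 0))) (.node (.node (.leaf 3461452168426341840593772111104) (.leaf 0)) (.node (.leaf 29923960452971943058804595474192) (.leaf 0)))) (.node (.node (.node (.leaf 1376684526595943450905793273602) (.leaf 0)) (.node (.leaf 20384628230) (.leaf 0))) (.node (.node (.leaf 16439882029549064969618827809552) (.leaf 0)) (.node (.leaf 126650774352947479218637476630141308419588) (.leaf 0))))) (.node (.node (.node (.node (.leaf 4395652866) (.leaf 0)) (.node (.leaf 17448570628) (.leaf 0))) (.node (.node (.leaf 7878456078519527941424315110914) (.leaf 0)) (.node (.leaf 29592163130434471922777599255300) (.leaf 0)))) (.node (.node (.node (.leaf 10234257664) (.leaf 0)) (.node (.leaf 27274586145544603893918678917892) (.leaf 0))) (.node (.node (.leaf 5076283371493542946562791403629527763995769858) (.leaf 0)) (.node (.leaf 39257852148245501534524388943120) (.leaf 0)))))) (.node (.node (.node (.node (.node (.leaf 2466283521) (.leaf 0)) (.node (.leaf 22778110625500228506772842750736) (.leaf 0))) (.node (.node (.leaf 11433804079753621286873062309136) (.leaf 0)) (.node (.leaf 20728566095234394624051445430278) (.leaf 0)))) (.node (.node (.node (.leaf 8724285184) (.leaf 0)) (.node (.leaf 27849008911007496969183618603024) (.leaf 0))) (.node (.node (.leaf 17296756787907309353613050030342) (.leaf 0)) (.node (.leaf 35553684547480346422965482603525) (.leaf 0))))) (.node (.node (.node (.node (.leaf 5922447365) (.leaf 0)) (.node (.leaf 20832440628433142195523642637312) (.leaf 0))) (.node (.node (.leaf 15172225913596783576378528269840) (.leaf 0)) (.node (.leaf 32939649635169845700911901612038) (.leaf 0)))) (.node (.node (.node (.leaf 10334922496) (.leaf 0)) (.node (.leaf 30384292506481707634139500538896) (.leaf 0))) (.node (.node (.leaf 13220647684) (.leaf 0)) (.node (.leaf 728843578225584818267514363221875200641777937840903) (.leaf 0)))))))))))) (.node (.node (.node (.node (.node (.node (.node (.node (.node (.node (.node (.leaf 1099511627784) (.leaf 40510954157371170052474956577542)) (.node (.leaf 13321312512) (.leaf 0))) (.node (.node (.leaf 10116601121336662806576735731457) (.leaf 0)) (.node (.leaf 21461387157286474608409860825344) (.leaf 0)))) (.node (.node (.node (.leaf 6006334721) (.leaf 0)) (.node (.leaf 25373090826831282143744778909712) (.leaf 0))) (.node (.node (.leaf 15231627617111504304771554091024) (.leaf 0)) (.node (.leaf 1246684978253509752431522121077022449752658754512067845316741485558278491327149164386767237136) (.leaf 0))))) (.node (.node (.node (.node (.leaf 2566952965) (.leaf 0)) (.node (.leaf 22837810858134530428216182754832) (.leaf 0))) (.node (.node (.leaf 12696465443124301254503308481040) (.leaf 0)) (.node (.leaf 32979032887153295078303866231568) (.leaf 0)))) (.node (.node (.node (.leaf 7234638024254069928844597435139) (.leaf 0)) (.node (.leaf 22521029527644628699359660222724) (.leaf 0))) (.node (.node (.leaf 17108349476813555692450558777862) (.leaf 0)) (.node (.leaf 35633143388152565906620100538627) (.leaf 0)))))) (.node (.node (.node (.node (.node (.leaf 1347366204362713994890506241396502521165538470744698947450604885544126834126202257877204536493451789828) (.leaf 41847963703069512384830372895496)) (.node (.leaf 135056403131517056647645465282888194517639443732072470858449069026043495125178416697150464) (.leaf 0))) (.node (.node (.leaf 7635786812033145218168537508355) (.leaf 0)) (.node (.leaf 31711377375663923492370772069392) (.leaf 0)))) (.node (.node (.node (.leaf 6358083842499092811209842383632) (.leaf 0)) (.node (.leaf 20485293060) (.leaf 0))) (.node (.node (.leaf 16499515469031833253168992623120) (.leaf 0)) (.node (.leaf 36782231837610230678179970990608) (.leaf 0))))) (.node (.node (.node (.node (.leaf 10754774348120562564927571544785265338597433284437898894660086062551884754185005492669189) (.leaf 0)) (.node (.leaf 17549235463) (.leaf 0))) (.node (.node (.leaf 13964002933230532856706918029584) (.leaf 0)) (.node (.leaf 30324878864824518088132854475521) (.leaf 0)))) (.node (.node (.node (.leaf 8893373331486673956754170058768) (.leaf 0)) (.node (.leaf 1779362326153581792212787174964209667) (.leaf 0))) (.node (.node (.leaf 11828117505) (.leaf 0)) (.node (.leaf 39317497223639283608880343426064) (.leaf 0))))))) (.node (.node (.node (.node (.node (.node (.leaf 633832855902793137388980799504) (.leaf 41011101276055577341679791939329)) (.node (.leaf 14210518532) (.leaf 0))) (.node (.node (.leaf 9903683217039541168463409060097) (.leaf 0)) (.node (.leaf 19906540814804590100675085656580) (.leaf 0)))) (.node (.node (.node (.leaf 3648390145919507798139733438221607124067778149831677494402509838861623339632023668170826270152581026053) (.leaf 0)) (.node (.leaf 19478644736) (.leaf 0))) (.node (.node (.leaf 15865471504460095580446117626128) (.leaf 0)) (.node (.leaf 151023846433493566389648624398045236209155) (.leaf 0))))) (.node (.node (.node (.node (.leaf 3540046336) (.leaf 0)) (.node (.leaf 19416208964849633809817879632388) (.leaf 0))) (.node (.node (.leaf 48576028638866234787143030168645011536132) (.leaf 0)) (.node (.leaf 19762987749490951838828824008705) (.leaf 0)))) (.node (.node (.node (.leaf 9328274176) (.leaf 0)) (.node (.leaf 22417053822466352023055271733255) (.leaf 0))) (.node (.node (.leaf 10905356544) (.leaf 0)) (.node (.leaf 34563874794840003054969311775748) (.leaf 0)))))) (.node (.node (.node (.node (.node (.leaf 1946186500) (.leaf 0)) (.node (.leaf 16123136000) (.leaf 0))) (.node (.node (.leaf 7546665027284745862783910838529) (.leaf 0)) (.node (.leaf 32345171243706728247946026949392) (.leaf 0)))) (.node (.node (.node (.leaf 7902189060) (.leaf 0)) (.node (.leaf 19094403414211277320048498192385) (.leaf 0))) (.node (.node (.leaf 17133349533858140019237899495952) (.leaf 0)) (.node (.leaf 2446564302229114909883789577627540996) (.leaf 0))))) (.node (.node (.node (.node (.leaf 1624196145452792782425662963463) (.leaf 0)) (.node (.leaf 18555883780) (.leaf 0))) (.node (.node (.leaf 14142449828938617844588284547328) (.leaf 0)) (.node (.leaf 34880489369124661726115600187920) (.leaf 0)))) (.node (.node (.node (.leaf 5853125350168346415472761191681) (.leaf 0)) (.node (.leaf 18014953700993102557692469191174) (.leaf 0))) (.node (.node (.leaf 12599697922) (.leaf 0)) (.node (.leaf 38995686988413376235561249981447) (.leaf 0)))))))) (.node (.node (.node (.node (.node (.node (.node (.leaf 352326661) (.leaf 37029885656366612162847669657349)) (.node (.leaf 13740749317) (.leaf 0))) (.node (.node (.leaf 10477953280059844206050829954832) (.leaf 0)) (.node (.leaf 25343569236105611687203503788550) (.leaf 0)))) (.node (.node (.node (.leaf 6392216580) (.leaf 0)) (.node (.leaf 25690104271078549863831546638352) (.leaf 0))) (.node (.node (.leaf 15548544271735339128605357652496) (.leaf 0)) (.node (.leaf 2328114648832718496771559465823545095) (.leaf 0))))) (.node (.node (.node (.node (.leaf 5097637163332209829856283071090572076364053832428071884792718492034772714468984953545219) (.leaf 0)) (.node (.leaf 23154734237408236858438729269776) (.leaf 0))) (.node (.node (.leaf 1862060460711253225006820249600) (.leaf 0)) (.node (.leaf 2131792872426961631101794506380704272) (.leaf 0)))) (.node (.node (.node (.leaf 2484752067463487965733081158657729989463688018408894137551253608526509966055925398252121315866709200899) (.leaf 0)) (.node (.leaf 28225421187570663657001523015440) (.leaf 0))) (.node (.node (.leaf 1323703092707906717070913401744547376712787899430976337484296) (.leaf 0)) (.node (.leaf 37059556927220323884376518612999) (.leaf 0)))))) (.node (.node (.node (.node (.node (.leaf 9604702507580114761494715674493898200839508724290002396924306468740464088340376762474496) (.leaf 0)) (.node (.leaf 15686936064) (.leaf 0))) (.node (.node (.leaf 11745721750555486033891798629392) (.leaf 0)) (.node (.leaf 30493420124598135673033727410192) (.leaf 0)))) (.node (.node (.node (.leaf 7365309955) (.leaf 0)) (.node (.leaf 40578393430881496531715092166826493673615766829339661657838485210294554201550040354885221271650569607682) (.leaf 0))) (.node (.node (.leaf 16350749364468289276082487563780) (.leaf 0)) (.node (.leaf 13471038334791223617286158976453848263907733102736023944121422329765360338936705049336935113488) (.leaf 0))))) (.node (.node (.node (.node (.leaf 4932576512) (.leaf 0)) (.node (.leaf 18019004675) (.leaf 0))) (.node (.node (.leaf 14280928805913742277270805998096) (.leaf 0)) (.node (.leaf 34301327085543833187911326679299) (.leaf 0)))) (.node (.node (.node (.leaf 9210339174279794315625865752848) (.leaf 0)) (.node (.leaf 29493128758428142433066568135952) (.leaf 0))) (.node (.node (.leaf 12264331780) (.leaf 0)) (.node (.leaf 39515649761322814398581058992643) (.leaf 0))))))) (.node (.node (.node (.node (.node (.node (.leaf 721431042) (.leaf 41531046217309176575938843950600)) (.node (.leaf 14747397632) (.leaf 0))) (.node (.node (.leaf 3520869512418853973994703462917) (.leaf 0)) (.node (.leaf 25769428769869064689405388658432) (.leaf 0)))) (.node (.node (.node (.leaf 111531962934584687414325886099131619148907640037638) (.leaf 0)) (.node (.leaf 19948413955) (.leaf 0))) (.node (.node (.leaf 4149820876975464669475625768704) (.leaf 0)) (.node (.leaf 35044142639578122496780215173893) (.leaf 0))))) (.node (.node (.node (.node (.leaf 4043370500) (.leaf 0)) (.node (.leaf 17062634246) (.leaf 0))) (.node (.node (.leaf 11557610021824628008824783050256) (.leaf 0)) (.node (.leaf 30324879091498109371428940999940) (.leaf 0)))) (.node (.node (.node (.leaf 9865153281) (.leaf 0)) (.node (.leaf 1881907183418807873232845393809840385) (.leaf 0))) (.node (.node (.leaf 11358348292) (.leaf 0)) (.node (.leaf 39000657109131402995519312810512) (.leaf 0)))))) (.node (.node (.node (.node (.node (.leaf 2415955712) (.leaf 0)) (.node (.leaf 16576142081) (.leaf 0))) (.node (.node (.leaf 1767966288508915349833526566403) (.leaf 0)) (.node (.leaf 20540394826906920508129519082240) (.leaf 0)))) (.node (.node (.node (.leaf 8355180800) (.leaf 0)) (.node (.leaf 27591569593319972338071205062416) (.leaf 0))) (.node (.node (.leaf 17450250850235638623207711323408) (.leaf 0)) (.node (.leaf 37678516670993547121545615406082) (.leaf 0))))) (.node (.node (.node (.node (.leaf 4010998262836114866413154406657) (.leaf 0)) (.node (.leaf 22020859817158967045109468706816) (.leaf 0))) (.node (.node (.leaf 4108973001585980877414562032868952909667114496) (.leaf 0)) (.node (.leaf 34910443453062299492167597473798) (.leaf 0)))) (.node (.node (.node (.leaf 4976669166962621720760036648193) (.leaf 0)) (.node (.leaf 30126873740533116451716849730320) (.leaf 0))) (.node (.node (.leaf 13069650433) (.leaf 0)) (.node (.leaf 40267997997676219803836298205968) (.leaf 0))))))))) (.node (.node (.node (.node (.node (.node (.node (.node (.leaf 251661826) (.leaf 39867212643221666355913829698310)) (.node (.leaf 13489087236) (.leaf 0))) (.node (.node (.leaf 10319621474390735908037011183376) (.leaf 0)) (.node (.leaf 29106913226835856762674604077824) (.leaf 0)))) (.node (.node (.node (.leaf 6190886915) (.leaf 0)) (.node (.leaf 19075905025) (.leaf 0))) (.node (.node (.leaf 15390164335707037317616384383760) (.leaf 0)) (.node (.leaf 18193311136190536010251888541444) (.leaf 0))))) (.node (.node (.node (.node (.leaf 2768282624) (.leaf 0)) (.node (.leaf 16811026688) (.leaf 0))) (.node (.node (.leaf 11844806217425465769618642573316) (.leaf 0)) (.node (.leaf 22120014930631530633873525502724) (.leaf 0)))) (.node (.node (.node (.leaf 7784219706417657772348725586704) (.leaf 0)) (.node (.leaf 28066990249984347029764575410192) (.leaf 0))) (.node (.node (.leaf 17207512977208992576226149276418) (.leaf 0)) (.node (.leaf 38207831240696341788345000581392) (.leaf 0)))))) (.node (.node (.node (.node (.node (.leaf 1375752448) (.leaf 41580564272227774177605540947721)) (.node (.leaf 15468828931) (.leaf 0))) (.node (.node (.leaf 2892002319322433806332481005830) (.leaf 0)) (.node (.leaf 31869831131725085486473564847376) (.leaf 0)))) (.node (.node (.node (.leaf 6333357682710514783107424518149) (.leaf 0)) (.node (.leaf 20753732608) (.leaf 0))) (.node (.node (.leaf 5912655804282856137062751412995) (.leaf 0)) (.node (.leaf 33439512882960234800362815646979) (.leaf 0))))) (.node (.node (.node (.node (.leaf 4680871681) (.leaf 0)) (.node (.leaf 17767342598) (.leaf 0))) (.node (.node (.leaf 13756196745088060465140436426768) (.leaf 0)) (.node (.leaf 32830693760077666559703738652425) (.leaf 0)))) (.node (.node (.node (.leaf 9051829958746657500405052741392) (.leaf 0)) (.node (.leaf 29334241526902784833320678073872) (.leaf 0))) (.node (.node (.leaf 1592804738963307743860915038513426665416266044294013546058078168042087418611671235862349920356895215108) (.leaf 0)) (.node (.leaf 39208638440401992179642647346439) (.leaf 0))))))) (.node (.node (.node (.node (.node (.node (.leaf 452991488) (.leaf 129586655809087897742385820976576000268722235183929891624377816848)) (.node (.leaf 14478958080) (.leaf 0))) (.node (.node (.leaf 8012113330420983063594817053185) (.leaf 0)) (.node (.leaf 30374564204853404776150570600464) (.leaf 0)))) (.node (.node (.node (.leaf 6979428102) (.leaf 0)) (.node (.leaf 19696714246) (.leaf 0))) (.node (.node (.leaf 64526980399862799099907735023492731603728) (.leaf 0)) (.node (.leaf 3323185055701104959637078198017) (.leaf 0))))) (.node (.node (.node (.node (.leaf 3808485888) (.leaf 0)) (.node (.leaf 1534021006103917160780333054238582531) (.leaf 0))) (.node (.node (.leaf 13488607210661187857479911873040) (.leaf 0)) (.node (.leaf 22248773463996179932352620948742) (.leaf 0)))) (.node (.node (.node (.leaf 9596713730) (.leaf 0)) (.node (.leaf 28700705537848876728890324877840) (.leaf 0))) (.node (.node (.leaf 170037353071726346992467950960616149927713784677725007675287069220231390986821285225721935850256675515400267916442640964088725077221348865) (.leaf 0)) (.node (.leaf 38841653971843089808005785503760) (.leaf 0)))))) (.node (.node (.node (.node (.node (.leaf 2164293632) (.leaf 0)) (.node (.leaf 16341019142) (.leaf 0))) (.node (.node (.leaf 12220997336121506864538285305616) (.leaf 0)) (.node (.leaf 1998406987195047595344043508412639745) (.leaf 0)))) (.node (.node (.node (.leaf 27197571756619015652918527114865179448493678147997559406841836287833449764400179695444994) (.leaf 0)) (.node (.leaf 25501981586457451774702503601155) (.leaf 0))) (.node (.node (.leaf 16816439150536994499071645324804) (.leaf 0)) (.node (.leaf 37574515276141603511233830614032) (.leaf 0))))) (.node (.node (.node (.node (.leaf 5620452864) (.leaf 0)) (.node (.leaf 18824323328) (.leaf 0))) (.node (.node (.leaf 14756269295684703597947550456848) (.leaf 0)) (.node (.leaf 18564681965412318587025683955458) (.leaf 0)))) (.node (.node (.node (.leaf 8200262384736521655152558558212) (.leaf 0)) (.node (.leaf 29968477786237704782073603229712) (.leaf 0))) (.node (.node (.leaf 12834765827) (.leaf 0)) (.node (.leaf 38857003702974736877773893189892) (.leaf 0)))))))) (.node (.node (.node (.node (.node (.node (.node (.leaf 302064623142856513572885758213) (.leaf 40664480256233718986584241644035)) (.node (.leaf 13975633925) (.leaf 0))) (.node (.node (.leaf 4654815334849344442107036704000) (.leaf 0)) (.node (.leaf 30919088723639953536039090578448) (.leaf 0)))) (.node (.node (.node (.leaf 5536152556051763342849907717892) (.leaf 0)) (.node (.leaf 19243760135) (.leaf 0))) (.node (.node (.leaf 2961392319074537806510474426368) (.leaf 0)) (.node (.leaf 24214654811820629642782995169797) (.leaf 0))))) (.node (.node (.node (.node (.leaf 3271606785) (.leaf 0)) (.node (.leaf 23312901024702967794754220205328) (.leaf 0))) (.node (.node (.leaf 13171713978975108102268978757904) (.leaf 0)) (.node (.leaf 18128904101993292052314087124226) (.leaf 0)))) (.node (.node (.node (.leaf 9076612101) (.leaf 0)) (.node (.leaf 28383797572379370314837101034512) (.leaf 0))) (.node (.node (.leaf 10636916992) (.leaf 0)) (.node (.leaf 38524707925210265603492336902928) (.leaf 0)))))) (.node (.node (.node (.node (.node (.leaf 9480369801607864359501679532309040765361089226863560859668980326526419073868858159818240) (.leaf 0)) (.node (.leaf 15888265729) (.leaf 0))) (.node (.node (.leaf 2416640371118174220433913551876) (.leaf 0)) (.node (.leaf 24140315091973704369348400101889) (.leaf 0)))) (.node (.node (.node (.leaf 7633749510) (.leaf 0)) (.node (.leaf 27115852976503383380705574659600) (.leaf 0))) (.node (.node (.leaf 16241789938156514981734837662982) (.leaf 0)) (.node (.leaf 32761314262868620039415845278211) (.leaf 0))))) (.node (.node (.node (.node (.leaf 5167461121) (.leaf 0)) (.node (.leaf 18287444230) (.leaf 0))) (.node (.node (.leaf 14439541535720183806217999619856) (.leaf 0)) (.node (.leaf 14271692005411659954173153224701095556463401889753170078426924451336180396637851919731440926480) (.leaf 0)))) (.node (.node (.node (.leaf 4441869851931962845271316000512) (.leaf 0)) (.node (.leaf 26304198995122189052700992450048) (.leaf 0))) (.node (.node (.leaf 12381774082) (.leaf 0)) (.node (.leaf 20763337521889605280925439130112) (.leaf 0))))))) (.node (.node (.node (.node (.node (.node (.leaf 989870593) (.leaf 41689504960189344480384784581896)) (.node (.leaf 15015837187) (.leaf 0))) (.node (.node (.leaf 4214119938985444225476466861312) (.leaf 0)) (.node (.leaf 23838245330898420637876636279812) (.leaf 0)))) (.node (.node (.node (.leaf 1530187429194328705247098182660) (.leaf 0)) (.node (.leaf 20216853510) (.leaf 0))) (.node (.node (.leaf 15801315624601876561717499032080) (.leaf 0)) (.node (.leaf 14687257598859196445496532571297746883527851670830053808137193855262234939021962747221783922448) (.leaf 0))))) (.node (.node (.node (.node (.leaf 4261477636) (.leaf 0)) (.node (.leaf 17297573376) (.leaf 0))) (.node (.node (.leaf 11433819040210639017909099322640) (.leaf 0)) (.node (.leaf 29592164037128836598565108197379) (.leaf 0)))) (.node (.node (.node (.leaf 10116815361) (.leaf 0)) (.node (.leaf 159829187373015001637932128033402996526463815577574052490051533227811828451943838810051330) (.leaf 0))) (.node (.node (.leaf 11626787840) (.leaf 0)) (.node (.leaf 166634529792330068612223513075933891430402) (.leaf 0)))))) (.node (.node (.node (.node (.node (.leaf 2396670427735415047161563321872) (.leaf 0)) (.node (.leaf 22679333301346294665566935398416) (.leaf 0))) (.node (.node (.leaf 3486228120847115404565098290437) (.leaf 0)) (.node (.leaf 24249266206920469164946578717705) (.leaf 0)))) (.node (.node (.node (.leaf 8573287937) (.leaf 0)) (.node (.leaf 27749968418814205733190341166864) (.leaf 0))) (.node (.node (.leaf 4357816942029480248555725660672) (.leaf 0)) (.node (.leaf 18223054791477697016954431259906) (.leaf 0))))) (.node (.node (.node (.node (.leaf 5788227586) (.leaf 0)) (.node (.leaf 24164973551916383925440560167424) (.leaf 0))) (.node (.node (.leaf 2550386554625234743763063019523) (.leaf 0)) (.node (.leaf 34737126860743340132231517763584) (.leaf 0)))) (.node (.node (.node (.leaf 8923089861500757483350176831747) (.leaf 0)) (.node (.leaf 30285319109671404939700533981712) (.leaf 0))) (.node (.node (.leaf 19698409047827322709101364034562) (.leaf 0)) (.node (.leaf 26205331605994693921605597446913) (.leaf 0)))))))))) (.node (.node (.node (.node (.node (.node (.node (.node (.node (.leaf 310830817031297000580088641964625679255061717221238465682612384364509031897721458394885) (.leaf 40203922058037823031161835908357)) (.node (.leaf 127472108050874808481667207882188962152933288917101451375436299069133191010725401697918465) (.leaf 0))) (.node (.node (.leaf 10096794911844597847973362145285) (.leaf 0)) (.node (.leaf 20253157981175398504501252112132) (.leaf 0)))) (.node (.node (.node (.leaf 6106999552) (.leaf 0)) (.node (.leaf 25234539843212026914717894375936) (.leaf 0))) (.node (.node (.leaf 64526980391365565523184596525085053974528) (.leaf 0)) (.node (.leaf 13672802743091469703549677829568198893137394485062253041025436998830633077913623913948306895120) (.leaf 0))))) (.node (.node (.node (.node (.leaf 2667617794) (.leaf 0)) (.node (.leaf 22654652098486633626855746545155) (.leaf 0))) (.node (.node (.leaf 12775690583324016520347764476688) (.leaf 0)) (.node (.leaf 2078885860351416323074959645790622467) (.leaf 0)))) (.node (.node (.node (.leaf 7704991846134848338412441758992) (.leaf 0)) (.node (.leaf 25492086830855360938562747025667) (.leaf 0))) (.node (.node (.leaf 17271999196047421397927976770311) (.leaf 0)) (.node (.leaf 36881291143711589719609576577794) (.leaf 0)))))) (.node (.node (.node (.node (.node (.leaf 1291865090) (.leaf 41927193074509596337060305870600)) (.node (.leaf 15351386625) (.leaf 0))) (.node (.node (.leaf 9398613956880572916579059122438) (.leaf 0)) (.node (.leaf 31790740031175620063018654812176) (.leaf 0)))) (.node (.node (.node (.leaf 6437345703820578801041367132688) (.leaf 0)) (.node (.leaf 20619512835) (.leaf 0))) (.node (.node (.leaf 64165337889684940647560838002352033111554) (.leaf 0)) (.node (.leaf 139326342168882408709077039482852664854785) (.leaf 0))))) (.node (.node (.node (.node (.leaf 4596981504) (.leaf 0)) (.node (.leaf 17666677761) (.leaf 0))) (.node (.node (.leaf 834023383864622651593275189781165328) (.leaf 0)) (.node (.leaf 34325890795925400605776492533520) (.leaf 0)))) (.node (.node (.node (.leaf 8972601947348120614640172407312) (.leaf 0)) (.node (.leaf 23773846456950459219406911186438) (.leaf 0))) (.node (.node (.leaf 11945559812) (.leaf 0)) (.node (.leaf 39396772383144785394814242965520) (.leaf 0))))))) (.node (.node (.node (.node (.node (.node (.leaf 703150697895039118086376521984) (.leaf 41011015593438112260390150782468)) (.node (.leaf 14344738307) (.leaf 0))) (.node (.node (.leaf 3545624535311375178223465798914) (.leaf 0)) (.node (.leaf 31156843479996011684321015634192) (.leaf 0)))) (.node (.node (.node (.leaf 6861985797) (.leaf 0)) (.node (.leaf 38163694796708918463635051681549529140616777744195918138849507447696133035460053883716747310774089977861) (.leaf 0))) (.node (.node (.leaf 4130009302875075170955289467140) (.leaf 0)) (.node (.leaf 3352894407718134612343021158149) (.leaf 0))))) (.node (.node (.node (.node (.leaf 3674266114) (.leaf 0)) (.node (.leaf 21842573406353435987211454749955) (.leaf 0))) (.node (.node (.leaf 13409420907203427711607306756624) (.leaf 0)) (.node (.leaf 33692284084711044764060516336912) (.leaf 0)))) (.node (.node (.node (.leaf 9462493952) (.leaf 0)) (.node (.leaf 28621477224218884869099373134096) (.leaf 0))) (.node (.node (.leaf 11039576324) (.leaf 0)) (.node (.leaf 38247985560679114438069775813382) (.leaf 0)))))) (.node (.node (.node (.node (.node (.leaf 7615442762652127223491136379033848678223983698631026539279729612251495831592113342020352) (.leaf 0)) (.node (.leaf 16257370117) (.leaf 0))) (.node (.node (.leaf 12141738194883114796514342359568) (.leaf 0)) (.node (.leaf 32424419580170607439847172002320) (.leaf 0)))) (.node (.node (.node (.leaf 8036408835) (.leaf 0)) (.node (.leaf 25571304717500158622179197662981) (.leaf 0))) (.node (.node (.leaf 17212331075505202972479870475280) (.leaf 0)) (.node (.leaf 37495270188665864568831907885328) (.leaf 0))))) (.node (.node (.node (.node (.leaf 5503010561) (.leaf 0)) (.node (.leaf 18690103555) (.leaf 0))) (.node (.node (.leaf 14677080876606759196839882336272) (.leaf 0)) (.node (.leaf 34959717682754653339615745983248) (.leaf 0)))) (.node (.node (.node (.leaf 9487652174631691234796952895235) (.leaf 0)) (.node (.leaf 29889189252990323438938700907280) (.leaf 0))) (.node (.node (.leaf 12734100992) (.leaf 0)) (.node (.leaf 39683984823686324121622693332230) (.leaf 0)))))))) (.node (.node (.node (.node (.node (.node (.node (.leaf 415947928760057413857745829904) (.leaf 40981389279513317405126622878736)) (.node (.leaf 13841414144) (.leaf 0))) (.node (.node (.leaf 10557179402511787838403233473552) (.leaf 0)) (.node (.leaf 30839865850176150082817030816016) (.leaf 0)))) (.node (.node (.node (.leaf 6526436353) (.leaf 0)) (.node (.leaf 25719754763519736835759761728000) (.leaf 0))) (.node (.node (.leaf 11310055259427591356148571215120) (.leaf 0)) (.node (.leaf 34717337198423431043316386415617) (.leaf 0))))) (.node (.node (.node (.node (.leaf 3137387008) (.leaf 0)) (.node (.leaf 8370308392229816336244210509010955598042333937063759983221549934894041556006726528579850479376) (.leaf 0))) (.node (.node (.leaf 13092630434212015199873790908944) (.leaf 0)) (.node (.leaf 19297516325648414578603376814083) (.leaf 0)))) (.node (.node (.node (.leaf 1599097703883474038917250033333567997498643770395632694363927623298064355745882780865608684801) (.leaf 0)) (.node (.leaf 20367018694991345409179934450434) (.leaf 0))) (.node (.node (.leaf 10502697219) (.leaf 0)) (.node (.leaf 38445479611580273814070213222928) (.leaf 0)))))) (.node (.node (.node (.node (.node (.leaf 1624195918779201393576460162561) (.leaf 0)) (.node (.leaf 137915804477165898387927178901436863103579129789748465682489784637904618377265112934440192) (.leaf 0))) (.node (.node (.leaf 3555544300566359221633349080320) (.leaf 0)) (.node (.leaf 23976905646746487106603659281921) (.leaf 0)))) (.node (.node (.node (.leaf 7499529728) (.leaf 0)) (.node (.leaf 27036625191778437672687758223632) (.leaf 0))) (.node (.node (.leaf 13612581344536848658222630853894) (.leaf 0)) (.node (.leaf 24937631515365724046226182295809) (.leaf 0))))) (.node (.node (.node (.node (.leaf 5050018821) (.leaf 0)) (.node (.leaf 18153224448) (.leaf 0))) (.node (.node (.leaf 12339999535890411078770980067587) (.leaf 0)) (.node (.leaf 1961093325189615446433761966417962245) (.leaf 0)))) (.node (.node (.node (.leaf 9289521322055049747315573146384) (.leaf 0)) (.node (.leaf 951189257293512940914892350212) (.leaf 0))) (.node (.node (.leaf 19000200287569446535672172127488) (.leaf 0)) (.node (.leaf 39476036586760047011122160761093) (.leaf 0))))))) (.node (.node (.node (.node (.node (.node (.leaf 855650816) (.leaf 41610275588749260528161998815752)) (.node (.leaf 14881617412) (.leaf 0))) (.node (.node (.leaf 11191046335008815799418749010192) (.leaf 0)) (.node (.leaf 25828851402912037601630040022532) (.leaf 0)))) (.node (.node (.node (.leaf 6120388399066059400114725723152) (.leaf 0)) (.node (.leaf 20082633728) (.leaf 0))) (.node (.node (.leaf 16261793051441449761026575758608) (.leaf 0)) (.node (.leaf 1938054131998868020454602318205166339) (.leaf 0))))) (.node (.node (.node (.node (.leaf 4144035332) (.leaf 0)) (.node (.leaf 17180131072) (.leaf 0))) (.node (.node (.leaf 13726454072053128036057543121424) (.leaf 0)) (.node (.leaf 1932537450327493664835272077941416962) (.leaf 0)))) (.node (.node (.node (.leaf 9999373056) (.leaf 0)) (.node (.leaf 24972168032622611046571140383233) (.leaf 0))) (.node (.node (.leaf 11492568067) (.leaf 0)) (.node (.leaf 30770832936888014665771273849350) (.leaf 0)))))) (.node (.node (.node (.node (.node (.leaf 2317457225678168510973320661520) (.leaf 0)) (.node (.leaf 16693513474) (.leaf 0))) (.node (.node (.leaf 12458650693824444695060173312272) (.leaf 0)) (.node (.leaf 23640197894203332436657707340291) (.leaf 0)))) (.node (.node (.node (.leaf 8455845632) (.leaf 0)) (.node (.leaf 27670847472908568432839336405008) (.leaf 0))) (.node (.node (.leaf 17380941621839857168038206906128) (.leaf 0)) (.node (.leaf 2338174377403746333795463005867132165) (.leaf 0))))) (.node (.node (.node (.node (.leaf 4704233048924914029546545639169) (.leaf 0)) (.node (.leaf 25135434824603113835848515199504) (.leaf 0))) (.node (.node (.leaf 5011405761442654907052828147456) (.leaf 0)) (.node (.leaf 34811410365539653255041332068610) (.leaf 0)))) (.node (.node (.node (.leaf 3743682096760202616770079515138) (.leaf 0)) (.node (.leaf 30206097898480603386226724235024) (.leaf 0))) (.node (.node (.leaf 119204048536232876634990051073877967675083182553028424599479982588996807779340664009069061) (.leaf 0)) (.node (.leaf 169952359458421122979370940754395482081282) (.leaf 0))))))))) (.node (.node (.node (.node (.node (.node (.node (.node (.leaf 257492661541621042208539935760) (.leaf 2672775066311341956942120531764878082)) (.node (.leaf 13623307012) (.leaf 0))) (.node (.node (.leaf 10398721339652393502376296715792) (.leaf 0)) (.node (.leaf 30681376053013990862765382704656) (.leaf 0)))) (.node (.node (.node (.leaf 6291472134) (.leaf 0)) (.node (.leaf 19142883334) (.leaf 0))) (.node (.node (.leaf 3585306391972269527352750404355) (.leaf 0)) (.node (.leaf 17609004193226473744451653117443) (.leaf 0))))) (.node (.node (.node (.node (.leaf 2902502400) (.leaf 0)) (.node (.leaf 16928468997) (.leaf 0))) (.node (.node (.leaf 5833366742130428782893158394373) (.leaf 0)) (.node (.leaf 33216449295395588511874913708048) (.leaf 0)))) (.node (.node (.node (.leaf 8791395075) (.leaf 0)) (.node (.leaf 980876395298606963703517554690) (.leaf 0))) (.node (.node (.leaf 17539393640070153694807278499078) (.leaf 0)) (.node (.leaf 36396020310584722692330798242052) (.leaf 0)))))) (.node (.node (.node (.node (.node (.leaf 8454569009119957711761303080058090961074791829322066548519663124169548864786268092913921) (.leaf 41897481757988109986504519088649)) (.node (.leaf 15569493760) (.leaf 0))) (.node (.node (.leaf 1470849194285137815249002437637) (.leaf 0)) (.node (.leaf 31949031791176953767177962398224) (.leaf 0)))) (.node (.node (.node (.leaf 7231090180) (.leaf 0)) (.node (.leaf 20871174917) (.leaf 0))) (.node (.node (.leaf 1067681243652526187570042203090721285) (.leaf 0)) (.node (.leaf 35024090413681765820402367644165) (.leaf 0))))) (.node (.node (.node (.node (.leaf 4815134215) (.leaf 0)) (.node (.leaf 17901562370) (.leaf 0))) (.node (.node (.leaf 8650935649852611108123516617217) (.leaf 0)) (.node (.leaf 2005554560701926035142979984944197120) (.leaf 0)))) (.node (.node (.node (.leaf 9131064845910793444377961185808) (.leaf 0)) (.node (.leaf 29413856621237189789273888694544) (.leaf 0))) (.node (.node (.leaf 12146889473) (.leaf 0)) (.node (.leaf 39554938792650197596004866488848) (.leaf 0))))))) (.node (.node (.node (.node (.node (.node (.leaf 587211264) (.leaf 215255276221319299980816022840710916078379949571553211609801464592)) (.node (.leaf 14613177862) (.leaf 0))) (.node (.node (.leaf 4412184602873462040709520487428) (.leaf 0)) (.node (.leaf 31315233843009507601121382956048) (.leaf 0)))) (.node (.node (.node (.leaf 7113647874) (.leaf 0)) (.node (.leaf 19830971650) (.leaf 0))) (.node (.node (.leaf 16103316930252624966659254261520) (.leaf 0)) (.node (.leaf 35955272099774078061588829626628) (.leaf 0))))) (.node (.node (.node (.node (.leaf 3925901568) (.leaf 0)) (.node (.leaf 23248824405043797207361559665408) (.leaf 0))) (.node (.node (.leaf 5491703149305491146188372607232) (.leaf 0)) (.node (.leaf 33850659260593931842447768493584) (.leaf 0)))) (.node (.node (.node (.leaf 9730933504) (.leaf 0)) (.node (.leaf 28780003213597768978032457167888) (.leaf 0))) (.node (.node (.leaf 11224128512) (.leaf 0)) (.node (.leaf 34603492805106048936127519311875) (.leaf 0)))))) (.node (.node (.node (.node (.node (.leaf 2298513409) (.leaf 0)) (.node (.leaf 16475477250) (.leaf 0))) (.node (.node (.leaf 12300199280057058169119668463120) (.leaf 0)) (.node (.leaf 29978448099703521462165954639120) (.leaf 0)))) (.node (.node (.node (.leaf 8220961028) (.leaf 0)) (.node (.leaf 27512341430805708000474305668880) (.leaf 0))) (.node (.node (.leaf 17371026767846015449796733581840) (.leaf 0)) (.node (.leaf 18460736483379532100536755078144) (.leaf 0))))) (.node (.node (.node (.node (.leaf 4694329604168494695669490063120) (.leaf 0)) (.node (.leaf 18941765633) (.leaf 0))) (.node (.node (.leaf 5046064984670232933000265369604) (.leaf 0)) (.node (.leaf 2279452785681072671003108270112162565) (.leaf 0)))) (.node (.node (.node (.leaf 9200391528173095321862261460224) (.leaf 0)) (.node (.leaf 30047578407077999776290020974864) (.leaf 0))) (.node (.node (.leaf 12952208128) (.leaf 0)) (.node (.leaf 40188769910719819227341063887888) (.leaf 0)))))))) (.node (.node (.node (.node (.node (.node (.node (.leaf 287210551597251424165681954817) (.leaf 41010768745897319733479912553989)) (.node (.leaf 187615373253534482696583673046204110913285893303099373374250872015814891625670534424128986410745644608423556630263176227696422274367440897) (.leaf 0))) (.node (.node (.leaf 5244075549127822923205533787654) (.leaf 0)) (.node (.leaf 19371749508907486066551346588672) (.leaf 0)))) (.node (.node (.node (.leaf 6610323712) (.leaf 0)) (.node (.leaf 19361202432) (.leaf 0))) (.node (.node (.leaf 15786231177129771476198747031056) (.leaf 0)) (.node (.leaf 152937837405544409846194550767413599826183) (.leaf 0))))) (.node (.node (.node (.node (.leaf 3405826560) (.leaf 0)) (.node (.leaf 23392408826870881670886806704400) (.leaf 0))) (.node (.node (.leaf 2807844232873644560956814007553) (.leaf 0)) (.node (.leaf 33533793305296657071937687838224) (.leaf 0)))) (.node (.node (.node (.leaf 9194054401) (.leaf 0)) (.node (.leaf 25987269117872202334598095447556) (.leaf 0))) (.node (.node (.leaf 10771136774) (.leaf 0)) (.node (.leaf 36445543427880189824705088244994) (.leaf 0)))))) (.node (.node (.node (.node (.node (.leaf 1828744197) (.leaf 0)) (.node (.leaf 16005666052) (.leaf 0))) (.node (.node (.leaf 10700935416247393765385532640272) (.leaf 0)) (.node (.leaf 32266008514302450446607222817552) (.leaf 0)))) (.node (.node (.node (.leaf 7767969280) (.leaf 0)) (.node (.leaf 22639861344430830888836040500736) (.leaf 0))) (.node (.node (.leaf 309747223554433751803572990300105029335211074132496) (.leaf 0)) (.node (.leaf 37336783187144663277983232161040) (.leaf 0))))) (.node (.node (.node (.node (.leaf 5268125958) (.leaf 0)) (.node (.leaf 18421664000) (.leaf 0))) (.node (.node (.leaf 2045298556116062254015189096450) (.leaf 0)) (.node (.leaf 19634259439271793011632195682306) (.leaf 0)))) (.node (.node (.node (.leaf 7373313829464200210007921340416) (.leaf 0)) (.node (.leaf 20193727792346053141586948138244) (.leaf 0))) (.node (.node (.leaf 12482438916) (.leaf 0)) (.node (.leaf 170207569611068563896032329336696015477504) (.leaf 0))))))) (.node (.node (.node (.node (.node (.node (.leaf 1073747457) (.leaf 41768734331629428432607587126024)) (.node (.leaf 15133279489) (.leaf 0))) (.node (.node (.leaf 1718432290881071545060031480321) (.leaf 0)) (.node (.leaf 31473860853252193239912457334020) (.leaf 0)))) (.node (.node (.node (.leaf 1619320472064423045944674635777) (.leaf 0)) (.node (.leaf 20351073280) (.leaf 0))) (.node (.node (.leaf 64526980399862806655694107614925073475600) (.leaf 0)) (.node (.leaf 36702986145671582034016560399120) (.leaf 0))))) (.node (.node (.node (.node (.leaf 4378918913) (.leaf 0)) (.node (.leaf 42266963407427410035234998881600020854838021441714402376359231348150756459062852522608876542050240302595) (.leaf 0))) (.node (.node (.leaf 784372951330165549570460277794695428) (.leaf 0)) (.node (.leaf 29938677764784204366419649897223) (.leaf 0)))) (.node (.node (.node (.leaf 25301704778269712965544953958394532080557204535416486621970161151191896197361125009022208) (.leaf 0)) (.node (.leaf 28943419081243402749973545322240) (.leaf 0))) (.node (.node (.leaf 342636007087874209388962289014602726285992949618438) (.leaf 0)) (.node (.leaf 39238267549967744647447281934864) (.leaf 0)))))) (.node (.node (.node (.node (.node (.leaf 2386779223352919416957984315142) (.leaf 0)) (.node (.leaf 22758624101329587786134560417808) (.leaf 0))) (.node (.node (.leaf 10606859453490213958712840707334) (.leaf 0)) (.node (.leaf 22129914219705444989686251714563) (.leaf 0)))) (.node (.node (.node (.leaf 8690730244) (.leaf 0)) (.node (.leaf 1796884793015008412416966745422571522) (.leaf 0))) (.node (.node (.leaf 17539388955482602547381738151426) (.leaf 0)) (.node (.leaf 37807240069951563799495375373314) (.leaf 0))))) (.node (.node (.node (.node (.leaf 5888892419) (.leaf 0)) (.node (.leaf 23947097465043704204253288659204) (.leaf 0))) (.node (.node (.leaf 15152413886149211581632011594000) (.leaf 0)) (.node (.leaf 35435097311499024895025418008336) (.leaf 0)))) (.node (.node (.node (.leaf 10301367556) (.leaf 0)) (.node (.leaf 30364620563313483378998758339088) (.leaf 0))) (.node (.node (.leaf 20144062626266781114363944287233) (.leaf 0)) (.node (.leaf 24284049873949603314404996315904) (.leaf 0))))))))))) (.node (.node (.node (.node (.node (.node (.node (.node (.node (.node (.leaf 67109636) (.leaf 37282312540932423152567077465091)) (.node (.leaf 13354865665) (.leaf 0))) (.node (.node (.leaf 10106697827695970942120496230145) (.leaf 0)) (.node (.leaf 30483397676206348252795705202704) (.leaf 0)))) (.node (.node (.node (.leaf 6056667136) (.leaf 0)) (.node (.leaf 23783691873267536822401537098240) (.leaf 0))) (.node (.node (.leaf 14647534427343922844119504789254) (.leaf 0)) (.node (.leaf 35341254369193575526640755196420) (.leaf 0))))) (.node (.node (.node (.node (.leaf 16318497902629418574240030602124458559333679977595505429981472759952385480856775904217601) (.leaf 0)) (.node (.leaf 22664554560990824435885684270849) (.leaf 0))) (.node (.node (.leaf 12735981525832180842057519112720) (.leaf 0)) (.node (.leaf 33018694947653893308250501338640) (.leaf 0)))) (.node (.node (.node (.leaf 7665378067109171073272929906448) (.leaf 0)) (.node (.leaf 27947749740713251053053069503760) (.leaf 0))) (.node (.node (.leaf 17633284637176932551180458997762) (.leaf 0)) (.node (.leaf 160722063628021690112176341848301890596101) (.leaf 0)))))) (.node (.node (.node (.node (.node (.leaf 2266026594699469062077945809698889185153981078668895717228239595392496416540492179983469117197535693056) (.leaf 41887578388789554360948929765896)) (.node (.leaf 15284276740) (.leaf 0))) (.node (.node (.leaf 10388965761635285730049151599120) (.leaf 0)) (.node (.leaf 1938054132199776380101685358874633488) (.leaf 0)))) (.node (.node (.node (.leaf 6397734267088676968874301789200) (.leaf 0)) (.node (.leaf 20552402950) (.leaf 0))) (.node (.node (.leaf 914504529682906408777301511651737856) (.leaf 0)) (.node (.leaf 2187603893819270280385375461517215746) (.leaf 0))))) (.node (.node (.node (.node (.leaf 4546694656) (.leaf 0)) (.node (.leaf 33631680056160223099974251247141633878990091400691718437148956156899912363124408537379696597551244646657) (.leaf 0))) (.node (.node (.leaf 14003731182419754987604743893264) (.leaf 0)) (.node (.leaf 34286270745597033878638297257232) (.leaf 0)))) (.node (.node (.node (.leaf 8933096896088345151319937519120) (.leaf 0)) (.node (.leaf 29215399283131388326934791333392) (.leaf 0))) (.node (.node (.leaf 11878277892) (.leaf 0)) (.node (.leaf 39356887351388331956516234994960) (.leaf 0))))))) (.node (.node (.node (.node (.node (.node (.leaf 192345841458093078738720102917386610946343440) (.leaf 40847658585368320676632931126529)) (.node (.leaf 14277628422) (.leaf 0))) (.node (.node (.leaf 5169801564622339195235819592194) (.leaf 0)) (.node (.leaf 31117166005691213438224804547344) (.leaf 0)))) (.node (.node (.node (.leaf 6794875905) (.leaf 0)) (.node (.leaf 19545754629) (.leaf 0))) (.node (.node (.leaf 1124290358585125676542876196353) (.leaf 0)) (.node (.leaf 3372700617210199570946394734849) (.leaf 0))))) (.node (.node (.node (.node (.leaf 3607156225) (.leaf 0)) (.node (.leaf 19406306502345442824866081463041) (.leaf 0))) (.node (.node (.leaf 13369782874103494427967947307536) (.leaf 0)) (.node (.leaf 33652445898830101568560560248848) (.leaf 0)))) (.node (.node (.node (.leaf 9395384064) (.leaf 0)) (.node (.leaf 28581853471555195783271183208720) (.leaf 0))) (.node (.node (.leaf 10972466432) (.leaf 0)) (.node (.leaf 38722812030303148205264609528336) (.leaf 0)))))) (.node (.node (.node (.node (.node (.leaf 2013296389) (.leaf 0)) (.node (.leaf 16190260229) (.leaf 0))) (.node (.node (.leaf 12102121695774343539203856406032) (.leaf 0)) (.node (.leaf 32384536890707929680816241656080) (.leaf 0)))) (.node (.node (.node (.leaf 7969298950) (.leaf 0)) (.node (.leaf 25541593854325854451186819670785) (.leaf 0))) (.node (.node (.leaf 17172722434414259245436295452688) (.leaf 0)) (.node (.leaf 235112814579438116934860112760655178858942318832150088749820046711086461991497815461895424) (.leaf 0))))) (.node (.node (.node (.node (.leaf 5435900672) (.leaf 0)) (.node (.leaf 18622993670) (.leaf 0))) (.node (.node (.leaf 5892817407140843903773229256966) (.leaf 0)) (.node (.leaf 147195225864905216568063668993333517260290) (.leaf 0)))) (.node (.node (.node (.leaf 9566867870098440884489673587472) (.leaf 0)) (.node (.leaf 19792635824080499634280985710593) (.leaf 0))) (.node (.node (.leaf 12666991104) (.leaf 0)) (.node (.leaf 2538746868468222421423369460532801796) (.leaf 0)))))))) (.node (.node (.node (.node (.node (.node (.node (.leaf 321870152614148079684920803333) (.leaf 18688566412103736463600071527680)) (.node (.leaf 7903819380998725857242789623635475972627894363684098929374147354651289857796253195884789184005) (.leaf 0))) (.node (.node (.leaf 4644910756724969307476043241218) (.leaf 0)) (.node (.leaf 30800243835343326657827582434320) (.leaf 0)))) (.node (.node (.node (.leaf 6459326464) (.leaf 0)) (.node (.leaf 24407618337654919593192803476227) (.leaf 0))) (.node (.node (.leaf 15588165984336707614750070019600) (.leaf 0)) (.node (.leaf 31988917729627771758117958756103) (.leaf 0))))) (.node (.node (.node (.node (.leaf 3070277120) (.leaf 0)) (.node (.leaf 16962023940) (.leaf 0))) (.node (.node (.leaf 12023067920809558523908152367363) (.leaf 0)) (.node (.leaf 20570117930455148382792185824519) (.leaf 0)))) (.node (.node (.node (.leaf 8908837381) (.leaf 0)) (.node (.leaf 28265040708993984302739219525136) (.leaf 0))) (.node (.node (.leaf 10452364801) (.leaf 0)) (.node (.leaf 38406373203609516169165644243984) (.leaf 0)))))) (.node (.node (.node (.node (.node (.leaf 1643997141452260635349373426704) (.leaf 0)) (.node (.leaf 15737216768) (.leaf 0))) (.node (.node (.leaf 11785350187806726056048406314768) (.leaf 0)) (.node (.leaf 32067892999972145266951771575056) (.leaf 0)))) (.node (.node (.node (.leaf 7432419840) (.leaf 0)) (.node (.leaf 26997358374462989806121454151440) (.leaf 0))) (.node (.node (.leaf 12597469152281289695980343549188) (.leaf 0)) (.node (.leaf 37138670317339588399788047236368) (.leaf 0))))) (.node (.node (.node (.node (.leaf 4982894592) (.leaf 0)) (.node (.leaf 18086114560) (.leaf 0))) (.node (.node (.leaf 7868565478599941960205598743808) (.leaf 0)) (.node (.leaf 33013743111938888008443598393604) (.leaf 0)))) (.node (.node (.node (.leaf 9250010755071221940404229379600) (.leaf 0)) (.node (.leaf 29532744199726821844258239031056) (.leaf 0))) (.node (.node (.leaf 12331441664) (.leaf 0)) (.node (.leaf 39673780734190139198730892638224) (.leaf 0))))))) (.node (.node (.node (.node (.node (.node (.leaf 788540928) (.leaf 41570660903029218552050220056328)) (.node (.leaf 14814507520) (.leaf 0))) (.node (.node (.leaf 9557065446205823062877868715524) (.leaf 0)) (.node (.leaf 26026921280292652364213938062084) (.leaf 0)))) (.node (.node (.node (.leaf 6080802274218505766842235133696) (.leaf 0)) (.node (.leaf 20015523840) (.leaf 0))) (.node (.node (.leaf 16221996497943419438771696859152) (.leaf 0)) (.node (.leaf 35524204362463997433218601101056) (.leaf 0))))) (.node (.node (.node (.node (.leaf 21913640427160281866452278381299929627826061042496867930265326132322912182925766164542464) (.leaf 0)) (.node (.leaf 17113021188) (.leaf 0))) (.node (.node (.leaf 2901933720488431499810799885056) (.leaf 0)) (.node (.leaf 33048479479745330052186079653124) (.leaf 0)))) (.node (.node (.node (.leaf 9932263170) (.leaf 0)) (.node (.leaf 24105609476217798772743871849729) (.leaf 0))) (.node (.node (.leaf 11425458182) (.leaf 0)) (.node (.leaf 19267894091848260975481080416769) (.leaf 0)))))) (.node (.node (.node (.node (.node (.leaf 865753562459499398576706022757270439006404281239459393882393551907596908242036732673858244880) (.leaf 0)) (.node (.leaf 16643251969) (.leaf 0))) (.node (.node (.leaf 7447635415423831193636151761410) (.leaf 0)) (.node (.leaf 20609720073569811646022930153729) (.leaf 0)))) (.node (.node (.node (.leaf 8405513219) (.leaf 0)) (.node (.leaf 27631206190820494864518530454800) (.leaf 0))) (.node (.node (.leaf 17489839241819103981130326626320) (.leaf 0)) (.node (.leaf 37772585380195809451559943717904) (.leaf 0))))) (.node (.node (.node (.node (.leaf 4813129157746886095653979560208) (.leaf 0)) (.node (.leaf 22917128707833037267797603970816) (.leaf 0))) (.node (.node (.leaf 4105233048222846844064174733315) (.leaf 0)) (.node (.leaf 18525069395312460971707620965891) (.leaf 0)))) (.node (.node (.node (.leaf 9883739870024813517033405702928) (.leaf 0)) (.node (.leaf 30166392845555545146209888902672) (.leaf 0))) (.node (.node (.leaf 13136760325) (.leaf 0)) (.node (.leaf 18881676595751518519264786160641) (.leaf 0))))))))) (.node (.node (.node (.node (.node (.node (.node (.node (.leaf 89630328947366284893240086666948306665736435225095129407229668637139220070057339669920613136) (.leaf 40228721886743533737768674040579)) (.node (.leaf 13556197124) (.leaf 0))) (.node (.node (.leaf 10359094866905610283625987709712) (.leaf 0)) (.node (.leaf 30641792950480986389211550774288) (.leaf 0)))) (.node (.node (.node (.leaf 6241219335) (.leaf 0)) (.node (.leaf 19109540352) (.leaf 0))) (.node (.node (.leaf 15429778719195624460445787625232) (.leaf 0)) (.node (.leaf 14239002420778927120080500454370584817737844423978303859084673943372733259762463166238008845840) (.leaf 0))))) (.node (.node (.node (.node (.leaf 2835392513) (.leaf 0)) (.node (.leaf 16878136581) (.leaf 0))) (.node (.node (.leaf 7120823400734995655981357103616) (.leaf 0)) (.node (.leaf 1933510907138080336858698028176124432) (.leaf 0)))) (.node (.node (.node (.leaf 7818940887093490960076023918851) (.leaf 0)) (.node (.leaf 20376920099685444090593716397057) (.leaf 0))) (.node (.node (.leaf 1148813011151955184416032303534315014) (.leaf 0)) (.node (.leaf 19515469934889277158254515902721) (.leaf 0)))))) (.node (.node (.node (.node (.node (.leaf 1442862337) (.leaf 41739023015107942082051162818569)) (.node (.leaf 15519160321) (.leaf 0))) (.node (.node (.leaf 4194316978481519375634944551425) (.leaf 0)) (.node (.leaf 31909537695807418279959663509008) (.leaf 0)))) (.node (.node (.node (.leaf 6283806609005468992065916392965) (.leaf 0)) (.node (.leaf 673250766983810458710866745241417926665523061339275336672075559625794364335954365265312018671453045050176953765243999665408055219706214748975581508509996227449575305292213157624545060240918122826529359306519886500785835376975964204535444805601049016432575508705454636505892519163154315530930468914832136196) (.leaf 0))) (.node (.node (.leaf 16207344317009690185948400207108) (.leaf 0)) (.node (.leaf 8822408501726971743053837389358125148787426945488389967843642883983027532237114751979794656784) (.leaf 0))))) (.node (.node (.node (.node (.leaf 4748024321) (.leaf 0)) (.node (.leaf 17834452486) (.leaf 0))) (.node (.node (.leaf 2055190818308650134980209417474) (.leaf 0)) (.node (.leaf 30478609272150581947356437264912) (.leaf 0)))) (.node (.node (.node (.leaf 9091449857959296810899694688272) (.leaf 0)) (.node (.leaf 29374287723582565576489815848976) (.leaf 0))) (.node (.node (.leaf 12079779588) (.leaf 0)) (.node (.leaf 39139314024875601956423117995012) (.leaf 0))))))) (.node (.node (.node (.node (.node (.node (.leaf 520101376) (.leaf 116833528649551102682665090398597015310289029704330939384325106960)) (.node (.leaf 14546067972) (.leaf 0))) (.node (.node (.leaf 3530770917112952549855369140993) (.leaf 0)) (.node (.leaf 31275618779500147171360216643344) (.leaf 0)))) (.node (.node (.node (.leaf 7046537990) (.leaf 0)) (.node (.leaf 19763861766) (.leaf 0))) (.node (.node (.leaf 1114391220626938737374424735489) (.leaf 0)) (.node (.leaf 35692822162353569562849804599044) (.leaf 0))))) (.node (.node (.node (.node (.leaf 3875595776) (.leaf 0)) (.node (.leaf 23531099516980166045132673702657) (.leaf 0))) (.node (.node (.leaf 3867531182371396906173193021956) (.leaf 0)) (.node (.leaf 31265929012382344529676683482128) (.leaf 0)))) (.node (.node (.node (.leaf 9663823616) (.leaf 0)) (.node (.leaf 27859040501900795225054774539792) (.leaf 0))) (.node (.node (.leaf 11157018627) (.leaf 0)) (.node (.leaf 2514373007643833828983028319499897093) (.leaf 0)))))) (.node (.node (.node (.node (.node (.leaf 2231403520) (.leaf 0)) (.node (.leaf 16408367366) (.leaf 0))) (.node (.node (.leaf 757427770145269053108176339570020356) (.leaf 0)) (.node (.leaf 32543305874176556189477496929296) (.leaf 0)))) (.node (.node (.node (.leaf 8170628608) (.leaf 0)) (.node (.leaf 25551499490260321889353564430851) (.leaf 0))) (.node (.node (.leaf 13647312649966421100883641112071) (.leaf 0)) (.node (.leaf 35608643901955165603902984863746) (.leaf 0))))) (.node (.node (.node (.node (.leaf 5687562757) (.leaf 0)) (.node (.leaf 32069810669817013743206366738377933131118195850489117233047990975907223644798602590807326877159990271670078427596930881147150714831356937661521506618437096661650805886092125640985571604065510268313985547573503896850270945128319010612757324580524460950332301472583472347400677924049491706490865894136505604) (.leaf 0))) (.node (.node (.leaf 8155774821269067871757680011520) (.leaf 0)) (.node (.leaf 18970726298297923493122375991047) (.leaf 0)))) (.node (.node (.node (.leaf 9725340817856989120092723840016) (.leaf 0)) (.node (.leaf 30007970068218510776982768386320) (.leaf 0))) (.node (.node (.leaf 12885094404) (.leaf 0)) (.node (.leaf 38857052664470431129517980437248) (.leaf 0)))))))) (.node (.node (.node (.node (.node (.node (.node (.leaf 183223286065824577417012838401) (.leaf 2687703147615980728995352226822267398)) (.node (.leaf 14042743809) (.leaf 0))) (.node (.node (.leaf 4590443208385141926955399013888) (.leaf 0)) (.node (.leaf 2005547861068960876963630061738719235) (.leaf 0)))) (.node (.node (.node (.leaf 5570811552605750120683701016582) (.leaf 0)) (.node (.leaf 19293989636) (.leaf 0))) (.node (.node (.leaf 15746774180671325483284725559312) (.leaf 0)) (.node (.leaf 150088046237305274284395822973709600212228) (.leaf 0))))) (.node (.node (.node (.node (.leaf 3338716674) (.leaf 0)) (.node (.leaf 23352515634865145974579139717392) (.leaf 0))) (.node (.node (.leaf 13211448650582746795139710079760) (.leaf 0)) (.node (.leaf 19842213796385031886005784964354) (.leaf 0)))) (.node (.node (.node (.leaf 9143721985) (.leaf 0)) (.node (.leaf 22426955529391905502573231089923) (.leaf 0))) (.node (.node (.leaf 10704026884) (.leaf 0)) (.node (.leaf 38564873805546188265330493812240) (.leaf 0)))))) (.node (.node (.node (.node (.node (.leaf 1761634304) (.leaf 0)) (.node (.leaf 15955375623) (.leaf 0))) (.node (.node (.leaf 7403063604938323121323760478721) (.leaf 0)) (.node (.leaf 24462180408882267916610184595456) (.leaf 0)))) (.node (.node (.node (.leaf 7700859395) (.leaf 0)) (.node (.leaf 27155802308001867396166136810768) (.leaf 0))) (.node (.node (.leaf 12825140636165260922259979115271) (.leaf 0)) (.node (.leaf 2185975933349843570941645920867096578) (.leaf 0))))) (.node (.node (.node (.node (.leaf 5200945158) (.leaf 0)) (.node (.leaf 18354554115) (.leaf 0))) (.node (.node (.leaf 14478959166531628386663572445712) (.leaf 0)) (.node (.leaf 34474684630224931676752726638592) (.leaf 0)))) (.node (.node (.node (.leaf 9408401646989763938606068598032) (.leaf 0)) (.node (.leaf 29691193724547615116783767439376) (.leaf 0))) (.node (.node (.leaf 12448883970) (.leaf 0)) (.node (.leaf 39832562638053462944300927076368) (.leaf 0))))))) (.node (.node (.node (.node (.node (.node (.leaf 27945331647521585167547464929530305496824998824690356530740136540832564800742070894594660572939197033940665425067748906787673440010965633292761087825995788188148083326940764890753733399903868899870931628519080303545996409923008303125450254054758212187970896227384649133898683657226506813274459436170100226) (.leaf 41729119645909386456496211020296)) (.node (.leaf 15066136832) (.leaf 0))) (.node (.node (.leaf 9497647195518946394429483653636) (.leaf 0)) (.node (.leaf 23214324457792953549561736132352) (.leaf 0)))) (.node (.node (.node (.leaf 3674300635046699504175694224132) (.leaf 0)) (.node (.leaf 20283963395) (.leaf 0))) (.node (.node (.leaf 3421915533979528769162826512385) (.leaf 0)) (.node (.leaf 14968358433730439642794475865502303798591453792402795523315567671579481935274473840556000965392) (.leaf 0))))) (.node (.node (.node (.node (.leaf 4328587523) (.leaf 0)) (.node (.leaf 17364683271) (.leaf 0))) (.node (.node (.leaf 13845323365539738349408778029072) (.leaf 0)) (.node (.leaf 29592162979318744506133324505861) (.leaf 0)))) (.node (.node (.node (.leaf 10167147778) (.leaf 0)) (.node (.leaf 29057260603361963536303429753616) (.leaf 0))) (.node (.node (.leaf 11693897732) (.leaf 0)) (.node (.leaf 36841692325142930361433146427399) (.leaf 0)))))) (.node (.node (.node (.node (.node (.leaf 1911416141780703942345253459460) (.leaf 0)) (.node (.leaf 22719010171188183209903940413712) (.leaf 0))) (.node (.node (.leaf 10596955933175930846142303067396) (.leaf 0)) (.node (.leaf 24481999841000485121326389056002) (.leaf 0)))) (.node (.node (.node (.leaf 8640397829) (.leaf 0)) (.node (.leaf 22511124042825888642650553198592) (.leaf 0))) (.node (.node (.leaf 17360970847320597115261784430338) (.leaf 0)) (.node (.leaf 18232959369602072362691657254150) (.leaf 0))))) (.node (.node (.node (.node (.leaf 5838560003) (.leaf 0)) (.node (.leaf 20842343242053060737857203741958) (.leaf 0))) (.node (.node (.leaf 8145871527628376007301440498176) (.leaf 0)) (.node (.leaf 25908149229776657126676777582337) (.leaf 0)))) (.node (.node (.node (.leaf 9225248554181646686353560234498) (.leaf 0)) (.node (.leaf 26324014120442173809932017873152) (.leaf 0))) (.node (.node (.leaf 20109404385291431771593634921476) (.leaf 0)) (.node (.leaf 44491007724951795820036006097731192279388244763948133392) (.leaf 0)))))))))) (.node (.node (.node (.node (.node (.node (.node (.node (.node (.leaf 184549890) (.leaf 2534852586337010726379817445829548036)) (.node (.leaf 13455532290) (.leaf 0))) (.node (.node (.leaf 10280007090902148765214184586000) (.leaf 0)) (.node (.leaf 30562277516968835984627677012752) (.leaf 0)))) (.node (.node (.node (.leaf 15479652430245230130038817846068833444094155240918396342492107923137505137723930795142914) (.leaf 0)) (.node (.leaf 19025573123) (.leaf 0))) (.node (.node (.leaf 7180286532792925623093519480835) (.leaf 0)) (.node (.leaf 25596191513307017891356696801540) (.leaf 0))))) (.node (.node (.node (.node (.leaf 102789097381307679658918672730693187312278773896421113337352) (.leaf 0)) (.node (.leaf 22847714227333085860257054510336) (.leaf 0))) (.node (.node (.leaf 12815236813619522993995678578448) (.leaf 0)) (.node (.leaf 33098039167046840579876844662032) (.leaf 0)))) (.node (.node (.node (.leaf 7744605776276253090564955761680) (.leaf 0)) (.node (.leaf 28026977374322469344415538227728) (.leaf 0))) (.node (.node (.leaf 17108343281068730061922922141443) (.leaf 0)) (.node (.leaf 37252673155497203907630165187333) (.leaf 0)))))) (.node (.node (.node (.node (.node (.leaf 3138556867340458399597114535799475216631174191680105480456) (.leaf 41392143965181459659188045095945)) (.node (.leaf 15401719044) (.leaf 0))) (.node (.node (.leaf 11547657237783195705671092818704) (.leaf 0)) (.node (.leaf 31830396575952166054924847936528) (.leaf 0)))) (.node (.node (.node (.leaf 6476929939721539163311610816528) (.leaf 0)) (.node (.leaf 20686622720) (.leaf 0))) (.node (.node (.leaf 891570476036307766218313441030) (.leaf 0)) (.node (.leaf 25942834520467220452328306011137) (.leaf 0))))) (.node (.node (.node (.node (.leaf 24773062641221300437076701148617963160946863913549462270254769602648908747170750838889728) (.leaf 0)) (.node (.leaf 8938662814333738659784967563768813828801225378321398754622210437575950994403917981523042902021) (.leaf 0))) (.node (.node (.leaf 14082817749497396891381248562960) (.leaf 0)) (.node (.leaf 22159650621437688449351217747717) (.leaf 0)))) (.node (.node (.node (.leaf 9012262874480762885510912872464) (.leaf 0)) (.node (.leaf 28859297187011338393481176613376) (.leaf 0))) (.node (.node (.leaf 11995892228) (.leaf 0)) (.node (.leaf 39159120838830576757526306651393) (.leaf 0))))))) (.node (.node (.node (.node (.node (.node (.leaf 402659075) (.leaf 33751538450391500188220102025992)) (.node (.leaf 14411848192) (.leaf 0))) (.node (.node (.leaf 10913696840208739070117047974672) (.leaf 0)) (.node (.leaf 31196364398407169835948094601232) (.leaf 0)))) (.node (.node (.node (.leaf 6912306945) (.leaf 0)) (.node (.leaf 19663196933) (.leaf 0))) (.node (.node (.leaf 8106273313522626386065635701251) (.leaf 0)) (.node (.leaf 36266738312340180241820325824016) (.leaf 0))))) (.node (.node (.node (.node (.leaf 3741376000) (.leaf 0)) (.node (.leaf 21822766970187779639758878337281) (.leaf 0))) (.node (.node (.leaf 13449034988460559880395723678224) (.leaf 0)) (.node (.leaf 143771389622807711623288252473546497049860) (.leaf 0)))) (.node (.node (.node (.leaf 9529603841) (.leaf 0)) (.node (.leaf 28661148729452448803152684312336) (.leaf 0))) (.node (.node (.leaf 44583176318103524587160525874508560989274872749626601647649022137677236459281799303023962439932358512898932413349074093835154267790300374598069172697927875902194561686231508497071362039612105768843331647539223329540715394278442726339800246453939385068062598695054304521234370962040481999100650262051853574) (.leaf 0)) (.node (.leaf 38287600548630611212283282508291) (.leaf 0)))))) (.node (.node (.node (.node (.node (.leaf 2113961219) (.leaf 0)) (.node (.leaf 16307702529) (.leaf 0))) (.node (.node (.leaf 7427825050249261098638757598720) (.leaf 0)) (.node (.leaf 1990625652633470967578585879481063428) (.leaf 0)))) (.node (.node (.node (.leaf 8069934592) (.leaf 0)) (.node (.leaf 22986488711113242396648733159427) (.leaf 0))) (.node (.node (.leaf 17252184524074618943406434433552) (.leaf 0)) (.node (.leaf 18495396764417202324469092230917) (.leaf 0))))) (.node (.node (.node (.node (.leaf 5570120449) (.leaf 0)) (.node (.leaf 18757213440) (.leaf 0))) (.node (.node (.leaf 12528172088701568200983376430608) (.leaf 0)) (.node (.leaf 2281075190282025486076690858485268224) (.leaf 0)))) (.node (.node (.node (.leaf 9487652250189554890342532205569) (.leaf 0)) (.node (.leaf 127480205158841031910428528568588904410640) (.leaf 0))) (.node (.node (.leaf 12801210885) (.leaf 0)) (.node (.leaf 38559404398464660487606097726724) (.leaf 0)))))))) (.node (.node (.node (.node (.node (.node (.node (.leaf 381290367805481586723540439300) (.leaf 11497577821702507101015804552177951652490418951)) (.node (.leaf 13908524035) (.leaf 0))) (.node (.node (.leaf 3961568232828758166039825507590) (.leaf 0)) (.node (.leaf 24031354305620382902990298935808) (.leaf 0)))) (.node (.node (.node (.leaf 6559991300) (.leaf 0)) (.node (.leaf 19176554241) (.leaf 0))) (.node (.node (.leaf 15667382057592775770872309882128) (.leaf 0)) (.node (.leaf 33068402652810442831716514054659) (.leaf 0))))) (.node (.node (.node (.node (.leaf 3204496896) (.leaf 0)) (.node (.leaf 19158714716595180544527102387971) (.leaf 0))) (.node (.node (.leaf 834023383851022236122610611565778704) (.leaf 0)) (.node (.leaf 18138806488939619135429701430272) (.leaf 0)))) (.node (.node (.node (.leaf 9009502211) (.leaf 0)) (.node (.leaf 1846187047499150007405005717851089159) (.leaf 0))) (.node (.node (.leaf 10569807104) (.leaf 0)) (.node (.leaf 38485602272818145323284118381840) (.leaf 0)))))) (.node (.node (.node (.node (.node (.leaf 1660969476) (.leaf 0)) (.node (.leaf 15821106945) (.leaf 0))) (.node (.node (.leaf 11864591346273551356458594019600) (.leaf 0)) (.node (.leaf 32147125242611050768737981621264) (.leaf 0)))) (.node (.node (.node (.leaf 7566639620) (.leaf 0)) (.node (.leaf 26967698512846700785607026682114) (.leaf 0))) (.node (.node (.leaf 16236863867673040271506696874246) (.leaf 0)) (.node (.leaf 24947535262353598371703191422980) (.leaf 0))))) (.node (.node (.node (.node (.leaf 5117128709) (.leaf 0)) (.node (.leaf 18220334340) (.leaf 0))) (.node (.node (.leaf 10453379596040264949907216017424) (.leaf 0)) (.node (.leaf 31265886019957884502018843932672) (.leaf 0)))) (.node (.node (.node (.leaf 9329177715715868252216162851600) (.leaf 0)) (.node (.leaf 126310418644001407023158669009201399867398) (.leaf 0))) (.node (.node (.leaf 19005152047726588267889174783238) (.leaf 0)) (.node (.leaf 2542641140633956353928699899583610374) (.leaf 0))))))) (.node (.node (.node (.node (.node (.node (.leaf 922760704) (.leaf 41649890274469302504273375031560)) (.node (.leaf 14948727302) (.leaf 0))) (.node (.node (.leaf 11230751085702418924667377041936) (.leaf 0)) (.node (.leaf 31513363788891784641515903752208) (.leaf 0)))) (.node (.node (.node (.leaf 1356875521462920563103709011204) (.leaf 0)) (.node (.leaf 20149743620) (.leaf 0))) (.node (.node (.leaf 16301353637731063876930005665808) (.leaf 0)) (.node (.leaf 32439341653793565623446581465346) (.leaf 0))))) (.node (.node (.node (.node (.leaf 4211145217) (.leaf 0)) (.node (.leaf 34760407153875921191678632252529976887238732223385963061014435782367524522599811626097933634595165831937) (.leaf 0))) (.node (.node (.leaf 2065087765088788952264537565696) (.leaf 0)) (.node (.leaf 32191762561764409331910439084037) (.leaf 0)))) (.node (.node (.node (.leaf 10049705473) (.leaf 0)) (.node (.leaf 1829338470558093426318733750868912129) (.leaf 0))) (.node (.node (.leaf 11559677952) (.leaf 0)) (.node (.leaf 2546532436817676633773936257888585987) (.leaf 0)))))) (.node (.node (.node (.node (.node (.leaf 2357071458051027955676862253840) (.leaf 0)) (.node (.leaf 16760694274) (.leaf 0))) (.node (.node (.leaf 12498268704090490716962177424400) (.leaf 0)) (.node (.leaf 2115560448024816044939123144828109831) (.leaf 0)))) (.node (.node (.node (.leaf 8522955520) (.leaf 0)) (.node (.leaf 27710354639788528468049084483856) (.leaf 0))) (.node (.node (.leaf 17569098534173223395423173032208) (.leaf 0)) (.node (.leaf 37851809764816887458246116295952) (.leaf 0))))) (.node (.node (.node (.node (.leaf 5721117698) (.leaf 0)) (.node (.leaf 25175093560557707949643462337040) (.leaf 0))) (.node (.node (.leaf 15033575798060320035712765296912) (.leaf 0)) (.node (.leaf 2295354536246725909329048950509069827) (.leaf 0)))) (.node (.node (.node (.leaf 9799560702932045005441460093443) (.leaf 0)) (.node (.leaf 30245646546627748983581633075984) (.leaf 0))) (.node (.node (.leaf 20074742441980759788651307794437) (.leaf 0)) (.node (.leaf 26185523960903217994708218462976) (.leaf 0))))))))) (.node (.node (.node (.node (.node (.node (.node (.node (.leaf 285216769) (.leaf 19064899806257173472782730829569)) (.node (.leaf 13673639424) (.leaf 0))) (.node (.node (.leaf 10438330131859064821985553958416) (.leaf 0)) (.node (.leaf 30720990285386850553759495362320) (.leaf 0)))) (.node (.node (.node (.leaf 6325106692) (.leaf 0)) (.node (.leaf 31009562354050225167192657533897664559214654844548918544) (.leaf 0))) (.node (.node (.leaf 881645950635908779099704794626) (.leaf 0)) (.node (.leaf 33385312356110814871431707404035) (.leaf 0))))) (.node (.node (.node (.node (.leaf 2969612295) (.leaf 0)) (.node (.leaf 23115120458382559452561796170768) (.leaf 0))) (.node (.node (.leaf 12973798768541540356677655609872) (.leaf 0)) (.node (.leaf 25873454343237400609906141210881) (.leaf 0)))) (.node (.node (.node (.leaf 8841727488) (.leaf 0)) (.node (.leaf 28185770611865351836386447322640) (.leaf 0))) (.node (.node (.leaf 17361128763255784452119590869511) (.leaf 0)) (.node (.leaf 36851583000620379857453997676547) (.leaf 0)))))) (.node (.node (.node (.node (.node (.leaf 1560304640) (.leaf 0)) (.node (.leaf 122467711853507097090747817712194518903866349902000305457208771128416992810837956263912197) (.leaf 0))) (.node (.node (.leaf 3510975663511127778458066780419) (.leaf 0)) (.node (.leaf 26036834849802810847465046311425) (.leaf 0)))) (.node (.node (.node (.leaf 7298200070) (.leaf 0)) (.node (.leaf 26883516701228701708707072041728) (.leaf 0))) (.node (.node (.leaf 841164386327215220206216862410759425) (.leaf 0)) (.node (.leaf 36994927375114407108755022946821) (.leaf 0))))) (.node (.node (.node (.node (.leaf 4865430788) (.leaf 0)) (.node (.leaf 17968672256) (.leaf 0))) (.node (.node (.leaf 14241437128395846230419303340560) (.leaf 0)) (.node (.leaf 34271430425582627063966438974721) (.leaf 0)))) (.node (.node (.node (.leaf 9170721239571612301122305333776) (.leaf 0)) (.node (.leaf 29453398846965918402438796359440) (.leaf 0))) (.node (.node (.leaf 12213999361) (.leaf 0)) (.node (.leaf 39089797481114278978611407125254) (.leaf 0))))))) (.node (.node (.node (.node (.node (.node (.leaf 654321153) (.leaf 1333100421230177843538775124695383814397967904766780950726152)) (.node (.leaf 14680287747) (.leaf 0))) (.node (.node (.leaf 3709035340580139472241622521345) (.leaf 0)) (.node (.leaf 20510658878521859615056709295620) (.leaf 0)))) (.node (.node (.node (.leaf 7180757760) (.leaf 0)) (.node (.leaf 19881010950) (.leaf 0))) (.node (.node (.leaf 2575160240310096248829709941248) (.leaf 0)) (.node (.leaf 3735026854769570599310468943690806956655263831444395586859921196898817462008958612915439482817964315634757136) (.leaf 0))))) (.node (.node (.node (.node (.leaf 3993038081) (.leaf 0)) (.node (.leaf 135491560016558172105298638730895297294530155842545564496792539874762886027355760944739845) (.leaf 0))) (.node (.node (.leaf 6026493548508230434155892075011) (.leaf 0)) (.node (.leaf 33880460188741797320902224046854) (.leaf 0)))) (.node (.node (.node (.leaf 9798043392) (.leaf 0)) (.node (.leaf 27685711593650048875322375416067) (.leaf 0))) (.node (.node (.leaf 11291238400) (.leaf 0)) (.node (.leaf 38574777250302607599207549248005) (.leaf 0)))))) (.node (.node (.node (.node (.node (.leaf 2348845827) (.leaf 0)) (.node (.leaf 19430996923264478688995908434951) (.leaf 0))) (.node (.node (.leaf 4570661555198787749769648296192) (.leaf 0)) (.node (.leaf 1993214432846646869358526686474467077) (.leaf 0)))) (.node (.node (.node (.leaf 8288070915) (.leaf 0)) (.node (.leaf 25566355979657566067280404556035) (.leaf 0))) (.node (.node (.leaf 17410648858236702565512626849040) (.leaf 0)) (.node (.leaf 2463438811461347651570284888382817539) (.leaf 0))))) (.node (.node (.node (.node (.leaf 4001094062501058396538150066180) (.leaf 0)) (.node (.leaf 18992098052) (.leaf 0))) (.node (.node (.leaf 62697952294034610468040502613282098614288) (.leaf 0)) (.node (.leaf 34870829371805167182635367186434) (.leaf 0)))) (.node (.node (.node (.leaf 1802590150656269542324504121860) (.leaf 0)) (.node (.leaf 30087285122276059916055190205200) (.leaf 0))) (.node (.node (.leaf 13019318021) (.leaf 0)) (.node (.leaf 37426016646415649446776170257412) (.leaf 0)))))))) (.node (.node (.node (.node (.node (.node (.node (.leaf 74285469303075964935091519493) (.leaf 41021005551948497818943962128134)) (.node (.leaf 14143408640) (.leaf 0))) (.node (.node (.leaf 10755322873251671747094630112528) (.leaf 0)) (.node (.leaf 31038079891960753854744231090448) (.leaf 0)))) (.node (.node (.node (.leaf 6677433601) (.leaf 0)) (.node (.leaf 19411252482) (.leaf 0))) (.node (.node (.leaf 15825838533737032073809888288272) (.leaf 0)) (.node (.leaf 36108528985968171545386081767696) (.leaf 0))))) (.node (.node (.node (.node (.leaf 3472936448) (.leaf 0)) (.node (.leaf 21708873313143248130882068987392) (.leaf 0))) (.node (.node (.leaf 4402311230146805603140982870275) (.leaf 0)) (.node (.leaf 31889847467636172406326175100164) (.leaf 0)))) (.node (.node (.node (.leaf 9261164290) (.leaf 0)) (.node (.leaf 25605985021371716072664434129926) (.leaf 0))) (.node (.node (.leaf 10838246659) (.leaf 0)) (.node (.leaf 36564385898325177438469546363904) (.leaf 0)))))) (.node (.node (.node (.node (.node (.leaf 1879076608) (.leaf 0)) (.node (.leaf 16072817920) (.leaf 0))) (.node (.node (.leaf 2218571627105515381749524223493) (.leaf 0)) (.node (.leaf 23739224634865425626619057470725) (.leaf 0)))) (.node (.node (.node (.leaf 7835079168) (.leaf 0)) (.node (.leaf 27234696580316327023906400513808) (.leaf 0))) (.node (.node (.leaf 17093488453944487766149159720720) (.leaf 0)) (.node (.leaf 18911342426439041939767323433730) (.leaf 0))))) (.node (.node (.node (.node (.leaf 5335235842) (.leaf 0)) (.node (.leaf 18488773888) (.leaf 0))) (.node (.node (.leaf 8641038476398881253833706586375) (.leaf 0)) (.node (.leaf 34840867807639020551064009217552) (.leaf 0)))) (.node (.node (.node (.leaf 7521867389757083242876756886788) (.leaf 0)) (.node (.leaf 22491344505259719037340574819591) (.leaf 0))) (.node (.node (.leaf 12549548801) (.leaf 0)) (.node (.leaf 169952359458421086711596352385888985064964) (.leaf 0))))))) (.node (.node (.node (.node (.node (.node (.leaf 1124090372) (.leaf 41808349017349470408718996896008)) (.node (.leaf 15183611908) (.leaf 0))) (.node (.node (.leaf 4204216645344752536942087782149) (.leaf 0)) (.node (.leaf 31671757778682739437385063525392) (.leaf 0)))) (.node (.node (.node (.leaf 6318472179093599730936615821584) (.leaf 0)) (.node (.leaf 20418183168) (.leaf 0))) (.node (.node (.leaf 3402110457855419558536815867905) (.leaf 0)) (.node (.leaf 36742595995688345446058087871248) (.leaf 0))))) (.node (.node (.node (.node (.leaf 4429252352) (.leaf 0)) (.node (.leaf 17482125570) (.leaf 0))) (.node (.node (.leaf 7606109572108199290152253659653) (.leaf 0)) (.node (.leaf 29571926241119169146977570007045) (.leaf 0)))) (.node (.node (.node (.leaf 10267812610) (.leaf 0)) (.node (.leaf 29101893162369907226135419458310) (.leaf 0))) (.node (.node (.leaf 350034651521631934436869529245123011123935346605318) (.leaf 0)) (.node (.leaf 39277375620211504262466966135824) (.leaf 0)))))) (.node (.node (.node (.node (.node (.leaf 2499843072) (.leaf 0)) (.node (.leaf 22798215893016921021312038680592) (.leaf 0))) (.node (.node (.leaf 12656726842507748708537847540240) (.leaf 0)) (.node (.leaf 26170550810164381321705151561737) (.leaf 0)))) (.node (.node (.node (.leaf 8757840128) (.leaf 0)) (.node (.leaf 22308102556403859845980094646273) (.leaf 0))) (.node (.node (.leaf 1149461979149440844460972090075389443) (.leaf 0)) (.node (.leaf 37767629464356163093126241632004) (.leaf 0))))) (.node (.node (.node (.node (.leaf 17561995712066265313516726662760104894722933010528108074475656575386228795521461999723008) (.leaf 0)) (.node (.leaf 24273914239877954474510475598598) (.leaf 0))) (.node (.node (.leaf 15192212857498881203514504181008) (.leaf 0)) (.node (.leaf 32949553155484128848645487499273) (.leaf 0)))) (.node (.node (.node (.leaf 10368477441) (.leaf 0)) (.node (.leaf 30404134908190497305705352233488) (.leaf 0))) (.node (.node (.leaf 13254202624) (.leaf 0)) (.node (.leaf 40545627887708583190096813017872) (.leaf 0)))))))))))))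

def par : CfsgLib.CosetEnum.Tree :=
  .node (.node (.node (.node (.node (.node (.node (.node (.node (.node (.node (.leaf 0) (.leaf 32736)) (.node (.leaf 16355) (.leaf 0))) (.node (.node (.leaf 8164) (.leaf 0)) (.node (.leaf 24068) (.leaf 0)))) (.node (.node (.node (.leaf 3588) (.leaf 36836)) (.node (.leaf 20448) (.leaf 0))) (.node (.node (.leaf 12263) (.leaf 0)) (.node (.leaf 28641) (.leaf 0))))) (.node (.node (.node (.node (.leaf 705) (.leaf 34784)) (.node (.leaf 18400) (.leaf 0))) (.node (.node (.leaf 10209) (.leaf 0)) (.node (.leaf 26594) (.leaf 0)))) (.node (.node (.node (.leaf 6112) (.leaf 38880)) (.node (.leaf 22500) (.leaf 0))) (.node (.node (.leaf 14304) (.leaf 0)) (.node (.leaf 30689) (.leaf 0)))))) (.node (.node (.node (.node (.node (.leaf 992) (.leaf 33761)) (.node (.leaf 17377) (.leaf 0))) (.node (.node (.leaf 9184) (.leaf 0)) (.node (.leaf 25575) (.leaf 0)))) (.node (.node (.node (.leaf 5089) (.leaf 37857)) (.node (.leaf 21472) (.leaf 0))) (.node (.node (.leaf 13286) (.leaf 0)) (.node (.leaf 29664) (.leaf 0))))) (.node (.node (.node (.node (.leaf 3045) (.leaf 35814)) (.node (.leaf 19429) (.leaf 0))) (.node (.node (.leaf 11232) (.leaf 0))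 (.node (.leaf 27616) (.leaf 0)))) (.node (.node (.node (.leaf 7139) (.leaf 5353)) (.node (.leaf 23525) (.leaf 0))) (.node (.node (.leaf 15329) (.leaf 0)) (.node (.leaf 31713) (.leaf 0))))))) (.node (.node (.node (.node (.node (.node (.leaf 324) (.leaf 33252)) (.node (.leaf 15361) (.leaf 0))) (.node (.node (.leaf 8677) (.leaf 0)) (.node (.leaf 25056) (.leaf 0)))) (.node (.node (.node (.leaf 4576) (.leaf 37345)) (.node (.leaf 20963) (.leaf 0))) (.node (.node (.leaf 12773) (.leaf 0)) (.node (.leaf 29152) (.leaf 0))))) (.node (.node (.node (.node (.leaf 2532) (.leaf 35299)) (.node (.leaf 18914) (.leaf 0))) (.node (.node (.leaf 10720) (.leaf 0)) (.node (.leaf 27104) (.leaf 0)))) (.node (.node (.node (.leaf 6624) (.leaf 39392)) (.node (.leaf 23012) (.leaf 0))) (.node (.node (.leaf 14818) (.leaf 0)) (.node (.leaf 31203) (.leaf 0)))))) (.node (.node (.node (.node (.node (.leaf 1507) (.leaf 30144)) (.node (.leaf 17888) (.leaf 0))) (.node (.node (.leaf 9697) (.leaf 0)) (.node (.leaf 26084) (.leaf 0)))) (.node (.node (.node (.leaf 5601) (.leaf 38369)) (.node (.leaf 21984) (.leaf 0))) (.node (.node (.leaf 13792) (.leaf 0)) (.node (.leaf 30180) (.leaf 0))))) (.node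 (.node (.node (.node (.leaf 3552) (.leaf 36325)) (.node (.leaf 5344) (.leaf 0))) (.node (.node (.leaf 9729) (.leaf 0)) (.node (.leaf 28130) (.leaf 0)))) (.node (.node (.node (.leaf 3682) (.leaf 0)) (.node (.leaf 24032) (.leaf 0))) (.node (.node (.leaf 15845) (.leaf 0)) (.node (.leaf 32224) (.leaf 0)))))))) (.node (.node (.node (.node (.node (.node (.node (.leaf 33) (.leaf 32996)) (.node (.leaf 16608) (.leaf 0))) (.node (.node (.leaf 8416) (.leaf 0)) (.node (.leaf 24805) (.leaf 0)))) (.node (.node (.node (.leaf 4325) (.leaf 37090)) (.node (.leaf 20708) (.leaf 0))) (.node (.node (.leaf 12002) (.leaf 0)) (.node (.leaf 24162) (.leaf 0))))) (.node (.node (.node (.node (.leaf 2273) (.leaf 35044)) (.node (.leaf 18656) (.leaf 0))) (.node (.node (.leaf 10465) (.leaf 0)) (.node (.leaf 26850) (.leaf 0)))) (.node (.node (.node (.leaf 6374) (.leaf 39138)) (.node (.leaf 22756) (.leaf 0))) (.node (.node (.leaf 14560) (.leaf 0)) (.node (.leaf 30945) (.leaf 0)))))) (.node (.node (.node (.node (.node (.leaf 1252) (.leaf 34018)) (.node (.leaf 17634) (.leaf 0))) (.node (.node (.leaf 9441) (.leaf 0)) (.node (.leaf 25828) (.leaf 0)))) (.node (.node (.node (.leaf 5347) (.leaf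 38112)) (.node (.leaf 21730) (.leaf 0))) (.node (.node (.leaf 13538) (.leaf 0)) (.node (.leaf 29925) (.leaf 0))))) (.node (.node (.node (.node (.leaf 3300) (.leaf 36068)) (.node (.leaf 19680) (.leaf 0))) (.node (.node (.leaf 11492) (.leaf 0)) (.node (.leaf 27872) (.leaf 0)))) (.node (.node (.node (.leaf 7392) (.leaf 20297)) (.node (.leaf 23780) (.leaf 0))) (.node (.node (.leaf 11872) (.leaf 0)) (.node (.leaf 22691) (.leaf 0))))))) (.node (.node (.node (.node (.node (.node (.leaf 739) (.leaf 33504)) (.node (.leaf 17120) (.leaf 0))) (.node (.node (.leaf 8932) (.leaf 0)) (.node (.leaf 25312) (.leaf 0)))) (.node (.node (.node (.leaf 4832) (.leaf 37603)) (.node (.leaf 21216) (.leaf 0))) (.node (.node (.leaf 13025) (.leaf 0)) (.node (.leaf 29412) (.leaf 0))))) (.node (.node (.node (.node (.leaf 2785) (.leaf 35552)) (.node (.leaf 19170) (.leaf 0))) (.node (.node (.leaf 10976) (.leaf 0)) (.node (.leaf 27361) (.leaf 0)))) (.node (.node (.node (.leaf 6884) (.leaf 39649)) (.node (.leaf 23265) (.leaf 0))) (.node (.node (.leaf 15072) (.leaf 0)) (.node (.leaf 31457) (.leaf 0)))))) (.node (.node (.node (.node (.node (.leaf 1760) (.leaf 34534)) (.node (.leaf 18145)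 (.leaf 0))) (.node (.node (.leaf 9955) (.leaf 0)) (.node (.leaf 26340) (.leaf 0)))) (.node (.node (.node (.leaf 5859) (.leaf 38624)) (.node (.leaf 22241) (.leaf 0))) (.node (.node (.leaf 14049) (.leaf 0)) (.node (.leaf 30432) (.leaf 0))))) (.node (.node (.node (.node (.leaf 3813) (.leaf 36580)) (.node (.leaf 20198) (.leaf 0))) (.node (.node (.leaf 11969) (.leaf 0)) (.node (.leaf 28384) (.leaf 0)))) (.node (.node (.node (.leaf 7904) (.leaf 0)) (.node (.leaf 24293) (.leaf 0))) (.node (.node (.leaf 16096) (.leaf 0)) (.node (.leaf 32481) (.leaf 0))))))))) (.node (.node (.node (.node (.node (.node (.node (.node (.leaf 100) (.leaf 26884)) (.node (.leaf 16480) (.leaf 0))) (.node (.node (.leaf 8293) (.leaf 0)) (.node (.leaf 24672) (.leaf 0)))) (.node (.node (.node (.leaf 4192) (.leaf 36961)) (.node (.leaf 20576) (.leaf 0))) (.node (.node (.leaf 12385) (.leaf 0)) (.node (.leaf 28769) (.leaf 0))))) (.node (.node (.node (.node (.leaf 2145) (.leaf 34912)) (.node (.leaf 18528) (.leaf 0))) (.node (.node (.leaf 10336) (.leaf 0)) (.node (.leaf 26721) (.leaf 0)))) (.node (.node (.node (.leaf 6244) (.leaf 39009)) (.node (.leaf 1124) (.leaf 0))) (.node (.node (.leaf 14432)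 (.leaf 0)) (.node (.leaf 30823) (.leaf 0)))))) (.node (.node (.node (.node (.node (.leaf 1120) (.leaf 33888)) (.node (.leaf 17505) (.leaf 0))) (.node (.node (.leaf 9316) (.leaf 0)) (.node (.leaf 25700) (.leaf 0)))) (.node (.node (.node (.leaf 5216) (.leaf 37984)) (.node (.leaf 21601) (.leaf 0))) (.node (.node (.leaf 13414) (.leaf 0)) (.node (.leaf 23717) (.leaf 0))))) (.node (.node (.node (.node (.leaf 3168) (.leaf 35939)) (.node (.leaf 19554) (.leaf 0))) (.node (.node (.leaf 11363) (.leaf 0)) (.node (.leaf 27744) (.leaf 0)))) (.node (.node (.node (.leaf 7264) (.leaf 6409)) (.node (.leaf 23648) (.leaf 0))) (.node (.node (.leaf 15457) (.leaf 0)) (.node (.leaf 31844) (.leaf 0))))))) (.node (.node (.node (.node (.node (.node (.leaf 608) (.leaf 33380)) (.node (.leaf 16929) (.leaf 0))) (.node (.node (.leaf 8802) (.leaf 0)) (.node (.leaf 25188) (.leaf 0)))) (.node (.node (.node (.leaf 4708) (.leaf 37477)) (.node (.leaf 21088) (.leaf 0))) (.node (.node (.leaf 12900) (.leaf 0)) (.node (.leaf 29285) (.leaf 0))))) (.node (.node (.node (.node (.leaf 2657) (.leaf 35424)) (.node (.leaf 19040) (.leaf 0))) (.node (.node (.leaf 3520) (.leaf 0)) (.node (.leaf 27232)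 (.leaf 0)))) (.node (.node (.node (.leaf 6752) (.leaf 39520)) (.node (.leaf 23137) (.leaf 0))) (.node (.node (.leaf 14944) (.leaf 0)) (.node (.leaf 31333) (.leaf 0)))))) (.node (.node (.node (.node (.node (.leaf 1632) (.leaf 34404)) (.node (.leaf 18016) (.leaf 0))) (.node (.node (.leaf 9825) (.leaf 0)) (.node (.leaf 26209) (.leaf 0)))) (.node (.node (.node (.leaf 5190) (.leaf 38498)) (.node (.leaf 22112) (.leaf 0))) (.node (.node (.leaf 13920) (.leaf 0)) (.node (.leaf 30308) (.leaf 0))))) (.node (.node (.node (.node (.leaf 3684) (.leaf 26343)) (.node (.leaf 20068) (.leaf 0))) (.node (.node (.leaf 11879) (.leaf 0)) (.node (.leaf 28256) (.leaf 0)))) (.node (.node (.node (.leaf 7778) (.leaf 0)) (.node (.leaf 24164) (.leaf 0))) (.node (.node (.leaf 15971) (.leaf 0)) (.node (.leaf 32352) (.leaf 0)))))))) (.node (.node (.node (.node (.node (.node (.node (.leaf 356) (.leaf 33120)) (.node (.leaf 16739) (.leaf 0))) (.node (.node (.leaf 3237) (.leaf 0)) (.node (.leaf 24931) (.leaf 0)))) (.node (.node (.node (.leaf 4451) (.leaf 37223)) (.node (.leaf 20838) (.leaf 0))) (.node (.node (.leaf 12640) (.leaf 0)) (.node (.leaf 29026) (.leaf 0))))) (.node (.node (.node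 (.node (.leaf 2400) (.leaf 35174)) (.node (.leaf 18785) (.leaf 0))) (.node (.node (.leaf 10593) (.leaf 0)) (.node (.leaf 26976) (.leaf 0)))) (.node (.node (.node (.leaf 6499) (.leaf 39264)) (.node (.leaf 22880) (.leaf 0))) (.node (.node (.leaf 14689) (.leaf 0)) (.node (.leaf 31073) (.leaf 0)))))) (.node (.node (.node (.node (.node (.leaf 1382) (.leaf 34145)) (.node (.leaf 17760) (.leaf 0))) (.node (.node (.leaf 9575) (.leaf 0)) (.node (.leaf 25956) (.leaf 0)))) (.node (.node (.node (.leaf 5477) (.leaf 38240)) (.node (.leaf 21856) (.leaf 0))) (.node (.node (.leaf 13664) (.leaf 0)) (.node (.leaf 30050) (.leaf 0))))) (.node (.node (.node (.node (.leaf 3425) (.leaf 36196)) (.node (.leaf 2214) (.leaf 0))) (.node (.node (.leaf 11616) (.leaf 0)) (.node (.leaf 28001) (.leaf 0)))) (.node (.node (.node (.leaf 7521) (.leaf 0)) (.node (.leaf 23905) (.leaf 0))) (.node (.node (.leaf 15716) (.leaf 0)) (.node (.leaf 32099) (.leaf 0))))))) (.node (.node (.node (.node (.node (.node (.leaf 867) (.leaf 33636)) (.node (.leaf 17250) (.leaf 0))) (.node (.node (.leaf 9060) (.leaf 0)) (.node (.leaf 25217) (.leaf 0)))) (.node (.node (.node (.leaf 866) (.leaf 37733)) (.node (.leaf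 21344) (.leaf 0))) (.node (.node (.leaf 11745) (.leaf 0)) (.node (.leaf 29541) (.leaf 0))))) (.node (.node (.node (.node (.leaf 2912) (.leaf 35684)) (.node (.leaf 19301) (.leaf 0))) (.node (.node (.leaf 11107) (.leaf 0)) (.node (.leaf 27490) (.leaf 0)))) (.node (.node (.node (.leaf 7014) (.leaf 39781)) (.node (.leaf 23392) (.leaf 0))) (.node (.node (.leaf 15200) (.leaf 0)) (.node (.leaf 31585) (.leaf 0)))))) (.node (.node (.node (.node (.node (.leaf 1892) (.leaf 34659)) (.node (.leaf 18274) (.leaf 0))) (.node (.node (.leaf 10085) (.leaf 0)) (.node (.leaf 26464) (.leaf 0)))) (.node (.node (.node (.leaf 5984) (.leaf 38752)) (.node (.leaf 1697) (.leaf 0))) (.node (.node (.leaf 14178) (.leaf 0)) (.node (.leaf 30564) (.leaf 0))))) (.node (.node (.node (.node (.leaf 3713) (.leaf 36704)) (.node (.leaf 20323) (.leaf 0))) (.node (.node (.leaf 12129) (.leaf 0)) (.node (.leaf 28512) (.leaf 0)))) (.node (.node (.node (.leaf 8037) (.leaf 0)) (.node (.leaf 24193) (.leaf 0))) (.node (.node (.leaf 16224) (.leaf 0)) (.node (.leaf 32612) (.leaf 0)))))))))) (.node (.node (.node (.node (.node (.node (.node (.node (.node (.leaf 32) (.leaf 32802)) (.node (.leaf 16416) (.leaf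 0))) (.node (.node (.leaf 8227) (.leaf 0)) (.node (.leaf 24610) (.leaf 0)))) (.node (.node (.node (.leaf 4130) (.leaf 36896)) (.node (.leaf 20518) (.leaf 0))) (.node (.node (.leaf 12325) (.leaf 0)) (.node (.leaf 24608) (.leaf 0))))) (.node (.node (.node (.node (.leaf 2081) (.leaf 34854)) (.node (.leaf 18465) (.leaf 0))) (.node (.node (.leaf 1988) (.leaf 0)) (.node (.leaf 26656) (.leaf 0)))) (.node (.node (.node (.leaf 6179) (.leaf 38944)) (.node (.leaf 22564) (.leaf 0))) (.node (.node (.leaf 14369) (.leaf 0)) (.node (.leaf 30756) (.leaf 0)))))) (.node (.node (.node (.node (.node (.leaf 1062) (.leaf 33824)) (.node (.leaf 17447) (.leaf 0))) (.node (.node (.leaf 4772) (.leaf 0)) (.node (.leaf 25634) (.leaf 0)))) (.node (.node (.node (.leaf 4961) (.leaf 37920)) (.node (.leaf 21536) (.leaf 0))) (.node (.node (.leaf 13347) (.leaf 0)) (.node (.leaf 29730) (.leaf 0))))) (.node (.node (.node (.node (.leaf 3106) (.leaf 35872)) (.node (.leaf 19488) (.leaf 0))) (.node (.node (.leaf 11298) (.leaf 0)) (.node (.leaf 27681) (.leaf 0)))) (.node (.node (.node (.leaf 7204) (.leaf 6185)) (.node (.leaf 23586) (.leaf 0))) (.node (.node (.leaf 15392) (.leaf 0)) (.node (.leaf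 29985) (.leaf 0))))))) (.node (.node (.node (.node (.node (.node (.leaf 548) (.leaf 33314)) (.node (.leaf 16928) (.leaf 0))) (.node (.node (.leaf 3040) (.leaf 0)) (.node (.leaf 25121) (.leaf 0)))) (.node (.node (.node (.leaf 4641) (.leaf 37409)) (.node (.leaf 21028) (.leaf 0))) (.node (.node (.leaf 12512) (.leaf 0)) (.node (.leaf 29219) (.leaf 0))))) (.node (.node (.node (.node (.leaf 2592) (.leaf 35364)) (.node (.leaf 18976) (.leaf 0))) (.node (.node (.leaf 10784) (.leaf 0)) (.node (.leaf 27170) (.leaf 0)))) (.node (.node (.node (.leaf 6694) (.leaf 39458)) (.node (.leaf 23072) (.leaf 0))) (.node (.node (.leaf 14880) (.leaf 0)) (.node (.leaf 31270) (.leaf 0)))))) (.node (.node (.node (.node (.node (.leaf 1572) (.leaf 34339)) (.node (.leaf 17954) (.leaf 0))) (.node (.node (.leaf 7559) (.leaf 0)) (.node (.leaf 26151) (.leaf 0)))) (.node (.node (.node (.leaf 5664) (.leaf 38432)) (.node (.leaf 22050) (.leaf 0))) (.node (.node (.leaf 13858) (.leaf 0)) (.node (.leaf 30244) (.leaf 0))))) (.node (.node (.node (.node (.leaf 3620) (.leaf 31941)) (.node (.leaf 20003) (.leaf 0))) (.node (.node (.leaf 11809) (.leaf 0)) (.node (.leaf 28192) (.leaf 0)))) (.node (.node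 (.node (.leaf 7712) (.leaf 0)) (.node (.leaf 24100) (.leaf 0))) (.node (.node (.leaf 15904) (.leaf 0)) (.node (.leaf 28898) (.leaf 0)))))))) (.node (.node (.node (.node (.node (.node (.node (.leaf 288) (.leaf 33060)) (.node (.leaf 16672) (.leaf 0))) (.node (.node (.leaf 8482) (.leaf 0)) (.node (.leaf 24612) (.leaf 0)))) (.node (.node (.node (.leaf 4132) (.leaf 37156)) (.node (.leaf 20768) (.leaf 0))) (.node (.node (.leaf 12576) (.leaf 0)) (.node (.leaf 28960) (.leaf 0))))) (.node (.node (.node (.node (.leaf 738) (.leaf 35104)) (.node (.leaf 18720) (.leaf 0))) (.node (.node (.leaf 10529) (.leaf 0)) (.node (.leaf 26912) (.leaf 0)))) (.node (.node (.node (.leaf 6432) (.leaf 39200)) (.node (.leaf 1122) (.leaf 0))) (.node (.node (.leaf 14624) (.leaf 0)) (.node (.leaf 28807) (.leaf 0)))))) (.node (.node (.node (.node (.node (.leaf 1312) (.leaf 34080)) (.node (.leaf 17696) (.leaf 0))) (.node (.node (.leaf 9508) (.leaf 0)) (.node (.leaf 25890) (.leaf 0)))) (.node (.node (.node (.leaf 5414) (.leaf 38178)) (.node (.leaf 21792) (.leaf 0))) (.node (.node (.leaf 13601) (.leaf 0)) (.node (.leaf 23520) (.leaf 0))))) (.node (.node (.node (.node (.leaf 3360) (.leaf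 36130)) (.node (.leaf 19745) (.leaf 0))) (.node (.node (.leaf 9696) (.leaf 0)) (.node (.leaf 27936) (.leaf 0)))) (.node (.node (.node (.leaf 4128) (.leaf 0)) (.node (.leaf 23840) (.leaf 0))) (.node (.node (.leaf 15652) (.leaf 0)) (.node (.leaf 32032) (.leaf 0))))))) (.node (.node (.node (.node (.node (.node (.leaf 736) (.leaf 32896)) (.node (.leaf 17185) (.leaf 0))) (.node (.node (.leaf 8996) (.leaf 0)) (.node (.leaf 25376) (.leaf 0)))) (.node (.node (.node (.leaf 4896) (.leaf 37670)) (.node (.leaf 21281) (.leaf 0))) (.node (.node (.leaf 13089) (.leaf 0)) (.node (.leaf 29475) (.leaf 0))))) (.node (.node (.node (.node (.leaf 2561) (.leaf 35619)) (.node (.leaf 19237) (.leaf 0))) (.node (.node (.leaf 8288) (.leaf 0)) (.node (.leaf 27424) (.leaf 0)))) (.node (.node (.node (.leaf 6944) (.leaf 9989)) (.node (.leaf 23041) (.leaf 0))) (.node (.node (.leaf 15138) (.leaf 0)) (.node (.leaf 29952) (.leaf 0)))))) (.node (.node (.node (.node (.node (.leaf 1827) (.leaf 34592)) (.node (.leaf 18208) (.leaf 0))) (.node (.node (.leaf 10022) (.leaf 0)) (.node (.leaf 26400) (.leaf 0)))) (.node (.node (.node (.leaf 5924) (.leaf 38689)) (.node (.leaf 22304) (.leaf 0))) (.node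 (.node (.leaf 14112) (.leaf 0)) (.node (.leaf 25252) (.leaf 0))))) (.node (.node (.node (.node (.leaf 3872) (.leaf 36644)) (.node (.leaf 20256) (.leaf 0))) (.node (.node (.leaf 12065) (.leaf 0)) (.node (.leaf 28450) (.leaf 0)))) (.node (.node (.node (.leaf 7971) (.leaf 0)) (.node (.leaf 24352) (.leaf 0))) (.node (.node (.leaf 16164) (.leaf 0)) (.node (.leaf 32544) (.leaf 0))))))))) (.node (.node (.node (.node (.node (.node (.node (.node (.leaf 162) (.leaf 32932)) (.node (.leaf 16548) (.leaf 0))) (.node (.node (.leaf 2786) (.leaf 0)) (.node (.leaf 24738) (.leaf 0)))) (.node (.node (.node (.leaf 4258) (.leaf 37028)) (.node (.leaf 20643) (.leaf 0))) (.node (.node (.leaf 11968) (.leaf 0)) (.node (.leaf 28833) (.leaf 0))))) (.node (.node (.node (.node (.leaf 2209) (.leaf 34979)) (.node (.leaf 18594) (.leaf 0))) (.node (.node (.leaf 10401) (.leaf 0)) (.node (.leaf 26791) (.leaf 0)))) (.node (.node (.node (.leaf 6304) (.leaf 39072)) (.node (.leaf 22692) (.leaf 0))) (.node (.node (.leaf 14498) (.leaf 0)) (.node (.leaf 30880) (.leaf 0)))))) (.node (.node (.node (.node (.node (.leaf 1187) (.leaf 33953)) (.node (.leaf 17568) (.leaf 0))) (.node (.node (.leaf 9376)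 (.leaf 0)) (.node (.leaf 25764) (.leaf 0)))) (.node (.node (.node (.leaf 5286) (.leaf 38049)) (.node (.leaf 21664) (.leaf 0))) (.node (.node (.leaf 13477) (.leaf 0)) (.node (.leaf 29861) (.leaf 0))))) (.node (.node (.node (.node (.leaf 3234) (.leaf 1161)) (.node (.leaf 19620) (.leaf 0))) (.node (.node (.leaf 11425) (.leaf 0)) (.node (.leaf 27810) (.leaf 0)))) (.node (.node (.node (.leaf 7334) (.leaf 6537)) (.node (.leaf 23714) (.leaf 0))) (.node (.node (.leaf 15524) (.leaf 0)) (.node (.leaf 31904) (.leaf 0))))))) (.node (.node (.node (.node (.node (.node (.leaf 38) (.leaf 33447)) (.node (.leaf 3104) (.leaf 0))) (.node (.node (.leaf 8864) (.leaf 0)) (.node (.leaf 25248) (.leaf 0)))) (.node (.node (.node (.leaf 4768) (.leaf 32838)) (.node (.leaf 6115) (.leaf 0))) (.node (.node (.leaf 12967) (.leaf 0)) (.node (.leaf 29348) (.leaf 0))))) (.node (.node (.node (.node (.leaf 2721) (.leaf 35494)) (.node (.leaf 19108) (.leaf 0))) (.node (.node (.leaf 10916) (.leaf 0)) (.node (.leaf 27296) (.leaf 0)))) (.node (.node (.node (.leaf 6819) (.leaf 39584)) (.node (.leaf 23201) (.leaf 0))) (.node (.node (.leaf 15009) (.leaf 0)) (.node (.leaf 31394) (.leaf 0)))))) (.node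 (.node (.node (.node (.node (.leaf 1702) (.leaf 34464)) (.node (.leaf 18080) (.leaf 0))) (.node (.node (.leaf 1030) (.leaf 0)) (.node (.leaf 26273) (.leaf 0)))) (.node (.node (.node (.leaf 5792) (.leaf 38560)) (.node (.leaf 22176) (.leaf 0))) (.node (.node (.leaf 13984) (.leaf 0)) (.node (.leaf 30372) (.leaf 0))))) (.node (.node (.node (.node (.leaf 3747) (.leaf 36512)) (.node (.leaf 20128) (.leaf 0))) (.node (.node (.leaf 11938) (.leaf 0)) (.node (.leaf 28321) (.leaf 0)))) (.node (.node (.node (.leaf 7843) (.leaf 0)) (.node (.leaf 24227) (.leaf 0))) (.node (.node (.leaf 16033) (.leaf 0)) (.node (.leaf 32416) (.leaf 0)))))))) (.node (.node (.node (.node (.node (.node (.node (.leaf 416) (.leaf 33185)) (.node (.leaf 13734) (.leaf 0))) (.node (.node (.leaf 8613) (.leaf 0)) (.node (.leaf 24992) (.leaf 0)))) (.node (.node (.node (.leaf 4512) (.leaf 37280)) (.node (.leaf 20896) (.leaf 0))) (.node (.node (.leaf 12705) (.leaf 0)) (.node (.leaf 29091) (.leaf 0))))) (.node (.node (.node (.node (.leaf 2464) (.leaf 35232)) (.node (.leaf 18848) (.leaf 0))) (.node (.node (.leaf 10660) (.leaf 0)) (.node (.leaf 27041) (.leaf 0)))) (.node (.node (.node (.leaf 6564)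 (.leaf 39329)) (.node (.leaf 22944) (.leaf 0))) (.node (.node (.leaf 14752) (.leaf 0)) (.node (.leaf 1350) (.leaf 0)))))) (.node (.node (.node (.node (.node (.leaf 1440) (.leaf 34215)) (.node (.leaf 17825) (.leaf 0))) (.node (.node (.leaf 9632) (.leaf 0)) (.node (.leaf 25792) (.leaf 0)))) (.node (.node (.node (.leaf 5538) (.leaf 38304)) (.node (.leaf 21921) (.leaf 0))) (.node (.node (.leaf 5057) (.leaf 0)) (.node (.leaf 30112) (.leaf 0))))) (.node (.node (.node (.node (.leaf 3488) (.leaf 26275)) (.node (.leaf 19875) (.leaf 0))) (.node (.node (.leaf 11680) (.leaf 0)) (.node (.leaf 28064) (.leaf 0)))) (.node (.node (.node (.leaf 7585) (.leaf 0)) (.node (.leaf 23968) (.leaf 0))) (.node (.node (.leaf 15779) (.leaf 0)) (.node (.leaf 32165) (.leaf 0))))))) (.node (.node (.node (.node (.node (.node (.leaf 932) (.leaf 33703)) (.node (.leaf 17312) (.leaf 0))) (.node (.node (.leaf 9124) (.leaf 0)) (.node (.leaf 25505) (.leaf 0)))) (.node (.node (.node (.leaf 5025) (.leaf 37794)) (.node (.leaf 21410) (.leaf 0))) (.node (.node (.leaf 13216) (.leaf 0)) (.node (.leaf 23266) (.leaf 0))))) (.node (.node (.node (.node (.leaf 2978) (.leaf 35744)) (.node (.leaf 19362)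 (.leaf 0))) (.node (.node (.leaf 11168) (.leaf 0)) (.node (.leaf 27552) (.leaf 0)))) (.node (.node (.node (.leaf 7072) (.leaf 1289)) (.node (.leaf 23458) (.leaf 0))) (.node (.node (.leaf 15264) (.leaf 0)) (.node (.leaf 31649) (.leaf 0)))))) (.node (.node (.node (.node (.node (.leaf 1952) (.leaf 34724)) (.node (.leaf 18336) (.leaf 0))) (.node (.node (.leaf 10146) (.leaf 0)) (.node (.leaf 26529) (.leaf 0)))) (.node (.node (.node (.leaf 6054) (.leaf 38818)) (.node (.leaf 22436) (.leaf 0))) (.node (.node (.leaf 14240) (.leaf 0)) (.node (.leaf 30624) (.leaf 0))))) (.node (.node (.node (.node (.leaf 4003) (.leaf 23908)) (.node (.leaf 20388) (.leaf 0))) (.node (.node (.leaf 12193) (.leaf 0)) (.node (.leaf 28576) (.leaf 0)))) (.node (.node (.node (.leaf 8100) (.leaf 0)) (.node (.leaf 24483) (.leaf 0))) (.node (.node (.leaf 16132) (.leaf 0)) (.node (.leaf 32676) (.leaf 0))))))))))) (.node (.node (.node (.node (.node (.node (.node (.node (.node (.node (.leaf 4) (.leaf 32773)) (.node (.leaf 16389) (.leaf 0))) (.node (.node (.leaf 8192) (.leaf 0)) (.node (.leaf 24576) (.leaf 0)))) (.node (.node (.node (.leaf 4096) (.leaf 36871)) (.node (.leaf 20482) (.leaf 0)))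 (.node (.node (.leaf 12288) (.leaf 0)) (.node (.leaf 1097) (.leaf 0))))) (.node (.node (.node (.node (.leaf 2052) (.leaf 34818)) (.node (.leaf 18435) (.leaf 0))) (.node (.node (.leaf 745) (.leaf 0)) (.node (.leaf 26629) (.leaf 0)))) (.node (.node (.node (.leaf 6144) (.leaf 38912)) (.node (.leaf 22529) (.leaf 0))) (.node (.node (.leaf 14339) (.leaf 0)) (.node (.leaf 28928) (.leaf 0)))))) (.node (.node (.node (.node (.node (.leaf 1026) (.leaf 24384)) (.node (.leaf 17409) (.leaf 0))) (.node (.node (.leaf 9221) (.leaf 0)) (.node (.leaf 25601) (.leaf 0)))) (.node (.node (.node (.leaf 5088) (.leaf 1254)) (.node (.leaf 21504) (.leaf 0))) (.node (.node (.leaf 13312) (.leaf 0)) (.node (.leaf 29696) (.leaf 0))))) (.node (.node (.node (.node (.leaf 2080) (.leaf 35840)) (.node (.leaf 16900) (.leaf 0))) (.node (.node (.leaf 11269) (.leaf 0)) (.node (.leaf 27651) (.leaf 0)))) (.node (.node (.node (.leaf 7169) (.leaf 6153)) (.node (.leaf 22464) (.leaf 0))) (.node (.node (.leaf 11712) (.leaf 0)) (.node (.leaf 31749) (.leaf 0))))))) (.node (.node (.node (.node (.node (.node (.leaf 513) (.leaf 33280)) (.node (.leaf 805) (.leaf 0))) (.node (.node (.leaf 8705) (.leaf 0))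 (.node (.leaf 25093) (.leaf 0)))) (.node (.node (.node (.leaf 4613) (.leaf 32836)) (.node (.leaf 20993) (.leaf 0))) (.node (.node (.leaf 12800) (.leaf 0)) (.node (.leaf 29184) (.leaf 0))))) (.node (.node (.node (.node (.leaf 2560) (.leaf 35329)) (.node (.leaf 18950) (.leaf 0))) (.node (.node (.leaf 10754) (.leaf 0)) (.node (.leaf 27136) (.leaf 0)))) (.node (.node (.node (.leaf 6658) (.leaf 39424)) (.node (.leaf 23040) (.leaf 0))) (.node (.node (.leaf 14854) (.leaf 0)) (.node (.leaf 31233) (.leaf 0)))))) (.node (.node (.node (.node (.node (.leaf 1537) (.leaf 34304)) (.node (.leaf 17920) (.leaf 0))) (.node (.node (.leaf 9733) (.leaf 0)) (.node (.leaf 26113) (.leaf 0)))) (.node (.node (.node (.leaf 5639) (.leaf 38404)) (.node (.leaf 22016) (.leaf 0))) (.node (.node (.leaf 13824) (.leaf 0)) (.node (.leaf 30209) (.leaf 0))))) (.node (.node (.node (.node (.leaf 3586) (.leaf 26305)) (.node (.leaf 19968) (.leaf 0))) (.node (.node (.leaf 11779) (.leaf 0)) (.node (.leaf 28166) (.leaf 0)))) (.node (.node (.node (.leaf 7684) (.leaf 0)) (.node (.leaf 24066) (.leaf 0))) (.node (.node (.leaf 15874) (.leaf 0)) (.node (.leaf 32261) (.leaf 0)))))))) (.node (.node (.node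 (.node (.node (.node (.node (.leaf 260) (.leaf 33025)) (.node (.leaf 16642) (.leaf 0))) (.node (.node (.leaf 8448) (.leaf 0)) (.node (.leaf 24833) (.leaf 0)))) (.node (.node (.node (.leaf 4353) (.leaf 37120)) (.node (.leaf 20736) (.leaf 0))) (.node (.node (.leaf 12548) (.leaf 0)) (.node (.leaf 28932) (.leaf 0))))) (.node (.node (.node (.node (.leaf 2308) (.leaf 35072)) (.node (.leaf 18688) (.leaf 0))) (.node (.node (.leaf 10501) (.leaf 0)) (.node (.leaf 26342) (.leaf 0)))) (.node (.node (.node (.leaf 6400) (.leaf 39174)) (.node (.leaf 22785) (.leaf 0))) (.node (.node (.leaf 14592) (.leaf 0)) (.node (.leaf 30981) (.leaf 0)))))) (.node (.node (.node (.node (.node (.leaf 1280) (.leaf 34053)) (.node (.leaf 17670) (.leaf 0))) (.node (.node (.leaf 7680) (.leaf 0)) (.node (.leaf 25856) (.leaf 0)))) (.node (.node (.node (.leaf 5377) (.leaf 38144)) (.node (.leaf 21766) (.leaf 0))) (.node (.node (.leaf 13569) (.leaf 0)) (.node (.leaf 29953) (.leaf 0))))) (.node (.node (.node (.node (.leaf 3328) (.leaf 36097)) (.node (.leaf 19715) (.leaf 0))) (.node (.node (.leaf 11520) (.leaf 0)) (.node (.leaf 27904) (.leaf 0)))) (.node (.node (.node (.leaf 7424) (.leaf 20329))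 (.node (.leaf 23808) (.leaf 0))) (.node (.node (.leaf 15618) (.leaf 0)) (.node (.leaf 32004) (.leaf 0))))))) (.node (.node (.node (.node (.node (.node (.leaf 769) (.leaf 33541)) (.node (.leaf 17155) (.leaf 0))) (.node (.node (.leaf 8961) (.leaf 0)) (.node (.leaf 25349) (.leaf 0)))) (.node (.node (.node (.leaf 4869) (.leaf 37633)) (.node (.leaf 21251) (.leaf 0))) (.node (.node (.leaf 13061) (.leaf 0)) (.node (.leaf 29440) (.leaf 0))))) (.node (.node (.node (.node (.leaf 2821) (.leaf 35584)) (.node (.leaf 19201) (.leaf 0))) (.node (.node (.leaf 11010) (.leaf 0)) (.node (.leaf 27396) (.leaf 0)))) (.node (.node (.node (.leaf 6912) (.leaf 1193)) (.node (.leaf 23301) (.leaf 0))) (.node (.node (.leaf 15104) (.leaf 0)) (.node (.leaf 1129) (.leaf 0)))))) (.node (.node (.node (.node (.node (.leaf 1792) (.leaf 34560)) (.node (.leaf 18180) (.leaf 0))) (.node (.node (.leaf 9985) (.leaf 0)) (.node (.leaf 26368) (.leaf 0)))) (.node (.node (.node (.leaf 5889) (.leaf 38659)) (.node (.leaf 22276) (.leaf 0))) (.node (.node (.leaf 14084) (.leaf 0)) (.node (.leaf 30469) (.leaf 0))))) (.node (.node (.node (.node (.leaf 3842) (.leaf 36609)) (.node (.leaf 20224) (.leaf 0)))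 (.node (.node (.leaf 12036) (.leaf 0)) (.node (.leaf 28416) (.leaf 0)))) (.node (.node (.node (.leaf 7936) (.leaf 0)) (.node (.leaf 24322) (.leaf 0))) (.node (.node (.leaf 16130) (.leaf 0)) (.node (.leaf 25702) (.leaf 0))))))))) (.node (.node (.node (.node (.node (.node (.node (.node (.leaf 129) (.leaf 32897)) (.node (.leaf 16097) (.leaf 0))) (.node (.node (.leaf 8193) (.leaf 0)) (.node (.leaf 24704) (.leaf 0)))) (.node (.node (.node (.leaf 4224) (.leaf 1698)) (.node (.leaf 20608) (.leaf 0))) (.node (.node (.leaf 12417) (.leaf 0)) (.node (.leaf 28802) (.leaf 0))))) (.node (.node (.node (.node (.leaf 2180) (.leaf 34944)) (.node (.leaf 18560) (.leaf 0))) (.node (.node (.leaf 10372) (.leaf 0)) (.node (.leaf 26753) (.leaf 0)))) (.node (.node (.node (.leaf 6272) (.leaf 39044)) (.node (.leaf 22657) (.leaf 0))) (.node (.node (.leaf 14464) (.leaf 0)) (.node (.leaf 30853) (.leaf 0)))))) (.node (.node (.node (.node (.node (.leaf 1152) (.leaf 33923)) (.node (.leaf 17540) (.leaf 0))) (.node (.node (.leaf 9351) (.leaf 0)) (.node (.leaf 25664) (.leaf 0)))) (.node (.node (.node (.leaf 5248) (.leaf 38019)) (.node (.leaf 21636) (.leaf 0))) (.node (.node (.leaf 13442)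 (.leaf 0)) (.node (.leaf 29824) (.leaf 0))))) (.node (.node (.node (.node (.leaf 3200) (.leaf 35969)) (.node (.leaf 2307) (.leaf 0))) (.node (.node (.leaf 11395) (.leaf 0)) (.node (.leaf 27776) (.leaf 0)))) (.node (.node (.node (.leaf 7298) (.leaf 6441)) (.node (.leaf 23680) (.leaf 0))) (.node (.node (.leaf 4707) (.leaf 0)) (.node (.leaf 31872) (.leaf 0))))))) (.node (.node (.node (.node (.node (.node (.leaf 645) (.leaf 33409)) (.node (.leaf 17029) (.leaf 0))) (.node (.node (.leaf 3558) (.leaf 0)) (.node (.leaf 25216) (.leaf 0)))) (.node (.node (.node (.leaf 4736) (.leaf 37505)) (.node (.leaf 21122) (.leaf 0))) (.node (.node (.leaf 12929) (.leaf 0)) (.node (.leaf 23330) (.leaf 0))))) (.node (.node (.node (.node (.leaf 2690) (.leaf 35458)) (.node (.leaf 8704) (.leaf 0))) (.node (.node (.leaf 10882) (.leaf 0)) (.node (.leaf 27264) (.leaf 0)))) (.node (.node (.node (.leaf 6784) (.leaf 39552)) (.node (.leaf 23170) (.leaf 0))) (.node (.node (.leaf 14979) (.leaf 0)) (.node (.leaf 31360) (.leaf 0)))))) (.node (.node (.node (.node (.node (.leaf 1666) (.leaf 34432)) (.node (.leaf 18048) (.leaf 0))) (.node (.node (.leaf 9861) (.leaf 0)) (.node (.leaf 26245) (.leaf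 0)))) (.node (.node (.node (.leaf 5760) (.leaf 38534)) (.node (.leaf 22144) (.leaf 0))) (.node (.node (.leaf 13952) (.leaf 0)) (.node (.leaf 30337) (.leaf 0))))) (.node (.node (.node (.node (.leaf 3712) (.leaf 9990)) (.node (.leaf 20096) (.leaf 0))) (.node (.node (.leaf 11905) (.leaf 0)) (.node (.leaf 28291) (.leaf 0)))) (.node (.node (.node (.leaf 3649) (.leaf 0)) (.node (.leaf 24192) (.leaf 0))) (.node (.node (.leaf 16003) (.leaf 0)) (.node (.leaf 29029) (.leaf 0)))))))) (.node (.node (.node (.node (.node (.node (.node (.leaf 384) (.leaf 33157)) (.node (.leaf 16769) (.leaf 0))) (.node (.node (.leaf 8576) (.leaf 0)) (.node (.leaf 24965) (.leaf 0)))) (.node (.node (.node (.leaf 4485) (.leaf 37253)) (.node (.leaf 20864) (.leaf 0))) (.node (.node (.leaf 12676) (.leaf 0)) (.node (.leaf 24129) (.leaf 0))))) (.node (.node (.node (.node (.leaf 2434) (.leaf 35200)) (.node (.leaf 18820) (.leaf 0))) (.node (.node (.leaf 10305) (.leaf 0)) (.node (.leaf 27011) (.leaf 0)))) (.node (.node (.node (.leaf 6529) (.leaf 39299)) (.node (.leaf 22914) (.leaf 0))) (.node (.node (.leaf 14724) (.leaf 0)) (.node (.leaf 31109) (.leaf 0)))))) (.node (.node (.node (.node (.node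 (.leaf 1408) (.leaf 34177)) (.node (.leaf 17795) (.leaf 0))) (.node (.node (.leaf 9605) (.leaf 0)) (.node (.leaf 25985) (.leaf 0)))) (.node (.node (.node (.leaf 5504) (.leaf 38272)) (.node (.leaf 21891) (.leaf 0))) (.node (.node (.leaf 13698) (.leaf 0)) (.node (.leaf 24038) (.leaf 0))))) (.node (.node (.node (.node (.leaf 3461) (.leaf 36224)) (.node (.leaf 19840) (.leaf 0))) (.node (.node (.leaf 11653) (.leaf 0)) (.node (.leaf 28036) (.leaf 0)))) (.node (.node (.node (.leaf 7554) (.leaf 0)) (.node (.leaf 23941) (.leaf 0))) (.node (.node (.leaf 15744) (.leaf 0)) (.node (.leaf 32129) (.leaf 0))))))) (.node (.node (.node (.node (.node (.node (.leaf 897) (.leaf 33665)) (.node (.leaf 17285) (.leaf 0))) (.node (.node (.leaf 9089) (.leaf 0)) (.node (.leaf 25475) (.leaf 0)))) (.node (.node (.node (.leaf 4999) (.leaf 37760)) (.node (.leaf 21376) (.leaf 0))) (.node (.node (.leaf 13188) (.leaf 0)) (.node (.leaf 29441) (.leaf 0))))) (.node (.node (.node (.node (.leaf 2944) (.leaf 35712)) (.node (.leaf 16992) (.leaf 0))) (.node (.node (.leaf 5252) (.leaf 0)) (.node (.leaf 27526) (.leaf 0)))) (.node (.node (.node (.leaf 7040) (.leaf 39809)) (.node (.leaf 23424) (.leaf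 0))) (.node (.node (.leaf 15232) (.leaf 0)) (.node (.leaf 31618) (.leaf 0)))))) (.node (.node (.node (.node (.node (.leaf 1920) (.leaf 34689)) (.node (.leaf 18310) (.leaf 0))) (.node (.node (.leaf 10112) (.leaf 0)) (.node (.leaf 26499) (.leaf 0)))) (.node (.node (.node (.leaf 6018) (.leaf 38784)) (.node (.leaf 1089) (.leaf 0))) (.node (.node (.leaf 14214) (.leaf 0)) (.node (.leaf 30599) (.leaf 0))))) (.node (.node (.node (.node (.leaf 3971) (.leaf 36741)) (.node (.leaf 20353) (.leaf 0))) (.node (.node (.leaf 12164) (.leaf 0)) (.node (.leaf 28544) (.leaf 0)))) (.node (.node (.node (.leaf 2850) (.leaf 0)) (.node (.leaf 24451) (.leaf 0))) (.node (.node (.leaf 16258) (.leaf 0)) (.node (.leaf 32641) (.leaf 0)))))))))) (.node (.node (.node (.node (.node (.node (.node (.node (.node (.leaf 64) (.leaf 32833)) (.node (.leaf 16453) (.leaf 0))) (.node (.node (.leaf 8256) (.leaf 0)) (.node (.leaf 24644) (.leaf 0)))) (.node (.node (.node (.leaf 4164) (.leaf 36933)) (.node (.leaf 20544) (.leaf 0))) (.node (.node (.leaf 12354) (.leaf 0)) (.node (.leaf 28740) (.leaf 0))))) (.node (.node (.node (.node (.leaf 2116) (.leaf 34880)) (.node (.leaf 18500) (.leaf 0))) (.node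 (.node (.leaf 10304) (.leaf 0)) (.node (.leaf 26690) (.leaf 0)))) (.node (.node (.node (.leaf 6209) (.leaf 38979)) (.node (.leaf 22593) (.leaf 0))) (.node (.node (.leaf 14404) (.leaf 0)) (.node (.leaf 30785) (.leaf 0)))))) (.node (.node (.node (.node (.node (.leaf 1088) (.leaf 33862)) (.node (.leaf 899) (.leaf 0))) (.node (.node (.leaf 9281) (.leaf 0)) (.node (.leaf 25665) (.leaf 0)))) (.node (.node (.node (.leaf 5188) (.leaf 37952)) (.node (.leaf 21571) (.leaf 0))) (.node (.node (.leaf 13377) (.leaf 0)) (.node (.leaf 29760) (.leaf 0))))) (.node (.node (.node (.node (.leaf 3140) (.leaf 35904)) (.node (.leaf 19520) (.leaf 0))) (.node (.node (.leaf 11169) (.leaf 0)) (.node (.leaf 27716) (.leaf 0)))) (.node (.node (.node (.leaf 7232) (.leaf 6281)) (.node (.leaf 23620) (.leaf 0))) (.node (.node (.leaf 15428) (.leaf 0)) (.node (.leaf 22946) (.leaf 0))))))) (.node (.node (.node (.node (.node (.node (.leaf 583) (.leaf 33344)) (.node (.leaf 16965) (.leaf 0))) (.node (.node (.leaf 8768) (.leaf 0)) (.node (.leaf 24577) (.leaf 0)))) (.node (.node (.node (.leaf 4097) (.leaf 37447)) (.node (.leaf 21056) (.leaf 0))) (.node (.node (.leaf 12864) (.leaf 0)) (.node (.leaf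 29249) (.leaf 0))))) (.node (.node (.node (.node (.leaf 2628) (.leaf 35392)) (.node (.leaf 19008) (.leaf 0))) (.node (.node (.leaf 10821) (.leaf 0)) (.node (.leaf 27206) (.leaf 0)))) (.node (.node (.node (.leaf 6720) (.leaf 39494)) (.node (.leaf 23108) (.leaf 0))) (.node (.node (.leaf 14912) (.leaf 0)) (.node (.leaf 31298) (.leaf 0)))))) (.node (.node (.node (.node (.node (.leaf 1600) (.leaf 34369)) (.node (.leaf 17990) (.leaf 0))) (.node (.node (.leaf 9797) (.leaf 0)) (.node (.leaf 26181) (.leaf 0)))) (.node (.node (.node (.leaf 5698) (.leaf 38464)) (.node (.leaf 22086) (.leaf 0))) (.node (.node (.leaf 13894) (.leaf 0)) (.node (.leaf 30273) (.leaf 0))))) (.node (.node (.node (.node (.leaf 3648) (.leaf 36416)) (.node (.leaf 20033) (.leaf 0))) (.node (.node (.leaf 802) (.leaf 0)) (.node (.leaf 28224) (.leaf 0)))) (.node (.node (.node (.leaf 7744) (.leaf 0)) (.node (.leaf 24128) (.leaf 0))) (.node (.node (.leaf 15745) (.leaf 0)) (.node (.leaf 32324) (.leaf 0)))))))) (.node (.node (.node (.node (.node (.node (.node (.leaf 66) (.leaf 33095)) (.node (.leaf 16577) (.leaf 0))) (.node (.node (.leaf 8512) (.leaf 0)) (.node (.leaf 24897) (.leaf 0)))) (.node (.node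 (.node (.leaf 4417) (.leaf 37185)) (.node (.leaf 20802) (.leaf 0))) (.node (.node (.leaf 12610) (.leaf 0)) (.node (.leaf 28992) (.leaf 0))))) (.node (.node (.node (.node (.leaf 2372) (.leaf 35138)) (.node (.leaf 18755) (.leaf 0))) (.node (.node (.leaf 10565) (.leaf 0)) (.node (.leaf 26944) (.leaf 0)))) (.node (.node (.node (.leaf 6464) (.leaf 39232)) (.node (.leaf 22852) (.leaf 0))) (.node (.node (.leaf 14659) (.leaf 0)) (.node (.leaf 31045) (.leaf 0)))))) (.node (.node (.node (.node (.node (.leaf 1346) (.leaf 34114)) (.node (.leaf 17728) (.leaf 0))) (.node (.node (.leaf 9537) (.leaf 0)) (.node (.leaf 25920) (.leaf 0)))) (.node (.node (.node (.leaf 5442) (.leaf 38214)) (.node (.leaf 21824) (.leaf 0))) (.node (.node (.leaf 13639) (.leaf 0)) (.node (.leaf 30016) (.leaf 0))))) (.node (.node (.node (.node (.leaf 3395) (.leaf 24834)) (.node (.leaf 19781) (.leaf 0))) (.node (.node (.leaf 11586) (.leaf 0)) (.node (.leaf 27971) (.leaf 0)))) (.node (.node (.node (.leaf 7492) (.leaf 0)) (.node (.leaf 23875) (.leaf 0))) (.node (.node (.leaf 15680) (.leaf 0)) (.node (.leaf 32064) (.leaf 0))))))) (.node (.node (.node (.node (.node (.node (.leaf 832) (.leaf 33600))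 (.node (.leaf 17222) (.leaf 0))) (.node (.node (.leaf 9025) (.leaf 0)) (.node (.leaf 25413) (.leaf 0)))) (.node (.node (.node (.leaf 4933) (.leaf 37698)) (.node (.leaf 21316) (.leaf 0))) (.node (.node (.leaf 13125) (.leaf 0)) (.node (.leaf 29504) (.leaf 0))))) (.node (.node (.node (.node (.leaf 2884) (.leaf 35649)) (.node (.leaf 19265) (.leaf 0))) (.node (.node (.leaf 11072) (.leaf 0)) (.node (.leaf 27456) (.leaf 0)))) (.node (.node (.node (.leaf 6978) (.leaf 39745)) (.node (.leaf 23364) (.leaf 0))) (.node (.node (.leaf 15174) (.leaf 0)) (.node (.leaf 31556) (.leaf 0)))))) (.node (.node (.node (.node (.node (.leaf 1857) (.leaf 34624)) (.node (.leaf 18240) (.leaf 0))) (.node (.node (.leaf 10050) (.leaf 0)) (.node (.leaf 26438) (.leaf 0)))) (.node (.node (.node (.leaf 5952) (.leaf 38724)) (.node (.leaf 22336) (.leaf 0))) (.node (.node (.leaf 14144) (.leaf 0)) (.node (.leaf 30529) (.leaf 0))))) (.node (.node (.node (.node (.leaf 3909) (.leaf 36679)) (.node (.leaf 20288) (.leaf 0))) (.node (.node (.leaf 12100) (.leaf 0)) (.node (.leaf 28486) (.leaf 0)))) (.node (.node (.node (.leaf 8001) (.leaf 0)) (.node (.leaf 24389) (.leaf 0))) (.node (.node (.leaf 16192)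 (.leaf 0)) (.node (.leaf 23937) (.leaf 0))))))))) (.node (.node (.node (.node (.node (.node (.node (.node (.leaf 193) (.leaf 32960)) (.node (.leaf 16576) (.leaf 0))) (.node (.node (.leaf 8388) (.leaf 0)) (.node (.leaf 24768) (.leaf 0)))) (.node (.node (.node (.leaf 4288) (.leaf 37056)) (.node (.leaf 20673) (.leaf 0))) (.node (.node (.leaf 12484) (.leaf 0)) (.node (.leaf 28869) (.leaf 0))))) (.node (.node (.node (.node (.leaf 740) (.leaf 35009)) (.node (.leaf 18630) (.leaf 0))) (.node (.node (.leaf 10434) (.leaf 0)) (.node (.leaf 26816) (.leaf 0)))) (.node (.node (.node (.leaf 6338) (.leaf 39104)) (.node (.leaf 22720) (.leaf 0))) (.node (.node (.leaf 14534) (.leaf 0)) (.node (.leaf 30917) (.leaf 0)))))) (.node (.node (.node (.node (.node (.leaf 1217) (.leaf 33990)) (.node (.leaf 17600) (.leaf 0))) (.node (.node (.leaf 9413) (.leaf 0)) (.node (.leaf 25762) (.leaf 0)))) (.node (.node (.node (.leaf 5312) (.leaf 38084)) (.node (.leaf 21696) (.leaf 0))) (.node (.node (.leaf 13504) (.leaf 0)) (.node (.leaf 29888) (.leaf 0))))) (.node (.node (.node (.node (.leaf 2115) (.leaf 28896)) (.node (.leaf 19648) (.leaf 0))) (.node (.node (.leaf 4354) (.leaf 0)) (.node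 (.leaf 27846) (.leaf 0)))) (.node (.node (.node (.leaf 7360) (.leaf 6569)) (.node (.leaf 22499) (.leaf 0))) (.node (.node (.leaf 15552) (.leaf 0)) (.node (.leaf 31938) (.leaf 0))))))) (.node (.node (.node (.node (.node (.node (.leaf 704) (.leaf 33477)) (.node (.leaf 17094) (.leaf 0))) (.node (.node (.leaf 3553) (.leaf 0)) (.node (.leaf 25282) (.leaf 0)))) (.node (.node (.node (.leaf 4802) (.leaf 37568)) (.node (.leaf 19872) (.leaf 0))) (.node (.node (.leaf 12997) (.leaf 0)) (.node (.leaf 29376) (.leaf 0))))) (.node (.node (.node (.node (.leaf 2757) (.leaf 35520)) (.node (.leaf 19137) (.leaf 0))) (.node (.node (.leaf 10944) (.leaf 0)) (.node (.leaf 27331) (.leaf 0)))) (.node (.node (.node (.leaf 6849) (.leaf 39619)) (.node (.leaf 23237) (.leaf 0))) (.node (.node (.leaf 15044) (.leaf 0)) (.node (.leaf 31425) (.leaf 0)))))) (.node (.node (.node (.node (.node (.leaf 1728) (.leaf 34498)) (.node (.leaf 18115) (.leaf 0))) (.node (.node (.leaf 9920) (.leaf 0)) (.node (.leaf 25441) (.leaf 0)))) (.node (.node (.node (.leaf 5824) (.leaf 38592)) (.node (.leaf 22211) (.leaf 0))) (.node (.node (.leaf 14019) (.leaf 0)) (.node (.leaf 30407) (.leaf 0))))) (.node (.node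 (.node (.node (.leaf 3776) (.leaf 24545)) (.node (.leaf 20162) (.leaf 0))) (.node (.node (.leaf 2022) (.leaf 0)) (.node (.leaf 28356) (.leaf 0)))) (.node (.node (.node (.leaf 7876) (.leaf 0)) (.node (.leaf 24256) (.leaf 0))) (.node (.node (.leaf 15620) (.leaf 0)) (.node (.leaf 1255) (.leaf 0)))))))) (.node (.node (.node (.node (.node (.node (.node (.leaf 450) (.leaf 26882)) (.node (.leaf 16832) (.leaf 0))) (.node (.node (.leaf 8640) (.leaf 0)) (.node (.leaf 25029) (.leaf 0)))) (.node (.node (.node (.leaf 4549) (.leaf 37317)) (.node (.leaf 20928) (.leaf 0))) (.node (.node (.leaf 12743) (.leaf 0)) (.node (.leaf 29124) (.leaf 0))))) (.node (.node (.node (.node (.leaf 2051) (.leaf 35264)) (.node (.leaf 18880) (.leaf 0))) (.node (.node (.leaf 10688) (.leaf 0)) (.node (.leaf 27076) (.leaf 0)))) (.node (.node (.node (.leaf 6592) (.leaf 39364)) (.node (.leaf 22435) (.leaf 0))) (.node (.node (.leaf 14784) (.leaf 0)) (.node (.leaf 31168) (.leaf 0)))))) (.node (.node (.node (.node (.node (.leaf 1472) (.leaf 34240)) (.node (.leaf 17860) (.leaf 0))) (.node (.node (.leaf 9669) (.leaf 0)) (.node (.leaf 26048) (.leaf 0)))) (.node (.node (.node (.leaf 5569) (.leaf 38339))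 (.node (.leaf 21956) (.leaf 0))) (.node (.node (.leaf 13764) (.leaf 0)) (.node (.leaf 24033) (.leaf 0))))) (.node (.node (.node (.node (.leaf 706) (.leaf 36288)) (.node (.leaf 19905) (.leaf 0))) (.node (.node (.leaf 11717) (.leaf 0)) (.node (.leaf 28096) (.leaf 0)))) (.node (.node (.node (.leaf 7621) (.leaf 0)) (.node (.leaf 1090) (.leaf 0))) (.node (.node (.leaf 15808) (.leaf 0)) (.node (.leaf 31139) (.leaf 0))))))) (.node (.node (.node (.node (.node (.node (.leaf 960) (.leaf 33733)) (.node (.leaf 17346) (.leaf 0))) (.node (.node (.leaf 9159) (.leaf 0)) (.node (.leaf 1186) (.leaf 0)))) (.node (.node (.node (.leaf 5058) (.leaf 37825)) (.node (.leaf 21446) (.leaf 0))) (.node (.node (.leaf 13248) (.leaf 0)) (.node (.leaf 29636) (.leaf 0))))) (.node (.node (.node (.node (.leaf 3008) (.leaf 35778)) (.node (.leaf 19392) (.leaf 0))) (.node (.node (.leaf 11203) (.leaf 0)) (.node (.leaf 27584) (.leaf 0)))) (.node (.node (.node (.leaf 7104) (.leaf 5321)) (.node (.leaf 23488) (.leaf 0))) (.node (.node (.leaf 15299) (.leaf 0)) (.node (.leaf 31685) (.leaf 0)))))) (.node (.node (.node (.node (.node (.leaf 801) (.leaf 34752)) (.node (.leaf 18368) (.leaf 0))) (.node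 (.node (.leaf 10177) (.leaf 0)) (.node (.leaf 26566) (.leaf 0)))) (.node (.node (.node (.leaf 6080) (.leaf 38854)) (.node (.leaf 22465) (.leaf 0))) (.node (.node (.leaf 14272) (.leaf 0)) (.node (.leaf 30661) (.leaf 0))))) (.node (.node (.node (.node (.leaf 4033) (.leaf 36801)) (.node (.leaf 20416) (.leaf 0))) (.node (.node (.leaf 12228) (.leaf 0)) (.node (.leaf 28611) (.leaf 0)))) (.node (.node (.node (.leaf 8128) (.leaf 0)) (.node (.leaf 24513) (.leaf 0))) (.node (.node (.leaf 16321) (.leaf 0)) (.node (.leaf 32711) (.leaf 0)))))))))))

def rep : List ℕ := [
    0, 1, 22, 23, 26, 27, 30, 34, 35, 36, 37, 40,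
    65, 69, 70, 166, 167, 190, 191, 192, 193, 194, 196, 197,
    200, 201, 202, 203, 204, 205, 219, 620, 621, 625, 633, 634,
    635, 663, 664, 667, 671, 674]

def rows : List ℕ := [
    156107258109877689010611875512406634724917248, 6400411211479432090479939630732867306452680854,
    12109489076650093126121927406657937462393176220, 188933155371117102048200040424527600436383645860,
    81510467111329555470868603816583133432738283686, 83562166975364437335001024438381591627586535754,
    86595114625377994876371866793283470559125966324, 188977935850205693071162843491607299615795314870,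
    189023957696347138631537134309549886747513913528, 189068091641295495374202576432244349910327558330,
    189113159996628438684914436610023300402832412502, 189157768973164884788118844867257087838430698212,
    186860794944087203306240481593642416413356854542, 186905397118320149538850855892044516609472335160,
    186949999285958872735927535726111843564016238853, 189202375210660912520740348596514305081380962858,
    189246979441936554359531647369817383907466353870, 186994603478219803801727882727847498923535237726,
    187173012179378098869281509030828721666401436256, 189291583653938243688666034594423031983230747234,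
    189336187866703280279280755984878089880635382740, 187351420868448752679755982339319493070745771016,
    189380792084224500247582883304445984574696194666, 187708238233941636085446487506613469008534117604,
    189425396296807857154629877009311572952930714226, 189470000509588448769057706061555933503340872308,
    187886646920696511394210492235301370040939774582, 188065055603629850193488956288947456969390104494,
    189514604722223684910466282581467946643141304444, 189559208935575441935064695004280449958180422267,
    188421872971843426957235818083375773324115451766, 93153055432144559498937785548201965832542621258,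
    152272335736650154817221412479778389845196082858, 187529829548110940179911682250617696434409708730,
    188243464288255874995915546561893303534074728038, 189603813147457783544199551816017315742324559464,
    189648417360762829624883611418693662306587975474, 154993023932381553009287110128654969425017638572,
    159809986257131011641587152037764203852482812312, 186682388305257661937625326204714270304612130868,
    188778690340451652509607525596163929701173567600, 188600281656474663467899501106160909664592076898]

def spec : List (ℕ × ℕ × ℕ) := [
    (0, 9, 1), (2, 8, 1), (5, 8, 1), (3, 3, 1), (4, 10, 0), (14, 12, 1), (15, 9, 1), (17, 1, 0),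
    (2, 15, 0), (18, 11, 1), (19, 52, 1), (12, 2, 1), (11, 4, 1), (12, 4, 1), (13, 8, 1), (14, 5, 1),
    (15, 7, 1), (16, 3, 1), (17, 0, 1), (0, 12, 1), (1, 10, 1), (10, 13, 0), (3, 11, 1), (4, 13, 1),
    (12, 6, 1), (5, 10, 1), (6, 12, 1), (7, 13, 1), (2, 3, 0), (8, 12, 1), (6, 14, 1), (11, 5, 1),
    (18, 21, 1), (1, 13, 1), (19, 57, 1), (0, 10, 1), (3, 10, 1), (4, 10, 1), (5, 7, 1), (6, 10, 1),
    (8, 8, 1), (9, 7, 1), (13, 12, 1), (14, 13, 1), (15, 15, 1), (16, 11, 1), (18, 18, 1), (0, 13, 1),
    (10, 15, 0), (3, 8, 1), (4, 11, 1), (6, 7, 1), (10, 8, 1), (12, 3, 1), (13, 15, 1), (12, 6, 0),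
    (15, 12, 1), (16, 13, 1), (12, 1, 1), (12, 7, 0), (8, 15, 0), (19, 59, 1), (0, 7, 1), (3, 6, 1),
    (4, 12, 1), (6, 9, 1), (7, 11, 1), (8, 9, 1), (0, 4, 1), (12, 1, 0), (15, 13, 1), (18, 19, 1),
    (6, 14, 0), (6, 4, 1), (5, 8, 0), (2, 4, 0), (2, 14, 0), (11, 6, 0), (19, 53, 1), (18, 10, 1),
    (14, 8, 1), (16, 12, 1), (7, 9, 1), (13, 14, 1), (16, 10, 1), (18, 20, 1), (0, 8, 1), (2, 6, 1),
    (6, 15, 0), (11, 3, 1), (15, 14, 1), (14, 13, 0), (5, 12, 1), (7, 7, 1), (9, 8, 0), (10, 7, 0),
    (1, 7, 0), (4, 15, 0), (4, 9, 1), (0, 12, 0), (1, 11, 1), (2, 9, 0), (8, 12, 0), (10, 9, 0),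
    (15, 5, 0), (6, 9, 0), (8, 5, 0), (9, 7, 0), (10, 8, 0), (0, 2, 0), (3, 13, 0), (5, 5, 1),
    (6, 4, 0), (7, 6, 1), (8, 8, 0), (13, 18, 0), (3, 15, 0), (13, 10, 0), (14, 18, 0), (16, 16, 0),
    (18, 22, 1), (16, 10, 0), (18, 18, 0), (16, 7, 0), (19, 12, 1), (13, 1, 0), (17, 9, 0)]

def codes : List ℕ := [
    48166439001394892828074476847129754586780329443188971961109523195221264433581993249137618314560984885263493497344,
    33765175937474803996947255522823628201143973635638111613982295862983326703819800385839192949642249874001737548288,
    48159393373646366272332163750340618666863149560267482019292733613953737200791525039975986225226431082183309394432,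
    31360268332696900098163335506858582186346223243160368150977913329049268439749581025454075405989631185118314103296,
    20486483975830665623078896777405020775151512547023386915691323149836530139555150479893664419481520756463903440897,
    20486483975830665623078896777405020775151512547023386915691323149836530139555150479893664419481520756463903440897,
    49392382878963162737530191375843041873024337854103863232739956935133365243010400603998480206898343277712459957248,
    49392382878963162737530191375843041873024337854103863232739956935133365243010400603998480206898343277712459957248,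
    42170481163005142732945158515952915654895869917875563401789974294461618812049985907260505581699606671529980985856,
    42170481163005142732945158515952915654895869917875563401789974294461618812049985907260505581699606671529980985856]

end P46

end CfsgAutL34
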