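/-
Relations and witnesses for the points.
-/
import Mathlib.Data.Nat.Notation

set_option autoImplicit false
set_option maxRecDepth 1000000

namespace CfsgAutL34

/-- The relations of the centraliser. -/
def relsC : List (List ℕ) := [
  [1, 3, 4, 0, 0, 4, 1, 2, 1, 5, 1, 5, 1, 3, 1], [1, 3, 4, 1, 4, 0, 0, 2, 0, 5, 0, 5, 1, 3, 1],
  [1, 4, 0, 2, 4, 0, 0, 2, 0, 5, 1, 5, 1, 3, 1], [1, 4, 1, 3, 4, 0, 0, 3, 1, 5, 0, 5, 0, 2, 1],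
  [2, 0, 2, 4, 0, 4, 0, 3, 0, 5, 2, 0, 5, 0, 2], [2, 0, 2, 4, 0, 4, 1, 3, 3, 1, 5, 0, 5, 0, 2],
  [2, 0, 4, 0, 2, 4, 0, 0, 2, 0, 5, 1, 5, 1, 1], [2, 0, 4, 0, 4, 1, 3, 5, 0, 5, 0, 5, 1, 5, 2],
  [2, 0, 4, 1, 4, 0, 0, 2, 0, 5, 0, 5, 2, 1, 1], [2, 0, 4, 1, 4, 1, 3, 0, 0, 5, 0, 5, 2, 1, 1],
  [2, 0, 4, 1, 4, 1, 3, 1, 1, 5, 0, 5, 2, 1, 1]]

/-- The relations of the complement. -/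
def relsQ : List (List ℕ) := [
  [1, 2, 7, 1, 2, 7], [0, 0, 6, 1, 6, 0, 6]]

/-- Words of the sixteen elements. -/
def wordA : List (List ℕ) := [
  [], [1, 4, 1, 4, 1, 4, 1, 4], [0, 4, 1, 4, 0, 4, 1, 4], [0, 4, 0, 4, 0, 4, 0, 4],
  [0, 2, 4, 0, 2, 0, 4, 1], [0, 2, 0, 2, 4, 1, 4, 0], [0, 0, 3, 4, 0, 4, 0, 2], [2, 4, 0, 0, 3, 4],
  [0, 4, 0, 0, 4, 1], [4, 0, 0, 4], [1, 4, 0, 0, 4, 0], [0, 0, 2, 4, 0, 4, 1, 3],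
  [0, 2, 4, 0, 0, 3, 4, 1], [0, 0, 2, 4, 1, 4, 1, 3], [2, 4, 0, 2, 0, 4], [0, 2, 0, 2, 4, 0, 4, 0]]

/-- Indices of the relations on the abelian subgroup. -/
def baseIx : List ℕ := [1, 2, 4, 8]

/-- Word of the element of order three. -/
def wR : List ℕ := [0, 0, 6, 0, 3, 1, 6, 2]

/-- Word of its image. -/
def wT : List ℕ := [0, 0, 6, 0, 3, 1, 6]

/-- Word of the exchanging involution. -/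
def wQ : List ℕ := [0, 0, 2, 6, 0]

/-- Word of the generated centraliser code. -/
def codeWord : List (List ℕ) := [
  [], [1, 4, 1, 4, 1, 4, 1, 4], [4], [0, 4, 0, 4, 0, 4, 0],
  [1, 4, 0, 0, 4, 1], [0, 0, 4, 0, 0, 4], [0, 4, 1, 4, 1, 4, 0], [0, 4, 0, 4, 1, 4, 1],
  [0, 0, 4, 0, 4, 0], [0, 4, 1, 4], [0, 0, 4, 0, 4, 0, 4], [4, 0, 4, 1, 4],
  [0, 0, 4, 1, 4, 1], [4, 1, 4, 0], [0, 0, 4, 1, 4, 1, 4], [1, 4, 0],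
  [0, 4, 1, 4, 0, 4, 1, 4], [0, 4, 0, 4, 0, 4, 0, 4], [0, 4, 1, 4, 0, 4, 1], [1, 4, 1, 4, 1, 4, 1],
  [0, 4, 0, 0, 4, 0], [2, 4, 0, 4, 1, 3], [0, 4, 0, 0, 4, 0, 4], [0, 0, 4, 0, 0],
  [1, 4, 1, 4, 0, 0], [4, 0, 4, 1], [1, 4, 1, 4, 0, 0, 4], [0, 4, 1],
  [0, 4, 0, 4, 0, 0], [1, 4, 0, 4], [0, 4, 0, 4, 0, 0, 4], [4, 1, 4, 0, 4],
  [0, 2, 4, 1, 4, 1], [0, 2, 0, 4, 0, 4], [0, 2, 4, 1, 4, 1, 4], [4, 0, 2, 0, 4, 0, 4],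
  [1, 4, 1, 3, 4, 1], [4, 0, 2, 4, 0, 0], [1, 4, 1, 3, 4, 1, 4], [0, 2, 4, 0, 0],
  [1, 3, 4, 1, 4, 1, 3], [0, 0, 3, 4, 1, 4], [1, 3, 4, 1, 4, 1, 3, 4], [4, 0, 0, 3, 4, 1, 4],
  [0, 0, 3, 1], [0, 0, 3, 4, 0, 4, 0, 4, 0, 4], [0, 0, 3, 1, 4], [0, 2, 0, 4, 1, 4, 1, 4, 1],
  [0, 0, 3, 4, 0, 4, 0, 0], [4, 0, 2, 0, 4, 0], [0, 0, 3, 4, 0, 4, 0, 0, 4], [0, 2, 0, 4, 0],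
  [2, 0, 4, 0, 2, 4, 0], [0, 2, 4, 0, 0, 4], [2, 0, 4, 0, 2, 4, 0, 4], [4, 0, 2, 4, 0, 0, 4],
  [0, 2, 4, 0, 4, 0], [4, 0, 0, 3, 4, 1], [0, 2, 4, 0, 4, 0, 4], [0, 0, 3, 4, 1],
  [0, 0, 3, 4, 1, 4, 0, 4, 1, 4], [0, 2, 0, 4, 1, 4, 1, 4, 1, 4], [0, 0, 3, 4, 1, 4, 0, 4, 1], [0, 0, 3, 4, 0, 4, 0, 4, 0],
  [0, 0, 2, 0], [0, 4, 0, 0, 3, 4, 0, 4, 0, 4], [0, 0, 2, 0, 4], [0, 0, 2, 4, 1, 4, 1, 4, 1],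
  [1, 3, 4, 1, 4, 1], [0, 0, 2, 4, 0, 4], [1, 3, 4, 1, 4, 1, 4], [4, 0, 0, 2, 4, 0, 4],
  [0, 0, 2, 4, 1, 4, 0, 0], [0, 4, 0, 2, 0, 4], [0, 0, 2, 4, 1, 4, 0, 0, 4], [4, 0, 4, 0, 2, 0, 4],
  [3, 1, 4, 1, 3, 4, 1], [4, 1, 3, 4, 0, 0], [3, 1, 4, 1, 3, 4, 1, 4], [1, 3, 4, 0, 0],
  [0, 0, 2, 4, 0, 4, 1, 4, 0, 4], [0, 0, 2, 4, 1, 4, 1, 4, 1, 4], [0, 0, 2, 4, 0, 4, 1, 4, 0], [0, 4, 0, 0, 3, 4, 0, 4, 0],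
  [0, 2, 4, 0, 4, 0, 2], [4, 0, 0, 2, 4, 0], [0, 2, 4, 0, 4, 0, 2, 4], [0, 0, 2, 4, 0],
  [1, 3, 4, 0, 4, 0], [4, 0, 4, 0, 2, 0], [1, 3, 4, 0, 4, 0, 4], [0, 4, 0, 2, 0],
  [0, 4, 0, 2, 4, 0], [1, 3, 4, 0, 0, 4], [0, 4, 0, 2, 4, 0, 4], [4, 1, 3, 4, 0, 0, 4],
  [1, 2], [4, 0, 4, 0, 4, 0, 2, 4], [3, 4, 0], [0, 4, 0, 4, 0, 2, 4],
  [1, 2, 4, 0, 4, 1], [3, 1, 4, 0, 4, 0], [0, 4, 1, 3, 4, 0, 4], [1, 4, 1, 4, 0, 2, 4],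
  [0, 0, 4, 0, 2, 4], [0, 4, 1, 3, 4, 0], [3, 4, 1, 4, 0, 0, 4], [1, 2, 4, 0, 4, 1, 4],
  [3, 1, 4, 1, 4, 1], [3, 4, 0, 4], [3, 4, 1, 4, 1, 4, 1], [1, 2, 4],
  [3, 4, 0, 4, 1, 4, 0, 4], [3, 4, 1, 4, 1, 4, 1, 4], [1, 2, 4, 1, 4, 0, 4], [3, 1, 4, 1, 4, 1, 4],
  [0, 4, 0, 0, 2, 4], [3, 4, 1, 4, 0, 0], [3, 4, 0, 0, 4, 1, 4], [0, 0, 4, 0, 2],
  [1, 4, 1, 4, 0, 2], [3, 4, 0, 0, 4, 1], [3, 1, 4, 0, 4, 0, 4], [0, 4, 0, 0, 2],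
  [0, 4, 0, 4, 0, 2], [1, 2, 4, 1, 4, 0], [4, 0, 4, 0, 4, 0, 2], [3, 4, 0, 4, 1, 4, 0],
  [0, 3, 4, 0, 0, 4, 1], [1, 4, 0, 2, 4], [0, 3, 4, 0, 0, 4, 1, 4], [4, 1, 4, 0, 2, 4],
  [0, 3, 1, 4, 1, 4, 1], [2, 4, 1, 4, 0], [0, 3, 1, 4, 1, 4, 1, 4], [0, 3, 4, 0],
  [0, 3, 1, 4, 0, 4, 0], [2, 0, 4, 1, 4], [0, 3, 1, 4, 0, 4, 0, 4], [2, 4, 0, 4, 1, 4],
  [2], [0, 3, 4, 1, 4, 1, 4, 1, 4], [2, 4], [0, 4, 0, 4, 0, 4, 0, 2],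
  [0, 0, 4, 1, 3, 4, 0], [4, 1, 4, 0, 2], [0, 0, 4, 1, 3, 4, 0, 4], [1, 4, 0, 2],
  [0, 0, 4, 0, 4, 0, 2], [0, 3, 4, 0, 4], [0, 0, 4, 0, 4, 0, 2, 4], [2, 4, 1, 4, 0, 4],
  [0, 3, 4, 1, 4, 0, 0], [2, 4, 0, 4, 1], [0, 3, 4, 1, 4, 0, 0, 4], [2, 0, 4, 1],
  [0, 3, 4, 0, 4, 1, 4, 0, 4], [0, 4, 0, 4, 0, 4, 0, 2, 4], [0, 3, 4, 0, 4, 1, 4, 0], [0, 3, 4, 1, 4, 1, 4, 1],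
  [0, 2, 4, 0, 2, 0, 4, 1], [0, 2, 0, 2, 4, 1, 4, 0], [0, 2, 4, 1, 4, 1, 3, 4, 0], [0, 2, 4, 0, 4, 1, 4, 0, 2],
  [0, 2, 0, 2, 4, 0, 4, 1], [2, 4, 1, 4, 1, 3], [0, 0, 2, 4, 0, 2, 4, 0, 4], [0, 2, 4, 0, 2],
  [0, 2, 0, 4, 1, 4, 0, 2], [0, 0, 2, 4, 0, 2, 4, 0], [0, 2, 4, 0, 0, 3, 4, 0, 4], [0, 2, 0, 2, 4, 0, 4, 1, 4],
  [0, 2, 0, 2], [0, 2, 4, 1, 4, 1, 3, 4, 0, 4], [2, 4, 0, 0, 3], [0, 2, 4, 0, 2, 0, 4, 1, 4],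
  [0, 0, 3, 4, 0, 4, 0, 2], [2, 4, 0, 0, 3, 4], [0, 3, 4, 0, 4, 0, 2, 4, 1], [0, 2, 0, 2, 4],
  [2, 0, 2, 4, 1, 4], [0, 2, 4, 0, 0, 3, 4, 0], [2, 4, 0, 2, 4, 1, 4], [0, 2, 0, 4, 1, 4, 0, 2, 4],
  [0, 2, 4, 0, 2, 4], [2, 4, 0, 2, 4, 1], [2, 4, 1, 4, 1, 3, 4], [2, 0, 2, 4, 1],
  [0, 2, 4, 0, 4, 1, 4, 0, 2, 4], [0, 3, 4, 0, 4, 0, 2, 4, 1, 4], [0, 2, 0, 2, 4, 1, 4, 0, 4], [0, 0, 3, 4, 0, 4, 0, 2, 4],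
  [0, 4, 0, 0, 2, 4, 1], [3, 4, 1, 4, 0], [0, 4, 0, 0, 2, 4, 1, 4], [3, 1, 4, 0],
  [3], [1, 4, 1, 4, 1, 4, 1, 3, 4], [3, 4], [0, 4, 0, 4, 0, 2, 4, 1],
  [0, 4, 0, 4, 0, 0, 3], [1, 2, 4, 1, 4], [0, 4, 0, 4, 0, 0, 3, 4], [3, 4, 0, 4, 1, 4],
  [0, 0, 4, 0, 2, 4, 1], [0, 4, 1, 3, 4], [0, 0, 4, 0, 2, 4, 1, 4], [4, 0, 4, 1, 3, 4],
  [1, 2, 4, 0, 4, 0, 0], [3, 1, 4, 0, 4], [0, 4, 1, 3, 4, 0, 4, 1], [3, 4, 1, 4, 0, 4],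
  [0, 4, 1, 4, 0, 4, 1, 3, 4], [0, 4, 0, 4, 0, 2, 4, 1, 4], [0, 4, 1, 4, 0, 4, 1, 3], [1, 4, 1, 4, 1, 4, 1, 3],
  [0, 0, 4, 1, 4, 1, 3], [3, 4, 0, 4, 1], [0, 0, 4, 1, 4, 1, 3, 4], [1, 2, 4, 1],
  [1, 2, 4, 0, 0, 4, 0], [4, 0, 4, 1, 3], [1, 2, 4, 0, 0, 4, 0, 4], [0, 4, 1, 3],
  [0, 0, 3], [0, 4, 1, 4, 1, 4, 1, 3, 4], [4, 0, 0, 3], [0, 2, 0, 4, 1, 4, 1, 4],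
  [0, 2, 0, 4, 1, 4, 1], [0, 0, 3, 4, 1, 4, 0], [0, 4, 1, 4, 1, 4, 1, 3], [0, 2, 4, 1, 4, 0, 4, 1],
  [0, 0, 4, 0, 4, 1, 3], [0, 2, 4, 0, 0, 4, 0], [0, 2, 0, 4, 0, 4, 0, 4], [0, 0, 3, 4, 0, 4, 1, 4],
  [0, 0, 3, 4, 0, 4, 1], [4, 1, 4, 1, 3], [0, 2, 4, 0, 0, 4, 0, 4], [1, 4, 1, 3],
  [0, 2, 4, 1, 4, 0, 4, 1, 4], [0, 2, 4, 0, 4, 0, 4, 0, 4], [0, 0, 3, 4, 1, 4, 0, 4], [0, 2, 4, 0, 4, 0, 0, 4],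
  [0, 2, 4, 0, 4, 0, 0], [4, 0, 0, 3, 4], [0, 2, 4, 0, 4, 0, 4, 0], [0, 0, 3, 4],
  [1, 4, 1, 3, 4], [4, 0, 2, 4, 1], [4, 1, 4, 1, 3, 4], [0, 2, 4, 1],
  [0, 2, 4, 1, 4], [0, 2, 0, 4, 0, 4, 0], [4, 0, 2, 4, 1, 4], [0, 0, 4, 0, 4, 1, 3, 4],
  [0, 3, 1], [2, 0, 4, 1, 4, 1, 4, 1, 4], [2, 4, 0, 0], [0, 3, 4, 0, 0, 4, 0, 4],
  [0, 3, 1, 4, 0, 4, 1], [2, 0, 4, 1, 4, 0, 0], [0, 3, 4, 0, 4, 0, 0, 4], [0, 3, 1, 4, 1, 4, 0, 4],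
  [2, 0, 4, 0, 4], [0, 3, 4, 0, 4, 0, 0], [2, 4, 0, 4, 0, 4], [0, 3, 1, 4, 0, 4, 1, 4],
  [0, 0, 4, 1, 3, 4, 1], [2, 4, 0, 0, 4], [0, 3, 4, 0, 4, 0, 4, 0], [0, 3, 1, 4],
  [0, 3, 4, 1, 4, 0, 4, 1, 4], [0, 3, 4, 0, 4, 0, 4, 0, 4], [0, 3, 4, 0, 4, 1, 4, 1], [0, 0, 4, 1, 3, 4, 1, 4],
  [0, 3, 4, 1, 4], [2, 4, 0, 4, 0], [2, 4, 1, 4, 1, 4], [2, 0, 4, 0],
  [0, 3, 1, 4, 1, 4, 0], [2, 4, 1, 4, 1], [2, 0, 4, 1, 4, 0, 0, 4], [0, 3, 4, 1],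
  [0, 3, 4, 0, 0, 4, 0], [1, 4, 0, 2, 4, 0, 0], [2, 0, 4, 1, 4, 1, 4, 1], [0, 3, 4, 1, 4, 0, 4, 1],
  [0, 2, 4, 0, 2, 4, 1], [2, 4, 0, 2, 4, 0, 0], [0, 2, 4, 0, 2, 4, 1, 4], [0, 0, 2, 4, 0, 2],
  [0, 0, 2, 0, 2], [0, 0, 3, 4, 0, 4, 0, 2, 4, 1, 4], [0, 0, 2, 0, 2, 4], [0, 0, 2, 4, 1, 4, 1, 3, 4, 0],
  [0, 2, 4, 1, 4, 1, 3], [0, 2, 0, 2, 4, 1, 4], [0, 2, 4, 1, 4, 1, 3, 4], [2, 4, 0, 0, 3, 4, 1, 4],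
  [2, 0, 2, 4, 1, 4, 1], [0, 2, 4, 0, 0, 3, 4], [2, 0, 2, 4, 1, 4, 1, 4], [2, 4, 0, 2, 0, 4, 0, 4],
  [1, 2, 4, 0, 2, 4, 0], [0, 0, 2, 4, 0, 2, 4], [1, 2, 4, 0, 2, 4, 0, 4], [2, 4, 0, 2, 4, 0, 0, 4],
  [0, 0, 2, 4, 0, 4, 1, 4, 0, 2, 4], [0, 0, 2, 4, 1, 4, 1, 3, 4, 0, 4], [0, 0, 2, 4, 0, 4, 1, 4, 0, 2], [0, 0, 3, 4, 0, 4, 0, 2, 4, 1],
  [2, 0, 2, 4, 0, 4, 0], [2, 4, 0, 0, 3, 4, 1], [2, 0, 2, 4, 0, 4, 0, 4], [0, 2, 0, 2, 4, 1],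
  [1, 3, 4, 0, 4, 0, 2], [2, 4, 0, 2, 0, 4, 0], [1, 3, 4, 0, 4, 0, 2, 4], [0, 2, 4, 0, 0, 3],
  [0, 4, 0, 4, 1], [1, 4, 0, 4, 0], [4, 0, 4, 0, 4, 1], [4, 1, 4, 0, 4, 0],
  [1, 4, 1, 4, 1], [4, 0, 4], [4, 1, 4, 1, 4, 1], [0, 4],
  [1, 4, 0, 0, 4], [0, 0, 4, 0, 0, 4, 0], [4, 1, 4, 0, 0, 4], [0, 4, 0, 4, 1, 4],
  [0], [0, 0, 4, 0, 4, 0, 4, 0, 4], [4, 0], [0, 0, 4, 0, 4, 0, 0, 4],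
  [0, 0, 4, 1, 4], [4, 1, 4, 0, 0], [4, 0, 0, 4, 1, 4], [1, 4, 0, 0],
  [0, 0, 4, 0, 4, 0, 0], [0, 4, 1, 4, 0], [0, 0, 4, 0, 4, 0, 4, 0], [4, 0, 4, 1, 4, 0],
  [0, 2, 4, 0, 4, 1, 3], [4, 0, 0, 4, 1], [1, 4, 0, 4, 0, 4], [0, 0, 4, 1],
  [4, 0, 4, 1, 4, 0, 4], [4, 1, 4, 1, 4, 1, 4], [0, 4, 1, 4, 0, 4], [1, 4, 1, 4, 1, 4],
  [0, 4, 0, 2, 4, 1], [1, 4, 0, 4, 1, 3], [4, 0, 4, 0, 2, 4, 1], [4, 1, 4, 0, 4, 1, 3],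
  [1, 3, 4, 0, 4, 1], [4, 0, 4, 0, 0, 3], [4, 1, 3, 4, 0, 4, 1], [0, 4, 0, 0, 3],
  [1, 3, 4, 1, 4, 0], [3, 1, 4, 0, 4, 0, 2], [0, 4, 1, 4, 1, 3, 4], [1, 3, 4, 0, 4, 1, 4],
  [1, 3], [4, 0, 4, 0, 2, 4, 1, 4], [4, 1, 3], [0, 4, 0, 2, 4, 1, 4],
  [3, 1, 4, 1, 3, 4, 0], [4, 1, 3, 4], [3, 4, 1, 4, 1, 3, 4, 0], [1, 3, 4],
  [0, 0, 2, 4, 1, 4], [0, 4, 1, 4, 1, 3], [4, 0, 0, 2, 4, 1, 4], [1, 3, 4, 1, 4, 0, 4],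
  [0, 4, 0, 0, 3, 4], [4, 0, 0, 2, 4, 1], [4, 0, 4, 0, 0, 3, 4], [0, 0, 2, 4, 1],
  [4, 1, 4, 0, 4, 1, 3, 4], [3, 4, 1, 4, 1, 3, 4, 0, 4], [1, 4, 0, 4, 1, 3, 4], [3, 1, 4, 1, 3, 4, 0, 4],
  [0, 3, 4, 1, 4, 1], [2, 4, 0, 4], [2, 4, 1, 4, 1, 4, 1], [2, 0, 4],
  [2, 0], [3, 4, 0, 4, 0, 4, 0, 2, 4], [2, 4, 0], [1, 2, 4, 0, 4, 0, 2, 4],
  [0, 3, 4, 0, 0, 4], [1, 4, 0, 2, 4, 0], [2, 4, 1, 4, 0, 0, 4], [2, 0, 4, 0, 4, 1, 4],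
  [2, 0, 4, 0, 4, 1], [0, 3, 4, 0, 4, 0], [1, 4, 0, 2, 4, 0, 4], [2, 4, 1, 4, 0, 4, 0],
  [1, 2, 4, 0, 4, 0, 2], [2, 0, 4, 1, 4, 0], [3, 4, 0, 4, 0, 4, 0, 2], [2, 4, 0, 4, 1, 4, 0],
  [2, 4, 0, 4, 1, 4, 0, 4], [2, 4, 1, 4, 1, 4, 1, 4], [2, 0, 4, 1, 4, 0, 4], [0, 3, 4, 1, 4, 1, 4],
  [3, 1, 4, 1, 4, 0, 2], [2, 4, 0, 0, 4, 1], [0, 3, 4, 0, 4, 0, 4], [0, 3, 1, 4, 1],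
  [0, 3, 1, 4, 1, 4], [2, 4, 1, 4, 0, 0], [2, 4, 0, 0, 4, 1, 4], [0, 3, 4, 0, 0],
  [2, 0, 2], [3, 4, 0, 4, 0, 2, 4, 1, 4], [2, 4, 0, 2], [1, 2, 4, 0, 2, 4, 1, 4],
  [1, 2, 4, 0, 2, 4, 1], [2, 0, 4, 1, 4, 0, 2], [3, 4, 0, 4, 0, 2, 4, 1], [2, 4, 0, 4, 1, 4, 0, 2],
  [2, 0, 2, 4, 1, 4, 0], [0, 3, 4, 0, 4, 0, 2], [1, 2, 4, 1, 4, 1, 3, 4], [2, 0, 2, 4, 0, 4, 1, 4],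
  [2, 0, 2, 4, 0, 4, 1], [2, 4, 0, 0, 3, 4, 0], [0, 3, 4, 0, 4, 0, 2, 4], [0, 2, 0, 2, 4, 0],
  [2, 4, 0, 4, 1, 4, 0, 2, 4], [2, 4, 1, 4, 1, 3, 4, 0, 4], [2, 0, 4, 1, 4, 0, 2, 4], [0, 2, 4, 0, 2, 4, 0, 4],
  [0, 2, 4, 0, 2, 4, 0], [2, 4, 0, 2, 4], [2, 4, 1, 4, 1, 3, 4, 0], [2, 0, 2, 4],
  [0, 2, 0, 2, 4, 0, 4], [2, 4, 0, 2, 0, 4, 1], [2, 4, 0, 0, 3, 4, 0, 4], [0, 2, 4, 0, 2, 0],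
  [0, 2, 4, 0, 2, 0, 4], [1, 2, 4, 1, 4, 1, 3], [2, 4, 0, 2, 0, 4, 1, 4], [2, 0, 2, 4, 1, 4, 0, 4],
  [0, 4, 1, 4, 1], [0, 0, 4, 0, 4], [4, 0, 4, 1, 4, 1], [4, 0, 0, 4, 0, 4],
  [1, 4, 0, 4, 1], [0, 4, 0, 4, 0], [4, 1, 4, 0, 4, 1], [4, 0, 4, 0, 4, 0],
  [0, 0, 4, 1, 4, 1, 4, 1, 4], [4, 1, 4, 0, 4, 1, 4], [0, 0, 4, 1, 4, 0, 0, 4], [1, 4, 0, 4, 1, 4],
  [0, 0, 4, 0, 0, 4, 1], [1, 2, 4, 0, 4, 1, 3], [1, 4, 1, 4, 0, 4], [0, 4, 1, 4, 1, 4],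
  [4, 0, 4, 0, 0], [1, 4, 1, 4, 0], [0, 4, 0, 0], [4, 1, 4, 1, 4, 0],
  [4, 1, 4], [0, 0, 4, 1, 4, 0, 0], [1, 4], [0, 0, 4, 1, 4, 1, 4, 1],
  [4, 0, 4, 0, 4, 0, 4], [1], [0, 4, 0, 4, 0, 4], [4, 1],
  [4, 0, 0, 4, 0], [0, 4, 0, 0, 4], [0, 0, 4, 0], [4, 0, 4, 0, 0, 4],
  [0, 4, 0, 0, 3, 4, 1], [3, 4, 1, 4, 1, 3], [1, 3, 4, 0, 0, 4, 0, 4], [3, 1, 4, 1, 3],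
  [1, 3, 1], [4, 0, 0, 2, 4, 1, 4, 1, 4], [4, 1, 3, 1], [0, 0, 2, 4, 1, 4, 1, 4],
  [0, 4, 0, 2, 4, 0, 0], [1, 3, 4, 0, 0, 4, 0], [0, 0, 2, 4, 0, 4, 0, 4], [0, 4, 0, 0, 3, 4, 1, 4],
  [0, 0, 2, 4, 1, 4, 1], [0, 4, 0, 2, 0, 4, 0], [4, 0, 0, 2, 4, 1, 4, 1], [1, 3, 4, 1, 4, 0, 4, 1],
  [1, 3, 4, 1, 4], [0, 0, 2, 4, 0, 4, 0], [4, 1, 3, 4, 1, 4], [0, 4, 0, 2, 4, 0, 0, 4],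
  [1, 3, 4, 1, 4, 0, 4, 1, 4], [1, 3, 4, 0, 4, 0, 4, 0, 4], [0, 4, 0, 2, 0, 4, 0, 4], [1, 3, 4, 0, 4, 0, 0, 4],
  [3, 1, 4, 1, 3, 4], [4, 1, 3, 4, 1], [3, 4, 1, 4, 1, 3, 4], [1, 3, 4, 1],
  [1, 3, 4, 0, 4, 0, 0], [4, 1, 3, 1, 4], [1, 3, 4, 0, 4, 0, 4, 0], [1, 3, 1, 4],
  [0, 4, 0, 4, 0, 2, 0], [1, 2, 4, 1, 4, 0, 0], [3, 1, 4, 0, 4, 0, 0, 4], [0, 4, 0, 0, 2, 4, 0, 4],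
  [1, 2, 4, 0, 0, 4, 1], [3, 4, 0, 0, 4], [3, 1, 4, 0, 4, 0, 4, 0], [1, 2, 0, 4],
  [1, 2, 4, 0, 4], [3, 1, 4, 0, 4, 0, 0], [3, 4, 0, 4, 0, 4], [0, 4, 0, 4, 0, 2, 0, 4],
  [1, 2, 0], [1, 2, 4, 1, 4, 1, 4, 1, 4], [3, 4, 0, 0], [0, 0, 4, 0, 2, 4, 0, 4],
  [3, 1, 4, 1, 4], [3, 4, 0, 4, 0], [3, 4, 1, 4, 1, 4], [1, 2, 4, 0],
  [0, 0, 4, 0, 2, 4, 0], [0, 4, 1, 3, 4, 0, 0], [1, 2, 4, 1, 4, 1, 4, 1], [1, 2, 4, 0, 4, 1, 4, 0],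
  [0, 4, 0, 0, 2, 4, 0], [3, 4, 1, 4, 1], [1, 2, 4, 1, 4, 0, 0, 4], [3, 1, 4, 1],
  [1, 2, 4, 0, 4, 1, 4, 0, 4], [3, 1, 4, 0, 4, 0, 4, 0, 4], [0, 4, 1, 3, 4, 0, 0, 4], [1, 2, 4, 0, 0, 4, 1, 4],
  [0, 2, 4, 0, 0, 4, 1], [2, 0, 4, 0, 2, 4], [0, 2, 0, 4, 1, 4, 0, 4], [2, 4, 0, 4, 0, 2, 4],
  [0, 2, 0, 4, 0, 4, 1], [0, 2, 4, 1, 4, 0, 0], [0, 2, 4, 0, 4, 1, 4, 0], [0, 2, 4, 1, 4, 1, 4, 1],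
  [4, 0, 0, 3, 4, 0, 4, 0, 4], [0, 2, 4, 0, 4, 1, 4, 0, 4], [0, 0, 3, 4, 0, 4, 0, 4], [0, 2, 0, 4, 0, 4, 1, 4],
  [0, 0, 3, 4, 1, 4, 1], [0, 2, 0, 4, 1, 4, 0], [0, 2, 4, 1, 4, 0, 4, 0], [0, 2, 4, 0, 0, 4, 1, 4],
  [4, 0, 2, 4, 0], [1, 4, 1, 3, 4, 0, 0], [0, 2, 4, 0], [0, 0, 3, 4, 1, 4, 1, 4],
  [4, 0, 2, 0, 4], [0, 0, 3, 4, 0, 4, 0], [0, 2, 0, 4], [4, 0, 0, 3, 4, 0, 4, 0],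
  [0, 2, 4, 1, 4, 1, 4, 1, 4], [0, 2, 0], [0, 2, 4, 1, 4, 0, 0, 4], [4, 0, 2, 0],
  [2, 4, 0, 4, 0, 2], [0, 2, 4, 0, 4], [2, 0, 4, 0, 2], [4, 0, 2, 4, 0, 4],
  [0, 4, 0, 0, 4, 1], [4, 0, 0, 4], [1, 4, 0, 4, 0, 4, 0], [0, 0, 4],
  [0, 0], [0, 4, 1, 4, 1, 4, 1, 4], [4, 0, 0], [0, 4, 0, 4, 0, 4, 1],
  [0, 4, 0, 4], [1, 4, 0, 4, 0, 0], [4, 0, 4, 0, 4], [0, 0, 4, 0, 4, 1, 4],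
  [0, 0, 4, 0, 4, 1], [0, 4, 1, 4, 0, 0], [1, 4, 0, 4, 0, 0, 4], [0, 0, 4, 1, 4, 0, 4],
  [1, 4, 0, 0, 4, 0], [0, 0, 2, 4, 0, 4, 1, 3], [0, 4, 1, 4, 1, 4, 1], [0, 4, 0, 4, 1, 4, 0],
  [0, 4, 0, 4, 1, 4, 0, 4], [1, 4, 0, 4, 0, 4, 0, 4], [0, 4, 1, 4, 0, 4, 0], [0, 4, 0, 0, 4, 1, 4],
  [0, 0, 4, 1, 4, 0], [4, 1, 4, 1], [0, 4, 1, 4, 0, 0, 4], [1, 4, 1],
  [1, 4, 1, 4], [4, 0, 4, 0], [4, 1, 4, 1, 4], [0, 4, 0],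
  [0, 4, 0, 2, 0, 4, 1], [0, 0, 2, 4, 1, 4, 0], [0, 0, 4, 1, 4, 0, 2, 4], [1, 3, 4, 0, 0, 4, 1, 4],
  [1, 3, 4, 0, 0, 4, 1], [0, 4, 0, 2, 4], [0, 0, 2, 4, 1, 4, 0, 4], [4, 0, 4, 0, 2, 4],
  [1, 4, 0, 4, 0, 4, 0, 2, 4], [0, 4, 0, 4, 1, 4, 0, 2, 4], [0, 4, 0, 0, 3, 4, 0, 4], [0, 0, 2, 4, 0, 4, 1, 4],
  [0, 0, 2, 4, 0, 4, 1], [1, 3, 4, 1, 4, 0, 0], [0, 4, 0, 4, 1, 4, 0, 2], [0, 4, 1, 4, 1, 3, 4, 0],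
  [4, 0, 4, 0, 2], [1, 3, 4, 0, 4], [0, 4, 0, 2], [4, 1, 3, 4, 0, 4],
  [4, 1, 3, 4, 0], [0, 0, 4, 1, 4, 0, 2], [1, 3, 4, 0], [0, 4, 0, 2, 0, 4, 1, 4],
  [0, 4, 1, 4, 1, 3, 4, 0, 4], [0, 0, 2], [0, 4, 0, 2, 4, 1, 4, 0], [4, 0, 0, 2],
  [4, 0, 0, 2, 4], [0, 4, 0, 0, 3, 4, 0], [0, 0, 2, 4], [1, 4, 0, 4, 0, 4, 0, 2],
  [0, 2, 4, 0, 4, 1], [4, 0, 0, 3, 4, 0], [1, 4, 0, 4, 0, 2, 4], [0, 0, 3, 4, 0],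
  [0, 2], [2, 4, 0, 4, 0, 2, 4, 1, 4], [4, 0, 2], [2, 0, 4, 0, 2, 4, 1, 4],
  [0, 2, 4, 1, 4, 0], [1, 4, 0, 4, 0, 2], [4, 0, 2, 4, 1, 4, 0], [0, 2, 4, 0, 4, 1, 4],
  [2, 0, 4, 0, 2, 4, 1], [0, 4, 1, 4, 0, 2], [2, 4, 0, 4, 0, 2, 4, 1], [4, 0, 4, 1, 4, 0, 2],
  [0, 2, 0, 4, 1, 4], [2, 0, 4, 1, 4, 1, 3], [4, 0, 2, 0, 4, 1, 4], [0, 2, 4, 1, 4, 0, 4],
  [4, 0, 4, 1, 4, 0, 2, 4], [4, 1, 4, 1, 3, 4, 0, 4], [0, 4, 1, 4, 0, 2, 4], [1, 4, 1, 3, 4, 0, 4],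
  [0, 0, 3, 4, 0, 4], [4, 0, 2, 0, 4, 1], [4, 0, 0, 3, 4, 0, 4], [0, 2, 0, 4, 1],
  [1, 4, 1, 3, 4, 0], [4, 0, 2, 4], [4, 1, 4, 1, 3, 4, 0], [0, 2, 4],
  [0, 3, 4, 0, 4, 1], [2, 0, 4, 0, 4, 0], [2, 4, 1, 4, 0, 4, 1], [2, 4, 0, 4, 0, 4, 0],
  [1, 4, 0, 2, 4, 1], [0, 4, 0, 4, 1, 3], [0, 3, 4, 1, 4, 0, 4], [2, 0, 4, 1, 4, 1, 4],
  [4, 1, 4, 1, 4, 1, 3, 4], [2, 4, 1, 4, 0, 4, 1, 4], [1, 4, 1, 4, 1, 3, 4], [0, 3, 4, 0, 4, 1, 4],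
  [2, 0, 4, 1, 4, 1], [0, 3, 1, 4, 0, 4], [0, 4, 0, 4, 1, 3, 4], [2, 4, 0, 0, 4, 0, 4],
  [2, 4, 1, 4], [1, 4, 1, 4, 1, 3], [0, 3, 4], [4, 1, 4, 1, 4, 1, 3],
  [2, 4, 0, 0, 4, 0], [0, 0, 4, 1, 3, 4], [0, 3, 1, 4, 0], [2, 4, 0, 4, 0, 0, 4],
  [2, 4, 0, 4, 0, 4, 0, 4], [0, 3], [2, 0, 4, 0, 4, 0, 4], [2, 4, 1],
  [2, 4, 0, 4, 0, 0], [0, 3, 4, 1, 4, 0], [0, 0, 4, 1, 3], [1, 4, 0, 2, 4, 1, 4],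
  [0, 4, 1, 3, 4, 1], [2, 0, 4, 0, 4, 1, 3], [3, 1, 4, 1, 4, 0, 4], [1, 2, 4, 1, 4, 1, 4],
  [1, 2, 4, 1, 4, 1], [0, 4, 1, 3, 1, 4], [3, 4, 0, 4, 1, 4, 1], [3, 4, 0, 0, 4, 0, 4],
  [2, 4, 1, 4, 1, 4, 1, 3, 4], [3, 4, 1, 4, 0, 4, 1, 4], [0, 3, 4, 1, 4, 1, 3, 4], [3, 1, 4, 0, 4, 1, 4],
  [3, 1, 4, 0, 4, 1], [1, 2, 4, 0, 4, 0], [3, 4, 1, 4, 0, 4, 1], [3, 4, 0, 4, 0, 4, 0],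
  [3, 4, 0, 0, 4, 0], [1, 2, 4, 0, 0, 4], [0, 4, 1, 3, 1], [3, 4, 0, 4, 0, 0, 4],
  [3, 4, 0, 4, 0, 0], [3, 1, 4, 1, 4, 0], [1, 2, 4, 0, 0], [0, 4, 1, 3, 4, 1, 4],
  [3, 4, 0, 4, 0, 4, 0, 4], [3, 1], [1, 2, 4, 0, 4, 0, 4], [3, 4, 1],
  [3, 4, 1, 4], [0, 3, 4, 1, 4, 1, 3], [3, 1, 4], [2, 4, 1, 4, 1, 4, 1, 3],
  [0, 2, 4, 0, 0, 3, 4, 1], [0, 0, 2, 4, 1, 4, 1, 3], [1, 2, 4, 0, 4, 1, 4, 0, 2], [1, 2, 4, 1, 4, 1, 3, 4, 0],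
  [0, 2, 0, 2, 4, 1, 4, 1], [0, 2, 4, 0, 2, 0, 4, 0], [0, 2, 4, 0, 2, 4, 0, 0, 4], [0, 0, 2, 4, 0, 2, 4, 1, 4],
  [1, 3, 4, 0, 4, 0, 2, 4, 1, 4], [1, 2, 4, 0, 4, 1, 4, 0, 2, 4], [0, 2, 0, 2, 4, 0, 4, 0, 4], [0, 2, 4, 0, 0, 3, 4, 1, 4],
  [0, 0, 2, 4, 0, 2, 4, 1], [1, 2, 4, 0, 2, 4], [0, 2, 4, 0, 2, 0, 4, 0, 4], [3, 4, 0, 4, 0, 2, 4],
  [2, 4, 0, 2, 0, 4], [0, 2, 0, 2, 4, 0, 4, 0], [1, 2, 0, 2, 4], [1, 3, 4, 0, 4, 0, 2, 4, 1],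
  [3, 4, 0, 4, 0, 2], [2, 0, 2, 4, 0, 4], [1, 2, 4, 0, 2], [2, 4, 0, 2, 4, 0, 4],
  [1, 2, 4, 1, 4, 1, 3, 4, 0, 4], [1, 2, 0, 2], [0, 0, 2, 4, 1, 4, 1, 3, 4], [2, 4, 0, 2, 0],
  [2, 4, 0, 2, 4, 0], [0, 2, 4, 0, 2, 4, 0, 0], [2, 0, 2, 4, 0], [0, 2, 0, 2, 4, 1, 4, 1, 4]]

/-- The word of the code 46. -/
def gw46 : List ℕ := [0, 0, 3, 1, 4]

/-- Words to the base point. -/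
def toBase46 : List (List ℕ) := [
  [], [4], [6, 4], [1, 6, 4], [3, 6, 4], [0, 6, 4],
  [4, 1, 6, 4], [6, 4, 1, 6, 4], [1, 6, 4, 1, 6, 4], [3, 6, 4, 1, 6, 4], [0, 6, 4, 1, 6, 4], [4, 1, 6, 4, 1, 6, 4],
  [4, 0, 6, 4], [4, 3, 6, 4], [4, 6, 4], [6, 4, 0, 6, 4], [1, 6, 4, 0, 6, 4], [6, 4, 6, 4],
  [1, 6, 4, 6, 4], [3, 6, 4, 6, 4], [0, 6, 4, 6, 4], [3, 6, 4, 0, 6, 4], [4, 1, 6, 4, 0, 6, 4], [4, 1, 6, 4, 6, 4],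
  [4, 0, 6, 4, 6, 4], [6, 4, 6, 4, 0, 6, 4], [4, 2, 6, 4, 6, 4], [4, 0, 6, 4, 3, 6, 4], [0, 4, 6, 4, 6, 4], [4, 6, 4, 1, 6, 4],
  [4, 6, 4, 3, 6, 4], [6, 4, 3, 6, 4], [1, 6, 4, 3, 6, 4], [2, 6, 4, 6, 4], [0, 4, 6, 4, 0, 6, 4], [4, 6, 4, 0, 6, 4],
  [4, 3, 6, 4, 0, 6, 4], [3, 6, 4, 3, 6, 4], [0, 6, 4, 3, 6, 4], [4, 1, 6, 4, 3, 6, 4], [4, 3, 6, 4, 6, 4], [4, 6, 4, 6, 4]]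

/-- Witnesses that no two points agree. -/
def apart46 : List (ℕ × List ℕ) := [
  (0, []), (1, [24]),
  (2, [4, 88]), (2, [12, 88]),
  (2, [0, 88]), (4, [16, 64, 128, 208]),
  (3, [32, 88, 136]), (4, [4, 96, 152, 200]),
  (4, [12, 96, 152, 200]), (4, [0, 96, 152, 200]),
  (13, [16, 64, 152, 208, 280, 321, 384002, 32, 536, 580, 656, 705, 768450]), (0, []),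
  (1, [8]), (1, [12]),
  (1, [24]), (2, [4, 88]),
  (2, [24, 76]), (3, [4, 88, 140]),
  (3, [0, 72, 152]), (2, [8, 88]),
  (2, [12, 88]), (12, [16, 88, 136, 208, 280, 321, 384002, 0, 536, 592, 641, 704450]),
  (12, [16, 88, 140, 208, 280, 321, 384002, 0, 528, 580, 641, 704450]), (11, [12, 80, 152, 208, 280, 321, 384002, 16, 512, 577, 640450]),
  (12, [0, 80, 152, 192, 272, 344, 385, 448002, 8, 592, 641, 704514]), (12, [0, 80, 152, 208, 280, 324, 385, 448002, 16, 608, 641, 704514]),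
  (11, [16, 88, 144, 216, 257, 320002, 0, 464, 512, 577, 640386]), (12, [16, 88, 144, 216, 264, 321, 384002, 0, 512, 592, 641, 704450]),
  (13, [0, 80, 152, 208, 280, 352, 385, 448002, 8, 576, 656, 705, 768514]), (11, [8, 80, 152, 208, 280, 321, 384002, 64, 528, 577, 640450]),
  (2, [24, 72]), (3, [4, 88, 136]),
  (2, [0, 88]), (12, [24, 80, 152, 208, 280, 321, 384002, 0, 528, 608, 641, 704450]),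
  (11, [24, 80, 152, 208, 280, 321, 384002, 16, 544, 577, 640450]), (12, [16, 68, 152, 208, 280, 321, 384002, 4, 528, 608, 641, 704450]),
  (3, [12, 88, 136]), (3, [0, 88, 136]),
  (11, [16, 88, 144, 216, 257, 320002, 24, 452, 528, 577, 640386]), (10, [16, 88, 144, 216, 257, 320002, 4, 464, 513, 576386]),
  (12, [0, 80, 152, 208, 280, 324, 385, 448002, 16, 580, 641, 704514])]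

/-- The word of the code 62. -/
def gw62 : List ℕ := [0, 0, 3, 4, 1, 4, 0, 4, 1]

/-- Words to the base point. -/
def toBase62 : List (List ℕ) := [
  [], [4], [6, 4], [1, 6, 4], [3, 6, 4], [0, 6, 4],
  [4, 3, 6, 4], [4, 6, 4], [4, 1, 6, 4], [6, 4, 1, 6, 4], [1, 6, 4, 1, 6, 4], [3, 6, 4, 1, 6, 4],
  [0, 6, 4, 1, 6, 4], [0, 4, 6, 4, 0, 6, 4], [4, 6, 4, 3, 6, 4], [6, 4, 3, 6, 4], [1, 6, 4, 3, 6, 4], [4, 1, 6, 4, 3, 6, 4],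
  [4, 0, 6, 4], [6, 4, 0, 6, 4], [1, 6, 4, 0, 6, 4], [6, 4, 6, 4], [1, 6, 4, 6, 4], [3, 6, 4, 6, 4],
  [0, 6, 4, 6, 4], [3, 6, 4, 0, 6, 4], [4, 3, 6, 4, 0, 6, 4], [4, 6, 4, 0, 6, 4], [4, 1, 6, 4, 0, 6, 4], [4, 1, 6, 4, 6, 4],
  [4, 2, 6, 4, 6, 4], [6, 4, 6, 4, 6, 4], [4, 0, 6, 4, 6, 4], [4, 0, 6, 4, 1, 6, 4], [4, 1, 6, 4, 1, 6, 4], [4, 6, 4, 1, 6, 4],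
  [4, 3, 6, 4, 6, 4], [4, 6, 4, 6, 4], [2, 6, 4, 6, 4], [0, 4, 6, 4, 6, 4], [3, 6, 4, 3, 6, 4], [0, 6, 4, 3, 6, 4]]

/-- Witnesses that no two points agree. -/
def apart62 : List (ℕ × List ℕ) := [
  (0, []), (1, [24]),
  (2, [4, 88]), (2, [12, 88]),
  (2, [0, 88]), (1, [8]),
  (1, [12]), (4, [16, 64, 128, 208]),
  (3, [32, 88, 136]), (4, [4, 96, 152, 200]),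
  (4, [12, 96, 152, 200]), (4, [0, 96, 152, 200]),
  (13, [8, 80, 152, 208, 280, 332, 385, 448002, 0, 592, 644, 705, 768514]), (13, [0, 80, 132, 216, 272, 344, 385, 448002, 8, 576, 656, 705, 768514]),
  (2, [24, 72]), (3, [4, 88, 136]),
  (14, [16, 88, 144, 224, 280, 352, 385, 448002, 32, 600, 644, 720, 769, 832514]), (0, []),
  (1, [24]), (2, [4, 88]),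
  (2, [24, 76]), (3, [4, 88, 140]),
  (3, [0, 72, 152]), (2, [8, 88]),
  (2, [12, 88]), (13, [0, 64, 144, 216, 272, 344, 385, 448002, 4, 592, 672, 705, 768514]),
  (11, [0, 80, 152, 196, 272, 344, 385, 448002, 16, 577, 640514]), (13, [0, 80, 152, 208, 260, 344, 385, 448002, 24, 592, 672, 705, 768514]),
  (11, [24, 80, 152, 208, 280, 321, 384002, 16, 516, 577, 640450]), (12, [0, 76, 144, 216, 272, 344, 385, 448002, 8, 592, 641, 704514]),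
  (13, [0, 80, 152, 192, 272, 344, 385, 448002, 8, 592, 672, 705, 768514]), (11, [0, 80, 152, 208, 280, 324, 385, 448002, 16, 577, 640514]),
  (11, [16, 88, 144, 216, 257, 320002, 0, 456, 528, 577, 640386]), (14, [16, 88, 144, 192, 256, 344, 385, 448002, 24, 580, 656, 736, 769, 832514]),
  (12, [0, 80, 152, 208, 256, 344, 385, 448002, 16, 608, 641, 704514]), (13, [8, 80, 152, 204, 272, 344, 385, 448002, 4, 592, 672, 705, 768514]),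
  (10, [24, 80, 152, 208, 280, 321, 384002, 16, 513, 576450]), (2, [0, 88]),
  (11, [24, 80, 152, 208, 280, 321, 384002, 0, 528, 577, 640450]), (3, [12, 88, 136]),
  (3, [0, 88, 136])]

end CfsgAutL34
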