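import Cfsg.Agent.Lib.AutL34Type.Engine
import Cfsg.Agent.Lib.AutL34Type.Enum46
import Cfsg.Agent.Lib.AutL34Type.Enum62
import Cfsg.Agent.Lib.AutL34Type.PointData
import Cfsg.Agent.Lib.AutL34Type.BraidChecks

/-!
Kernel checks of the two enumerations of forty-two points.
-/

set_option autoImplicit false
set_option maxRecDepth 100000
set_option maxHeartbeats 4000000
set_option Elab.async false

namespace CfsgAutL34

open Enum

/-- Cancel a letter against the head. -/
def redCons (x : ℕ) : List ℕ → List ℕ
  | [] => [x]
  | y :: w => if y = flipL x then w else x :: y :: w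

/-- Free reduction. -/
def redW (w : List ℕ) : List ℕ := w.foldr redCons []

/-- The word of the code. -/
def gwOf (g : ℕ) : List ℕ := if g = 46 then gw46 else gw62

/-- The relators. -/
def relsG (g : ℕ) : List (List ℕ) :=
  ((relsC ++ relsQ) ++ (baseIx.map fun i => [6] ++ wordA.getD i [] ++ [7] ++ winv (wordA.getD (apq qS i) [])) ++
    [[8] ++ winv (wordA.getD 2 []), gwOf g ++ wR ++ winv (gwOf g) ++ winv wT,
      (List.replicate 6 (wQ ++ gwOf g)).flatten]).map redW

/-- The code of a letter of the centraliser. -/
def cLetter (x : ℕ) : ℕ := [332, minv 0 332, 140, minv 0 140, 2, minv 0 2].getD x 0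

/-- The code of a word in the centraliser. -/
def cWord (w : List ℕ) : ℕ := w.foldl (fun acc x => mmul 0 acc (cLetter x)) 0

/-- The pair of a letter of the normaliser. -/
def nLetter (x : ℕ) : ℕ × ℕ :=
  [pOf 332, pOf (minv 0 332), pOf 140, pOf (minv 0 140), pI, pI, (0, qS), (0, qS), pOf 16, pOf 16].getD x pI

/-- The pair of a word in the normaliser. -/
def nWord (w : List ℕ) : ℕ × ℕ := w.foldl (fun acc x => pMul acc (nLetter x)) pI

theorem relsC_ok : (relsC.all fun w => (w.all fun x => decide (x < 6)) && cWord w == 0) = true ∧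
    (relsQ.all fun w => (w.all fun x => [0, 1, 2, 3, 6, 7].contains x) && nWord w == pI) = true := by decide +kernel

theorem wordA_ok : ((List.range 16).all fun i => ((wordA.getD i []).all fun x => decide (x < 6)) &&
    cWord (wordA.getD i []) == av i) = true ∧
    (gw46.all fun x => decide (x < 6)) = true ∧ (gw62.all fun x => decide (x < 6)) = true ∧
    cWord gw46 = 46 ∧ cWord gw62 = 62 ∧
    ([wR, wT, wQ].all fun w => w.all fun x => [0, 1, 2, 3, 6, 7].contains x) = true ∧
    nWord wR = pR ∧ nWord wT = pT ∧ nWord wQ = pP ∧ (baseIx.all fun i => decide (i < 16)) = true ∧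
    NAList.contains (minv 0 332) = true ∧ NAList.contains (minv 0 140) = true ∧ pMul (0, qS) (0, qS) = pI := by
  decide +kernel

/-- The enumeration for a code. -/
def ptCert (g : ℕ) : Cert :=
  if g = 46 then ⟨P46.facts, P46.nf, P46.par, P46.rep, P46.rows, rulesOf (relsG 46) P46.spec, P46.codes, [0, 2, 6, 8], 42, 10⟩
  else ⟨P62.facts, P62.nf, P62.par, P62.rep, P62.rows, rulesOf (relsG 62) P62.spec, P62.codes, [0, 2, 6, 8], 42, 10⟩

theorem facts46a : (ptCert 46).okFacts 0 1500 = true := by decide +kernel

theorem facts46b : (ptCert 46).okFacts 1500 1500 = true := by decide +kernel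

theorem facts46c : (ptCert 46).okFacts 3000 ((ptCert 46).nf - 3000) = true := by decide +kernel

theorem facts62a : (ptCert 62).okFacts 0 1500 = true := by decide +kernel

theorem facts62b : (ptCert 62).okFacts 1500 1500 = true := by decide +kernel

theorem facts62c : (ptCert 62).okFacts 3000 ((ptCert 62).nf - 3000) = true := by decide +kernel

theorem rows_pt : ([46, 62].all fun g => ((List.range 42).all fun d => (ptCert g).okRow d) &&
    (ptCert g).rep.getD 0 0 == 0 && decide (3000 ≤ (ptCert g).nf) &&
    (ptCert g).size == 42 && (ptCert g).letters == 10 && (ptCert g).sub == [0, 2, 6, 8]) = true := by decide +kernel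

/-- The point reached by a word. -/
def runP (g : ℕ) (w : List ℕ) (d : ℕ) : ℕ :=
  w.foldl (fun d x => CfsgPC.ap ((ptCert g).codes.getD x 0) d) d

/-- Running the derivations of one pair. -/
def derive (g d : ℕ) : List ℕ → List (ℕ × ℕ) → List (ℕ × ℕ)
  | [], acc => acc
  | e :: es, acc =>
    let i := e / 64
    let p := acc.getD i (0, 0)
    derive g d es (acc ++ [
      if e % 4 = 0 then (runP g [e / 4 % 16] p.1, runP g [e / 4 % 16] p.2)
      else if e % 4 = 1 then (p.2, p.1)
      else (let a := acc.getD (i % 1000) (0, 0); let b := acc.getD (i / 1000) (0, 0)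
            if a.2 = b.1 then (a.1, b.2) else a)])

theorem apart_ok : ([46, 62].all fun g =>
    let tb := if g = 46 then toBase46 else toBase62
    let ap := if g = 46 then apart46 else apart62
    let t1 := runP g (gwOf g) 0
    let t2 := runP g (gwOf g ++ [6] ++ gwOf g) 0
    ((List.range 42).all fun a => runP g (tb.getD a []) a == 0 && (tb.getD a []).all fun x => decide (x < 10)) &&
    ((List.range 41).all fun j =>
      let q := (derive g (j + 1) (ap.getD j (0, [])).2 [(0, j + 1)]).getD (ap.getD j (0, [])).1 (0, 0)
      q.1 == 0 && (q.2 == t1 || q.2 == t2)) &&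
    ((List.range 10).all fun x => (List.range 42).all fun a => decide (runP g [x] a < 42))) = true := by decide +kernel

end CfsgAutL34
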