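import Cfsg.Agent.Lib.AutL34Type.AutChecks
import Cfsg.Agent.Lib.ExtraspecialTwoIso
import Cfsg.Agent.Lib.ExtraOut.Model

/-!
The extraspecial group `D₈ * Q₈`: coordinates, and a pair of involutions fixed by a group acting as `S₄`.
-/

set_option autoImplicit false
set_option maxRecDepth 100000
set_option linter.unusedSectionVars false

namespace CfsgAutL34

/-- The coded group. -/
@[ext] structure E32 where
  /-- the code -/
  v : Fin 32
deriving DecidableEq

namespace E32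

/-- The element with a code. -/
def mk' (a : ℕ) : E32 := ⟨⟨a % 32, Nat.mod_lt _ (by norm_num)⟩⟩

theorem mk'_val {a : ℕ} (h : a < 32) : ((mk' a).v : ℕ) = a := Nat.mod_eq_of_lt h

instance : Mul E32 := ⟨fun a b => ⟨⟨emul a.v b.v, emul_lt _ a.v.2 _ b.v.2⟩⟩⟩
instance : One E32 := ⟨⟨⟨0, by norm_num⟩⟩⟩
instance : Inv E32 := ⟨fun a => ⟨⟨einv a.v, (emul_one _ a.v.2).2.2.1⟩⟩⟩

theorem mul_v (a b : E32) : ((a * b).v : ℕ) = emul a.v b.v := rfl

instance : Group E32 :=
  Group.ofLeftAxioms (fun a b c => E32.ext (Fin.ext (emul_assoc _ a.v.2 _ b.v.2 _ c.v.2)))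
    (fun a => E32.ext (Fin.ext (emul_one _ a.v.2).1)) (fun a => E32.ext (Fin.ext (emul_one _ a.v.2).2.2.2))

/-- The codes. -/
def equivFin : E32 ≃ Fin 32 := ⟨E32.v, fun v => ⟨v⟩, fun _ => rfl, fun _ => rfl⟩

instance : Fintype E32 := Fintype.ofEquiv _ equivFin.symm

theorem card_eq : Nat.card E32 = 32 := by rw [Nat.card_congr equivFin, Nat.card_fin]

theorem ext2 : CfsgLib.ExtraTwo.Ext2 E32 (mk' 16) where
  ne := fun h => absurd (congrArg (fun a : E32 => (a.v : ℕ)) h) (by decide)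
  center_iff g := by
    rw [Subgroup.mem_center_iff]
    refine Iff.trans ⟨fun h b hb => ?_, fun h b => E32.ext (Fin.ext (h _ b.v.2))⟩ ((center_eq _ g.v.2).trans ?_)
    · exact congrArg (fun a : E32 => (a.v : ℕ)) (h ⟨⟨b, hb⟩⟩)
    · constructor
      · rintro (h | h)
        · exact Or.inl (E32.ext (Fin.ext h))
        · exact Or.inr (E32.ext (Fin.ext h))
      · rintro (rfl | rfl)
        exacts [Or.inl rfl, Or.inr rfl]
  sq g := by
    rcases sq_eq _ g.v.2 with h | h
    · exact Or.inl (E32.ext (Fin.ext h))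
    · exact Or.inr (E32.ext (Fin.ext h))

theorem rootCount_eq : CfsgLib.ExtraTwo.rootCount E32 = 12 := by
  rw [CfsgLib.ExtraTwo.rootCount, Nat.card_eq_fintype_card]
  decide +kernel

end E32

/-- Coordinates on the extraspecial subgroup. -/
structure EData {H : Type*} [Group H] (E : Subgroup H) (ψ : ℕ → H) : Prop where
  mem : ∀ g, g ∈ E ↔ ∃ a < 32, ψ a = g
  mul : ∀ a < 32, ∀ b < 32, ψ (emul a b) = ψ a * ψ b
  inj : ∀ a < 32, ∀ b < 32, ψ a = ψ b → a = b

/-- Coordinates exist. -/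
theorem exists_eData {H : Type*} [Group H] (E : Subgroup H) (hE : Cfsg.IsExtraspecial 2 ↥E) (hE32 : Nat.card ↥E = 32)
    (hno : ∀ A : Subgroup ↥E, Cfsg.IsElementaryAbelian 2 A → Nat.card ↥A ≠ 8) : ∃ ψ, EData E ψ := by
  have : Finite E := Nat.finite_of_card_ne_zero (by omega)
  obtain ⟨w, hw⟩ := CfsgLib.ExtraTwo.ofExtraspecial hE
  have hr := CfsgExtraOut.rootCount_minus hw (n := 2) (by rw [hE32]; rfl) (by
    rintro ⟨A, h1, h2, h3⟩
    exact hno A ⟨h1, h2⟩ (by rw [h3]; rfl))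
  obtain ⟨e, -⟩ := CfsgLib.ExtraTwo.iso_of_invariants 32 E32 (E32.mk' 16) E w E32.card_eq hE32 E32.ext2 hw
    (by rw [E32.rootCount_eq]; norm_num at hr; omega)
  refine ⟨fun a => (e (E32.mk' a) : H), fun g => ⟨fun hg => ?_, ?_⟩, fun a ha b hb => ?_, fun a ha b hb h => ?_⟩
  · obtain ⟨x, hx⟩ := e.surjective ⟨g, hg⟩
    refine ⟨x.v, x.v.2, ?_⟩
    show (e (E32.mk' x.v) : H) = g
    rw [show E32.mk' x.v = x from E32.ext (Fin.ext (E32.mk'_val x.v.2)), hx]
  · rintro ⟨a, -, rfl⟩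
    exact (e _).2
  · show (e (E32.mk' (emul a b)) : H) = _
    rw [show E32.mk' (emul a b) = E32.mk' a * E32.mk' b from E32.ext (Fin.ext (by
      rw [E32.mul_v, E32.mk'_val ha, E32.mk'_val hb, E32.mk'_val (emul_lt _ ha _ hb)])), map_mul]
    rfl
  · have := e.injective (Subtype.ext h)
    have := congrArg (fun x : E32 => (x.v : ℕ)) this
    simpa [E32.mk'_val ha, E32.mk'_val hb] using this

/-- The action on the code of a generator determines the action on all codes. -/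
theorem eq_autOf {f : ℕ → ℕ} (hlt : ∀ a < 32, f a < 32) (hmul : ∀ a < 32, ∀ b < 32, f (emul a b) = emul (f a) (f b))
    (h0 : f 0 = 0) (h16 : f 16 = 16) {x : ℕ} (hx : x < 32) : f x = autOf (tup f) x := by
  have hc : ∀ g, g = 1 ∨ g = 2 ∨ g = 4 ∨ g = 8 → comp (tup f) g = f g := by
    have h1 := hlt 1 (by norm_num); have h2 := hlt 2 (by norm_num)
    have h4 := hlt 4 (by norm_num); have h8 := hlt 8 (by norm_num)
    rintro g (rfl | rfl | rfl | rfl) <;> simp [comp, tup] <;> omega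
  have key : ∀ l : List ℕ, (∀ g ∈ l, g = 1 ∨ g = 2 ∨ g = 4 ∨ g = 8) → ∀ a < 32,
      l.foldl emul a < 32 ∧ f (l.foldl emul a) = l.foldl (fun acc g => emul acc (comp (tup f) g)) (f a) := by
    intro l
    induction l with
    | nil => exact fun _ a ha => ⟨ha, rfl⟩
    | cons g l ih =>
      intro hl a ha
      have hg := hl g (List.mem_cons_self ..)
      have hg32 : g < 32 := by omega
      obtain ⟨r1, r2⟩ := ih (fun y hy => hl y (List.mem_cons_of_mem _ hy)) _ (emul_lt _ ha _ hg32)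
      refine ⟨r1, ?_⟩
      rw [List.foldl_cons, r2, hmul _ ha _ hg32, List.foldl_cons, hc g hg]
  obtain ⟨r1, r2⟩ := key (esplit x) (fun g hg => by
    have := List.mem_of_mem_filter hg
    simpa using this) 0 (by norm_num)
  rw [h0] at r2
  have hok := of_range_all esplit_ok hx
  simp only [Bool.or_eq_true, beq_iff_eq] at hok
  unfold autOf
  by_cases he : (esplit x).foldl emul 0 = x
  · simp only [he, beq_self_eq_true, if_true]
    rw [← r2, he]
  · simp only [beq_iff_eq, he, if_false]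
    rw [← r2, ← h16, ← hmul _ r1 _ (by norm_num), hok.resolve_left he]

/-- A hom of the coded group sends the generators to a candidate. -/
theorem tup_mem_cands {f : ℕ → ℕ} (hlt : ∀ a < 32, f a < 32)
    (hmul : ∀ a < 32, ∀ b < 32, f (emul a b) = emul (f a) (f b))
    (hinj : ∀ a < 32, ∀ b < 32, f a = f b → a = b) (h0 : f 0 = 0) (h16 : f 16 = 16) (l : List ℕ) (h1 : f 1 ∈ l) :
    f 1 ∈ invs ∧ tup f ∈ cands l := by
  have hi : ∀ v < 32, emul v v = 0 → v ≠ 0 → v ≠ 16 → f v ∈ invs := fun v hv h a b => by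
    simp only [invs, List.mem_filter, List.mem_range, Bool.and_eq_true, beq_iff_eq, bne_iff_ne]
    exact ⟨hlt v hv, ⟨by rw [← hmul v hv v hv, h, h0], fun e => a (hinj v hv 0 (by norm_num) (e.trans h0.symm))⟩,
      fun e => b (hinj v hv 16 (by norm_num) (e.trans h16.symm))⟩
  have hfour : ∀ v < 32, emul v v = 16 → f v ∈ fours := fun v hv h => by
    simp only [fours, List.mem_filter, List.mem_range, beq_iff_eq]
    exact ⟨hlt v hv, by rw [← hmul v hv v hv, h, h16]⟩
  have hc : ∀ a < 32, ∀ b < 32, emul a b = emul b a → emul (f a) (f b) = emul (f b) (f a) := fun a ha b hb h => by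
    rw [← hmul a ha b hb, ← hmul b hb a ha, h]
  have hn : ∀ a < 32, ∀ b < 32, emul a b ≠ emul b a → emul (f a) (f b) ≠ emul (f b) (f a) := fun a ha b hb h e =>
    h (hinj _ (emul_lt _ ha _ hb) _ (emul_lt _ hb _ ha) (by rw [hmul a ha b hb, hmul b hb a ha, e]))
  refine ⟨hi 1 (by norm_num) (by decide +kernel) (by norm_num) (by norm_num), ?_⟩
  simp only [cands, List.mem_flatMap, List.mem_map, List.mem_filter, bne_iff_ne, Bool.and_eq_true, beq_iff_eq]
  exact ⟨f 1, h1, f 2, ⟨hi 2 (by norm_num) (by decide +kernel) (by norm_num) (by norm_num),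
      hn 1 (by norm_num) 2 (by norm_num) (by decide +kernel)⟩,
    f 4, ⟨hfour 4 (by norm_num) (by decide +kernel), hc 1 (by norm_num) 4 (by norm_num) (by decide +kernel),
      hc 2 (by norm_num) 4 (by norm_num) (by decide +kernel)⟩,
    f 8, ⟨⟨hfour 8 (by norm_num) (by decide +kernel), hc 1 (by norm_num) 8 (by norm_num) (by decide +kernel),
      hc 2 (by norm_num) 8 (by norm_num) (by decide +kernel)⟩, hn 4 (by norm_num) 8 (by norm_num) (by decide +kernel)⟩,
    rfl⟩

section Action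

variable {H : Type*} [Group H] {E : Subgroup H} [E.Normal] {ψ : ℕ → H}

theorem EData.zero (D : EData E ψ) : ψ 0 = 1 := by
  have e := D.mul 0 (by norm_num) 0 (by norm_num)
  rw [show emul 0 0 = 0 by decide +kernel] at e
  exact mul_eq_left.1 e.symm

theorem EData.inv (D : EData E ψ) {a : ℕ} (ha : a < 32) : ψ (einv a) = (ψ a)⁻¹ := by
  obtain ⟨-, -, h1, h2⟩ := emul_one a ha
  refine (inv_eq_of_mul_eq_one_left ?_).symm
  rw [← D.mul _ h1 _ ha, h2, D.zero]

theorem EData.conj (D : EData E ψ) {a x : ℕ} (ha : a < 32) (hx : x < 32) : ψ (econj a x) = ψ a * ψ x * (ψ a)⁻¹ := by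
  rw [econj, D.mul _ (emul_lt _ ha _ hx) _ (emul_one a ha).2.2.1, D.mul _ ha _ hx, D.inv ha]

theorem econj_lt {a x : ℕ} (ha : a < 32) (hx : x < 32) : econj a x < 32 :=
  emul_lt _ (emul_lt _ ha _ hx) _ (emul_one a ha).2.2.1

open Classical in
/-- The code of the conjugate by `c` of a code. -/
noncomputable def cd (ψ : ℕ → H) (c : H) (a : ℕ) : ℕ :=
  if h : ∃ b < 32, ψ b = c * ψ a * c⁻¹ then h.choose else 0

theorem EData.cd_spec (D : EData E ψ) (c : H) {a : ℕ} (ha : a < 32) :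
    cd ψ c a < 32 ∧ ψ (cd ψ c a) = c * ψ a * c⁻¹ := by
  classical
  have h : ∃ b < 32, ψ b = c * ψ a * c⁻¹ :=
    (D.mem _).1 (Subgroup.Normal.conj_mem inferInstance _ ((D.mem _).2 ⟨a, ha, rfl⟩) c)
  rw [cd, dif_pos h]
  exact h.choose_spec

theorem EData.cd_eq (D : EData E ψ) (c : H) {a b : ℕ} (ha : a < 32) (hb : b < 32) (h : ψ b = c * ψ a * c⁻¹) :
    cd ψ c a = b :=
  D.inj _ (D.cd_spec c ha).1 _ hb ((D.cd_spec c ha).2.trans h.symm)

theorem EData.cd_hom (D : EData E ψ) (c : H) : (∀ a < 32, cd ψ c a < 32) ∧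
    (∀ a < 32, ∀ b < 32, cd ψ c (emul a b) = emul (cd ψ c a) (cd ψ c b)) ∧
    (∀ a < 32, ∀ b < 32, cd ψ c a = cd ψ c b → a = b) ∧ cd ψ c 0 = 0 ∧ cd ψ c 16 = 16 := by
  have h1 : ∀ a < 32, cd ψ c a < 32 := fun a ha => (D.cd_spec c ha).1
  have hinj : ∀ a < 32, ∀ b < 32, cd ψ c a = cd ψ c b → a = b := fun a ha b hb h => by
    have := (D.cd_spec c ha).2
    rw [h, (D.cd_spec c hb).2] at this
    exact (D.inj _ hb _ ha (mul_left_cancel (mul_right_cancel this))).symm
  have hmul : ∀ a < 32, ∀ b < 32, cd ψ c (emul a b) = emul (cd ψ c a) (cd ψ c b) := fun a ha b hb =>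
    D.cd_eq c (emul_lt _ ha _ hb) (emul_lt _ (h1 a ha) _ (h1 b hb)) (by
      rw [D.mul _ (h1 a ha) _ (h1 b hb), (D.cd_spec c ha).2, (D.cd_spec c hb).2, D.mul _ ha _ hb]; group)
  have h0 : cd ψ c 0 = 0 := D.cd_eq c (by norm_num) (by norm_num) (by rw [D.zero]; group)
  refine ⟨h1, hmul, hinj, h0, ?_⟩
  have l16 := h1 16 (by norm_num)
  have hcent : ∀ g < 32, emul g (cd ψ c 16) = emul (cd ψ c 16) g := by
    intro g hg
    obtain ⟨y, hy, hyg⟩ : ∃ y < 32, cd ψ c y = g := by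
      obtain ⟨y, hy, e⟩ := (D.mem (c⁻¹ * ψ g * c)).1 (by
        simpa using Subgroup.Normal.conj_mem inferInstance _ ((D.mem _).2 ⟨g, hg, rfl⟩) c⁻¹)
      exact ⟨y, hy, D.cd_eq c hy hg (by rw [e]; group)⟩
    rw [← hyg, ← hmul _ hy _ (by norm_num), ← hmul _ (by norm_num) _ hy, (center_eq 16 (by norm_num)).2 (Or.inr rfl) y hy]
  rcases (center_eq _ l16).1 hcent with h | h
  · exact absurd (hinj 16 (by norm_num) 0 (by norm_num) (h.trans h0.symm)) (by norm_num)
  · exact h

/-- The centraliser acts on the five pairs of involutions outside the centre, with kernel `E`. -/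
theorem EData.exists_pair_action [Finite H] (D : EData E ψ) (hC : Subgroup.centralizer (E : Set H) ≤ E) :
    ∃ ρ : H →* Equiv.Perm (Fin 5), ρ.ker = E ∧ ∀ c (i : Fin 5),
      cd ψ c (pairs.getD i 0) = pairs.getD (ρ c i) 0 ∨ cd ψ c (pairs.getD i 0) = emul (pairs.getD (ρ c i) 0) 16 := by
  classical
  obtain ⟨hlen, hnd, hinvs, hdist, hsub⟩ := pairs_ok
  have hp : ∀ i : Fin 5, pairs.getD i 0 ∈ invs ∧ pairs.getD i 0 < 32 := fun i => by
    have hi : (i : ℕ) < pairs.length := by rw [hlen]; exact i.2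
    have := of_all hsub (show pairs.getD i 0 ∈ pairs by rw [List.getD_eq_getElem _ _ hi]; exact List.getElem_mem _)
    simpa using this
  have huniq : ∀ (v : ℕ) (i j : Fin 5), (v = pairs.getD i 0 ∨ v = emul (pairs.getD i 0) 16) →
      (v = pairs.getD j 0 ∨ v = emul (pairs.getD j 0) 16) → i = j := by
    intro v i j hi hj
    by_contra hne
    have hne' : (i : ℕ) ≠ j := fun e => hne (Fin.ext e)
    have d1 := of_range_all (of_range_all hdist i.2) j.2
    have d2 := of_range_all (of_range_all hdist j.2) i.2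
    simp only [Bool.or_eq_true, beq_iff_eq, bne_iff_ne] at d1 d2
    have hii : (i : ℕ) < pairs.length := by rw [hlen]; exact i.2
    have hjj : (j : ℕ) < pairs.length := by rw [hlen]; exact j.2
    rcases hi with hi | hi <;> rcases hj with hj | hj
    · rw [hi, List.getD_eq_getElem _ _ hii, List.getD_eq_getElem _ _ hjj] at hj
      exact hne' ((List.Nodup.getElem_inj_iff hnd).1 hj)
    · exact (d1.resolve_left hne') (hi.symm.trans hj)
    · exact (d2.resolve_left fun e => hne' e.symm) (hj.symm.trans hi)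
    · have e16 : ∀ p < 32, emul (emul p 16) 16 = p := by decide +kernel
      have := congrArg (emul · 16) (hi.symm.trans hj)
      simp only [e16 _ (hp i).2, e16 _ (hp j).2] at this
      rw [List.getD_eq_getElem _ _ hii, List.getD_eq_getElem _ _ hjj] at this
      exact hne' ((List.Nodup.getElem_inj_iff hnd).1 this)
  have hex : ∀ (c : H) (i : Fin 5), ∃ j : Fin 5,
      cd ψ c (pairs.getD i 0) = pairs.getD j 0 ∨ cd ψ c (pairs.getD i 0) = emul (pairs.getD j 0) 16 := by
    intro c i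
    obtain ⟨h1, hmul, hinj, h0, h16⟩ := D.cd_hom c
    obtain ⟨hv, -⟩ := hp i
    simp only [invs, List.mem_filter, List.mem_range, Bool.and_eq_true, beq_iff_eq, bne_iff_ne] at hv
    obtain ⟨hv32, ⟨hsq, hn0⟩, hn16⟩ := hv
    have hmem : cd ψ c (pairs.getD i 0) ∈ invs := by
      simp only [invs, List.mem_filter, List.mem_range, Bool.and_eq_true, beq_iff_eq, bne_iff_ne]
      exact ⟨h1 _ hv32, ⟨by rw [← hmul _ hv32 _ hv32, hsq, h0],
        fun e => hn0 (hinj _ hv32 0 (by norm_num) (e.trans h0.symm))⟩,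
        fun e => hn16 (hinj _ hv32 16 (by norm_num) (e.trans h16.symm))⟩
    have := of_all hinvs hmem
    simp only [List.any_eq_true, Bool.or_eq_true, beq_iff_eq] at this
    obtain ⟨p, hpmem, hor⟩ := this
    obtain ⟨j, hj, rfl⟩ := List.mem_iff_getElem.1 hpmem
    refine ⟨⟨j, hlen ▸ hj⟩, ?_⟩
    rwa [List.getD_eq_getElem _ _ hj]
  choose f hf using hex
  have e16 : ∀ p < 32, emul (emul p 16) 16 = p := by decide +kernel
  have hmulf : ∀ c c' i, f (c * c') i = f c (f c' i) := by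
    intro c c' i
    obtain ⟨h1, hmul, -, -, h16⟩ := D.cd_hom c
    obtain ⟨h1', -, -, -, -⟩ := D.cd_hom c'
    have hcc : cd ψ (c * c') (pairs.getD i 0) = cd ψ c (cd ψ c' (pairs.getD i 0)) :=
      D.cd_eq _ (hp i).2 (h1 _ (h1' _ (hp i).2)) (by
        rw [(D.cd_spec c (h1' _ (hp i).2)).2, (D.cd_spec c' (hp i).2).2]; group)
    refine huniq _ _ _ (hf (c * c') i) ?_
    rw [hcc]
    rcases hf c' i with h | h <;> rw [h]
    · exact hf c (f c' i)
    · rw [hmul _ (hp _).2 16 (by norm_num), h16]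
      rcases hf c (f c' i) with h' | h' <;> rw [h']
      · exact Or.inr rfl
      · exact Or.inl (e16 _ (hp _).2)
  have hone : ∀ i, f 1 i = i := fun i => huniq _ _ _ (hf 1 i) (Or.inl (D.cd_eq 1 (hp i).2 (hp i).2 (by simp)))
  let π : H → Equiv.Perm (Fin 5) := fun c =>
    ⟨f c, f c⁻¹, fun i => by rw [← hmulf, inv_mul_cancel, hone], fun i => by rw [← hmulf, mul_inv_cancel, hone]⟩
  refine ⟨{ toFun := π, map_one' := Equiv.ext hone, map_mul' := fun c c' => Equiv.ext (hmulf c c') }, ?_, hf⟩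
  ext c
  rw [MonoidHom.mem_ker]
  constructor
  · intro hc
    have hfix : ∀ i, f c i = i := fun i => Equiv.congr_fun hc i
    obtain ⟨h1, hmul, hinj, h0, h16⟩ := D.cd_hom c
    obtain ⟨hi, -⟩ := tup_mem_cands h1 hmul hinj h0 h16 [cd ψ c 1] (by simp)
    obtain ⟨-, ht⟩ := tup_mem_cands h1 hmul hinj h0 h16 invs hi
    have hall : (pairs.all fun p => autOf (tup (cd ψ c)) p == p || autOf (tup (cd ψ c)) p == emul p 16) = true := by
      refine List.all_eq_true.2 fun p hpmem => ?_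
      obtain ⟨j, hj, rfl⟩ := List.mem_iff_getElem.1 hpmem
      have hj5 : j < 5 := hlen ▸ hj
      have := hf c ⟨j, hj5⟩
      rw [hfix] at this
      have hlt := (hp ⟨j, hj5⟩).2
      rw [List.getD_eq_getElem _ _ hj] at this hlt
      rw [← eq_autOf h1 hmul h0 h16 hlt]
      simpa using this
    have := List.all_eq_true.1 fix_inner _ ht
    simp only [hall, Bool.not_true, Bool.false_or, List.any_eq_true, List.mem_range, beq_iff_eq] at this
    obtain ⟨e, he, het⟩ := this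
    have hag : ∀ a < 32, cd ψ c a = cd ψ (ψ e) a := by
      intro a ha
      obtain ⟨g1, gm, gi, g0, g16⟩ := D.cd_hom (ψ e)
      have hte : tup (cd ψ (ψ e)) = tup (econj e) := by
        unfold tup
        rw [D.cd_eq _ (by norm_num) (econj_lt he (by norm_num)) (D.conj he (by norm_num)),
          D.cd_eq _ (by norm_num) (econj_lt he (by norm_num)) (D.conj he (by norm_num)),
          D.cd_eq _ (by norm_num) (econj_lt he (by norm_num)) (D.conj he (by norm_num)),
          D.cd_eq _ (by norm_num) (econj_lt he (by norm_num)) (D.conj he (by norm_num))]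
      rw [eq_autOf h1 hmul h0 h16 ha, eq_autOf g1 gm g0 g16 ha, hte, het]
    have hcent : (ψ e)⁻¹ * c ∈ E := hC (Subgroup.mem_centralizer_iff.2 fun g hg => by
      obtain ⟨a, ha, rfl⟩ := (D.mem g).1 hg
      have h := (D.cd_spec c ha).2
      rw [hag a ha, (D.cd_spec (ψ e) ha).2] at h
      calc ψ a * ((ψ e)⁻¹ * c) = (ψ e)⁻¹ * (ψ e * ψ a * (ψ e)⁻¹) * c := by group
        _ = (ψ e)⁻¹ * (c * ψ a * c⁻¹) * c := by rw [h]
        _ = (ψ e)⁻¹ * c * ψ a := by group)
    simpa using E.mul_mem ((D.mem _).2 ⟨e, he, rfl⟩) hcent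
  · intro hc
    obtain ⟨e, he, rfl⟩ := (D.mem c).1 hc
    refine Equiv.ext fun i => huniq _ _ _ (hf (ψ e) i) ?_
    rw [D.cd_eq _ (hp i).2 (econj_lt he (hp i).2) (D.conj he (hp i).2)]
    have hi : (i : ℕ) < pairs.length := by rw [hlen]; exact i.2
    have := of_all (of_range_all inner_fix he)
      (show pairs.getD i 0 ∈ pairs by rw [List.getD_eq_getElem _ _ hi]; exact List.getElem_mem _)
    simpa using this

theorem stab_set_small : ∀ s : Finset (Fin 5), (s.card = 2 ∨ s.card = 3) →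
    ((Finset.univ : Finset (Equiv.Perm (Fin 5))).filter fun σ => ∀ i ∈ s, σ i ∈ s).card ≤ 12 := by
  decide +kernel

/-- A group of order 24 on five points fixes one of them. -/
theorem exists_fixed_point {R : Subgroup (Equiv.Perm (Fin 5))} (hR : Nat.card R = 24) :
    ∃ i, ∀ σ ∈ R, σ i = i := by
  classical
  obtain ⟨O, hOdef⟩ : ∃ O : Finset (Fin 5), (MulAction.orbit R (0 : Fin 5)).toFinset = O := ⟨_, rfl⟩
  have hOmem : ∀ i, i ∈ O ↔ ∃ σ ∈ R, σ 0 = i := fun i => by
    rw [← hOdef, Set.mem_toFinset, MulAction.mem_orbit_iff]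
    exact ⟨fun ⟨σ, h⟩ => ⟨σ, σ.2, h⟩, fun ⟨σ, h, h'⟩ => ⟨⟨σ, h⟩, h'⟩⟩
  have hinv : ∀ σ ∈ R, ∀ i ∈ O, σ i ∈ O := fun σ hσ i hi => by
    obtain ⟨τ, hτ, rfl⟩ := (hOmem i).1 hi
    exact (hOmem _).2 ⟨σ * τ, R.mul_mem hσ hτ, rfl⟩
  have hcard : O.card = 1 ∨ O.card = 2 ∨ O.card = 3 ∨ O.card = 4 := by
    have h1 : O.card ∣ 24 := by
      rw [← hOdef, Set.toFinset_card, ← hR, ← Nat.card_eq_fintype_card]
      exact Dvd.intro _ (Nat.card_congr (MulAction.orbitProdStabilizerEquivGroup R (0 : Fin 5)) |>.symm.trans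
        (Nat.card_prod _ _)).symm
    have h2 : O.card ≤ 5 := le_trans (Finset.card_le_univ O) (by simp)
    have h3 : 0 < O.card := Finset.card_pos.2 ⟨0, (hOmem 0).2 ⟨1, R.one_mem, rfl⟩⟩
    rcases Nat.lt_or_ge O.card 5 with h | h
    · omega
    · have : O.card = 5 := by omega
      rw [this] at h1; norm_num at h1
  have h0 : (0 : Fin 5) ∈ O := (hOmem 0).2 ⟨1, R.one_mem, rfl⟩
  rcases hcard with h | h | h | h
  · obtain ⟨a, ha⟩ := Finset.card_eq_one.1 h
    refine ⟨a, fun σ hσ => ?_⟩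
    have := hinv σ hσ a (by simp [ha])
    simpa [ha] using this
  pick_goal 3
  · have hc : Oᶜ.card = 1 := by rw [Finset.card_compl, h]; rfl
    obtain ⟨a, ha⟩ := Finset.card_eq_one.1 hc
    refine ⟨a, fun σ hσ => ?_⟩
    have hna : σ a ∉ O := fun hm => by
      have := hinv σ⁻¹ (R.inv_mem hσ) _ hm
      rw [show σ⁻¹ (σ a) = a from σ.symm_apply_apply a] at this
      exact (Finset.mem_compl.1 (show a ∈ Oᶜ by simp [ha])) this
    have := Finset.mem_compl.2 hna
    simpa [ha] using this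
  all_goals
    exfalso
    have hle := stab_set_small O (by omega)
    have : Nat.card R ≤ ((Finset.univ : Finset (Equiv.Perm (Fin 5))).filter fun σ => ∀ i ∈ O, σ i ∈ O).card := by
      rw [Nat.card_eq_fintype_card, ← Finset.card_univ]
      refine Finset.card_le_card_of_injOn (fun σ => (σ : Equiv.Perm (Fin 5))) (fun σ _ => ?_)
        fun a _ b _ hab => Subtype.ext hab
      simpa using hinv σ σ.2
    omega

/-- Coordinates in which the first involution has an invariant pair. -/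
theorem exists_eData_fix [Finite H] (hE : Cfsg.IsExtraspecial 2 ↥E) (hE32 : Nat.card ↥E = 32)
    (hno : ∀ A : Subgroup ↥E, Cfsg.IsElementaryAbelian 2 A → Nat.card ↥A ≠ 8)
    (hC : Subgroup.centralizer (E : Set H) ≤ E) (e : (H ⧸ E) ≃* Equiv.Perm (Fin 4)) :
    ∃ ψ, EData E ψ ∧ ∀ c : H, cd ψ c 1 = 1 ∨ cd ψ c 1 = 17 := by
  obtain ⟨ψ, D⟩ := exists_eData E hE hE32 hno
  obtain ⟨ρ, hker, hρ⟩ := D.exists_pair_action hC
  have hR : Nat.card ρ.range = 24 := by
    rw [← Nat.card_congr (QuotientGroup.quotientKerEquivRange ρ).toEquiv,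
      Nat.card_congr (QuotientGroup.quotientMulEquivOfEq hker).toEquiv, Nat.card_congr e.toEquiv, Nat.card_perm,
      Nat.card_fin]
    rfl
  obtain ⟨i, hi⟩ := exists_fixed_point hR
  obtain ⟨t, ht⟩ : ∃ t, repAut i = t := ⟨_, rfl⟩
  have hok := of_range_all repAut_ok i.2
  simp only [ht, Bool.and_eq_true, beq_iff_eq, List.all_eq_true, List.mem_range, decide_eq_true_eq, Bool.or_eq_true,
    bne_iff_ne] at hok
  obtain ⟨⟨⟨h0, h16⟩, h1⟩, hall⟩ := hok
  have hlt : ∀ a < 32, autOf t a < 32 := fun a ha => (hall a ha).1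
  have hmul : ∀ a < 32, ∀ b < 32, autOf t (emul a b) = emul (autOf t a) (autOf t b) :=
    fun a ha b hb => ((hall a ha).2 b hb).1
  have hinj : ∀ a < 32, ∀ b < 32, autOf t a = autOf t b → a = b :=
    fun a ha b hb h => ((hall a ha).2 b hb).2.elim id fun hne => absurd h hne
  have D' : EData E fun a => ψ (autOf t a) := by
    refine ⟨fun g => ⟨fun hg => ?_, ?_⟩, fun a ha b hb => ?_, fun a ha b hb h => hinj a ha b hb
      (D.inj _ (hlt a ha) _ (hlt b hb) h)⟩
    · obtain ⟨b, hb, rfl⟩ := (D.mem g).1 hg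
      obtain ⟨⟨a, ha⟩, h⟩ := Finite.surjective_of_injective (f := fun a : Fin 32 => (⟨autOf t a, hlt a a.2⟩ : Fin 32))
        (fun a a' h => Fin.ext (hinj a a.2 a' a'.2 (congrArg Fin.val h))) ⟨b, hb⟩
      exact ⟨a, ha, congrArg ψ (congrArg Fin.val h)⟩
    · rintro ⟨a, ha, rfl⟩
      exact (D.mem _).2 ⟨_, hlt a ha, rfl⟩
    · rw [hmul a ha b hb, D.mul _ (hlt a ha) _ (hlt b hb)]
  refine ⟨_, D', fun c => ?_⟩
  obtain ⟨hb, hbe⟩ := D.cd_spec c (a := pairs.getD i 0) (by rw [← h1]; exact hlt 1 (by norm_num))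
  have h17 : autOf t 17 = emul (autOf t 1) 16 := by
    rw [← show emul 1 16 = 17 by decide +kernel, hmul 1 (by norm_num) 16 (by norm_num), h16]
  rcases hρ c i with h | h <;> rw [hi (ρ c) ⟨c, rfl⟩] at h
  · refine Or.inl (D'.cd_eq c (by norm_num) (by norm_num) ?_)
    show ψ (autOf t 1) = c * ψ (autOf t 1) * c⁻¹
    rw [h1, ← hbe, h]
  · refine Or.inr (D'.cd_eq c (by norm_num) (by norm_num) ?_)
    show ψ (autOf t 17) = c * ψ (autOf t 1) * c⁻¹
    rw [h17, h1, ← hbe, h]

end Action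

end CfsgAutL34
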