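import Cfsg.Agent.Lib.AutL34Type.Acts

/-!
The frame: the element of order three on the abelian subgroup and the complement normalising it.
-/

set_option autoImplicit false
set_option maxRecDepth 100000
set_option linter.unusedSectionVars false

namespace CfsgAutL34

variable {G : Type*} [Group G] {z : G} {φ : ℕ → G}

/-- Normalising the group of order three. -/
def Flips (r n : G) : Prop := n * r * n⁻¹ = r ∨ n * r * n⁻¹ = r⁻¹

theorem Flips.mul {r m n : G} (hm : Flips r m) (hn : Flips r n) : Flips r (m * n) := by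
  have e : m * n * r * (m * n)⁻¹ = m * (n * r * n⁻¹) * m⁻¹ := by group
  unfold Flips
  rcases hn with h | h <;> rw [e, h]
  · exact hm
  · rw [show m * r⁻¹ * m⁻¹ = (m * r * m⁻¹)⁻¹ by group]
    rcases hm with h' | h' <;> rw [h']
    · exact Or.inr rfl
    · exact Or.inl (inv_inv r)

theorem flips_one (r : G) : Flips r (1 : G) := Or.inl (by group)

/-- The frame. -/
structure Frame (z : G) (φ : ℕ → G) (r σ : G) : Prop where
  B : Base 0 z φ
  hr : Acts φ r qD
  r3 : r * r * r = 1
  hs : Acts φ σ qS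
  f1 : Flips r (φ 332)
  f2 : Flips r (φ 140)
  fs : Flips r σ

theorem qD_fix {i : ℕ} (hi : i < 16) (h : apq qD i = i) : i = 0 := by
  have := of_range_all qD_ok.2.2.2.1 hi
  simp only [Bool.and_eq_true, Bool.or_eq_true, bne_iff_ne, beq_iff_eq, decide_eq_true_eq] at this
  exact this.1.1.resolve_left fun hne => hne h

theorem packQ_congr {f g : ℕ → ℕ} (h : ∀ i < 16, f i = g i) : packQ f = packQ g := by
  unfold packQ
  exact List.foldr_ext _ _ _ fun i hi acc => by rw [h i (List.mem_range.1 hi)]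

theorem packQ_norm (f : ℕ → ℕ) (hf : ∀ x < 16, f x < 16) : packQ (apq (packQ f)) = packQ f :=
  packQ_congr fun _ hi => apq_packQ hf hi

theorem qWord_norm (L w : List ℕ) : packQ (apq (qWord L w)) = qWord L w := by
  have h : ∀ (w : List ℕ) (q : ℕ), packQ (apq q) = q →
      packQ (apq (w.foldl (fun acc l => qMul acc (L.getD l qI)) q)) = w.foldl (fun acc l => qMul acc (L.getD l qI)) q := by
    intro w
    induction w with
    | nil => intro q hq; exact hq
    | cons l w ih =>
      intro q _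
      simp only [List.foldl_cons]
      refine ih _ ?_
      unfold qMul
      exact packQ_norm (fun i => apq q (apq (L.getD l qI) i)) fun _ _ => apq_lt _ _
  unfold qWord
  refine h w qI ?_
  unfold qI
  exact packQ_norm (fun i => i) fun _ h => h

theorem qCode_norm {c : ℕ} (hc : c ∈ NAList) : packQ (apq (qCode c)) = qCode c := by
  simp only [NAList, List.mem_filter, List.mem_range, List.all_eq_true, List.contains_iff_mem] at hc
  unfold qCode
  exact packQ_norm (fun i => aix (mconj 0 c (av i))) fun x hx => (aix_lt (hc.2 _ (vrow hx).2.1)).1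

namespace Base

variable (B : Base 0 z φ)
include B

theorem NA_332 : (332 : ℕ) ∈ NAList ∧ (140 : ℕ) ∈ NAList :=
  ⟨List.contains_iff_mem.1 complement_rel.2.2.2.1, List.contains_iff_mem.1 complement_rel.2.2.2.2.1⟩

theorem acts_r2 {r : G} (hr : Acts φ r qD) (r3 : r * r * r = 1) : Acts φ r⁻¹ (qMul qD qD) := by
  rw [inv_eq_of_mul_eq_one_left r3]
  exact hr.mul hr

/-- A lift normalising the group of order three. -/
theorem exists_flip {r : G} (hr : Acts φ r qD) (r3 : r * r * r = 1) {n : G} {q : ℕ} (hn : Acts φ n q)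
    (hq : qMul q qD = qMul qD q ∨ qMul q qD = qMul (qMul qD qD) q) :
    ∃ b < 16, Flips r (φ (av b) * n) := by
  have hr2 := B.acts_r2 hr r3
  -- the conjugate is a translate of the power
  have key : ∃ (e : ℕ) (re : G), (e = qD ∧ re = r ∨ e = qMul qD qD ∧ re = r⁻¹) ∧ Acts φ re e ∧
      ∃ a < 16, n * r * n⁻¹ = φ (av a) * re := by
    have aux : ∀ (e : ℕ) (re : G), Acts φ re e → qMul q qD = qMul e q → ∃ a < 16, n * r * n⁻¹ = φ (av a) * re := by
      intro e re hre he
      obtain ⟨a, ha, e'⟩ := B.mem_av_of_acts (n := n * r * n⁻¹ * re⁻¹) (q := qI) (fun i hi => by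
          have hperm : ∀ j < 16, ∃ i < 16, apq e i = j := by
            intro j hj
            have hinj : Set.InjOn (apq e) (Finset.range 16 : Set ℕ) := fun x hx y hy hxy => by
              simp only [Finset.coe_range, Set.mem_Iio] at hx hy
              refine B.av_inj hx hy ?_
              have h1 := hre x hx
              rw [hxy, ← hre y hy] at h1
              exact mul_left_cancel (mul_right_cancel h1)
            obtain ⟨i, hi, e1⟩ := Finset.surjOn_of_injOn_of_card_le (apq e) (fun x _ => Finset.mem_range.2 (apq_lt e x))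
              hinj le_rfl (show j ∈ (Finset.range 16 : Set ℕ) by simpa using hj)
            exact ⟨i, by simpa using hi, e1⟩
          have hperm' : ∀ j < 16, ∃ i < 16, apq q i = j := by
            intro j hj
            have hinj : Set.InjOn (apq q) (Finset.range 16 : Set ℕ) := fun x hx y hy hxy => by
              simp only [Finset.coe_range, Set.mem_Iio] at hx hy
              refine B.av_inj hx hy ?_
              have h1 := hn x hx
              rw [hxy, ← hn y hy] at h1
              exact mul_left_cancel (mul_right_cancel h1)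
            obtain ⟨i, hi, e1⟩ := Finset.surjOn_of_injOn_of_card_le (apq q) (fun x _ => Finset.mem_range.2 (apq_lt q x))
              hinj le_rfl (show j ∈ (Finset.range 16 : Set ℕ) by simpa using hj)
            exact ⟨i, by simpa using hi, e1⟩
          obtain ⟨j, hj, rfl⟩ := hperm i hi
          obtain ⟨l, hl, rfl⟩ := hperm' j hj
          have h1 : n * φ (av l) * n⁻¹ = φ (av (apq q l)) := hn l hl
          have h2 := hre _ (apq_lt q l)
          rw [← apq_qMul e q hl, ← he, apq_qMul q qD hl, ← hn _ (apq_lt qD l), ← hr l hl] at h2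
          have h3 : apq e (apq q l) = apq q (apq qD l) := by rw [← apq_qMul e q hl, ← he, apq_qMul q qD hl]
          rw [apq_qI (apq_lt _ _), h3, ← hn _ (apq_lt qD l), ← hr l hl, ← h2, ← h1]
          calc n * r * n⁻¹ * re⁻¹ * (re * (n * φ (av l) * n⁻¹) * re⁻¹) * (n * r * n⁻¹ * re⁻¹)⁻¹
              = n * (r * φ (av l) * r⁻¹) * n⁻¹ := by group
            _ = _ := by rw [h1, h2])
        (fun i hi => apq_qI hi)
      exact ⟨a, ha, by rw [e']; group⟩
    rcases hq with h | h
    · exact ⟨qD, r, Or.inl ⟨rfl, rfl⟩, hr, aux _ _ hr h⟩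
    · exact ⟨_, r⁻¹, Or.inr ⟨rfl, rfl⟩, hr2, aux _ _ hr2 h⟩
  obtain ⟨e, re, hcase, hre, a, ha, hna⟩ := key
  have he : e ∈ [qD, qMul qD qD] := by rcases hcase with ⟨rfl, -⟩ | ⟨rfl, -⟩ <;> simp
  have := List.all_eq_true.1 (of_range_all halve_ok ha) e he
  simp only [List.any_eq_true, List.mem_range, beq_iff_eq] at this
  obtain ⟨b, hb, hba⟩ := this
  refine ⟨b, hb, ?_⟩
  have heq : φ (av b) * n * r * (φ (av b) * n)⁻¹ = re := by
    calc φ (av b) * n * r * (φ (av b) * n)⁻¹ = φ (av b) * (n * r * n⁻¹) * (φ (av b))⁻¹ := by group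
      _ = φ (av b) * φ (av a) * (re * φ (av b) * re⁻¹) * re := by rw [hna, B.av_inv hb]; group
      _ = φ (av b) * φ (av a) * φ (av (apq e b)) * re := by rw [hre b hb]
      _ = φ (av a) * (φ (av b) * φ (av (apq e b))) * re := by rw [B.av_comm hb ha]; group
      _ = re := by rw [B.av_mul hb (apq_lt e b), hba, B.av_sq ha, one_mul]
  rcases hcase with ⟨-, rfl⟩ | ⟨-, rfl⟩
  · exact Or.inl heq
  · exact Or.inr heq

/-- Lifts normalising the group of order three are unique. -/
theorem flip_unique {r : G} (hr : Acts φ r qD) (r3 : r * r * r = 1) {m n : G} {p q : ℕ} (hm : Acts φ m p)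
    (hn : Acts φ n q) (hpq : ∀ i < 16, apq p i = apq q i) (fm : Flips r m) (fn : Flips r n) : m = n := by
  have hmi : Flips r m⁻¹ := by
    rcases fm with h | h
    · left; nth_rewrite 1 [← h]; group
    · right
      have h' : r = m⁻¹ * r⁻¹ * m := by rw [← h]; group
      calc m⁻¹ * r * m⁻¹⁻¹ = (m⁻¹ * r⁻¹ * m)⁻¹ := by group
        _ = r⁻¹ := by rw [← h']
  obtain ⟨a, ha, e⟩ := B.mem_av_of_acts (n := m⁻¹ * n) (q := qI) (fun i hi => by
      have h1 := hm i hi
      have h2 := hn i hi
      rw [hpq i hi, ← h2] at h1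
      rw [apq_qI hi]
      calc m⁻¹ * n * φ (av i) * (m⁻¹ * n)⁻¹ = m⁻¹ * (n * φ (av i) * n⁻¹) * m := by group
        _ = φ (av i) := by rw [← h1]; group) (fun i hi => apq_qI hi)
  have hfl : Flips r (φ (av a)) := e ▸ hmi.mul fn
  have hA := B.acts_av ha
  rcases hfl with h | h
  · have hfix : r * φ (av a) * r⁻¹ = φ (av a) := by
      calc r * φ (av a) * r⁻¹ = φ (av a) * r * (φ (av a))⁻¹ * φ (av a) * r⁻¹ := by rw [h]
        _ = φ (av a) := by group
    have ha0 := qD_fix ha (B.av_inj (apq_lt _ _) ha ((hr a ha).symm.trans hfix))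
    rw [ha0, B.av_zero] at e
    exact (inv_mul_eq_one.1 e.symm)
  · exfalso
    have h1 : Acts φ r⁻¹ qD := by
      intro i hi
      rw [← h]
      have e1 : φ (av a) * r * (φ (av a))⁻¹ * φ (av i) * (φ (av a) * r * (φ (av a))⁻¹)⁻¹ =
          φ (av a) * (r * ((φ (av a))⁻¹ * φ (av i) * φ (av a)) * r⁻¹) * (φ (av a))⁻¹ := by group
      rw [e1, mul_assoc (φ (av a))⁻¹, B.av_comm hi ha, inv_mul_cancel_left, hr i hi, hA _ (apq_lt _ _),
        apq_qI (apq_lt _ _)]
    have h2 := B.acts_unique h1 (B.acts_r2 hr r3)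
    refine bne_iff_ne.1 qD_ok.2.2.2.2.1 ?_
    have hd : packQ (apq qD) = qD := by decide +kernel
    have hn : packQ (apq (qMul qD qD)) = qMul qD qD := by
      unfold qMul
      exact packQ_norm (fun i => apq qD (apq qD i)) fun _ _ => apq_lt _ _
    calc qMul qD qD = packQ (apq (qMul qD qD)) := hn.symm
      _ = packQ (apq qD) := (packQ_congr h2).symm
      _ = qD := hd

/-- The frame exists. -/
theorem exists_frame {g : G} (hg : g * z * g⁻¹ = φ 160) (hg' : g * φ 160 * g⁻¹ = z) :
    ∃ r σ, Frame z φ r σ := by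
  classical
  have h160 : (160 : ℕ) < 768 := by norm_num
  -- the exchanging element normalises the abelian subgroup
  have himg : ∀ d ∈ centList 0 160, ∃ d' ∈ centList 0 160, φ d' = g * φ d * g⁻¹ := by
    intro d hd
    simp only [centList, List.mem_filter, List.mem_range, beq_iff_eq] at hd
    have hc := (B.commute_iff hd.1 h160).2 hd.2
    obtain ⟨d', hd', e⟩ := (B.cent (g * φ d * g⁻¹)).1 (by
      rw [← hg', show g * φ d * g⁻¹ * (g * φ 160 * g⁻¹) = g * (φ d * φ 160) * g⁻¹ by group, hc]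
      group)
    refine ⟨d', ?_, e⟩
    simp only [centList, List.mem_filter, List.mem_range, beq_iff_eq]
    refine ⟨hd', (B.commute_iff hd' h160).1 ?_⟩
    rw [e, ← hg, show g * φ d * g⁻¹ * (g * z * g⁻¹) = g * (φ d * z) * g⁻¹ by group, B.comm_z hd.1]
    group
  choose! f hf1 hf2 using himg
  have hlt : ∀ d ∈ centList 0 160, d < 768 := fun d hd => by
    simp only [centList, List.mem_filter, List.mem_range] at hd; exact hd.1
  have hAimg : ∀ a ∈ AList, ∃ a' ∈ AList, φ a' = g * φ a * g⁻¹ := by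
    intro a ha
    obtain ⟨hi, e⟩ := aix_lt ha
    have ha7 : a < 768 := e ▸ (vrow hi).1
    have hA := of_range_all AList_count ha7
    simp only [List.contains_iff_mem.2 ha, beq_iff_eq, Bool.and_eq_true, decide_eq_true_eq,
      List.contains_iff_mem] at hA
    obtain ⟨⟨hac, hasq⟩, hcnt⟩ := hA
    refine ⟨f a, ?_, hf2 a hac⟩
    have := of_range_all AList_count (hlt _ (hf1 a hac))
    simp only [List.contains_iff_mem.2 (hf1 a hac), Bool.true_and, beq_iff_eq] at this
    rw [← List.contains_iff_mem, ← this, Bool.and_eq_true, decide_eq_true_eq, beq_iff_eq]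
    have sqmap : ∀ d ∈ centList 0 160, mmul 0 d d = 0 → mmul 0 (f d) (f d) = 0 := fun d hd h => by
      refine (B.sq_iff (hlt _ (hf1 d hd)) (by norm_num)).1 ?_
      rw [B.one, hf2 d hd, show g * φ d * g⁻¹ * (g * φ d * g⁻¹) = g * (φ d * φ d) * g⁻¹ by group,
        ← B.mul _ (hlt d hd) _ (hlt d hd), h, B.one]
      group
    refine ⟨sqmap a hac hasq, hcnt.trans ?_⟩
    have hn : ∀ v, ((centList 0 160).filter fun e => mmul 0 e e == 0 && mmul 0 e v == mmul 0 v e).Nodup :=
      fun v => (List.nodup_range.filter _).filter _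
    rw [← List.toFinset_card_of_nodup (hn a), ← List.toFinset_card_of_nodup (hn (f a))]
    refine Finset.card_le_card_of_injOn f (fun e he => ?_) (fun e he e' he' heq => ?_)
    · simp only [Finset.mem_coe, List.mem_toFinset, List.mem_filter, Bool.and_eq_true, beq_iff_eq] at he ⊢
      refine ⟨hf1 e he.1, sqmap e he.1 he.2.1, (B.commute_iff (hlt _ (hf1 e he.1)) (hlt _ (hf1 a hac))).1 ?_⟩
      rw [hf2 e he.1, hf2 a hac, show g * φ e * g⁻¹ * (g * φ a * g⁻¹) = g * (φ e * φ a) * g⁻¹ by group,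
        (B.commute_iff (hlt e he.1) ha7).2 he.2.2]
      group
    · simp only [Finset.mem_coe, List.mem_toFinset, List.mem_filter] at he he'
      have := hf2 e he.1
      rw [heq, hf2 e' he'.1] at this
      exact (B.inj _ (hlt _ he'.1) _ (hlt _ he.1) (mul_left_cancel (mul_right_cancel this))).symm
  obtain ⟨a1, ha1, e1⟩ := hAimg (av 1) (vrow (by norm_num)).2.1
  obtain ⟨a8, ha8, e8⟩ := hAimg (av 8) (vrow (by norm_num)).2.1
  obtain ⟨c, hc⟩ : ∃ c, c = aix a1 := ⟨_, rfl⟩
  obtain ⟨d, hd⟩ : ∃ d, d = aix a8 := ⟨_, rfl⟩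
  have hclt : c < 16 := hc ▸ (aix_lt ha1).1
  have hdlt : d < 16 := hd ▸ (aix_lt ha8).1
  have hg1 : g * φ (av 1) * g⁻¹ = φ (av c) := by rw [hc, (aix_lt ha1).2, e1]
  have hg8 : g * φ (av 8) * g⁻¹ = φ (av d) := by rw [hd, (aix_lt ha8).2, e8]
  have hg2 : g * φ (av 2) * g⁻¹ = φ (av 4) := by rw [B.av_two]; exact hg
  have hg4 : g * φ (av 4) * g⁻¹ = φ (av 2) := by rw [B.av_two]; exact hg'
  -- the action is linear
  obtain ⟨q0, hq0⟩ : ∃ q0, q0 = linQ c d := ⟨_, rfl⟩
  have hgq : Acts φ g q0 := by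
    intro i hi
    have hfold : ∀ (l : List (ℕ × ℕ × ℕ)), (∀ p ∈ l, p.2.1 < 16 ∧ p.2.2 < 16 ∧
        g * φ (av p.2.1) * g⁻¹ = φ (av p.2.2)) → ∀ a b, a < 16 → b < 16 → g * φ (av a) * g⁻¹ = φ (av b) →
        (l.foldl (fun acc p => if aBits.getD i 0 / p.1 % 2 = 1 then vAdd acc p.2.1 else acc) a < 16 ∧
        l.foldl (fun acc p => if aBits.getD i 0 / p.1 % 2 = 1 then vAdd acc p.2.2 else acc) b < 16 ∧
        g * φ (av (l.foldl (fun acc p => if aBits.getD i 0 / p.1 % 2 = 1 then vAdd acc p.2.1 else acc) a)) * g⁻¹ =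
          φ (av (l.foldl (fun acc p => if aBits.getD i 0 / p.1 % 2 = 1 then vAdd acc p.2.2 else acc) b))) := by
      intro l
      induction l with
      | nil => intro _ a b ha hb h; exact ⟨ha, hb, h⟩
      | cons p l ih =>
        intro hl a b ha hb h
        obtain ⟨h1, h2, h3⟩ := hl p (List.mem_cons_self ..)
        simp only [List.foldl_cons]
        refine ih (fun x hx => hl x (List.mem_cons_of_mem _ hx)) _ _ ?_ ?_ ?_
        · split_ifs
          exacts [((vrow ha).2.2.2.2.2 _ h1).1, ha]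
        · split_ifs
          exacts [((vrow hb).2.2.2.2.2 _ h2).1, hb]
        · split_ifs
          · rw [← B.av_mul ha h1, ← B.av_mul hb h2, ← h, ← h3]; group
          · exact h
    obtain ⟨-, hb, h⟩ := hfold [(1, 2, 4), (2, 4, 2), (4, 1, c), (8, 8, d)] (by
        intro p hp
        simp only [List.mem_cons, List.not_mem_nil, or_false] at hp
        rcases hp with rfl | rfl | rfl | rfl
        exacts [⟨by norm_num, by norm_num, hg2⟩, ⟨by norm_num, by norm_num, hg4⟩, ⟨by norm_num, hclt, hg1⟩,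
          ⟨by norm_num, hdlt, hg8⟩])
      0 0 (by norm_num) (by norm_num) (by rw [B.av_zero]; group)
    have hbit : bitVal i = i := (vrow hi).2.2.2.2.1
    rw [hq0, linQ, apq_packQ ?_ hi]
    · rw [show [(1, 2, 4), (2, 4, 2), (4, 1, c), (8, 8, d)] = List.map id [(1, 2, 4), (2, 4, 2), (4, 1, c), (8, 8, d)]
        from (List.map_id _).symm] at h
      simp only [List.map, id, List.foldl_cons, List.foldl_nil] at h ⊢
      simp only [bitVal, List.foldl_cons, List.foldl_nil] at hbit
      rw [hbit] at h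
      exact h
    · intro x hx
      have hlt' : ∀ (l : List (ℕ × ℕ)) (acc : ℕ), acc < 16 → (∀ p ∈ l, p.2 < 16) →
          l.foldl (fun acc p => if aBits.getD x 0 / p.1 % 2 = 1 then vAdd acc p.2 else acc) acc < 16 := by
        intro l
        induction l with
        | nil => intro acc h _; exact h
        | cons p l ih =>
          intro acc h hl
          simp only [List.foldl_cons]
          refine ih _ ?_ fun y hy => hl y (List.mem_cons_of_mem _ hy)
          split_ifs
          exacts [((vrow h).2.2.2.2.2 _ (hl p (List.mem_cons_self ..))).1, h]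
      exact hlt' _ 0 (by norm_num) (by simp [hclt, hdlt])
  -- an element with the standard action
  have hc332 := B.acts_code B.NA_332.1
  have hc140 := B.acts_code B.NA_332.2
  obtain ⟨n, hn⟩ : ∃ n, Acts φ n qS := by
    have hcand := of_range_all (of_range_all cand_ok hclt) hdlt
    simp only [Bool.or_eq_true, List.any_eq_true, List.mem_range, Bool.and_eq_true, bne_iff_ne, beq_iff_eq,
      Bool.not_eq_true', List.any_eq_false, decide_eq_true_eq] at hcand
    rw [← hq0] at hcand
    rcases hcand with ⟨i, hi, j, hj, hne, heq⟩ | hcand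
    · exfalso
      have h1 := hgq i hi
      rw [heq, ← hgq j hj] at h1
      exact hne (B.av_inj hi hj (mul_left_cancel (mul_right_cancel h1)))
    · have hw := B.acts_word (gs := [φ 332, φ 140, g]) (qs := [qCode 332, qCode 140, q0]) rfl
        (fun l hl => by
          simp only [List.length_cons, List.length_nil] at hl
          interval_cases l
          exacts [hc332, hc140, hgq]) (candWord.getD (16 * c + d) []) (acts_one φ)
      rcases hcand with h | ⟨h2, hno⟩
      · unfold qWord at h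
        exact ⟨_, h ▸ hw⟩
      · exfalso
        obtain ⟨a, ha, e⟩ := B.code_of_acts hw h2
        have hu := B.acts_unique (e ▸ B.acts_code ha) hw
        refine hno a ha ?_
        rw [← qCode_norm ha, ← qWord_norm]
        unfold qWord
        exact packQ_congr hu
  -- an element of order three
  obtain ⟨r, hr⟩ : ∃ r, Acts φ r qD := by
    refine ⟨wD.foldl (fun acc l => acc * [φ 332, φ 140, n].getD l 1) 1, ?_⟩
    rw [← qD_ok.1]
    unfold qWord
    refine B.acts_word (gs := [φ 332, φ 140, n]) (qs := qGens) rfl (fun l hl => ?_) wD (acts_one φ)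
    simp only [List.length_cons, List.length_nil] at hl
    interval_cases l
    exacts [hc332, hc140, hn]
  have r3 : r * r * r = 1 := by
    obtain ⟨a, ha, e⟩ := B.mem_av_of_acts (hr.mul (hr.mul hr)) (fun i hi => by rw [qD_ok.2.1, apq_qI hi])
    rw [mul_assoc, ← e]
    have hfix : r * φ (av a) * r⁻¹ = φ (av a) := by rw [e]; group
    rw [qD_fix ha (B.av_inj (apq_lt _ _) ha ((hr a ha).symm.trans hfix)), B.av_zero]
  have hqg : ∀ q ∈ qGens, qMul q qD = qMul qD q ∨ qMul q qD = qMul (qMul qD qD) q := fun q hq => by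
    have := List.all_eq_true.1 qD_ok.2.2.2.2.2 q hq
    simpa using this
  obtain ⟨a, ha, hfa⟩ := B.exists_flip hr r3 hc332 (hqg _ (by simp [qGens]))
  obtain ⟨b, hb, hfb⟩ := B.exists_flip hr r3 hc140 (hqg _ (by simp [qGens]))
  obtain ⟨e, he, hfe⟩ := B.exists_flip hr r3 hn (hqg _ (by simp [qGens]))
  have hu : φ (mmul 0 (av a) 332) = φ (av a) * φ 332 := B.mul _ (vrow ha).1 _ (by norm_num)
  have hv : φ (mmul 0 (av b) 140) = φ (av b) * φ 140 := B.mul _ (vrow hb).1 _ (by norm_num)
  have hul : mmul 0 (av a) 332 < 768 := B.mul_lt (vrow ha).1 (by norm_num)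
  have hvl : mmul 0 (av b) 140 < 768 := B.mul_lt (vrow hb).1 (by norm_num)
  have au : Acts φ (φ (mmul 0 (av a) 332)) (qCode 332) := hu ▸ ((B.acts_av ha).mul hc332).congr (fun i hi => by
    rw [apq_qMul _ _ hi, apq_qI (apq_lt _ _)])
  have av' : Acts φ (φ (mmul 0 (av b) 140)) (qCode 140) := hv ▸ ((B.acts_av hb).mul hc140).congr (fun i hi => by
    rw [apq_qMul _ _ hi, apq_qI (apq_lt _ _)])
  have fu : Flips r (φ (mmul 0 (av a) 332)) := hu ▸ hfa
  have fv : Flips r (φ (mmul 0 (av b) 140)) := hv ▸ hfb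
  have one_of : ∀ {x : ℕ} {q : ℕ}, x < 768 → Acts φ (φ x) q → q = qI → Flips r (φ x) → x = 0 := by
    intro x q hx hq e hf
    exact (B.eq_one_iff hx).1 (B.flip_unique hr r3 hq (acts_one φ) (fun i hi => by rw [e]) hf (flips_one r))
  have hall := of_range_all (of_range_all complement_ok ha) hb
  obtain ⟨u, hueq⟩ : ∃ u, u = mmul 0 (av a) 332 := ⟨_, rfl⟩
  obtain ⟨v, hveq⟩ : ∃ v, v = mmul 0 (av b) 140 := ⟨_, rfl⟩
  simp only [← hueq, ← hveq] at hall hul hvl au av' fu fv
  have huu := B.mul _ hul _ hul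
  have hvv := B.mul _ hvl _ hvl
  have h4 : mmul 0 (mmul 0 u u) (mmul 0 u u) = 0 := by
    refine one_of (B.mul_lt (B.mul_lt hul hul) (B.mul_lt hul hul)) ?_ complement_rel.1 ?_
    · rw [B.mul _ (B.mul_lt hul hul) _ (B.mul_lt hul hul), huu]; exact (au.mul au).mul (au.mul au)
    · rw [B.mul _ (B.mul_lt hul hul) _ (B.mul_lt hul hul), huu]; exact (fu.mul fu).mul (fu.mul fu)
  have h3 : mmul 0 v (mmul 0 v v) = 0 := by
    refine one_of (B.mul_lt hvl (B.mul_lt hvl hvl)) ?_ complement_rel.2.1 ?_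
    · rw [B.mul _ hvl _ (B.mul_lt hvl hvl), hvv]; exact av'.mul (av'.mul av')
    · rw [B.mul _ hvl _ (B.mul_lt hvl hvl), hvv]; exact fv.mul (fv.mul fv)
  have h2 : mmul 0 (mmul 0 u (mmul 0 v v)) (mmul 0 u (mmul 0 v v)) = 0 := by
    have hw : φ (mmul 0 u (mmul 0 v v)) = φ u * (φ v * φ v) := by rw [B.mul _ hul _ (B.mul_lt hvl hvl), hvv]
    have hwl := B.mul_lt hul (B.mul_lt hvl hvl)
    refine one_of (B.mul_lt hwl hwl) ?_ complement_rel.2.2.1 ?_
    · rw [B.mul _ hwl _ hwl, hw]; exact (au.mul (av'.mul av')).mul (au.mul (av'.mul av'))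
    · rw [B.mul _ hwl _ hwl, hw]; exact (fu.mul (fv.mul fv)).mul (fu.mul (fv.mul fv))
  simp only [h4, h3, h2, bne_self_eq_false, Bool.false_or, List.any_eq_true, List.mem_range, Bool.and_eq_true,
    beq_iff_eq] at hall
  obtain ⟨x, hx, e332, e140⟩ := hall
  obtain ⟨r', hr'⟩ : ∃ r', φ (av x) * r * φ (av x) = r' := ⟨_, rfl⟩
  have hxi := B.av_inv hx
  have conjFlip : ∀ m, Flips r m → Flips r' (φ (av x) * m * φ (av x)) := by
    intro m hm
    rw [← hr']
    have e : φ (av x) * m * φ (av x) * (φ (av x) * r * φ (av x)) * (φ (av x) * m * φ (av x))⁻¹ =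
        φ (av x) * (m * r * m⁻¹) * φ (av x) := by
      simp only [mul_inv_rev, hxi]
      calc _ = φ (av x) * m * (φ (av x) * φ (av x)) * r * (φ (av x) * φ (av x)) * m⁻¹ * φ (av x) := by group
        _ = _ := by rw [B.av_sq hx]; group
    rcases hm with h | h
    · left; rw [e, h]
    · right; rw [e, h, mul_inv_rev, mul_inv_rev, hxi]; group
  have hrx : Acts φ r' qD := by
    rw [← hr']
    refine ((B.acts_av hx).mul hr |>.mul (B.acts_av hx)).congr fun i hi => ?_
    rw [apq_qMul _ _ hi, apq_qI hi, apq_qMul _ _ hi, apq_qI (apq_lt _ _)]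
  refine ⟨r', φ (av x) * (φ (av e) * n) * φ (av x), B, hrx, ?_, ?_, ?_, ?_, conjFlip _ hfe⟩
  · rw [← hr']
    calc φ (av x) * r * φ (av x) * (φ (av x) * r * φ (av x)) * (φ (av x) * r * φ (av x))
        = φ (av x) * r * (φ (av x) * φ (av x)) * r * (φ (av x) * φ (av x)) * r * φ (av x) := by group
      _ = φ (av x) * (r * r * r) * φ (av x) := by rw [B.av_sq hx]; group
      _ = 1 := by rw [r3, mul_one, B.av_sq hx]
  · refine (((B.acts_av hx).mul ((B.acts_av he).mul hn)).mul (B.acts_av hx)).congr fun i hi => ?_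
    rw [apq_qMul _ _ hi, apq_qI hi, apq_qMul _ _ hi, apq_qI (apq_lt _ _), apq_qMul _ _ hi, apq_qI (apq_lt _ _)]
  · have h := conjFlip _ fu
    rwa [show φ (av x) * φ u * φ (av x) = φ 332 by
      rw [← e332, B.conj (vrow hx).1 (by norm_num), hxi]
      calc φ (av x) * (φ (av x) * φ 332 * φ (av x)) * φ (av x)
          = (φ (av x) * φ (av x)) * φ 332 * (φ (av x) * φ (av x)) := by group
        _ = φ 332 := by rw [B.av_sq hx]; group] at h
  · have h := conjFlip _ fv
    rwa [show φ (av x) * φ v * φ (av x) = φ 140 by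
      rw [← e140, B.conj (vrow hx).1 (by norm_num), hxi]
      calc φ (av x) * (φ (av x) * φ 140 * φ (av x)) * φ (av x)
          = (φ (av x) * φ (av x)) * φ 140 * (φ (av x) * φ (av x)) := by group
        _ = φ 140 := by rw [B.av_sq hx]; group] at h

end Base

end CfsgAutL34
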