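import Cfsg.Agent.Lib.AutL34Type.Setting
import Cfsg.Agent.Lib.AutL34Type.FChecks

/-!
The involutions of the centraliser that can be conjugate to `z`.
-/

set_option autoImplicit false
set_option maxRecDepth 100000
set_option linter.unusedSectionVars false

namespace CfsgAutL34

variable {G : Type*} [Group G] {k : ℕ} {z : G} {φ : ℕ → G}

theorem mmul_lt' {k x y : ℕ} (hk : k < 4) (hx : x < 768) (hy : y < 768) : mmul k x y < 768 := by
  have h := smul_bound hk (show x / 32 < 24 by omega) (show y / 32 < 24 by omega)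
  have h1 := act_lt (show x / 32 < 24 by omega) (show y % 32 < 32 by omega)
  have h2 := emul_lt _ (emul_lt _ (show x % 32 < 32 by omega) _ h1) _
    (show 16 * (smul k (x / 32) (y / 32) % 2) < 32 by omega)
  unfold mmul
  omega

theorem Base.minv_lt (B : Base k z φ) {x : ℕ} (hx : x < 768) : minv k x < 768 ∧ mmul k (minv k x) x = 0 := by
  have := of_range_all (of_range_all minv_ok B.hk) hx
  simp only [Bool.and_eq_true, decide_eq_true_eq, beq_iff_eq] at this
  exact ⟨this.1.1.1, this.1.1.2⟩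

theorem Base.mul_lt (B : Base k z φ) {x y : ℕ} (hx : x < 768) (hy : y < 768) : mmul k x y < 768 :=
  mmul_lt' B.hk hx hy

theorem Base.conj_lt (B : Base k z φ) {g x : ℕ} (hg : g < 768) (hx : x < 768) : mconj k g x < 768 :=
  B.mul_lt (B.mul_lt hg hx) (B.minv_lt hg).1

theorem Base.one (B : Base k z φ) : φ 0 = 1 := by
  have e := B.mul 0 (by norm_num) 0 (by norm_num)
  have h0 := of_range_all (of_range_all minv_ok B.hk) (show 0 < 768 by norm_num)
  simp only [Bool.and_eq_true, decide_eq_true_eq, beq_iff_eq] at h0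
  rw [h0.1.2] at e
  exact mul_eq_left.1 e.symm

theorem Base.inv (B : Base k z φ) {x : ℕ} (hx : x < 768) : φ (minv k x) = (φ x)⁻¹ := by
  obtain ⟨h1, h2⟩ := B.minv_lt hx
  refine (inv_eq_of_mul_eq_one_left ?_).symm
  rw [← B.mul _ h1 _ hx, h2, B.one]

theorem Base.conj (B : Base k z φ) {g x : ℕ} (hg : g < 768) (hx : x < 768) :
    φ (mconj k g x) = φ g * φ x * (φ g)⁻¹ := by
  rw [mconj, B.mul _ (B.mul_lt hg hx) _ (B.minv_lt hg).1, B.mul _ hg _ hx, B.inv hg]

theorem Base.commute_iff (B : Base k z φ) {a b : ℕ} (ha : a < 768) (hb : b < 768) :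
    φ a * φ b = φ b * φ a ↔ mmul k a b = mmul k b a := by
  rw [← B.mul _ ha _ hb, ← B.mul _ hb _ ha]
  exact ⟨B.inj _ (B.mul_lt ha hb) _ (B.mul_lt hb ha), congrArg φ⟩

theorem Base.eq_one_iff (B : Base k z φ) {a : ℕ} (ha : a < 768) : φ a = 1 ↔ a = 0 :=
  ⟨fun h => B.inj _ ha 0 (by norm_num) (h.trans B.one.symm), fun h => h ▸ B.one⟩

theorem Base.sq_iff (B : Base k z φ) {a b : ℕ} (ha : a < 768) (hb : b < 768) : φ a * φ a = φ b ↔ mmul k a a = b := by
  rw [← B.mul _ ha _ ha]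
  exact ⟨B.inj _ (B.mul_lt ha ha) _ hb, congrArg φ⟩

theorem Base.comm_z (B : Base k z φ) {x : ℕ} (hx : x < 768) : φ x * z = z * φ x := (B.cent _).2 ⟨x, hx, rfl⟩

theorem Base.zz (B : Base k z φ) : z * z = 1 := by rw [← sq, ← B.z2, pow_orderOf_eq_one]

theorem Base.conj_z (B : Base k z φ) {x : ℕ} (hx : x < 768) : φ x * z * (φ x)⁻¹ = z := by
  rw [B.comm_z hx, mul_inv_cancel_right]

/-- Conjugation carries centralisers onto centralisers. -/
theorem Base.cent_transfer (B : Base k z φ) {r r' : ℕ} (hr : r < 768) (hr' : r' < 768) {g : G}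
    (hg : g * z * g⁻¹ = φ r) (hg' : g * φ r' * g⁻¹ = z) :
    (centList k r).length = (centList k r').length ∧ rootNum k r' 16 = rootNum k r r ∧
      rootNum k r' r' = rootNum k r 16 := by
  classical
  have hmove : ∀ d < 768, φ d * φ r' = φ r' * φ d → ∃ d' < 768, φ d' = g * φ d * g⁻¹ ∧ φ d' * φ r = φ r * φ d' := by
    intro d hd hc
    obtain ⟨d', hd', e⟩ := (B.cent (g * φ d * g⁻¹)).1 (by
      rw [← hg', show g * φ d * g⁻¹ * (g * φ r' * g⁻¹) = g * (φ d * φ r') * g⁻¹ by group, hc]; group)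
    refine ⟨d', hd', e, ?_⟩
    rw [e, ← hg, show g * φ d * g⁻¹ * (g * z * g⁻¹) = g * (φ d * z) * g⁻¹ by group, B.comm_z hd]; group
  have hback : ∀ d < 768, φ d * φ r = φ r * φ d → ∃ d' < 768, φ d = g * φ d' * g⁻¹ ∧ φ d' * φ r' = φ r' * φ d' := by
    intro d hd hc
    obtain ⟨d', hd', e⟩ := (B.cent (g⁻¹ * φ d * g)).1 (by
      have e1 : g⁻¹ * φ r * g = z := by rw [← hg]; group
      rw [← e1, show g⁻¹ * φ d * g * (g⁻¹ * φ r * g) = g⁻¹ * (φ d * φ r) * g by group, hc]; group)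
    refine ⟨d', hd', by rw [e]; group, ?_⟩
    have e2 : φ r' = g⁻¹ * z * g := by rw [← hg']; group
    rw [e, e2, show g⁻¹ * φ d * g * (g⁻¹ * z * g) = g⁻¹ * (φ d * z) * g by group, B.comm_z hd]; group
  choose! f hf1 hf2 hf3 using hmove
  have hmem : ∀ {y d : ℕ}, y < 768 → (d ∈ centList k y ↔ d < 768 ∧ φ d * φ y = φ y * φ d) := fun {y d} hy => by
    simp only [centList, List.mem_filter, List.mem_range, beq_iff_eq]
    exact ⟨fun ⟨a, b⟩ => ⟨a, (B.commute_iff a hy).2 b⟩, fun ⟨a, b⟩ => ⟨a, (B.commute_iff a hy).1 b⟩⟩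
  have hcount : ∀ (p q : ℕ → Bool), (∀ d < 768, φ d * φ r' = φ r' * φ d → (p d = true ↔ q (f d) = true)) →
      ((centList k r').filter p).length = ((centList k r).filter q).length := by
    intro p q hpq
    have hn : ∀ y, (centList k y).Nodup := fun y => List.nodup_range.filter _
    rw [← List.toFinset_card_of_nodup ((hn r').filter p), ← List.toFinset_card_of_nodup ((hn r).filter q)]
    refine Finset.card_nbij f (fun d hd => ?_) (fun d hd e he heq => ?_) (fun d hd => ?_)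
    · simp only [Finset.mem_coe, List.mem_toFinset, List.mem_filter, hmem hr, hmem hr'] at hd ⊢
      exact ⟨⟨hf1 d hd.1.1 hd.1.2, hf3 d hd.1.1 hd.1.2⟩, (hpq d hd.1.1 hd.1.2).1 hd.2⟩
    · simp only [Finset.mem_coe, List.mem_toFinset, List.mem_filter, hmem hr'] at hd he
      have := hf2 d hd.1.1 hd.1.2
      rw [heq, hf2 e he.1.1 he.1.2] at this
      exact (B.inj _ he.1.1 _ hd.1.1 (mul_left_cancel (mul_right_cancel this))).symm
    · simp only [Finset.mem_coe, List.mem_toFinset, List.mem_filter, hmem hr] at hd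
      obtain ⟨d', hd', e, hc⟩ := hback d hd.1.1 hd.1.2
      have hfd : f d' = d := B.inj _ (hf1 d' hd' hc) _ hd.1.1 ((hf2 d' hd' hc).trans e.symm)
      refine ⟨d', ?_, hfd⟩
      simp only [Finset.mem_coe, List.mem_toFinset, List.mem_filter, hmem hr']
      exact ⟨⟨hd', hc⟩, (hpq d' hd' hc).2 (hfd.symm ▸ hd.2)⟩
  have hroot : ∀ w w', w < 768 → w' < 768 → g * φ w * g⁻¹ = φ w' → rootNum k r' w = rootNum k r w' := by
    intro w w' hw hw' e
    refine hcount _ _ fun d hd hc => ?_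
    simp only [beq_iff_eq]
    have h1 : g * (φ d * φ d) * g⁻¹ = φ (f d) * φ (f d) := by rw [hf2 d hd hc]; group
    rw [← B.sq_iff hd hw, ← B.sq_iff (hf1 d hd hc) hw', ← h1, ← e]
    exact ⟨fun h => by rw [h], fun h => mul_left_cancel (mul_right_cancel h)⟩
  refine ⟨?_, hroot 16 r (by norm_num) hr (by rw [B.zc]; exact hg),
    hroot r' 16 hr' (by norm_num) (by rw [B.zc]; exact hg')⟩
  have := hcount (fun _ => true) (fun _ => true) (fun _ _ _ => by simp)
  simpa using this.symm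

/-- A conjugate of `z` in the centraliser gives an exchange with its representative. -/
theorem Base.swap_of (B : Base k z φ) {y : ℕ} (hy : y < 768) {g : G} (hye : φ y = g * z * g⁻¹) (hne : φ y ≠ z) :
    ∃ c r, c < 768 ∧ r ∈ classReps k ∧ mconj k c y = r ∧ (r = 1 ∧ k = 0 ∨ r = 160 ∧ (k = 0 ∨ k = 2)) ∧
      ∃ h : G, h * z * h⁻¹ = φ r ∧ h * φ r * h⁻¹ = z := by
  have hc : g * z * g⁻¹ * z = z * (g * z * g⁻¹) := by rw [← hye]; exact B.comm_z hy
  obtain ⟨y', hy', hye'⟩ := (B.cent (g⁻¹ * z * g)).1 (by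
    calc g⁻¹ * z * g * z = g⁻¹ * (z * (g * z * g⁻¹)) * g := by group
      _ = z * (g⁻¹ * z * g) := by rw [← hc]; group)
  have hrep : ∀ (y : ℕ) (h : G), y < 768 → φ y = h * z * h⁻¹ → φ y ≠ z →
      ∃ c r, c < 768 ∧ r ∈ classReps k ∧ mconj k c y = r := by
    intro y h hy hyh hyz
    have hsq : φ y * φ y = 1 := by
      rw [hyh, show h * z * h⁻¹ * (h * z * h⁻¹) = h * (z * z) * h⁻¹ by group, B.zz]; group
    have h0 : y ≠ 0 := fun e => by
      rw [e, B.one] at hyh
      have hz1 : z = 1 := by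
        calc z = h⁻¹ * (h * z * h⁻¹) * h := by group
          _ = 1 := by rw [← hyh]; group
      have := B.z2
      rw [hz1, orderOf_one] at this
      omega
    have h16 : y ≠ 16 := fun e => hyz (by rw [e, B.zc])
    rw [← B.one, B.sq_iff hy (by norm_num)] at hsq
    have := of_range_all (of_range_all classes_ok B.hk) hy
    simp only [hsq, bne_self_eq_false, Bool.false_or, Bool.or_eq_true, beq_iff_eq, h0, h16, false_or, List.any_eq_true,
      List.mem_range, List.contains_iff_mem] at this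
    obtain ⟨c, hc, hmem⟩ := this
    exact ⟨c, _, hc, hmem, rfl⟩
  obtain ⟨c, r, hc', hr, hcr⟩ := hrep y g hy hye hne
  obtain ⟨c', r', hc'', hr', hcr'⟩ := hrep y' g⁻¹ hy' (by rw [hye']; group) (by
    rw [hye']
    intro e
    refine hne (hye.trans ?_)
    calc g * z * g⁻¹ = g * (g⁻¹ * z * g) * g⁻¹ := by rw [e]
      _ = z := by group)
  have hrlt : r < 768 := hcr ▸ B.conj_lt hc' hy
  have hr'lt : r' < 768 := hcr' ▸ B.conj_lt hc'' hy'
  obtain ⟨h, hh⟩ : ∃ h : G, φ c * g * (φ c')⁻¹ = h := ⟨_, rfl⟩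
  have h1 : h * z * h⁻¹ = φ r := by
    rw [← hcr, B.conj hc' hy, hye, ← hh]
    calc φ c * g * (φ c')⁻¹ * z * (φ c * g * (φ c')⁻¹)⁻¹ = φ c * g * ((φ c')⁻¹ * z * φ c') * g⁻¹ * (φ c)⁻¹ := by group
      _ = φ c * g * z * g⁻¹ * (φ c)⁻¹ := by rw [mul_assoc ((φ c')⁻¹), ← B.comm_z hc'']; group
      _ = _ := by group
  have h2 : h * φ r' * h⁻¹ = z := by
    rw [← hcr', B.conj hc'' hy', hye', ← hh]
    calc φ c * g * (φ c')⁻¹ * (φ c' * (g⁻¹ * z * g) * (φ c')⁻¹) * (φ c * g * (φ c')⁻¹)⁻¹ = φ c * z * (φ c)⁻¹ := by group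
      _ = z := B.conj_z hc'
  obtain ⟨e1, e2, e3⟩ := B.cent_transfer hrlt hr'lt h1 h2
  have hok := of_all (of_range_all reps_ok B.hk) hr
  simp only [Bool.and_eq_true, decide_eq_true_eq, List.all_eq_true] at hok
  have := hok.2 r' hr'
  simp only [pairOK, e1, e2, e3, beq_self_eq_true, Bool.and_self, Bool.not_true, Bool.false_or, Bool.and_eq_true,
    Bool.or_eq_true, beq_iff_eq] at this
  obtain ⟨rfl, hcase⟩ := this
  exact ⟨c, r, hc', hr, hcr, hcase, h, h1, h2⟩

/-- Either `z` is isolated or it is exchanged with one of two standard involutions. -/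
theorem Base.isolated_or_swap (B : Base k z φ) : Cfsg.IsIsolated z ∨
    ∃ r, (r = 1 ∧ k = 0 ∨ r = 160 ∧ (k = 0 ∨ k = 2)) ∧ ∃ g : G, g * z * g⁻¹ = φ r ∧ g * φ r * g⁻¹ = z := by
  refine or_iff_not_imp_left.2 fun hiso => ?_
  simp only [Cfsg.IsIsolated, not_forall] at hiso
  obtain ⟨g, hc, hne⟩ := hiso
  obtain ⟨y, hy, hye⟩ := (B.cent (g * z * g⁻¹)).1 hc.eq.symm
  obtain ⟨c, r, -, -, -, h, h'⟩ := B.swap_of hy hye (by rw [hye]; exact hne)
  exact ⟨r, h, h'⟩

end CfsgAutL34
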