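import Cfsg.Agent.Lib.AutL34Type.GammaChecks

/-!
An element of the centraliser outside the normaliser, with its exact effect on `r`.
-/

set_option autoImplicit false
set_option maxRecDepth 100000
set_option linter.unusedSectionVars false

namespace CfsgAutL34

variable {G : Type*} [Group G] {z : G} {φ : ℕ → G}

attribute [local irreducible] pMul pOf pInvOf pT codeOf mconj mmul minv

namespace Frame

variable {r σ : G} (F : Frame z φ r σ)
include F

theorem rep_cube {x : G} {p : ℕ × ℕ} (h : Rep φ r x p) (hp : pMul p (pMul p p) = pI) : x * (x * x) = 1 :=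
  F.rep_unique (hp ▸ F.rep_mul h (F.rep_mul h h)) F.rep_one

theorem inv_of_cube {x : G} (h : x * (x * x) = 1) : x⁻¹ = x * x := inv_eq_of_mul_eq_one_right h

theorem rep_pT : Rep φ r (r * φ 196) pT := by
  unfold pT
  exact F.rep_mul F.rep_r (F.rep_code (List.contains_iff_mem.1 gamma_d.2.2.2))

/-- The exact relation for one of two codes. -/
theorem exists_gamma : ∃ c ∈ ([46, 62] : List ℕ), φ c * r * (φ c)⁻¹ = r * φ 196 := by
  obtain ⟨hU, h16, hUN, hT3, hR3⟩ := cent_D1
  obtain ⟨t, ht⟩ : ∃ t, r * φ 196 = t := ⟨_, rfl⟩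
  have htr : Rep φ r t pT := ht ▸ F.rep_pT
  have ht3 : t⁻¹ = t * t := F.inv_of_cube (F.rep_cube htr hT3)
  have hr3 : r⁻¹ = r * r := F.inv_of_cube (F.rep_cube F.rep_r hR3)
  obtain ⟨x, hx⟩ : ∃ x, φ 46 * r * (φ 46)⁻¹ = x := ⟨_, rfl⟩
  -- the two elements act alike on the centraliser of the four group
  have hact : ∀ g ∈ D1List, x * φ g * x⁻¹ = t * φ g * t⁻¹ := by
    intro g hg
    have hgNA : g ∈ NAList := (List.mem_filter.1 hg).1
    have hg7 := F.NA_lt hgNA
    have := of_all gamma_D1 hg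
    simp only [Bool.and_eq_true, List.contains_iff_mem, beq_iff_eq] at this
    obtain ⟨⟨⟨⟨h1, he⟩, hep⟩, he2⟩, heq⟩ := this
    obtain ⟨g1, hg1⟩ : ∃ g1, mconj 0 (minv 0 46) g = g1 := ⟨_, rfl⟩
    rw [hg1] at h1 he hep he2 heq
    generalize hedef : codeOf (pMul (pMul pR (pOf g1)) (pMul pR pR)) = e at *
    have e1 : r * φ g1 * r⁻¹ = φ e := by
      refine F.rep_unique ?_ (hep ▸ F.rep_code he)
      rw [hr3]
      exact F.rep_mul (F.rep_mul F.rep_r (F.rep_code h1)) (F.rep_mul F.rep_r F.rep_r)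
    have e2 : t * φ g * t⁻¹ = φ (mconj 0 46 e) := by
      refine F.rep_unique ?_ (heq.symm ▸ F.rep_code he2)
      rw [ht3]
      exact F.rep_mul (F.rep_mul htr (F.rep_code hgNA)) (F.rep_mul htr htr)
    have h46 : (46 : ℕ) < 768 := by norm_num
    rw [e2, F.B.conj h46 (F.NA_lt he), ← e1, ← hg1, F.B.conj (F.B.minv_lt h46).1 hg7, F.B.inv h46, ← hx]
    group
  obtain ⟨u, hu, hxu⟩ : ∃ u ∈ UList, x = t * φ u := by
    obtain ⟨c, hc, hce⟩ := (F.B.cent (t⁻¹ * x)).1 (by
      have h := hact 16 (List.contains_iff_mem.1 h16)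
      rw [F.B.zc] at h
      calc t⁻¹ * x * z = t⁻¹ * (x * z * x⁻¹) * x := by group
        _ = z * (t⁻¹ * x) := by rw [h]; group)
    refine ⟨c, ?_, by rw [hce]; group⟩
    have := of_range_all hU hc
    simp only [Bool.or_eq_true, Bool.not_eq_true', List.all_eq_false, List.contains_iff_mem, comm0, beq_iff_eq] at this
    refine this.resolve_left ?_
    rintro ⟨g, hg, hne⟩
    refine hne ((F.B.commute_iff hc (F.NA_lt (List.mem_filter.1 hg).1)).1 ?_)
    rw [hce]
    calc t⁻¹ * x * φ g = t⁻¹ * (x * φ g * x⁻¹) * x := by group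
      _ = φ g * (t⁻¹ * x) := by rw [hact g hg]; group
  have huNA : u ∈ NAList := List.contains_iff_mem.1 (List.all_eq_true.1 hUN u hu)
  have hxr : Rep φ r x (pMul pT (pOf u)) := hxu ▸ F.rep_mul htr (F.rep_code huNA)
  have hx3 : x * (x * x) = 1 := by
    rw [← hx, show φ 46 * r * (φ 46)⁻¹ * (φ 46 * r * (φ 46)⁻¹ * (φ 46 * r * (φ 46)⁻¹)) =
      φ 46 * (r * r * r) * (φ 46)⁻¹ by group, F.r3]; group
  have hu' : u = 0 ∨ u = 1 := by
    simp only [UList, List.mem_cons, List.not_mem_nil, or_false] at hu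
    rcases hu with h | h | h | h
    · exact Or.inl h
    · exact Or.inr h
    all_goals
      exfalso
      have h16' : u ∈ ([16, 17] : List ℕ) := by simp [h]
      have := of_all gamma_u h16'
      simp only [List.any_eq_true, Bool.and_eq_true, List.contains_iff_mem, bne_iff_ne, List.mem_cons,
        List.not_mem_nil, or_false] at this
      obtain ⟨q, hq, ⟨⟨hc, hci⟩, hne⟩, hne2⟩ := this
      have hqf : Flips r (φ q) := by
        rcases hq with rfl | rfl
        exacts [F.f1, F.f2]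
      have hq7 : q < 768 := by omega
      have hconj : φ (mconj 0 46 q) * x * (φ (mconj 0 46 q))⁻¹ = x ∨
          φ (mconj 0 46 q) * x * (φ (mconj 0 46 q))⁻¹ = x * x := by
        rw [F.B.conj (by norm_num) hq7, ← hx]
        rcases hqf with hf | hf
        · left
          calc _ = φ 46 * (φ q * r * (φ q)⁻¹) * (φ 46)⁻¹ := by group
            _ = _ := by rw [hf]
        · right
          calc _ = φ 46 * (φ q * r * (φ q)⁻¹) * (φ 46)⁻¹ := by group
            _ = φ 46 * (r * r) * (φ 46)⁻¹ := by rw [hf, hr3]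
            _ = _ := by group
      have hy : Rep φ r (φ (mconj 0 46 q) * x * (φ (mconj 0 46 q))⁻¹)
          (pMul (pMul (pOf (mconj 0 46 q)) (pMul pT (pOf u))) (pInvOf (mconj 0 46 q))) := by
        have h1 := F.rep_mul (F.rep_mul (F.rep_code hc) hxr) (F.rep_code hci)
        rw [F.B.inv (F.NA_lt hc)] at h1
        unfold pInvOf
        exact h1
      rcases hconj with h2 | h2
      · exact hne (F.rep_eq (h2 ▸ hy) hxr (norm_pMul _ _) (norm_pMul _ _))
      · exact hne2 (F.rep_eq (h2 ▸ hy) (F.rep_mul hxr hxr) (norm_pMul _ _) (norm_pMul _ _))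
  rcases hu' with rfl | rfl
  · refine ⟨46, by simp, ?_⟩
    rw [hx, hxu, F.B.one, mul_one, ht]
  · refine ⟨62, by simp, ?_⟩
    obtain ⟨h62, h16N, hw⟩ := gamma_62
    generalize hwdef : pMul (pMul (pOf 16) pR) (pOf 16) = w at hw
    obtain ⟨hwq, hwc, hweq⟩ := hw
    have hz : Rep φ r (φ 16 * r * φ 16) w :=
      hwdef ▸ F.rep_mul (F.rep_mul (F.rep_code (List.contains_iff_mem.1 h16N)) F.rep_r)
        (F.rep_code (List.contains_iff_mem.1 h16N))
    have hv : w.1 < 16 := hz.1
    have e1 : φ 16 * r * φ 16 = φ (av w.1) * r := F.rep_unique hz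
      ⟨hv, r, hwq ▸ F.hr, Or.inl (by group), rfl⟩
    have e2 : φ (mconj 0 46 (av w.1)) * (t * φ 1) = t :=
      F.rep_unique (hweq ▸ F.rep_mul (F.rep_code (List.contains_iff_mem.1 hwc))
        (F.rep_mul htr (F.rep_code huNA))) htr
    have hzi : (φ 16)⁻¹ = φ 16 := inv_eq_of_mul_eq_one_right (by rw [F.B.zc]; exact F.B.zz)
    rw [ht, ← h62, F.B.mul _ (by norm_num) _ (by norm_num), mul_inv_rev, hzi]
    calc φ 46 * φ 16 * r * (φ 16 * (φ 46)⁻¹) = φ 46 * (φ 16 * r * φ 16) * (φ 46)⁻¹ := by group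
      _ = φ 46 * φ (av w.1) * (φ 46)⁻¹ * (φ 46 * r * (φ 46)⁻¹) := by rw [e1]; group
      _ = t := by rw [← F.B.conj (by norm_num) (vrow hv).1, hx, hxu, e2]

end Frame

end CfsgAutL34
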