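import Cfsg.Agent.Lib.AutL34Type.NCalc

/-!
Kernel checks for the elements `46` and `62`.
-/

set_option autoImplicit false
set_option maxRecDepth 100000
set_option maxHeartbeats 4000000
set_option Elab.async false

namespace CfsgAutL34

/-- The centraliser of the four group inside the normaliser. -/
def D1List : List ℕ := NAList.filter fun c => comm0 c 1

/-- The pair of the image of `r` under the exchanging elements. -/
def pT : ℕ × ℕ := pMul pR (pOf 196)

/-- The inverse of a pair of a code. -/
def pInvOf (c : ℕ) : ℕ × ℕ := pOf (minv 0 c)

/-- The code with a given pair. -/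
def codeOf (p : ℕ × ℕ) : ℕ := (NAList.filter fun c => pOf c == p).headD 768

theorem gamma_D1 : (D1List.all fun g =>
    let g1 := mconj 0 (minv 0 46) g
    let e := codeOf (pMul (pMul pR (pOf g1)) (pMul pR pR))
    NAList.contains g1 && NAList.contains e && pOf e == pMul (pMul pR (pOf g1)) (pMul pR pR) &&
      NAList.contains (mconj 0 46 e) && pMul (pMul pT (pOf g)) (pMul pT pT) == pOf (mconj 0 46 e)) = true := by
  decide +kernel

theorem cent_D1 : ((List.range 768).all fun c =>
    !(D1List.all fun g => comm0 c g) || UList.contains c) = true ∧ D1List.contains 16 = true ∧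
    UList.all (fun u => NAList.contains u) = true ∧ pMul pT (pMul pT pT) = pI ∧ pMul pR (pMul pR pR) = pI := by
  decide +kernel

theorem gamma_u : ([16, 17].all fun u => [332, 140].any fun h =>
    let c := mconj 0 46 h
    let x := pMul pT (pOf u)
    let y := pMul (pMul (pOf c) x) (pInvOf c)
    NAList.contains c && NAList.contains (minv 0 c) && y != x && y != pMul x x) = true := by decide +kernel

theorem gamma_62 : mmul 0 46 16 = 62 ∧ NAList.contains 16 = true ∧
    (let w := pMul (pMul (pOf 16) pR) (pOf 16)
     let c := mconj 0 46 (av w.1)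
     w.2 = qD ∧ NAList.contains c = true ∧ pMul (pOf c) (pMul pT (pOf 1)) = pT) := by decide +kernel

theorem gamma_d : ([46, 62].all fun c => mmul 0 c c == 0 && mconj 0 c 140 == 196 && comm0 c 1 &&
    !NAList.contains c) = true ∧ mmul 0 140 140 = 196 ∧ mmul 0 140 196 = 0 ∧ NAList.contains 196 = true := by
  decide +kernel

end CfsgAutL34
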