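import Cfsg.Agent.Lib.AutL34Type.Data
import Mathlib.Data.List.Basic

/-!
The possible centralisers: codes `32 * σ + e` with `σ` one of 24 representatives and `e` an element of the
extraspecial group `D₈ * Q₈`, which is coded by four binary coordinates and a sign.
-/

set_option autoImplicit false

namespace CfsgAutL34

/-- The product in the extraspecial group. -/
def emul (a b : ℕ) : ℕ := (eTab >>> (5 * (32 * a + b))) % 32

/-- The inverse in the extraspecial group. -/
def einv (a : ℕ) : ℕ := (eInvTab >>> (5 * a)) % 32

/-- Conjugation in the extraspecial group. -/
def econj (a x : ℕ) : ℕ := emul (emul a x) (einv a)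

/-- The action of the representative `s`. -/
def act (s e : ℕ) : ℕ := (aTab >>> (5 * (32 * s + e))) % 32

/-- The table of the products of representatives in the model `k`. -/
def sTab : ℕ → ℕ
  | 0 => sTab0
  | 1 => sTab1
  | 2 => sTab2
  | _ => sTab3

/-- The product of two representatives: twice the representative plus the sign. -/
def smul (k s t : ℕ) : ℕ := (sTab k >>> (6 * (24 * s + t))) % 64

/-- The product in the model `k`. -/
def mmul (k x y : ℕ) : ℕ :=
  32 * (smul k (x / 32) (y / 32) / 2) +
    emul (emul (x % 32) (act (x / 32) (y % 32))) (16 * (smul k (x / 32) (y / 32) % 2))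

/-- The table of the inverses in the model `k`. -/
def iTab : ℕ → ℕ
  | 0 => iTab0
  | 1 => iTab1
  | 2 => iTab2
  | _ => iTab3

/-- The inverse in the model `k`. -/
def minv (k x : ℕ) : ℕ := (iTab k >>> (10 * x)) % 1024

/-- Conjugation in the model `k`. -/
def mconj (k g x : ℕ) : ℕ := mmul k (mmul k g x) (minv k g)

/-- The images of the generators `1, 2, 4, 8` packed. -/
def tup (f : ℕ → ℕ) : ℕ := f 1 + 32 * f 2 + 1024 * f 4 + 32768 * f 8

/-- The involutions outside the centre. -/
def invs : List ℕ := (List.range 32).filter fun v => emul v v == 0 && v != 0 && v != 16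

/-- The elements of order four. -/
def fours : List ℕ := (List.range 32).filter fun v => emul v v == 16

/-- The images of the generators under an automorphism, the first image being among `l`. -/
def cands (l : List ℕ) : List ℕ :=
  l.flatMap fun a => (invs.filter fun b => emul a b != emul b a).flatMap fun b =>
    let Q := fours.filter fun c => emul a c == emul c a && emul b c == emul c b
    Q.flatMap fun c => (Q.filter fun d => emul c d != emul d c).map fun d => a + 32 * b + 1024 * c + 32768 * d

end CfsgAutL34
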