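import Cfsg.Agent.Lib.AutL34Type.Coord

/-!
The coordinates of the centraliser.
-/

set_option autoImplicit false
set_option maxRecDepth 100000
set_option linter.unusedSectionVars false

namespace CfsgAutL34

open Enum (evW letG stepP evW_append evW_cons evW_one evW_nil letG_flip)

theorem smul_zero : ((List.range 4).all fun k => (List.range 24).all fun t =>
    smul k 0 t == 2 * t &&
    (List.range 24).all fun s => s == t || smul k s (minv k (32 * t) / 32) / 2 != 0) = true := by decide +kernel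

theorem smul_split : ((List.range 4).all fun k => (List.range 24).all fun s => (List.range 24).all fun t =>
    decide (smul k s t < 48)) = true := by decide +kernel

theorem rep_facts {k : ℕ} (hk : k < 4) : (∀ j < (repCert k).nf, (repCert k).okFact j = true) ∧
    (∀ d < 48, (repCert k).okRow d = true) ∧ (repCert k).rep.getD 0 0 = 0 ∧
    (∃ spec, (repCert k).rules = Enum.rulesOf (repRels k) spec) ∧ (repCert k).sub = [] ∧ (repCert k).size = 48 ∧
    (repCert k).letters = 8 := by
  have conv : ∀ C : Enum.Cert, C.okFacts 0 C.nf = true → ∀ j < C.nf, C.okFact j = true := fun C h j hj => by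
    have := of_range_all h hj
    simpa using this
  interval_cases k
  exacts [⟨conv _ rep0_facts.1, fun d hd => of_range_all rep0_facts.2.1 hd, rep0_facts.2.2, ⟨_, rfl⟩, rfl, rfl, rfl⟩,
    ⟨conv _ rep1_facts.1, fun d hd => of_range_all rep1_facts.2.1 hd, rep1_facts.2.2, ⟨_, rfl⟩, rfl, rfl, rfl⟩,
    ⟨conv _ rep2_facts.1, fun d hd => of_range_all rep2_facts.2.1 hd, rep2_facts.2.2, ⟨_, rfl⟩, rfl, rfl, rfl⟩,
    ⟨conv _ rep3_facts.1, fun d hd => of_range_all rep3_facts.2.1 hd, rep3_facts.2.2, ⟨_, rfl⟩, rfl, rfl, rfl⟩]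

section

variable {H : Type*} [Group H] [Finite H] {E : Subgroup H} [E.Normal] {ψ : ℕ → H}

/-- Two words with the same run give the same element. -/
theorem evW_eq_of_run {k : ℕ} (hk : k < 4) {L : List H} (hL : L.length ≤ 8) (hR : ∀ w ∈ repRels k, evW L w = 1)
    {u v : List ℕ} (hu : ∀ x ∈ u, x < 8) (hv : ∀ x ∈ v, x < 8)
    (h : runW (repCert k).codes u = runW (repCert k).codes v) : evW L u = evW L v := by
  obtain ⟨hf, hrow, h0, ⟨spec, hspec⟩, hsub, hsize, hlet⟩ := rep_facts hk
  obtain ⟨f, hf0, hstep⟩ := Enum.table_sound (P := H) (base := (1 : H)) hL (by rw [hsub]; simp)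
    (hspec ▸ Enum.rulesOf_ok hL hR spec) hf (by rw [hsize]; exact hrow) h0
  rw [hsize, hlet] at hstep
  have key : ∀ w : List ℕ, (∀ x ∈ w, x < 8) → ∀ d < 48,
      w.foldl (fun d x => CfsgPC.ap ((repCert k).codes.getD x 0) d) d < 48 ∧
      f (w.foldl (fun d x => CfsgPC.ap ((repCert k).codes.getD x 0) d) d) = (evW L w)⁻¹ • f d := by
    intro w
    induction w with
    | nil => exact fun _ d hd => ⟨hd, by rw [evW_nil, inv_one, one_smul]; rfl⟩
    | cons x w ih =>
      intro hw d hd
      obtain ⟨l, e⟩ := hstep d hd x (hw x (List.mem_cons_self ..))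
      obtain ⟨r1, r2⟩ := ih (fun y hy => hw y (List.mem_cons_of_mem _ hy)) _ l
      exact ⟨r1, by rw [List.foldl_cons, r2, ← e, stepP, evW_cons, mul_inv_rev, mul_smul]⟩
  have h1 := (key u hu 0 (by norm_num)).2
  have h2 := (key v hv 0 (by norm_num)).2
  have e : runW (repCert k).codes u = u.foldl (fun d x => CfsgPC.ap ((repCert k).codes.getD x 0) d) 0 := rfl
  have e' : runW (repCert k).codes v = v.foldl (fun d x => CfsgPC.ap ((repCert k).codes.getD x 0) d) 0 := rfl
  rw [← e, h, e', h2, hf0] at h1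
  simpa using h1.symm

/-- The coordinates. -/
theorem exists_coord (D : EData E ψ) (hC : Subgroup.centralizer (E : Set H) ≤ E) (hcard : Nat.card H = 768)
    (hfix : ∀ c : H, cd ψ c 1 = 1 ∨ cd ψ c 1 = 17) :
    ∃ k, k < 4 ∧ ∃ φ : ℕ → H, φ 16 = ψ 16 ∧ (∀ x < 768, ∀ y < 768, φ (mmul k x y) = φ x * φ y) ∧
      (∀ x < 768, ∀ y < 768, φ x = φ y → x = y) ∧ ∀ c, ∃ x < 768, φ x = c := by
  obtain ⟨k, hk, g, hg, hrel⟩ := exists_gens D hC hcard hfix
  obtain ⟨L, hLdef⟩ : ∃ L, [g 1, g 2, g 3, ψ 16] = L := ⟨_, rfl⟩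
  rw [hLdef] at hrel
  have hL : L.length ≤ 8 := by rw [← hLdef]; simp
  obtain ⟨rep, hrep⟩ : ∃ rep : ℕ → H, ∀ s, rep s = evW L (repWord.getD s []) := ⟨_, fun s => rfl⟩
  obtain ⟨hlen, hw0, hwl, hfold, hcomp⟩ := repWord_ok
  have hlet : ∀ s, ∀ x ∈ repWord.getD s [], x = 0 ∨ x = 2 ∨ x = 4 := by
    intro s x hx
    rcases Nat.lt_or_ge s repWord.length with h | h
    · rw [List.getD_eq_getElem _ _ h] at hx
      have := List.all_eq_true.1 (List.all_eq_true.1 hwl _ (List.getElem_mem h)) x hx
      simpa using this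
    · rw [List.getD_eq_default _ _ h] at hx
      simp at hx
  have hzw : ∀ b, evW L (List.replicate (b % 2) 6) = ψ (16 * (b % 2)) := fun b => by
    rcases Nat.mod_two_eq_zero_or_one b with h | h <;> rw [h]
    · simp [evW_nil, D.zero]
    · rw [show List.replicate 1 6 = [6] from rfl, evW_one, ← hLdef]
      simp [letG]
  have hgl : ∀ x, x = 0 ∨ x = 2 ∨ x = 4 → letG L x = g (x / 2 + 1) ∧ ∀ a < 32, cd ψ (g (x / 2 + 1)) a = act (x / 2 + 1) a := by
    rintro x (rfl | rfl | rfl) <;> refine ⟨by rw [← hLdef]; simp [letG], hg _ (by norm_num)⟩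
  have hstep : ∀ s < 24, ∀ x, x = 0 ∨ x = 2 ∨ x = 4 → rep s * letG L x =
      ψ (16 * (smul k s (x / 2 + 1) % 2)) * rep (smul k s (x / 2 + 1) / 2) := by
    intro s hs x hx
    have hrun := of_all (of_range_all (of_range_all rep_steps hk) hs)
      (show x ∈ [0, 2, 4] by simpa using hx)
    simp only [beq_iff_eq] at hrun
    have := evW_eq_of_run hk hL hrel (fun y hy => by
        rcases List.mem_append.1 hy with h | h
        · rcases hlet s y h with e | e | e <;> omega
        · simp only [List.mem_singleton] at h; omega)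
      (fun y hy => by
        rcases List.mem_append.1 hy with h | h
        · have := (List.mem_replicate.1 h).2; omega
        · rcases hlet _ y h with e | e | e <;> omega) hrun
    rwa [evW_append, evW_one, evW_append, hzw, ← hrep, ← hrep] at this
  have hz2 : ∀ b c, b < 2 → c < 2 → ψ (16 * b) * ψ (16 * c) = ψ (16 * ((b + c) % 2)) := by
    intro b c hb hc
    rw [← D.mul _ (by omega) _ (by omega)]
    congr 1
    interval_cases b <;> interval_cases c <;> decide +kernel
  have key : ∀ u : List ℕ, (∀ x ∈ u, x = 0 ∨ x = 2 ∨ x = 4) → ∀ v, v < 48 → (∀ a < 32, cd ψ (rep (v / 2)) a = act (v / 2) a) →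
      u.foldl (stepS k) v < 48 ∧
      ψ (16 * (v % 2)) * rep (v / 2) * evW L u =
        ψ (16 * (u.foldl (stepS k) v % 2)) * rep (u.foldl (stepS k) v / 2) ∧
      ∀ a < 32, cd ψ (rep (u.foldl (stepS k) v / 2)) a = act (u.foldl (stepS k) v / 2) a := by
    intro u
    induction u with
    | nil => exact fun _ v hv hc => ⟨hv, by rw [evW_nil, mul_one]; rfl, hc⟩
    | cons x u ih =>
      intro hu v hv hc
      have hx := hu x (List.mem_cons_self ..)
      have hi : x / 2 + 1 < 24 := by omega
      have hs : v / 2 < 24 := by omega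
      obtain ⟨gx, gc⟩ := hgl x hx
      obtain ⟨t, ht⟩ : ∃ t, smul k (v / 2) (x / 2 + 1) = t := ⟨_, rfl⟩
      have ht2 : t / 2 < 24 := ht ▸ smul_bound hk hs hi
      have e := hstep _ hs x hx
      rw [ht] at e
      have hd : stepS k v x / 2 = t / 2 ∧ stepS k v x % 2 = (v + t) % 2 ∧ stepS k v x < 48 := by
        simp only [stepS, ht]; omega
      have hnext : ∀ a < 32, cd ψ (rep (stepS k v x / 2)) a = act (stepS k v x / 2) a := by
        intro a ha
        have e2 : rep (t / 2) = (ψ (16 * (t % 2)))⁻¹ * (rep (v / 2) * letG L x) := by rw [e]; group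
        have hb : ∀ a < 32, cd ψ (ψ (16 * (t % 2)))⁻¹ a = a := fun a ha => by
          rcases Nat.mod_two_eq_zero_or_one t with h | h <;> rw [h]
          · rw [D.zero, inv_one]; exact cd_one D ha
          · rw [← D.inv (by norm_num), show einv 16 = 16 by decide +kernel]; exact cd_z D ha
        rw [hd.1, e2, cd_mul D _ _ ha, hb _ (D.cd_spec _ ha).1, cd_mul D _ _ ha, gx, gc a ha,
          hc _ (act_lt hi ha)]
        have := of_range_all (of_all (of_range_all (of_range_all hcomp hk) hs)
          (show x / 2 + 1 ∈ [1, 2, 3] by rcases hx with rfl | rfl | rfl <;> simp)) ha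
        simp only [beq_iff_eq, ht] at this
        exact this.symm
      obtain ⟨r1, r2, r3⟩ := ih (fun y hy => hu y (List.mem_cons_of_mem _ hy)) _ hd.2.2 hnext
      refine ⟨r1, ?_, r3⟩
      rw [List.foldl_cons, ← r2, hd.1, hd.2.1, evW_cons, ← mul_assoc, mul_assoc _ (rep _) (letG L x), e, ← mul_assoc,
        hz2 _ _ (Nat.mod_lt _ two_pos) (Nat.mod_lt _ two_pos)]
      congr 3
      omega
  have h00 : rep 0 = 1 := by rw [hrep, hw0, evW_nil]
  have hact : ∀ t < 24, ∀ a < 32, cd ψ (rep t) a = act t a := by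
    intro t ht
    obtain ⟨-, -, h3⟩ := key _ (hlet t) 0 (by norm_num) fun a ha => by
      rw [show 0 / 2 = 0 from rfl, h00, cd_one D ha]
      have := of_range_all act_fix.2 ha
      simpa using (beq_iff_eq.1 this).symm
    have hf := of_range_all (of_range_all (of_range_all hfold hk) (show 0 < 24 by norm_num)) ht
    have hsz := of_range_all (of_range_all smul_zero hk) ht
    simp only [Bool.and_eq_true, beq_iff_eq] at hf hsz
    rw [show 2 * 0 = 0 from rfl] at hf
    rw [hf.2, hsz.1, show 2 * t / 2 = t by omega] at h3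
    exact h3
  have hrr : ∀ s < 24, ∀ t < 24, rep s * rep t = ψ (16 * (smul k s t % 2)) * rep (smul k s t / 2) := by
    intro s hs t ht
    have hf := of_range_all (of_range_all (of_range_all hfold hk) hs) ht
    simp only [Bool.and_eq_true, beq_iff_eq] at hf
    have h2 := (key _ (hlet t) (2 * s) (by omega) (by rw [show 2 * s / 2 = s by omega]; exact hact s hs)).2.1
    rwa [hf.2, ← hrep, show 2 * s % 2 = 0 by omega, show 16 * 0 = 0 from rfl, D.zero, one_mul,
      show 2 * s / 2 = s by omega] at h2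
  obtain ⟨φ, hφ⟩ : ∃ φ : ℕ → H, ∀ x, φ x = ψ (x % 32) * rep (x / 32) := ⟨_, fun x => rfl⟩
  have hmm : ∀ x < 768, ∀ y < 768, φ (mmul k x y) = φ x * φ y := by
    intro x hx y hy
    have hs : x / 32 < 24 := by omega
    have ht : y / 32 < 24 := by omega
    have he : x % 32 < 32 := Nat.mod_lt _ (by norm_num)
    have he' : y % 32 < 32 := Nat.mod_lt _ (by norm_num)
    have ha := act_lt hs he'
    have l1 := emul_lt _ he _ ha
    have l2 : 16 * (smul k (x / 32) (y / 32) % 2) < 32 := by omega
    have l3 := emul_lt _ l1 _ l2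
    rw [hφ, hφ, hφ, mmul, show (32 * (smul k (x / 32) (y / 32) / 2) +
        emul (emul (x % 32) (act (x / 32) (y % 32))) (16 * (smul k (x / 32) (y / 32) % 2))) % 32 =
        emul (emul (x % 32) (act (x / 32) (y % 32))) (16 * (smul k (x / 32) (y / 32) % 2)) by omega,
      show (32 * (smul k (x / 32) (y / 32) / 2) +
        emul (emul (x % 32) (act (x / 32) (y % 32))) (16 * (smul k (x / 32) (y / 32) % 2))) / 32 =
        smul k (x / 32) (y / 32) / 2 by omega,
      D.mul _ l1 _ l2, D.mul _ he _ ha, mul_assoc (ψ (x % 32) * ψ _), ← hrr _ hs _ ht,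
      ← hact _ hs _ he', (D.cd_spec _ he').2]
    group
  have hinj : ∀ x < 768, ∀ y < 768, φ x = φ y → x = y := by
    intro x hx y hy h
    have hy' : 32 * (y / 32) < 768 := by omega
    have hm := of_range_all (of_range_all minv_ok hk) hy'
    simp only [Bool.and_eq_true, decide_eq_true_eq, beq_iff_eq] at hm
    obtain ⟨⟨⟨hm1, hm2⟩, -⟩, -⟩ := hm
    obtain ⟨u, hu⟩ : ∃ u, minv k (32 * (y / 32)) = u := ⟨_, rfl⟩
    rw [hu] at hm1 hm2
    have e0 : φ u * φ (32 * (y / 32)) = 1 := by
      rw [← hmm _ hm1 _ hy', hm2, hφ]; simp [D.zero, h00]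
    have e1 : φ (32 * (y / 32)) = rep (y / 32) := by
      rw [hφ, show 32 * (y / 32) % 32 = 0 by omega, show 32 * (y / 32) / 32 = y / 32 by omega, D.zero, one_mul]
    rw [e1] at e0
    have e2 : ∃ e < 32, rep (smul k (x / 32) (u / 32) / 2) = ψ e := by
      have hr : rep (y / 32) = (φ u)⁻¹ := eq_inv_of_mul_eq_one_right e0
      rw [hφ, hφ, hr, hφ] at h
      have hmem : rep (x / 32) * rep (u / 32) ∈ E := by
        have : rep (x / 32) * rep (u / 32) =
            ((ψ (x % 32))⁻¹ * ψ (y % 32)) * ((rep (u / 32))⁻¹ * (ψ (u % 32))⁻¹ * rep (u / 32)) := by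
          calc rep (x / 32) * rep (u / 32)
              = (ψ (x % 32))⁻¹ * (ψ (x % 32) * rep (x / 32)) * rep (u / 32) := by group
            _ = _ := by rw [h]; group
        rw [this]
        refine E.mul_mem (E.mul_mem (E.inv_mem ((D.mem _).2 ⟨_, Nat.mod_lt _ (by norm_num), rfl⟩))
          ((D.mem _).2 ⟨_, Nat.mod_lt _ (by norm_num), rfl⟩)) ?_
        simpa using Subgroup.Normal.conj_mem inferInstance _
          (E.inv_mem ((D.mem _).2 ⟨u % 32, Nat.mod_lt _ (by norm_num), rfl⟩)) (rep (u / 32))⁻¹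
      rw [hrr _ (by omega) _ (by omega)] at hmem
      obtain ⟨e, he, hee⟩ := (D.mem _).1
        ((Subgroup.mul_mem_cancel_left E ((D.mem _).2 ⟨16 * (smul k (x / 32) (u / 32) % 2), by omega, rfl⟩)).1 hmem)
      exact ⟨e, he, hee.symm⟩
    obtain ⟨e, he, hre⟩ := e2
    have hs0 : smul k (x / 32) (u / 32) / 2 = 0 := by
      by_contra hne
      have hlt := smul_bound hk (show x / 32 < 24 by omega) (show u / 32 < 24 by omega)
      have := of_range_all act_outer hlt
      simp only [Bool.or_eq_true, beq_iff_eq, hne, false_or] at this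
      have := of_range_all this he
      simp only [List.any_eq_true, bne_iff_ne] at this
      obtain ⟨a, ha, hne'⟩ := this
      have ha' : a < 32 := by simp at ha; omega
      exact hne' (by rw [← hact _ hlt _ ha', hre, D.cd_eq _ ha' (econj_lt he ha') (D.conj he ha')])
    have hxy : x / 32 = y / 32 := by
      have := of_range_all (of_range_all smul_zero hk) (show y / 32 < 24 by omega)
      simp only [Bool.and_eq_true, List.all_eq_true, List.mem_range, Bool.or_eq_true, beq_iff_eq, bne_iff_ne] at this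
      exact (this.2 (x / 32) (by omega)).resolve_right fun hh => hh (by rw [hu]; exact hs0)
    rw [hφ, hφ, hxy] at h
    have := D.inj _ (Nat.mod_lt _ (by norm_num)) _ (Nat.mod_lt _ (by norm_num)) (mul_right_cancel h)
    omega
  refine ⟨k, hk, φ, by rw [hφ]; simp [h00], hmm, hinj, ?_⟩
  have := Fintype.ofFinite H
  have hb : Function.Bijective fun x : Fin 768 => φ x :=
    (Fintype.bijective_iff_injective_and_card _).2 ⟨fun a b e => Fin.ext (hinj a a.2 b b.2 e), by rw [Fintype.card_fin, ← Nat.card_eq_fintype_card, hcard]⟩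
  intro c
  obtain ⟨x, hx⟩ := hb.2 c
  exact ⟨x, x.2, hx⟩

end

end CfsgAutL34
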