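import Cfsg.Agent.Lib.AutL34Type.Frame

/-!
Calculating in the normaliser of the abelian subgroup: pairs of a translation and an action.
-/

set_option autoImplicit false
set_option maxRecDepth 100000
set_option linter.unusedSectionVars false

namespace CfsgAutL34

/-- The product of two pairs. -/
def pMul (a b : ℕ × ℕ) : ℕ × ℕ := (vAdd a.1 (apq a.2 b.1), qMul a.2 b.2)

/-- The member of the complement with the action of a code. -/
def hOf (c : ℕ) : ℕ := (HList.filter fun h => qCode h == qCode c).headD 0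

/-- The pair of a code. -/
def pOf (c : ℕ) : ℕ × ℕ := (aix (mmul 0 c (minv 0 (hOf c))), qCode c)

/-- The pair of the element of order three. -/
def pR : ℕ × ℕ := (0, qD)

/-- The trivial pair. -/
def pI : ℕ × ℕ := (0, qI)

theorem pOf_ok : (NAList.all fun c => HList.contains (hOf c) && qCode (hOf c) == qCode c &&
    AList.contains (mmul 0 c (minv 0 (hOf c))) && NAList.contains (minv 0 c) &&
    mmul 0 (mmul 0 c (minv 0 (hOf c))) (hOf c) == c) = true := by decide +kernel

theorem HList_NA : (HList.all fun h => NAList.contains h && decide (h < 768)) = true := by decide +kernel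

theorem norm_pMul (a b : ℕ × ℕ) : packQ (apq (pMul a b).2) = (pMul a b).2 := by
  show packQ (apq (qMul a.2 b.2)) = qMul a.2 b.2
  unfold qMul
  exact packQ_norm (fun i => apq a.2 (apq b.2 i)) fun _ _ => apq_lt _ _

variable {G : Type*} [Group G] {z : G} {φ : ℕ → G}

/-- Being represented by a pair. -/
def Rep (φ : ℕ → G) (r n : G) (p : ℕ × ℕ) : Prop :=
  p.1 < 16 ∧ ∃ l, Acts φ l p.2 ∧ Flips r l ∧ n = φ (av p.1) * l

namespace Frame

variable {r σ : G} (F : Frame z φ r σ)
include F

theorem rep_r : Rep φ r r pR :=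
  ⟨by norm_num [pR], r, F.hr, Or.inl (by group), by
    show r = φ (av 0) * r
    rw [F.B.av_zero, one_mul]⟩

theorem rep_one : Rep φ r (1 : G) pI :=
  ⟨by norm_num [pI], 1, acts_one φ, flips_one r, by
    show (1 : G) = φ (av 0) * 1
    rw [F.B.av_zero, one_mul]⟩

theorem rep_mul {m n : G} {a b : ℕ × ℕ} (hm : Rep φ r m a) (hn : Rep φ r n b) : Rep φ r (m * n) (pMul a b) := by
  obtain ⟨ha, l, hl, fl, rfl⟩ := hm
  obtain ⟨hb, l', hl', fl', rfl⟩ := hn
  refine ⟨((vrow ha).2.2.2.2.2 _ (apq_lt _ _)).1, l * l', hl.mul hl', fl.mul fl', ?_⟩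
  show φ (av a.1) * l * (φ (av b.1) * l') = φ (av (vAdd a.1 (apq a.2 b.1))) * (l * l')
  rw [← F.B.av_mul ha (apq_lt _ _), ← hl b.1 hb]
  group

theorem rep_unique {m n : G} {a : ℕ × ℕ} (hm : Rep φ r m a) (hn : Rep φ r n a) : m = n := by
  obtain ⟨_, l, hl, fl, rfl⟩ := hm
  obtain ⟨_, l', hl', fl', rfl⟩ := hn
  rw [F.B.flip_unique F.hr F.r3 hl hl' (fun _ _ => rfl) fl fl']

theorem rep_inj {n : G} {a b : ℕ × ℕ} (hm : Rep φ r n a) (hn : Rep φ r n b) :
    a.1 = b.1 ∧ ∀ i < 16, apq a.2 i = apq b.2 i := by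
  obtain ⟨ha, l, hl, fl, rfl⟩ := hm
  obtain ⟨hb, l', hl', fl', e⟩ := hn
  have hq : ∀ i < 16, apq a.2 i = apq b.2 i := by
    refine F.B.acts_unique (((F.B.acts_av ha).mul hl).congr fun i hi => ?_) ((e ▸ ((F.B.acts_av hb).mul hl')).congr fun i hi => ?_)
    · rw [apq_qMul _ _ hi, apq_qI (apq_lt _ _)]
    · rw [apq_qMul _ _ hi, apq_qI (apq_lt _ _)]
  refine ⟨?_, hq⟩
  rw [F.B.flip_unique F.hr F.r3 hl hl' hq fl fl'] at e
  exact F.B.av_inj ha hb (mul_right_cancel e)

theorem rep_eq {n : G} {a b : ℕ × ℕ} (ha : Rep φ r n a) (hb : Rep φ r n b) (hna : packQ (apq a.2) = a.2)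
    (hnb : packQ (apq b.2) = b.2) : a = b := by
  obtain ⟨h1, h2⟩ := F.rep_inj ha hb
  refine Prod.ext h1 ?_
  rw [← hna, ← hnb]
  exact packQ_congr h2

theorem NA_lt {c : ℕ} (hc : c ∈ NAList) : c < 768 := by
  simp only [NAList, List.mem_filter, List.mem_range] at hc
  exact hc.1

theorem flips_word : ∀ (w : List ℕ) {n : G}, Flips r n →
    Flips r (w.foldl (fun acc l => acc * [φ 332, φ 140, σ].getD l 1) n)
  | [], _, h => h
  | l :: w, n, h => by
    refine flips_word w (h.mul ?_)
    by_cases hl : l < 3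
    · interval_cases l
      exacts [F.f1, F.f2, F.fs]
    · rw [List.getD_eq_default _ _ (by simpa using hl)]
      exact flips_one r

/-- The element of a word in the three generators. -/
theorem rep_word (w : List ℕ) :
    Rep φ r (w.foldl (fun acc l => acc * [φ 332, φ 140, σ].getD l 1) 1) (0, qWord qGens w) := by
  refine ⟨by norm_num, _, ?_, F.flips_word w (flips_one r), by
    show _ = φ (av 0) * _
    rw [F.B.av_zero, one_mul]⟩
  show Acts φ _ (qWord qGens w)
  unfold qWord
  refine F.B.acts_word (gs := [φ 332, φ 140, σ]) (qs := qGens) rfl (fun l hl => ?_) w (acts_one φ)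
  simp only [List.length_cons, List.length_nil] at hl
  interval_cases l
  exacts [F.B.acts_code F.B.NA_332.1, F.B.acts_code F.B.NA_332.2, F.hs]

/-- The members of the complement flip. -/
theorem flips_H {h : ℕ} (hh : h ∈ HList) : Flips r (φ h) := by
  obtain ⟨i, hi, rfl⟩ := List.getElem_of_mem hh
  have hrow := of_range_all HList_ok.2.2.1 (HList_ok.1 ▸ hi)
  simp only [Bool.and_eq_true, beq_iff_eq, List.all_eq_true, decide_eq_true_eq] at hrow
  rw [List.getD_eq_getElem _ _ hi] at hrow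
  rw [hrow.1]
  have key : ∀ (w : List ℕ) (a : ℕ), a < 768 → (∀ l ∈ w, l < 2) →
      φ (w.foldl (fun acc l => mmul 0 acc ([332, 140].getD l 0)) a) =
        w.foldl (fun acc l => acc * [φ 332, φ 140, σ].getD l 1) (φ a) := by
    intro w
    induction w with
    | nil => intro a _ _; rfl
    | cons l w ih =>
      intro a ha hw
      have hl := hw l (List.mem_cons_self ..)
      simp only [List.foldl_cons]
      interval_cases l
      · show φ (w.foldl _ (mmul 0 a 332)) = _
        rw [ih _ (F.B.mul_lt ha (by norm_num)) (fun x hx => hw x (List.mem_cons_of_mem _ hx)),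
          F.B.mul _ ha _ (by norm_num)]
        rfl
      · show φ (w.foldl _ (mmul 0 a 140)) = _
        rw [ih _ (F.B.mul_lt ha (by norm_num)) (fun x hx => hw x (List.mem_cons_of_mem _ hx)),
          F.B.mul _ ha _ (by norm_num)]
        rfl
  rw [key _ 0 (by norm_num) hrow.2, F.B.one]
  exact F.flips_word _ (flips_one r)

/-- The pair of a code. -/
theorem rep_code {c : ℕ} (hc : c ∈ NAList) : Rep φ r (φ c) (pOf c) := by
  have := of_all pOf_ok hc
  simp only [Bool.and_eq_true, beq_iff_eq, List.contains_iff_mem] at this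
  obtain ⟨⟨⟨⟨hh, hq⟩, hA⟩, -⟩, hprod⟩ := this
  have hh' := of_all HList_NA hh
  simp only [Bool.and_eq_true, List.contains_iff_mem, decide_eq_true_eq] at hh'
  refine ⟨(aix_lt hA).1, φ (hOf c), ?_, F.flips_H hh, ?_⟩
  · show Acts φ _ (qCode c)
    rw [← hq]; exact F.B.acts_code hh'.1
  · show φ c = φ (av (aix (mmul 0 c (minv 0 (hOf c))))) * φ (hOf c)
    rw [(aix_lt hA).2, ← F.B.mul _ (F.B.mul_lt (NA_lt F hc) (F.B.minv_lt hh'.2).1) _ hh'.2, hprod]

end Frame

end CfsgAutL34
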