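import Cfsg.Agent.Lib.CITExt.L34
import Mathlib.GroupTheory.Transfer
import Mathlib.GroupTheory.SpecificGroups.Cyclic

/-!
Subgroups of odd order of `PSL₃` over four elements have order at most `21`.
-/

set_option autoImplicit false
set_option linter.unusedSectionVars false

namespace CfsgAutL34

open Subgroup

/-- Commuting elements of prime order have the same order. -/
def PrimeSep (H : Type*) [Group H] : Prop :=
  ∀ (a b : H) (s t : ℕ), s.Prime → t.Prime → orderOf a = s → orderOf b = t → Commute a b → s = t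

variable {H : Type*} [Group H] [Finite H]

theorem PrimeSep.subgroup (h : PrimeSep H) (K : Subgroup H) : PrimeSep ↥K := fun a b s t hs ht ha hb hab =>
  h a b s t hs ht (by rw [Subgroup.orderOf_coe, ha]) (by rw [Subgroup.orderOf_coe, hb]) (congrArg Subtype.val hab.eq)

/-- A normal subgroup of prime order bounds the other primes. -/
theorem PrimeSep.no_normal (h : PrimeSep H) {p q : ℕ} [Fact p.Prime] (hq : q.Prime) (hne : p ≠ q)
    (P : Subgroup H) [P.Normal] (hP : Nat.card P = p) (hd : q * Nat.gcd (Nat.card H) (p - 1) ∣ Nat.card H) : False := by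
  haveI := Fact.mk hq
  haveI : IsCyclic ↥P := isCyclic_of_prime_card hP
  let f : H →* MulAut ↥P := MulAut.conjNormal
  have hr : Nat.card f.range ∣ Nat.gcd (Nat.card H) (p - 1) := by
    refine Nat.dvd_gcd (Subgroup.card_range_dvd f) ?_
    have := Subgroup.card_subgroup_dvd_card f.range
    rwa [IsCyclic.card_mulAut, hP, Nat.totient_prime Fact.out] at this
  have hk : q ∣ Nat.card f.ker := by
    have e : Nat.card H = Nat.card f.range * Nat.card f.ker := by
      rw [← Nat.card_congr (QuotientGroup.quotientKerEquivRange f).toEquiv]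
      exact Subgroup.card_eq_card_quotient_mul_card_subgroup _
    have h1 : Nat.gcd (Nat.card H) (p - 1) * q ∣ Nat.gcd (Nat.card H) (p - 1) * Nat.card f.ker := by
      exact dvd_trans (dvd_of_eq (mul_comm _ _)) (dvd_trans hd (dvd_trans (dvd_of_eq e) (Nat.mul_dvd_mul_right hr _)))
    exact Nat.dvd_of_mul_dvd_mul_left (Nat.gcd_pos_of_pos_left _ Nat.card_pos) h1
  obtain ⟨b, hb⟩ := exists_prime_orderOf_dvd_card' (G := f.ker) q hk
  obtain ⟨a, ha⟩ := exists_prime_orderOf_dvd_card' (G := P) p (by rw [hP])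
  refine hne (h a b p q Fact.out hq (by rw [Subgroup.orderOf_coe, ha]) (by rw [Subgroup.orderOf_coe, hb]) ?_)
  have e := congrArg Subtype.val (DFunLike.congr_fun (MonoidHom.mem_ker.1 b.2) a)
  rw [MulAut.conjNormal_apply, MulAut.one_apply] at e
  exact (mul_inv_eq_iff_eq_mul.1 e).symm

theorem card_sylow_cases {p m : ℕ} [hp : Fact p.Prime] (hcard : Nat.card H = p * m) (hpm : ¬ p ∣ m) :
    (∀ P : Sylow p H, Nat.card P = p) ∧ Nat.card (Sylow p H) ∣ m ∧ Nat.card (Sylow p H) % p = 1 := by
  have hP : ∀ P : Sylow p H, Nat.card P = p := fun P => by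
    rw [P.card_eq_multiplicity, hcard,
      Nat.factorization_mul hp.out.ne_zero (fun h => hpm (by rw [h]; exact dvd_zero _)), Finsupp.add_apply,
      Nat.Prime.factorization_self hp.out, Nat.factorization_eq_zero_of_not_dvd hpm, add_zero, pow_one]
  refine ⟨hP, ?_, ?_⟩
  · obtain ⟨P⟩ : Nonempty (Sylow p H) := inferInstance
    have h1 := Subgroup.card_mul_index (P : Subgroup H)
    rw [hcard, hP P] at h1
    exact Nat.eq_of_mul_eq_mul_left hp.out.pos h1 ▸ P.card_dvd_index
  · have := card_sylow_modEq_one p H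
    rwa [Nat.ModEq, Nat.mod_eq_of_lt hp.out.one_lt] at this

/-- One Sylow subgroup is impossible. -/
theorem PrimeSep.one_sylow (h : PrimeSep H) {p q m : ℕ} [Fact p.Prime] (hcard : Nat.card H = p * m) (hpm : ¬ p ∣ m)
    (hn : Nat.card (Sylow p H) = 1) (hq : q.Prime) (hne : p ≠ q) (hd : q * Nat.gcd (p * m) (p - 1) ∣ p * m) : False := by
  haveI : Subsingleton (Sylow p H) := (Nat.card_eq_one_iff_unique.1 hn).1
  obtain ⟨P⟩ : Nonempty (Sylow p H) := inferInstance
  haveI := P.normal_of_subsingleton
  exact h.no_normal hq hne (P : Subgroup H) ((card_sylow_cases hcard hpm).1 P) (by rwa [hcard])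

theorem PrimeSep.ne_fifteen (h : PrimeSep H) : Nat.card H ≠ 15 := by
  intro e
  haveI : Fact (Nat.Prime 5) := ⟨by norm_num⟩
  obtain ⟨-, hd, hm⟩ := card_sylow_cases (p := 5) (m := 3) e (by norm_num)
  have hle := Nat.le_of_dvd (by norm_num) hd
  exact h.one_sylow (p := 5) (q := 3) (m := 3) e (by norm_num) (by interval_cases hn : Nat.card (Sylow 5 H) <;> omega)
    Nat.prime_three (by norm_num) (by norm_num)

theorem PrimeSep.ne_big (h : PrimeSep H) :
    Nat.card H ≠ 35 ∧ Nat.card H ≠ 45 ∧ Nat.card H ≠ 63 ∧ Nat.card H ≠ 105 ∧ Nat.card H ≠ 315 := by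
  haveI : Fact (Nat.Prime 5) := ⟨by norm_num⟩
  haveI : Fact (Nat.Prime 7) := ⟨by norm_num⟩
  refine ⟨?_, ?_, ?_, ?_, ?_⟩
  · intro e
    obtain ⟨-, hd, hm⟩ := card_sylow_cases (p := 5) (m := 7) e (by norm_num)
    have hle := Nat.le_of_dvd (by norm_num) hd
    exact h.one_sylow (p := 5) (q := 7) (m := 7) e (by norm_num) (by interval_cases hn : Nat.card (Sylow 5 H) <;> omega)
      (by norm_num) (by norm_num) (by norm_num)
  · intro e
    obtain ⟨-, hd, hm⟩ := card_sylow_cases (p := 5) (m := 9) e (by norm_num)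
    have hle := Nat.le_of_dvd (by norm_num) hd
    exact h.one_sylow (p := 5) (q := 3) (m := 9) e (by norm_num) (by interval_cases hn : Nat.card (Sylow 5 H) <;> omega)
      Nat.prime_three (by norm_num) (by norm_num)
  · intro e
    obtain ⟨-, hd, hm⟩ := card_sylow_cases (p := 7) (m := 9) e (by norm_num)
    have hle := Nat.le_of_dvd (by norm_num) hd
    exact h.one_sylow (p := 7) (q := 3) (m := 9) e (by norm_num) (by interval_cases hn : Nat.card (Sylow 7 H) <;> omega)
      Nat.prime_three (by norm_num) (by norm_num)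
  · intro e
    obtain ⟨hP, hd, hm⟩ := card_sylow_cases (p := 7) (m := 15) e (by norm_num)
    have hle := Nat.le_of_dvd (by norm_num) hd
    obtain ⟨n, hn⟩ : ∃ n, Nat.card (Sylow 7 H) = n := ⟨_, rfl⟩
    rw [hn] at hle hd hm
    obtain rfl | rfl : n = 1 ∨ n = 15 := by interval_cases n <;> norm_num at *
    · exact h.one_sylow (p := 7) (q := 5) (m := 15) e (by norm_num) hn (by norm_num) (by norm_num) (by norm_num)
    · obtain ⟨P⟩ : Nonempty (Sylow 7 H) := inferInstance
      have hN : Nat.card ↥(normalizer (P : Set H)) = 7 := by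
        have h1 := Subgroup.card_mul_index (normalizer (P : Set H))
        rw [← P.card_eq_index_normalizer, hn, e] at h1
        omega
      have hle' : normalizer (P : Set H) ≤ centralizer ((P : Subgroup H) : Set H) := by
        rw [show normalizer (P : Set H) = (P : Subgroup H) from
          (Subgroup.eq_of_le_of_card_ge le_normalizer (le_of_eq (hN.trans (hP P).symm))).symm]
        haveI : IsCyclic ↥(P : Subgroup H) := isCyclic_of_prime_card (hP P)
        exact fun x hx => Subgroup.mem_centralizer_iff.2 fun y hy =>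
          congrArg Subtype.val (IsCyclic.commutative.is_comm.comm (⟨y, hy⟩ : ↥(P : Subgroup H)) ⟨x, hx⟩)
      have hc := (MonoidHom.ker_transferSylow_isComplement' P hle').card_mul
      rw [hP P, e] at hc
      exact (h.subgroup _).ne_fifteen (show Nat.card (MonoidHom.transferSylow P hle').ker = 15 by omega)
  · intro e
    obtain ⟨-, hd, hm⟩ := card_sylow_cases (p := 5) (m := 63) e (by norm_num)
    have hle := Nat.le_of_dvd (by norm_num) hd
    obtain ⟨n, hn⟩ : ∃ n, Nat.card (Sylow 5 H) = n := ⟨_, rfl⟩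
    rw [hn] at hle hd hm
    obtain rfl | rfl : n = 1 ∨ n = 21 := by interval_cases n <;> norm_num at *
    · exact h.one_sylow (p := 5) (q := 3) (m := 63) e (by norm_num) hn Nat.prime_three (by norm_num) (by norm_num)
    · obtain ⟨P⟩ : Nonempty (Sylow 5 H) := inferInstance
      have h1 := Subgroup.card_mul_index (normalizer (P : Set H))
      rw [← P.card_eq_index_normalizer, hn, e] at h1
      exact (h.subgroup (normalizer (P : Set H))).ne_fifteen (by omega)

theorem PrimeSep.le_twentyone (h : PrimeSep H) (hd : Nat.card H ∣ 20160) (hodd : Odd (Nat.card H)) :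
    Nat.card H ≤ 21 := by
  have h315 : Nat.card H ∣ 315 :=
    ((Nat.coprime_two_right.2 hodd).pow_right 6).dvd_of_dvd_mul_right (n := 2 ^ 6) (by norm_num; exact hd)
  obtain ⟨h1, h2, h3, h4, h5⟩ := h.ne_big
  by_contra hlt
  obtain ⟨n, hn⟩ : ∃ n, Nat.card H = n := ⟨_, rfl⟩
  rw [hn] at h315 h1 h2 h3 h4 h5 hlt
  have : n ∈ Nat.divisors 315 := Nat.mem_divisors.2 ⟨h315, by norm_num⟩
  rw [show Nat.divisors 315 = {1, 3, 5, 7, 9, 15, 21, 35, 45, 63, 105, 315} by decide +kernel] at this
  simp only [Finset.mem_insert, Finset.mem_singleton] at this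
  omega

theorem primeSep_psl {F : Type} [Field F] [Fintype F] (h4 : Fintype.card F = 4) {K : Subgroup (Matrix.ProjectiveSpecialLinearGroup (Fin 3) F)}
    (hK : Odd (Nat.card K)) : PrimeSep ↥K := by
  intro a b s t hs ht ha hb hab
  refine CfsgLib.CITExt.prime_eq (MulEquiv.refl _) h4 hs (fun h2 => ?_) ht
    (a := (a : Matrix.ProjectiveSpecialLinearGroup (Fin 3) F)) (b := (b : Matrix.ProjectiveSpecialLinearGroup (Fin 3) F))
    (by rw [Subgroup.orderOf_coe, ha]) (by rw [Subgroup.orderOf_coe, hb]) (congrArg Subtype.val hab.eq)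
  have := orderOf_dvd_natCard a
  rw [ha, h2] at this
  exact Nat.not_even_iff_odd.2 hK (even_iff_two_dvd.2 this)

end CfsgAutL34
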