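import Cfsg.Agent.Lib.AutL34Type.OnlyUX
import Mathlib.GroupTheory.GroupAction.Quotient
import Cfsg.Agent.Lib.BaseThree.Classes

/-!
Counting the conjugates when only the four group holds conjugates: there are three of them.
-/

set_option autoImplicit false
set_option maxRecDepth 100000
set_option linter.unusedSectionVars false

namespace CfsgAutL34

variable {G : Type*} [Group G] [Finite G] {z : G} {φ : ℕ → G}

open scoped Classical in
/-- The conjugates of `z` commuting with an element. -/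
noncomputable def commK (z t : G) : Finset G :=
  haveI := Fintype.ofFinite G
  Finset.univ.filter fun w => w ∈ cls z ∧ w * t = t * w

theorem mem_commK {z t w : G} : w ∈ commK z t ↔ w ∈ cls z ∧ w * t = t * w := by
  simp [commK]

theorem commK_card_conj (z t g : G) : (commK z (g * t * g⁻¹)).card = (commK z t).card := by
  refine Finset.card_nbij (fun w => g⁻¹ * w * g) (fun w hw => ?_) (fun a _ b _ h => mul_left_cancel (mul_right_cancel h))
    (fun w hw => ⟨g * w * g⁻¹, ?_, by group⟩)
  · simp only [Finset.mem_coe, mem_commK] at hw ⊢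
    refine ⟨by simpa using cls_conj hw.1 g⁻¹, ?_⟩
    have h := comm_conj g⁻¹ hw.2
    rw [show g⁻¹ * (g * t * g⁻¹) * g⁻¹⁻¹ = t by group, inv_inv] at h
    exact h
  · simp only [Finset.mem_coe, mem_commK] at hw ⊢
    exact ⟨cls_conj hw.1 g, comm_conj g hw.2⟩

theorem commK_card (z t : G) : (commK z t).card = Nat.card {w : G // w ∈ cls z ∧ w * t = t * w} := by
  classical
  rw [← Nat.card_eq_finsetCard]
  exact Nat.card_congr (Equiv.subtypeEquivRight fun w => mem_commK)

namespace OnlyU

variable (D : OnlyU z φ)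
include D

theorem commK_z : (commK z z).card = 3 := by
  classical
  have e : commK z z = ([16, 1, 17] : List ℕ).toFinset.image φ := by
    ext w
    simp only [mem_commK, Finset.mem_image, List.mem_toFinset, List.mem_cons, List.not_mem_nil, or_false]
    refine ⟨fun ⟨h1, h2⟩ => ?_, ?_⟩
    · rcases D.hU w h1 h2 with rfl | rfl | rfl
      exacts [⟨16, Or.inl rfl, D.B.zc⟩, ⟨1, Or.inr (Or.inl rfl), rfl⟩, ⟨17, Or.inr (Or.inr rfl), rfl⟩]
    · rintro ⟨u, hu, rfl⟩
      rcases hu with rfl | rfl | rfl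
      exacts [⟨D.B.zc.symm ▸ cls_self z, D.B.comm_z (by norm_num)⟩, ⟨D.hx, D.x_comm⟩,
        ⟨D.xz_mem, D.B.comm_z (by norm_num)⟩]
  rw [e, Finset.card_image_of_injOn]
  · rfl
  · intro a ha b hb h
    have hlt : ∀ u ∈ ([16, 1, 17] : List ℕ).toFinset, u < 768 := by decide +kernel
    exact D.B.inj _ (hlt a ha) _ (hlt b hb) h

theorem commK_K {u : G} (hu : u ∈ cls z) : (commK z u).card = 3 := by
  obtain ⟨g, rfl⟩ := hu
  rw [commK_card_conj, D.commK_z]

theorem commK_S {y : G} (hy : y ∈ cls (φ 160)) : (commK z y).card = (commK z (φ 160)).card := by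
  obtain ⟨g, rfl⟩ := hy
  rw [commK_card_conj]

/-- A conjugate not commuting with `160` commutes with exactly one translate. -/
theorem outside {w : G} (hw : w ∈ cls z) (hws : w * φ 160 ≠ φ 160 * w) :
    ∃! y, y ∈ commK z (φ 160) ∧ w * (φ 160 * y) = φ 160 * y * w := by
  obtain ⟨s, hs⟩ : ∃ s, s = φ 160 := ⟨_, rfl⟩
  rw [← hs] at hws ⊢
  have hw2 := cls_sq D.B.zz hw
  have hs2 : s * s = 1 := hs ▸ D.s0_sq
  have hscl : s ∈ cls (φ 160) := hs ▸ cls_self _
  rcases invol_dichotomy hw2 hs2 with ⟨n, hn⟩ | ⟨m, hii, hi1, hwi, hsi, hcase⟩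
  · exact absurd (hn ▸ cls_conj hw _) (D.scl_not hscl)
  generalize hidef : (w * s) ^ m = i at *
  have hwiw : i * w * w = w * (i * w) := by
    rw [mul_assoc, hw2, mul_one, ← mul_assoc, hwi, mul_assoc, hw2, mul_one]
  have hprod : w * (i * w) = i := by rw [← hwiw, mul_assoc, hw2, mul_one]
  rcases hcase with ⟨-, c, e⟩ | ⟨hm, c, e⟩
  · exfalso
    have hne : i * w ≠ w := fun h => hi1 (mul_eq_right.1 h)
    have hiK : i ∈ cls z := hprod ▸ (D.tri hw (e ▸ cls_conj hw c) hwiw hne).1
    exact hws (D.two_spec (D.scl_two hscl) hiK hsi hw hwi).symm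
  · have hiS : i ∈ cls (φ 160) := hprod ▸ D.scl_mul (e ▸ cls_conj hscl c) hw hwiw
    obtain ⟨j, hj⟩ := hm
    have hyK : i * s ∈ cls z := by
      have h1 : i * s = (w * s) ^ j * w * ((w * s) ^ j)⁻¹ := by
        rw [mul_assoc ((w * s) ^ j), invol_flip hw2 hs2, ← mul_assoc, ← pow_add, ← hidef, hj,
          show 2 * j + 1 = j + j + 1 by omega, pow_succ]
        simp only [mul_assoc, hs2, mul_one]
      exact h1 ▸ cls_conj hw _
    have hys : i * s * s = s * (i * s) := by rw [← mul_assoc s, hsi]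
    have hsy : s * (i * s) = i := by rw [← mul_assoc, hsi, mul_assoc, hs2, mul_one]
    refine ⟨i * s, ⟨mem_commK.2 ⟨hyK, hys⟩, by rw [hsy]; exact hwi⟩, ?_⟩
    rintro y ⟨hy, hwy⟩
    have hodd : ∀ v ∈ cls z, v * s = s * v → w * (s * v) = s * v * w →
        ∃ N, Odd N ∧ (w * s) ^ N = s * v := by
      intro v hv hvs hwv
      have hv2 := cls_sq D.B.zz hv
      have hne : v * w ≠ w * v := fun h => hws (by
        have e1 : s = s * v * v := by rw [mul_assoc, hv2, mul_one]
        rw [e1, ← mul_assoc, hwv, mul_assoc (s * v), ← h, ← mul_assoc])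
      obtain ⟨n, hn⟩ := D.conj_of_ncomm hw hv hne
      rw [mul_assoc, invol_flip hw2 hv2, ← mul_assoc, ← pow_add] at hn
      have h1 : (w * v) ^ (2 * n + 1) = 1 := by
        have h2 : (w * v) ^ (n + n) = v * w := by
          rw [← mul_one ((w * v) ^ (n + n)), ← hw2, ← mul_assoc, hn]
        rw [show 2 * n + 1 = n + n + 1 by omega, pow_succ, h2, mul_assoc v w, ← mul_assoc w w, hw2, one_mul, hv2]
      refine ⟨2 * n + 1, ⟨n, rfl⟩, ?_⟩
      have hc : Commute (w * v) (s * v) := by
        refine Commute.mul_left hwv ?_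
        show v * (s * v) = s * v * v
        rw [← mul_assoc, hvs]
      have e2 : w * s = w * v * (s * v) := by
        rw [← hvs]; simp only [← mul_assoc]; rw [mul_assoc w v v, hv2, mul_one]
      have h4 : (s * v) ^ (2 * n + 1) = s * v := by
        rw [pow_succ, pow_mul, sq, show s * v * (s * v) = s * (v * s) * v by simp only [mul_assoc], hvs,
          show s * (s * v) * v = s * s * (v * v) by simp only [mul_assoc], hs2, one_mul, hv2, one_pow, one_mul]
      rw [e2, hc.mul_pow, h1, one_mul, h4]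
    obtain ⟨hy1, hy2⟩ := mem_commK.1 hy
    obtain ⟨N, hN, e1⟩ := hodd y hy1 hy2 hwy
    obtain ⟨N', hN', e2⟩ := hodd (i * s) hyK hys (by rw [hsy]; exact hwi)
    have key : ∀ (v : G) (N : ℕ), Odd N → (s * v) * (s * v) = 1 → (s * v) ^ N = s * v := by
      rintro v N ⟨q, rfl⟩ h
      rw [pow_succ, pow_mul, sq, h, one_pow, one_mul]
    have hsq : ∀ v : G, v * v = 1 → v * s = s * v → s * v * (s * v) = 1 := fun v h hc => by
      rw [show s * v * (s * v) = s * (v * s) * v by simp only [mul_assoc], hc, ← mul_assoc, hs2, one_mul, h]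
    have h1 : (s * y) ^ N' = (s * (i * s)) ^ N := by rw [← e1, ← e2, ← pow_mul, ← pow_mul, mul_comm]
    rw [key y N' hN' (hsq y (cls_sq D.B.zz hy1) hy2), key _ N hN (hsq _ (cls_sq D.B.zz hyK) hys)] at h1
    exact mul_left_cancel h1

theorem commK_one (hk : (commK z (φ 160)).card ≥ 3) :
    (commK z (1 : G)).card = (commK z (φ 160)).card * ((commK z (φ 160)).card - 2) := by
  classical
  obtain ⟨s, hs⟩ : ∃ s, s = φ 160 := ⟨_, rfl⟩
  obtain ⟨X, hX⟩ : ∃ X, X = commK z s := ⟨_, rfl⟩
  rw [← hs] at hk ⊢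
  have hscl : s ∈ cls (φ 160) := hs ▸ cls_self _
  rw [← hX] at hk ⊢
  have hin : (commK z (1 : G)).filter (fun w => w * s = s * w) = X := by
    ext w; simp [hX, mem_commK]
  have hout : (commK z (1 : G)).filter (fun w => ¬ w * s = s * w) =
      X.biUnion (fun y => (commK z (s * y)).filter fun w => ¬ w * s = s * w) := by
    ext w
    simp only [Finset.mem_filter, Finset.mem_biUnion, mem_commK, mul_one, one_mul, and_true]
    refine ⟨fun ⟨h1, h2⟩ => ?_, fun ⟨y, _, ⟨h1, _⟩, h2⟩ => ⟨h1, h2⟩⟩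
    obtain ⟨y, ⟨hy, hwy⟩, -⟩ := D.outside h1 (hs ▸ h2)
    exact ⟨y, hX ▸ hs ▸ hy, ⟨h1, hs ▸ hwy⟩, h2⟩
  have hdisj : ∀ y ∈ X, ∀ y' ∈ X, y ≠ y' → Disjoint ((commK z (s * y)).filter fun w => ¬ w * s = s * w)
      ((commK z (s * y')).filter fun w => ¬ w * s = s * w) := by
    intro y hy y' hy' hne
    refine Finset.disjoint_left.2 fun w hw hw' => hne ?_
    simp only [Finset.mem_filter, mem_commK] at hw hw'
    obtain ⟨v, -, huniq⟩ := D.outside hw.1.1 (hs ▸ hw.2)
    rw [huniq y ⟨hs ▸ hX ▸ hy, hs ▸ hw.1.2⟩, huniq y' ⟨hs ▸ hX ▸ hy', hs ▸ hw'.1.2⟩]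
  have heach : ∀ y ∈ X, ((commK z (s * y)).filter fun w => ¬ w * s = s * w).card = X.card - 3 := by
    intro y hy
    rw [hX, mem_commK] at hy
    have h3 : (commK z (s * y)).filter (fun w => w * s = s * w) = commK z y := by
      ext w
      simp only [Finset.mem_filter, mem_commK]
      refine ⟨fun ⟨⟨h1, h2⟩, h3⟩ => ⟨h1, ?_⟩, fun ⟨h1, h2⟩ => ?_⟩
      · have hs2 : s * s = 1 := hs ▸ D.s0_sq
        have hc : Commute w (s * (s * y)) := Commute.mul_right h3 h2
        rwa [← mul_assoc, hs2, one_mul] at hc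
      · have h4 : w * s = s * w := (D.two_spec (D.scl_two hscl) hy.1 hy.2.symm h1 h2).symm
        exact ⟨⟨h1, (Commute.mul_right h4 h2).eq⟩, h4⟩
    have hmul : (commK z (s * y)).card = X.card := by
      rw [hX, hy.2.symm]
      exact (D.commK_S (D.scl_mul hscl hy.1 hy.2.symm)).trans (hs ▸ rfl)
    have := Finset.card_filter_add_card_filter_not (s := commK z (s * y)) (fun w => w * s = s * w)
    rw [h3, D.commK_K hy.1, hmul] at this
    omega
  have htot := Finset.card_filter_add_card_filter_not (s := commK z (1 : G)) (fun w => w * s = s * w)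
  rw [hin, hout, Finset.card_biUnion hdisj, Finset.sum_congr rfl heach, Finset.sum_const, smul_eq_mul] at htot
  obtain ⟨j, hj⟩ : ∃ j, X.card = j + 3 := ⟨X.card - 3, by omega⟩
  rw [← htot, hj, show j + 3 - 3 = j by omega, show j + 3 - 2 = j + 1 by omega]
  ring

/-- Counting orbits of a subgroup of order sixty-four. -/
theorem congruence : 64 ∣ (commK z (1 : G)).card + 117 + 24 * (commK z (φ 160)).card := by
  classical
  haveI := Fintype.ofFinite G
  have hrow : ∀ t ∈ TList, t < 768 ∧
      (t ∈ UList ∨ t ∈ SList ∨ (mmul 0 t t ∈ ([1, 16, 17] : List ℕ) ∧ mmul 0 t 1 = mmul 0 1 t)) ∧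
        ∀ t' ∈ TList, mmul 0 t t' ∈ TList := by
    intro t ht
    have := of_all TList_ok.2.2.1 ht
    simp only [Bool.and_eq_true, decide_eq_true_eq, Bool.or_eq_true, List.all_eq_true, List.contains_iff_mem,
      comm0, beq_iff_eq] at this
    exact ⟨this.1.1, or_assoc.1 this.1.2, this.2⟩
  have h0 : (0 : ℕ) ∈ TList := List.contains_iff_mem.1 TList_ok.2.2.2.1
  have hinv : ∀ t ∈ TList, minv 0 t ∈ TList := by decide +kernel
  let T : Subgroup G :=
    { carrier := {g | ∃ t ∈ TList, φ t = g}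
      one_mem' := ⟨0, h0, D.B.one⟩
      mul_mem' := by
        rintro _ _ ⟨a, ha, rfl⟩ ⟨b, hb, rfl⟩
        exact ⟨_, (hrow a ha).2.2 b hb, D.B.mul _ (hrow a ha).1 _ (hrow b hb).1⟩
      inv_mem' := by
        rintro _ ⟨a, ha, rfl⟩
        exact ⟨_, hinv a ha, D.B.inv (hrow a ha).1⟩ }
  letI : MulAction ↥T {w : G // w ∈ cls z} :=
    { smul := fun t w => ⟨(t : G) * w * (t : G)⁻¹, cls_conj w.2 _⟩
      one_smul := fun w => Subtype.ext (by show ((1 : ↥T) : G) * w * ((1 : ↥T) : G)⁻¹ = w; simp)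
      mul_smul := fun a b w => Subtype.ext (by
        show ((a * b : ↥T) : G) * w * ((a * b : ↥T) : G)⁻¹ = (a : G) * ((b : G) * w * (b : G)⁻¹) * (a : G)⁻¹
        rw [Subgroup.coe_mul]; group) }
  haveI := Fintype.ofFinite (Quotient (MulAction.orbitRel ↥T {w : G // w ∈ cls z}))
  have hB := MulAction.sum_card_fixedBy_eq_card_orbits_mul_card_group ↥T {w : G // w ∈ cls z}
  have hfix : ∀ t : ↥T, Fintype.card (MulAction.fixedBy {w : G // w ∈ cls z} t) = (commK z (t : G)).card := by
    intro t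
    rw [← Nat.card_eq_fintype_card, commK_card]
    refine Nat.card_congr ⟨fun w => ⟨(w.1 : G), w.1.2, ?_⟩, fun w => ⟨⟨w.1, w.2.1⟩, ?_⟩, fun _ => rfl, fun _ => rfl⟩
    · exact (mul_inv_eq_iff_eq_mul.1 (congrArg Subtype.val w.2)).symm
    · exact Subtype.ext (mul_inv_eq_iff_eq_mul.2 w.2.2.symm)
  have hcardT : Fintype.card ↥T = 64 := by
    rw [← Nat.card_eq_fintype_card]
    have hb : Function.Bijective (fun c : {c : ℕ // c ∈ TList.toFinset} =>
        (⟨φ c.1, c.1, List.mem_toFinset.1 c.2, rfl⟩ : ↥T)) := by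
      refine ⟨fun a b h => Subtype.ext (D.B.inj _ (hrow _ (List.mem_toFinset.1 a.2)).1 _
        (hrow _ (List.mem_toFinset.1 b.2)).1 (congrArg Subtype.val h)), fun s => ?_⟩
      obtain ⟨c, hc, e⟩ := s.2
      exact ⟨⟨c, List.mem_toFinset.2 hc⟩, Subtype.ext e⟩
    rw [← Nat.card_eq_of_bijective _ hb, Nat.card_eq_fintype_card, Fintype.card_coe,
      List.toFinset_card_of_nodup TList_ok.2.1, TList_ok.1]
  obtain ⟨a, ha⟩ : ∃ a, (commK z (1 : G)).card = a := ⟨_, rfl⟩
  obtain ⟨k, hk⟩ : ∃ k, (commK z (φ 160)).card = k := ⟨_, rfl⟩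
  have hval : ∀ t ∈ TList, (commK z (φ t)).card = if t = 0 then a else if t ∈ SList then k else 3 := by
    intro t ht
    obtain ⟨hlt, hcase, -⟩ := hrow t ht
    by_cases ht0 : t = 0
    · rw [if_pos ht0, ht0, D.B.one, ha]
    rw [if_neg ht0]
    by_cases htS : t ∈ SList
    · rw [if_pos htS, ← hk]
      have := of_all SList_ok htS
      simp only [Bool.and_eq_true, List.any_eq_true, List.mem_range, beq_iff_eq] at this
      obtain ⟨-, c, hc, hc'⟩ := this
      refine D.commK_S ?_
      rw [← hc', D.B.conj hc (show 160 < 768 by norm_num)]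
      exact cls_conj (cls_self _) _
    rw [if_neg htS]
    have hUK : ∀ u ∈ ([1, 16, 17] : List ℕ), φ u ∈ cls z ∧ u < 768 := by
      intro u hu
      simp only [List.mem_cons, List.not_mem_nil, or_false] at hu
      rcases hu with rfl | rfl | rfl
      exacts [⟨D.hx, by norm_num⟩, ⟨D.B.zc.symm ▸ cls_self z, by norm_num⟩, ⟨D.xz_mem, by norm_num⟩]
    rcases hcase with hU | hS | ⟨hsq, h1⟩
    · refine D.commK_K (hUK t ?_).1
      simp only [UList, List.mem_cons, List.not_mem_nil, or_false] at hU ⊢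
      omega
    · exact absurd hS htS
    · obtain ⟨hK, hlt2⟩ := hUK _ hsq
      have hsq' : φ (mmul 0 t t) = φ t * φ t := D.B.mul _ hlt _ hlt
      have e : commK z (φ t) = commK z (φ (mmul 0 t t)) := by
        ext w
        simp only [mem_commK, and_congr_right_iff]
        refine fun hw => ⟨fun h => ?_, fun h => ?_⟩
        · rw [hsq']; exact (Commute.mul_right h h).eq
        · refine (D.two_spec ?_ hK ?_ hw h).symm
          · exact ⟨z, cls_self z, φ 1, D.hx, D.x_ne.symm, D.x_comm.symm, D.B.comm_z hlt,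
              (D.B.commute_iff hlt (by norm_num)).2 h1⟩
          · rw [hsq', mul_assoc]
      rw [e, D.commK_K hK]
  have hsum : ∑ t : ↥T, (commK z (t : G)).card =
      ∑ c ∈ TList.toFinset, if c = 0 then a else if c ∈ SList then k else 3 := by
    refine (Finset.sum_bij (fun c hc => (⟨φ c, c, List.mem_toFinset.1 hc, rfl⟩ : ↥T)) (fun _ _ => Finset.mem_univ _)
      ?_ ?_ ?_).symm
    · intro c hc c' hc' h
      exact D.B.inj _ (hrow _ (List.mem_toFinset.1 hc)).1 _ (hrow _ (List.mem_toFinset.1 hc')).1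
        (congrArg Subtype.val h)
    · rintro ⟨g, c, hc, rfl⟩ -
      exact ⟨c, List.mem_toFinset.2 hc, rfl⟩
    · intro c hc
      exact (hval c (List.mem_toFinset.1 hc)).symm
  rw [Finset.sum_congr rfl (fun t _ => hfix t), hsum, hcardT, Finset.sum_ite, Finset.sum_ite, Finset.sum_const,
    Finset.sum_const, Finset.sum_const,
    show (TList.toFinset.filter fun c => c = 0).card = 1 by decide +kernel,
    show ((TList.toFinset.filter fun c => ¬ c = 0).filter fun c => c ∈ SList).card = 24 by decide +kernel,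
    show ((TList.toFinset.filter fun c => ¬ c = 0).filter fun c => ¬ c ∈ SList).card = 39 by decide +kernel,
    smul_eq_mul, smul_eq_mul, smul_eq_mul] at hB
  rw [ha, hk]
  exact ⟨_, (show a + 117 + 24 * k = 1 * a + (24 * k + 39 * 3) by omega).trans (hB.trans (mul_comm _ _))⟩

/-- Only three conjugates: the group is soluble. -/
theorem solvable (hCs : Group.IsSolvable ↥(Subgroup.centralizer ({z} : Set G))) : Group.IsSolvable G := by
  classical
  haveI := Fintype.ofFinite G
  have hk := D.kX_cases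
  rw [← commK_card] at hk
  have h3 : (commK z (1 : G)).card = 3 := by
    rcases hk with hk | hk
    · rw [D.commK_one hk.ge, hk]
    · have h1 := D.congruence
      rw [D.commK_one (by omega), hk] at h1
      norm_num at h1
  let f : G →* Equiv.Perm {w : G // w ∈ cls z} :=
    { toFun := fun g =>
        { toFun := fun w => ⟨g * w * g⁻¹, cls_conj w.2 g⟩
          invFun := fun w => ⟨g⁻¹ * w * g, by simpa using cls_conj w.2 g⁻¹⟩
          left_inv := fun w => Subtype.ext (by show g⁻¹ * (g * w * g⁻¹) * g = w; group)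
          right_inv := fun w => Subtype.ext (by show g * (g⁻¹ * w * g) * g⁻¹ = w; group) }
      map_one' := Equiv.ext fun w => Subtype.ext (by show (1 : G) * w * 1⁻¹ = w; simp)
      map_mul' := fun a b => Equiv.ext fun w => Subtype.ext (by
        show a * b * w * (a * b)⁻¹ = a * (b * w * b⁻¹) * a⁻¹; group) }
  have hcard : Fintype.card {w : G // w ∈ cls z} = 3 := by
    rw [← h3, Fintype.card_subtype]
    exact congrArg Finset.card (Finset.ext fun w => by simp [mem_commK])
  haveI : Group.IsSolvable (Equiv.Perm {w : G // w ∈ cls z}) :=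
    CfsgLib.BaseThree.solvable_perm_le_four (by rw [Nat.card_eq_fintype_card, hcard]; norm_num)
  refine Group.isSolvable_of_ker_le_range (Subgroup.centralizer ({z} : Set G)).subtype f ?_
  intro g hg
  rw [Subgroup.range_subtype, Subgroup.mem_centralizer_singleton_iff]
  exact mul_inv_eq_iff_eq_mul.1 (congrArg Subtype.val (Equiv.ext_iff.1 hg ⟨z, cls_self z⟩))

end OnlyU

end CfsgAutL34
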