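import Cfsg.Agent.Lib.AutL34Type.Triangle
import Cfsg.Agent.Lib.AutL34Type.FourLemma
import Cfsg.Agent.Lib.AutL34Type.TransferSign

/-!
The conjugates of `z` centralised by `160` when only the four group holds conjugates: three or fifteen.
-/

set_option autoImplicit false
set_option maxRecDepth 100000
set_option maxHeartbeats 1000000
set_option linter.unusedSectionVars false

namespace CfsgAutL34

variable {G : Type*} [Group G] [Finite G] {z : G} {φ : ℕ → G}

theorem SC_spec {y : ℕ} (hy : y < 768) : y ∈ SC ↔ mmul 0 y 160 = mmul 0 160 y := by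
  have := of_range_all SC_ok.2.2.1 hy
  simp only [comm0, beq_iff_eq, Bool.beq_eq_decide_eq, decide_eq_true_eq] at this
  rw [← List.contains_iff_mem, ← this, decide_eq_true_eq]

theorem SC_row {s : ℕ} (hs : s ∈ SC) : s < 768 ∧ mmul 0 s s ∈ AList ∧
    (mmul 0 s 1 = mmul 0 1 s ↔ s ∈ AList) ∧ ∀ t ∈ SC, (mmul 0 s t ∈ AList ↔ (s ∈ AList ↔ t ∈ AList)) := by
  have := of_all SC_ok.2.2.2 hs
  simp only [Bool.and_eq_true, decide_eq_true_eq, comm0, List.all_eq_true, Bool.beq_eq_decide_eq] at this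
  obtain ⟨⟨⟨h1, h2⟩, h3⟩, h4⟩ := this
  refine ⟨h1, List.contains_iff_mem.1 h2, ?_, fun t ht => ?_⟩
  · rw [← List.contains_iff_mem, ← h3, decide_eq_true_eq]
  · rw [← List.contains_iff_mem, h4 t ht, decide_eq_true_eq, Bool.eq_iff_iff, List.contains_iff_mem,
      List.contains_iff_mem]

theorem A_row {a : ℕ} (ha : a ∈ AList) : a ∈ SC ∧ mmul 0 a a = 0 ∧
    (∀ b ∈ AList, (mmul 0 a b ∈ QList ↔ (a ∈ QList ↔ b ∈ QList))) ∧
    (a ∈ UList ∨ a ∈ [160, 161, 176, 177] ∨ mmul 0 a (mconj 0 32 a) ∈ [160, 161, 176, 177]) := by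
  have := of_all AList_ok.1 ha
  simp only [Bool.and_eq_true, List.all_eq_true, Bool.or_eq_true, List.contains_iff_mem, beq_iff_eq,
    Bool.beq_eq_decide_eq, decide_eq_true_eq] at this
  obtain ⟨⟨⟨h1, h2⟩, h3⟩, h4⟩ := this
  refine ⟨h1, h2, fun b hb => ?_, or_assoc.1 h4⟩
  rw [← List.contains_iff_mem, h3 b hb, decide_eq_true_eq, Bool.eq_iff_iff, List.contains_iff_mem,
    List.contains_iff_mem]

namespace OnlyU

variable (D : OnlyU z φ)
include D

/-- The number of conjugates of `z` centralised by `160`. -/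
theorem kX_cases : Nat.card {w : G // w ∈ cls z ∧ w * φ 160 = φ 160 * w} = 3 ∨
    Nat.card {w : G // w ∈ cls z ∧ w * φ 160 = φ 160 * w} = 15 := by
  classical
  by_cases hall : ∀ w ∈ cls z, w * φ 160 = φ 160 * w → w * z = z * w
  · left
    have hU : ∀ u ∈ [16, 1, 17], φ u ∈ cls z ∧ φ u * φ 160 = φ 160 * φ u := by
      intro u hu
      simp only [List.mem_cons, List.not_mem_nil, or_false] at hu
      rcases hu with rfl | rfl | rfl
      · exact ⟨D.B.zc.symm ▸ cls_self z, (D.B.commute_iff (by norm_num) (by norm_num)).2 (by decide +kernel)⟩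
      · exact ⟨D.hx, (D.B.commute_iff (by norm_num) (by norm_num)).2 (by decide +kernel)⟩
      · exact ⟨D.xz_mem, (D.B.commute_iff (by norm_num) (by norm_num)).2 (by decide +kernel)⟩
    have hb : Function.Bijective (fun u : {u : ℕ // u ∈ ([16, 1, 17] : List ℕ).toFinset} =>
        (⟨φ u.1, hU u.1 (List.mem_toFinset.1 u.2)⟩ : {w : G // w ∈ cls z ∧ w * φ 160 = φ 160 * w})) := by
      have hlt : ∀ u ∈ ([16, 1, 17] : List ℕ), u < 768 := by decide +kernel
      refine ⟨fun a b h => Subtype.ext (D.B.inj _ (hlt _ (List.mem_toFinset.1 a.2)) _ (hlt _ (List.mem_toFinset.1 b.2))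
        (congrArg Subtype.val h)), fun w => ?_⟩
      rcases D.hU w w.2.1 (hall w w.2.1 w.2.2) with e | e | e
      · exact ⟨⟨16, by simp⟩, Subtype.ext (D.B.zc.trans e.symm)⟩
      · exact ⟨⟨1, by simp⟩, Subtype.ext e.symm⟩
      · exact ⟨⟨17, by simp⟩, Subtype.ext e.symm⟩
    rw [← Nat.card_eq_of_bijective _ hb, Nat.card_eq_fintype_card, Fintype.card_coe]
    rfl
  push Not at hall
  obtain ⟨w₀, hw₀, hw₀s, hw₀z⟩ := hall
  have hcd : ∀ {a b : ℕ}, a < 768 → b < 768 → mmul 0 a b = mmul 0 b a → φ a * φ b = φ b * φ a :=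
    fun ha hb h => (D.B.commute_iff ha hb).2 h
  set X := Subgroup.centralizer ({φ 160} : Set G) with hXdef
  have hX : ∀ {c : ℕ}, c ∈ SC → φ c ∈ X := fun {c} hc => Subgroup.mem_centralizer_singleton_iff.2
    (hcd (SC_row hc).1 (by norm_num) ((SC_spec (SC_row hc).1).1 hc))
  have hzX : z ∈ X := D.B.zc ▸ hX (by decide +kernel)
  obtain ⟨zX, hzXv⟩ : ∃ zX : ↥X, (zX : G) = z := ⟨⟨z, hzX⟩, rfl⟩
  set S : Subgroup ↥X := Subgroup.centralizer ({zX} : Set ↥X) with hS
  have hScode : ∀ s : ↥X, s ∈ S → ∃ c ∈ SC, φ c = (s : G) := by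
    intro s hs
    obtain ⟨c, hc, e⟩ := (D.B.cent (s : G)).1 (by
      rw [← hzXv]; exact congrArg Subtype.val (Subgroup.mem_centralizer_singleton_iff.1 hs))
    refine ⟨c, (SC_spec hc).2 ((D.B.commute_iff hc (by norm_num)).1 ?_), e⟩
    rw [e]; exact Subgroup.mem_centralizer_singleton_iff.1 s.2
  have hcodeS : ∀ {c : ℕ} (hc : c ∈ SC), (⟨φ c, hX hc⟩ : ↥X) ∈ S := fun {c} hc =>
    Subgroup.mem_centralizer_singleton_iff.2 (Subtype.ext (by
      show φ c * (zX : G) = (zX : G) * φ c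
      rw [hzXv]; exact D.B.comm_z (SC_row hc).1))
  -- the order of the centraliser
  have hS32 : Nat.card ↥S = 2 ^ 5 := by
    have hb : Function.Bijective (fun c : {c : ℕ // c ∈ SC.toFinset} =>
        (⟨⟨φ c.1, hX (List.mem_toFinset.1 c.2)⟩, hcodeS (List.mem_toFinset.1 c.2)⟩ : ↥S)) := by
      refine ⟨fun a b h => Subtype.ext (D.B.inj _ (SC_row (List.mem_toFinset.1 a.2)).1 _
        (SC_row (List.mem_toFinset.1 b.2)).1 (congrArg (fun s : ↥S => ((s : ↥X) : G)) h)), fun s => ?_⟩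
      obtain ⟨c, hc, e⟩ := hScode s s.2
      exact ⟨⟨c, List.mem_toFinset.2 hc⟩, Subtype.ext (Subtype.ext e)⟩
    rw [← Nat.card_eq_of_bijective _ hb, Nat.card_eq_fintype_card, Fintype.card_coe,
      List.toFinset_card_of_nodup SC_ok.1, SC_ok.2.1]
    rfl
  haveI : Fact (Nat.Prime 2) := ⟨Nat.prime_two⟩
  have hSodd : Odd S.index := by
    obtain ⟨P, hP⟩ := (IsPGroup.of_card hS32).exists_le_sylow
    suffices hPS : (P : Subgroup ↥X) ≤ S by
      rw [Nat.odd_iff, ← Nat.two_dvd_ne_zero, ← le_antisymm hPS hP]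
      exact P.not_dvd_index
    by_contra hne
    haveI := P.2.isNilpotent
    have hlt : S.subgroupOf (P : Subgroup ↥X) < ⊤ := lt_top_iff_ne_top.2 fun e =>
      hne (Subgroup.subgroupOf_eq_top.1 e)
    obtain ⟨t, htN, htS⟩ := SetLike.exists_of_lt (normalizerCondition_of_isNilpotent _ hlt)
    apply htS
    -- the image of the involution is central and conjugate to it
    have hmem : ∀ s : ↥X, s ∈ S → ((t : ↥X) : ↥X)⁻¹ * s * t ∈ S := by
      intro s hs
      have h := (Subgroup.mem_normalizer_iff''.1 htN ⟨s, hP hs⟩).1 hs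
      exact h
    obtain ⟨c, hc, hce⟩ := hScode ((t : ↥X) * zX * (t : ↥X)⁻¹) (by
      have h := (Subgroup.mem_normalizer_iff.1 htN ⟨zX, hP (Subgroup.mem_centralizer_singleton_iff.2 rfl)⟩).1
        (Subgroup.mem_centralizer_singleton_iff.2 rfl)
      exact h)
    have hK : φ c ∈ cls z := by
      rw [hce]
      simp only [Subgroup.coe_mul, Subgroup.coe_inv, hzXv]
      exact cls_conj (cls_self z) _
    have hcen : ∀ s ∈ SC, mmul 0 s c = mmul 0 c s := by
      intro s hs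
      refine (D.B.commute_iff (SC_row hs).1 (SC_row hc).1).1 ?_
      have h := Subgroup.mem_centralizer_singleton_iff.1 (hmem _ (hcodeS hs))
      have h2 : (⟨φ s, hX hs⟩ : ↥X) * ((t : ↥X) * zX * (t : ↥X)⁻¹) = (t : ↥X) * zX * (t : ↥X)⁻¹ * ⟨φ s, hX hs⟩ := by
        calc (⟨φ s, hX hs⟩ : ↥X) * ((t : ↥X) * zX * (t : ↥X)⁻¹)
            = (t : ↥X) * ((t : ↥X)⁻¹ * ⟨φ s, hX hs⟩ * t * zX) * (t : ↥X)⁻¹ := by group
          _ = (t : ↥X) * (zX * ((t : ↥X)⁻¹ * ⟨φ s, hX hs⟩ * t)) * (t : ↥X)⁻¹ := by rw [h]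
          _ = _ := by group
      rw [hce]
      exact congrArg Subtype.val h2
    have h4 := of_all SC_center hc
    simp only [Bool.or_eq_true, Bool.not_eq_true', List.all_eq_false, comm0, List.contains_iff_mem] at h4
    have h16 : c = 16 := by
      rcases D.mem_U (SC_row hc).1 hK with h | h | h
      · exact h
      all_goals
        exfalso
        rcases h4 with ⟨s, hs, hsn⟩ | h4
        · exact hsn (beq_iff_eq.2 (hcen s hs))
        · simp [h] at h4
    refine Subgroup.mem_centralizer_singleton_iff.2 ?_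
    have hfix : (t : ↥X) * zX * (t : ↥X)⁻¹ = zX := Subtype.ext (by rw [← hce, h16, D.B.zc, hzXv])
    exact mul_inv_eq_iff_eq_mul.1 hfix
  -- elements of the centraliser inside the abelian subgroup
  have two_of : ∀ {a : ℕ}, a ∈ AList → Two z (φ a) := fun {a} ha => by
    obtain ⟨hs, -, -, -⟩ := A_row ha
    exact ⟨z, cls_self z, φ 1, D.hx, D.x_ne.symm, D.x_comm.symm, D.B.comm_z (SC_row hs).1,
      hcd (SC_row hs).1 (by norm_num) ((SC_row hs).2.2.1.2 ha)⟩
  have A_of_two : ∀ {c : ℕ}, c ∈ SC → Two z (φ c) → c ∈ AList := fun {c} hc h =>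
    (SC_row hc).2.2.1.1 ((D.B.commute_iff (SC_row hc).1 (by norm_num)).1
      (D.two_spec h (cls_self z) (D.B.comm_z (SC_row hc).1) D.hx D.x_comm))
  -- the first transfer
  let inA : ↥S → Prop := fun s => ∃ a ∈ AList, φ a = ((s : ↥X) : G)
  have inA_iff : ∀ (s : ↥S) {c : ℕ}, c ∈ SC → φ c = ((s : ↥X) : G) → (inA s ↔ c ∈ AList) := fun s c hc e =>
    ⟨fun ⟨a, ha, e'⟩ => D.B.inj _ (SC_row (A_row ha).1).1 _ (SC_row hc).1 (e'.trans e.symm) ▸ ha,
      fun h => ⟨c, h, e⟩⟩
  let ψ : ↥S →* ℤˣ :=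
    { toFun := fun s => if inA s then 1 else -1
      map_one' := if_pos ⟨0, by decide +kernel, D.B.one⟩
      map_mul' := fun s t => by
        obtain ⟨a, ha, ea⟩ := hScode s s.2
        obtain ⟨b, hb, eb⟩ := hScode t t.2
        have e : φ (mmul 0 a b) = (((s * t : ↥S) : ↥X) : G) := by
          rw [D.B.mul _ (SC_row ha).1 _ (SC_row hb).1, ea, eb]; rfl
        have hab : mmul 0 a b ∈ SC := by
          obtain ⟨c, hc, ec⟩ := hScode _ (s * t).2
          rw [← D.B.inj _ (SC_row hc).1 _ (D.B.mul_lt (SC_row ha).1 (SC_row hb).1) (ec.trans e.symm)]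
          exact hc
        rw [if_congr ((inA_iff _ hab e).trans ((SC_row ha).2.2.2 b hb)) rfl rfl,
          if_congr (inA_iff _ ha ea) rfl rfl, if_congr (inA_iff _ hb eb) rfl rfl]
        by_cases h1 : a ∈ AList <;> by_cases h2 : b ∈ AList <;> simp [h1, h2] }
  obtain ⟨V, hVdef⟩ : ∃ V : ↥X →* ℤˣ, V = MonoidHom.transfer ψ := ⟨_, rfl⟩
  have hVs : ∀ {c : ℕ} (hc : c ∈ SC), c ∉ AList → V ⟨φ c, hX hc⟩ = -1 := by
    intro c hc hcA
    rw [hVdef]
    have hc2 : mmul 0 c c ∈ AList := (SC_row hc).2.1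
    have h4 : φ c * φ c * (φ c * φ c) = 1 := by
      rw [← D.B.mul _ (SC_row hc).1 _ (SC_row hc).1, ← D.B.mul _ (SC_row (A_row hc2).1).1 _ (SC_row (A_row hc2).1).1,
        (A_row hc2).2.1, D.B.one]
    refine transfer_sign S hSodd ψ _ ?_ ?_ ?_
    · refine Subtype.ext ?_
      show φ c ^ 4 = 1
      rw [show (4 : ℕ) = 2 + 2 from rfl, pow_add, sq, h4]
    · intro g hg
      refine if_neg ?_
      rintro ⟨a, ha, ea⟩
      simp only [Subgroup.coe_mul, Subgroup.coe_inv] at ea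
      refine hcA (A_of_two hc ?_)
      have := (two_of ha).conj (g : G)
      rwa [ea, show (g : G) * ((g : G)⁻¹ * φ c * g) * (g : G)⁻¹ = φ c by group] at this
    · intro g hg
      refine if_pos ?_
      obtain ⟨a, ha, ea⟩ := hScode _ hg
      simp only [Subgroup.coe_mul, Subgroup.coe_inv] at ea
      refine ⟨a, A_of_two ha ?_, by simpa using ea⟩
      have := (two_of hc2).conj (g : G)⁻¹
      rw [D.B.mul _ (SC_row hc).1 _ (SC_row hc).1, inv_inv] at this
      rwa [ea]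
  set M := V.ker with hM
  have hMA : ∀ {c : ℕ} (hc : c ∈ SC), ((⟨φ c, hX hc⟩ : ↥X) ∈ M ↔ c ∈ AList) := by
    intro c hc
    refine ⟨fun h => ?_, fun h => ?_⟩
    · by_contra hcA
      have h1 := hVs hc hcA
      rw [MonoidHom.mem_ker.1 h] at h1
      exact absurd h1 (by decide)
    · have h32 : (32 : ℕ) ∈ SC := List.contains_iff_mem.1 AList_ok.2.2.1
      have h32A : (32 : ℕ) ∉ AList := fun h => by
        have := List.contains_iff_mem.2 h
        rw [AList_ok.2.2.2] at this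
        exact Bool.false_ne_true this
      have hprod : mmul 0 32 c ∈ SC := by
        obtain ⟨d, hd, ed⟩ := hScode _ (S.mul_mem (hcodeS h32) (hcodeS hc))
        rw [Subgroup.coe_mul, ← D.B.mul _ (by norm_num) _ (SC_row hc).1] at ed
        exact D.B.inj _ (SC_row hd).1 _ (D.B.mul_lt (by norm_num) (SC_row hc).1) ed ▸ hd
      have hpA : mmul 0 32 c ∉ AList := fun h' => h32A ((((SC_row h32).2.2.2 c hc).1 h').2 h)
      have h1 := hVs hprod hpA
      have e : (⟨φ (mmul 0 32 c), hX hprod⟩ : ↥X) = ⟨φ 32, hX h32⟩ * ⟨φ c, hX hc⟩ :=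
        Subtype.ext (D.B.mul _ (by norm_num) _ (SC_row hc).1)
      rw [e, map_mul, hVs h32 h32A] at h1
      exact MonoidHom.mem_ker.2 (mul_eq_left.1 h1)
  have hzM : zX ∈ M := by
    have e : (⟨φ 16, hX (by decide +kernel)⟩ : ↥X) = zX := Subtype.ext (D.B.zc.trans hzXv.symm)
    exact e ▸ (hMA (by decide +kernel)).2 (by decide +kernel)
  -- conjugates of the involution in the centraliser are conjugate to it in the kernel
  have hconjM : ∀ w : ↥X, (w : G) ∈ cls z → (w : G) * z ≠ z * (w : G) →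
      ∃ c : ↥X, c ∈ M ∧ c * zX * c⁻¹ = w := by
    intro w hw hne
    obtain ⟨n, hn⟩ := D.conj_of_ncomm (cls_self z) hw hne
    have hn' : (zX * w) ^ n * zX * ((zX * w) ^ n)⁻¹ = w := Subtype.ext (by simpa [hzXv] using hn)
    have hwM : w ∈ M := by
      rw [← hn']
      exact (inferInstance : M.Normal).conj_mem _ hzM _
    exact ⟨_, M.pow_mem (M.mul_mem hzM hwM) n, hn'⟩
  have hUconj : ∀ u ∈ UList, u ≠ 0 → ∀ (h : φ u ∈ X), ∃ c : ↥X, c ∈ M ∧ c * zX * c⁻¹ = ⟨φ u, h⟩ := by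
    intro u hu hu0 hux
    obtain ⟨hw₀X, -⟩ : w₀ ∈ X ∧ True := ⟨Subgroup.mem_centralizer_singleton_iff.2 hw₀s, trivial⟩
    obtain ⟨c, hcM, hc⟩ := hconjM ⟨w₀, hw₀X⟩ hw₀ hw₀z
    have hcase : u = 16 ∨ (u = 1 ∨ u = 17) := by
      simp only [UList, List.mem_cons, List.not_mem_nil, or_false] at hu
      omega
    rcases hcase with rfl | hcase
    · exact ⟨1, M.one_mem, Subtype.ext (by simp [hzXv, D.B.zc])⟩
    · have huK : φ u ∈ cls z := by
        rcases hcase with rfl | rfl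
        exacts [D.hx, D.xz_mem]
      have hne : φ u * w₀ ≠ w₀ * φ u := by
        intro e
        have hune : φ u ≠ z := by
          rw [← D.B.zc]
          intro h
          have := D.B.inj _ (by omega) 16 (by norm_num) h
          omega
        rcases (D.tri huK (cls_self z) (D.B.comm_z (by omega)).symm hune.symm).2 w₀ hw₀ e.symm with h | h | h
        · exact hw₀z (h ▸ D.B.comm_z (by omega))
        · exact hw₀z (by rw [h])
        · refine hw₀z ?_
          rw [h]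
          exact (Commute.mul_left (D.B.comm_z (by omega)) (Commute.refl z)).eq
      obtain ⟨n, hn⟩ := D.conj_of_ncomm hw₀ huK hne
      have hn' : ((⟨w₀, hw₀X⟩ : ↥X) * ⟨φ u, hux⟩) ^ n * ⟨w₀, hw₀X⟩ *
          (((⟨w₀, hw₀X⟩ : ↥X) * ⟨φ u, hux⟩) ^ n)⁻¹ = ⟨φ u, hux⟩ := Subtype.ext (by simpa using hn)
      have huA : u ∈ AList := by rcases hcase with rfl | rfl <;> decide +kernel
      refine ⟨((⟨w₀, hw₀X⟩ : ↥X) * ⟨φ u, hux⟩) ^ n * c,
        M.mul_mem (M.pow_mem (M.mul_mem ?_ ?_) n) hcM, ?_⟩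
      · rw [← hc]; exact (inferInstance : M.Normal).conj_mem _ hzM _
      · exact (hMA (A_row huA).1).2 huA
      · obtain ⟨P, hP⟩ : ∃ P, ((⟨w₀, hw₀X⟩ : ↥X) * ⟨φ u, hux⟩) ^ n = P := ⟨_, rfl⟩
        rw [hP] at hn' ⊢
        rw [show P * c * zX * (P * c)⁻¹ = P * (c * zX * c⁻¹) * P⁻¹ by group, hc, hn']
  -- the second transfer
  have hAX : ∀ {a : ℕ}, a ∈ AList → φ a ∈ X := fun ha => hX (A_row ha).1
  set SA : Subgroup ↥M := S.subgroupOf M with hSA
  have hSAcode : ∀ s : ↥SA, ∃ a ∈ AList, φ a = (((s : ↥M) : ↥X) : G) := by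
    intro s
    obtain ⟨c, hc, e⟩ := hScode ((s : ↥M) : ↥X) s.2
    refine ⟨c, (hMA hc).1 ?_, e⟩
    rw [show (⟨φ c, hX hc⟩ : ↥X) = ((s : ↥M) : ↥X) from Subtype.ext e]
    exact (s : ↥M).2
  have hSAodd : Odd SA.index := by
    have hd : SA.index ∣ S.index := by
      have h1 : M ⊔ S = ⊤ := by
        have h32 : (32 : ℕ) ∈ SC := List.contains_iff_mem.1 AList_ok.2.2.1
        refine top_le_iff.1 fun g _ => ?_
        rcases Int.units_eq_one_or (V g) with h | h
        · exact Subgroup.mem_sup_left (MonoidHom.mem_ker.2 h)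
        · have hm : g * (⟨φ 32, hX h32⟩ : ↥X)⁻¹ ∈ M := by
            rw [MonoidHom.mem_ker, map_mul, map_inv, hVs h32 (fun h' => by
              have := List.contains_iff_mem.2 h'
              rw [AList_ok.2.2.2] at this
              exact Bool.false_ne_true this), h, mul_inv_cancel]
          have := Subgroup.mul_mem_sup hm (hcodeS h32)
          rwa [inv_mul_cancel_right] at this
      have h2 := Subgroup.relIndex_mul_index (inf_le_left : S ⊓ M ≤ S)
      have h3 := Subgroup.relIndex_mul_index (inf_le_right : S ⊓ M ≤ M)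
      have h4 : M.relIndex S = M.index := by
        rw [← Subgroup.relIndex_sup_right, sup_comm, h1, Subgroup.relIndex_top_right]
      rw [Subgroup.inf_relIndex_left, h4] at h2
      rw [Subgroup.inf_relIndex_right, ← h2, mul_comm M.index] at h3
      rw [hSA]
      show S.relIndex M ∣ S.index
      rw [mul_right_cancel₀ Subgroup.index_ne_zero_of_finite h3]
    exact Odd.of_dvd_nat hSodd hd
  let inQ : ↥SA → Prop := fun s => ∃ a ∈ QList, φ a = (((s : ↥M) : ↥X) : G)
  have hQA : ∀ a ∈ QList, a ∈ AList := by decide +kernel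
  have hAlt : ∀ {a : ℕ}, a ∈ AList → a < 768 := fun ha => (SC_row (A_row ha).1).1
  have inQ_iff : ∀ (s : ↥SA) {c : ℕ}, c ∈ AList → φ c = (((s : ↥M) : ↥X) : G) → (inQ s ↔ c ∈ QList) :=
    fun s c hc e => ⟨fun ⟨a, ha, e'⟩ => D.B.inj _ (hAlt (hQA a ha)) _ (hAlt hc) (e'.trans e.symm) ▸ ha,
      fun h => ⟨c, h, e⟩⟩
  let ψ2 : ↥SA →* ℤˣ :=
    { toFun := fun s => if inQ s then 1 else -1
      map_one' := if_pos ⟨0, by decide +kernel, D.B.one⟩
      map_mul' := fun s t => by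
        obtain ⟨a, ha, ea⟩ := hSAcode s
        obtain ⟨b, hb, eb⟩ := hSAcode t
        have e : φ (mmul 0 a b) = ((((s * t : ↥SA) : ↥M) : ↥X) : G) := by
          rw [D.B.mul _ (hAlt ha) _ (hAlt hb), ea, eb]; rfl
        have hab : mmul 0 a b ∈ AList := by
          obtain ⟨c, hc, ec⟩ := hSAcode (s * t)
          rw [← D.B.inj _ (hAlt hc) _ (D.B.mul_lt (hAlt ha) (hAlt hb)) (ec.trans e.symm)]
          exact hc
        rw [if_congr ((inQ_iff _ hab e).trans ((A_row ha).2.2.1 b hb)) rfl rfl,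
          if_congr (inQ_iff _ ha ea) rfl rfl, if_congr (inQ_iff _ hb eb) rfl rfl]
        by_cases h1 : a ∈ QList <;> by_cases h2 : b ∈ QList <;> simp [h1, h2] }
  obtain ⟨W, hWdef⟩ : ∃ W : ↥M →* ℤˣ, W = MonoidHom.transfer ψ2 := ⟨_, rfl⟩
  obtain ⟨cd, hcd'⟩ : ∃ cd : (a : ℕ) → a ∈ AList → ↥M, ∀ a h, (((cd a h : ↥M) : ↥X) : G) = φ a :=
    ⟨fun a h => ⟨⟨φ a, hAX h⟩, (hMA (A_row h).1).2 h⟩, fun a h => rfl⟩
  have h160A : (160 : ℕ) ∈ AList := by decide +kernel
  have hW160 : W (cd 160 h160A) = -1 := by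
    rw [hWdef]
    have h2 : cd 160 h160A * cd 160 h160A = 1 := Subtype.ext (Subtype.ext (by
      simp only [Subgroup.coe_mul, hcd', Subgroup.coe_one]; exact D.s0_sq))
    have hcen : ∀ c : ↥M, c⁻¹ * cd 160 h160A * c = cd 160 h160A := fun c => Subtype.ext (Subtype.ext (by
      simp only [Subgroup.coe_mul, Subgroup.coe_inv, hcd']
      rw [mul_assoc, ← Subgroup.mem_centralizer_singleton_iff.1 (c : ↥X).2, inv_mul_cancel_left]))
    refine transfer_sign SA hSAodd ψ2 _ (by rw [show (4 : ℕ) = 2 + 2 from rfl, pow_add, sq, h2, one_mul]) ?_ ?_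
    · intro c hc
      refine if_neg ?_
      rw [inQ_iff _ h160A (by simp [hcen, hcd'])]
      exact fun h => Bool.false_ne_true (AList_ok.2.1.symm.trans (List.contains_iff_mem.2 h))
    · intro c hc
      refine if_pos ⟨0, by decide +kernel, ?_⟩
      simp [h2, D.B.one]
  have hWU : ∀ u (hu : u ∈ UList) (hA : u ∈ AList), W (cd u hA) = 1 := by
    have hval : ∀ u (hu : u ∈ UList) (hA : u ∈ AList), u ≠ 0 → W (cd u hA) = W (cd 16 (by decide +kernel)) := by
      intro u hu hA hu0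
      obtain ⟨c, hcM, hc⟩ := hUconj u hu hu0 (hAX hA)
      have e : cd u hA = ⟨c, hcM⟩ * cd 16 (by decide +kernel) * (⟨c, hcM⟩ : ↥M)⁻¹ := Subtype.ext (Subtype.ext (by
        simp only [Subgroup.coe_mul, Subgroup.coe_inv, hcd', D.B.zc]
        rw [← hzXv]
        exact (congrArg Subtype.val hc).symm))
      rw [e, map_mul, map_mul, map_inv, mul_comm (W ⟨c, hcM⟩), mul_inv_cancel_right]
    have hz1 : W (cd 16 (by decide +kernel)) = 1 := by
      have e : cd 16 (by decide +kernel) * cd 1 (by decide +kernel) = cd 17 (by decide +kernel) :=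
        Subtype.ext (Subtype.ext (by
          simp only [Subgroup.coe_mul, hcd', D.B.zc]; exact D.x17.symm))
      have h1 := congrArg W e
      rw [map_mul, hval 1 (by decide +kernel) _ (by norm_num), hval 17 (by decide +kernel) _ (by norm_num)] at h1
      exact mul_eq_left.1 h1
    intro u hu hA
    by_cases h0 : u = 0
    · subst h0
      rw [show cd 0 hA = 1 from Subtype.ext (Subtype.ext (by simp [hcd', D.B.one])), map_one]
    · rw [hval u hu hA h0, hz1]
  have h32 : (32 : ℕ) ∈ SC := List.contains_iff_mem.1 AList_ok.2.2.1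
  let conj32 : ↥M →* ↥M :=
    { toFun := fun m => ⟨⟨φ 32, hX h32⟩ * m * (⟨φ 32, hX h32⟩ : ↥X)⁻¹, (inferInstance : M.Normal).conj_mem _ m.2 _⟩
      map_one' := Subtype.ext (by simp)
      map_mul' := fun a b => Subtype.ext (by simp [mul_assoc]) }
  set R : Subgroup ↥M := W.ker ⊓ (W.comp conj32).ker with hR
  have hmemR : ∀ a (ha : a ∈ AList), (cd a ha ∈ R ↔ a ∈ UList) := by
    intro a ha
    have hconjA : ∀ b (hb : b ∈ AList), ∃ hb' : mconj 0 32 b ∈ AList, conj32 (cd b hb) = cd _ hb' := by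
      intro b hb
      have hb2 : b ∈ AList → mconj 0 32 b ∈ AList := by
        revert b; decide +kernel
      refine ⟨hb2 hb, Subtype.ext (Subtype.ext ?_)⟩
      simp only [hcd']
      rw [D.B.conj (by norm_num) (hAlt hb)]
      simp [conj32, hcd']
    obtain ⟨ha', e⟩ := hconjA a ha
    have hU160 : ∀ v, v ∈ ([160, 161, 176, 177] : List ℕ) → ∀ hv : v ∈ AList, W (cd v hv) = -1 := by
      intro v hv hvA
      have hU : mmul 0 160 v ∈ UList ∧ mmul 0 160 (mmul 0 160 v) = v ∧ mmul 0 160 v ∈ AList := by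
        revert v; decide +kernel
      have e : cd v hvA = cd 160 h160A * cd _ hU.2.2 := Subtype.ext (Subtype.ext (by
        simp only [Subgroup.coe_mul, hcd']
        rw [← D.B.mul _ (by norm_num) _ (hAlt hU.2.2), hU.2.1]))
      rw [e, map_mul, hW160, hWU _ hU.1, mul_one]
    refine ⟨fun h => ?_, fun h => ?_⟩
    · obtain ⟨h1, h2⟩ := h
      have h1' : W (cd a ha) = 1 := h1
      have h2' : W (conj32 (cd a ha)) = 1 := h2
      rw [e] at h2'
      rcases (A_row ha).2.2.2 with hu | hu | hu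
      · exact hu
      · rw [hU160 a hu ha] at h1'; exact absurd h1' (by decide)
      · have hp : mmul 0 a (mconj 0 32 a) ∈ AList := by
          revert hu; generalize mmul 0 a (mconj 0 32 a) = v; revert v; decide +kernel
        have e2 : cd _ hp = cd a ha * cd _ ha' := Subtype.ext (Subtype.ext (by
          simp only [Subgroup.coe_mul, hcd']
          exact D.B.mul _ (hAlt ha) _ (hAlt ha')))
        have := hU160 _ hu hp
        rw [e2, map_mul, h1', h2'] at this
        exact absurd this (by decide)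
    · refine ⟨hWU a h ha, ?_⟩
      show W (conj32 (cd a ha)) = 1
      rw [e]
      have hcl : ∀ b ∈ UList, mconj 0 32 b ∈ UList := by decide +kernel
      exact hWU _ (hcl a h) ha'
  have hzM' : (cd 16 (by decide +kernel) : ↥M) = ⟨zX, hzM⟩ :=
    Subtype.ext (Subtype.ext (by rw [hcd', D.B.zc]; exact hzXv.symm))
  have hzR : (⟨zX, hzM⟩ : ↥M) ∈ R := hzM' ▸ (hmemR 16 _).2 (by decide +kernel)
  obtain ⟨zR, hzRv⟩ : ∃ zR : ↥R, (zR : ↥M) = ⟨zX, hzM⟩ := ⟨⟨_, hzR⟩, rfl⟩
  set UR : Subgroup ↥R := Subgroup.centralizer ({zR} : Set ↥R) with hUR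
  have hURcode : ∀ v : ↥R, v ∈ UR → ∃ u ∈ UList, φ u = (((v : ↥M) : ↥X) : G) := by
    intro v hv
    obtain ⟨a, ha, e⟩ := hSAcode ⟨(v : ↥M), Subgroup.mem_centralizer_singleton_iff.2 (by
      have h := congrArg (fun r : ↥R => ((r : ↥M) : ↥X)) (Subgroup.mem_centralizer_singleton_iff.1 hv)
      simp only [Subgroup.coe_mul, hzRv] at h
      exact h)⟩
    refine ⟨a, (hmemR a ha).1 ?_, e⟩
    rw [show cd a ha = (v : ↥M) from Subtype.ext (Subtype.ext ((hcd' a ha).trans e))]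
    exact v.2
  have hUin : ∀ u (hu : u ∈ UList), u ∈ AList ∧ ∀ hA : u ∈ AList, cd u hA ∈ R := fun u hu =>
    ⟨by revert hu; revert u; decide +kernel, fun hA => (hmemR u hA).2 hu⟩
  have hcodeU : ∀ (u : ℕ) (hu : u ∈ UList), (⟨cd u (hUin u hu).1, (hUin u hu).2 _⟩ : ↥R) ∈ UR := fun u hu =>
    Subgroup.mem_centralizer_singleton_iff.2 (Subtype.ext (Subtype.ext (Subtype.ext (by
      simp only [Subgroup.coe_mul, hzRv, hcd', hzXv]
      exact D.B.comm_z (hAlt (hUin u hu).1)))))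
  have hU4 : Nat.card ↥UR = 4 := by
    have hb : Function.Bijective (fun u : {u : ℕ // u ∈ UList.toFinset} =>
        (⟨_, hcodeU u.1 (List.mem_toFinset.1 u.2)⟩ : ↥UR)) := by
      refine ⟨fun a b h => Subtype.ext (D.B.inj _ (hAlt (hUin _ (List.mem_toFinset.1 a.2)).1) _
        (hAlt (hUin _ (List.mem_toFinset.1 b.2)).1) ?_), fun v => ?_⟩
      · have := congrArg (fun s : ↥UR => ((((s : ↥R) : ↥M) : ↥X) : G)) h
        simpa only [hcd'] using this
      · obtain ⟨u, hu, e⟩ := hURcode v v.2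
        refine ⟨⟨u, List.mem_toFinset.2 hu⟩, Subtype.ext (Subtype.ext (Subtype.ext (Subtype.ext ?_)))⟩
        simpa only [hcd'] using e
    rw [← Nat.card_eq_of_bijective _ hb, Nat.card_eq_fintype_card, Fintype.card_coe]
    decide +kernel
  have hexp : ∀ u ∈ UR, u * u = 1 := by
    intro v hv
    obtain ⟨u, hu, e⟩ := hURcode v hv
    refine Subtype.ext (Subtype.ext (Subtype.ext ?_))
    simp only [Subgroup.coe_mul, Subgroup.coe_one, ← e]
    rw [← D.B.mul _ (hAlt (hUin u hu).1) _ (hAlt (hUin u hu).1), (A_row (hUin u hu).1).2.1, D.B.one]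
  haveI : R.Normal := by rw [hR]; infer_instance
  have hc : ∀ u ∈ UR, u ≠ 1 → ∀ y, y * u = u * y → y ∈ UR := by
    intro v hv hv1
    obtain ⟨u, hu, e⟩ := hURcode v hv
    have hu0 : u ≠ 0 := fun h => hv1 (Subtype.ext (Subtype.ext (Subtype.ext (by
      simp only [Subgroup.coe_one, ← e, h, D.B.one]))))
    obtain ⟨c, hcM, hc⟩ := hUconj u hu hu0 (e ▸ ((v : ↥M) : ↥X).2)
    -- the centraliser is carried onto the one of the involution
    let f : ↥R →* ↥R :=
      { toFun := fun r => ⟨(⟨c, hcM⟩ : ↥M) * r * (⟨c, hcM⟩ : ↥M)⁻¹, (inferInstance : R.Normal).conj_mem _ r.2 _⟩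
        map_one' := Subtype.ext (by simp)
        map_mul' := fun a b => Subtype.ext (by simp [mul_assoc]) }
    have hfz : f zR = v := Subtype.ext (Subtype.ext (Subtype.ext (by
      show (c : G) * ((((zR : ↥R) : ↥M) : ↥X) : G) * (c : G)⁻¹ = _
      rw [hzRv, ← e]
      exact congrArg Subtype.val hc)))
    have hfinj : Function.Injective f := fun a b h =>
      Subtype.ext (mul_left_cancel (mul_right_cancel (congrArg Subtype.val h)))
    have hle : UR.map f ≤ Subgroup.centralizer ({v} : Set ↥R) := by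
      rintro _ ⟨r, hr, rfl⟩
      rw [Subgroup.mem_centralizer_singleton_iff, ← hfz, ← map_mul, ← map_mul,
        Subgroup.mem_centralizer_singleton_iff.1 hr]
    have hge : Subgroup.centralizer ({v} : Set ↥R) ≤ UR.map f := by
      intro y hy
      refine ⟨⟨(⟨c, hcM⟩ : ↥M)⁻¹ * y * ⟨c, hcM⟩, (inferInstance : R.Normal).conj_mem' _ y.2 _⟩, ?_,
        Subtype.ext (by simp [f, mul_assoc])⟩
      refine Subgroup.mem_centralizer_singleton_iff.2 (hfinj ?_)
      rw [map_mul, map_mul, hfz, show f ⟨_, _⟩ = y from Subtype.ext (by simp [f, mul_assoc])]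
      exact Subgroup.mem_centralizer_singleton_iff.1 hy
    have hUle : UR ≤ Subgroup.centralizer ({v} : Set ↥R) := fun r hr =>
      Subgroup.mem_centralizer_singleton_iff.2 (four_comm UR hexp hr hv)
    have heq : UR = Subgroup.centralizer ({v} : Set ↥R) := Subgroup.eq_of_le_of_card_ge hUle (by
      rw [← le_antisymm hle hge, Subgroup.card_map_of_injective hfinj])
    intro y hy
    rw [heq]
    exact Subgroup.mem_centralizer_singleton_iff.2 hy
  -- the involutions of the subgroup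
  have hinvK : ∀ r : ↥R, r * r = 1 → r ≠ 1 → ((((r : ↥R) : ↥M) : ↥X) : G) ∈ cls z := by
    intro r hr hr1
    obtain ⟨g, hg⟩ := conj_into_four UR hU4 hexp hc hr
    obtain ⟨u, hu, e⟩ := hURcode _ hg
    have hu0 : u ≠ 0 := fun h => hr1 (conj_eq_one_iff.1 (Subtype.ext (Subtype.ext (Subtype.ext (by
      rw [← e, h, D.B.one]; rfl)))))
    have huK : φ u ∈ cls z := by
      simp only [UList, List.mem_cons, List.not_mem_nil, or_false] at hu
      rcases hu with rfl | rfl | rfl | rfl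
      exacts [absurd rfl hu0, D.hx, D.B.zc.symm ▸ cls_self z, D.xz_mem]
    have := cls_conj huK ((((g : ↥R) : ↥M) : ↥X) : G)⁻¹
    rw [e] at this
    simpa [mul_assoc] using this
  have hKR : ∀ w : G, w ∈ cls z → ∀ hw : w * φ 160 = φ 160 * w,
      ∃ r : ↥R, r * r = 1 ∧ r ≠ 1 ∧ ((((r : ↥R) : ↥M) : ↥X) : G) = w := by
    intro w hwK hw
    have hw1 := cls_ne_one D.z_ne hwK
    have hwX : w ∈ X := Subgroup.mem_centralizer_singleton_iff.2 hw
    have hmem : ∃ hm : (⟨w, hwX⟩ : ↥X) ∈ M, (⟨_, hm⟩ : ↥M) ∈ R := by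
      by_cases hcz : w * z = z * w
      · obtain ⟨c, hc, e⟩ := hScode ⟨w, hwX⟩ (Subgroup.mem_centralizer_singleton_iff.2 (Subtype.ext (by
          show w * (zX : G) = (zX : G) * w
          rw [hzXv]; exact hcz)))
        have hcU : c ∈ UList := by
          rcases D.mem_U (SC_row hc).1 (e ▸ hwK) with rfl | rfl | rfl <;> decide +kernel
        obtain ⟨hA, hR'⟩ := hUin c hcU
        have e' : ((cd c hA : ↥M) : ↥X) = ⟨w, hwX⟩ := Subtype.ext ((hcd' c hA).trans e)
        exact ⟨e' ▸ (cd c hA).2, by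
          have := hR' hA
          rwa [show cd c hA = ⟨_, e' ▸ (cd c hA).2⟩ from Subtype.ext e'] at this⟩
      · obtain ⟨c, hcM, hc⟩ := hconjM ⟨w, hwX⟩ hwK hcz
        have hm : (⟨w, hwX⟩ : ↥X) ∈ M := hc ▸ (inferInstance : M.Normal).conj_mem _ hzM _
        refine ⟨hm, ?_⟩
        rw [show (⟨_, hm⟩ : ↥M) = ⟨c, hcM⟩ * ⟨zX, hzM⟩ * (⟨c, hcM⟩ : ↥M)⁻¹ from Subtype.ext hc.symm]
        exact (inferInstance : R.Normal).conj_mem _ hzR _
    obtain ⟨hm, hr⟩ := hmem
    exact ⟨⟨_, hr⟩, Subtype.ext (Subtype.ext (Subtype.ext (cls_sq D.B.zz hwK))),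
      fun h => hw1 (congrArg (fun r : ↥R => (((r : ↥M) : ↥X) : G)) h), rfl⟩
  have hbij : Function.Bijective (fun r : {r : ↥R // r * r = 1 ∧ r ≠ 1} =>
      (⟨(((r.1 : ↥M) : ↥X) : G), hinvK r.1 r.2.1 r.2.2,
        Subgroup.mem_centralizer_singleton_iff.1 ((r.1 : ↥M) : ↥X).2⟩ :
        {w : G // w ∈ cls z ∧ w * φ 160 = φ 160 * w})) := by
    refine ⟨fun a b h => Subtype.ext (Subtype.ext (Subtype.ext (Subtype.ext
      (congrArg (fun w : {w : G // w ∈ cls z ∧ w * φ 160 = φ 160 * w} => (w : G)) h)))), fun w => ?_⟩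
    obtain ⟨r, h1, h2, e⟩ := hKR w.1 w.2.1 w.2.2
    exact ⟨⟨r, h1, h2⟩, Subtype.ext e⟩
  rw [← Nat.card_eq_of_bijective _ hbij]
  exact four_count UR hU4 hexp hc

end OnlyU

end CfsgAutL34
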