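import Cfsg.Agent.Lib.AutL34Type.EnumChecks

/-!
The centraliser is faithful on the forty-two points.
-/

set_option autoImplicit false
set_option maxRecDepth 100000
set_option maxHeartbeats 4000000
set_option Elab.async false

namespace CfsgAutL34

theorem code_moves : ([46, 62].all fun g => (List.range 768).all fun c =>
    c == 0 || (List.range 42).any fun d => runP g (codeWord.getD c []) d != d) = true := by decide +kernel

end CfsgAutL34
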