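import Cfsg.Agent.Lib.AutL34Type.PointMap
import Cfsg.Agent.Lib.AutL34Type.PermChecks
import Mathlib.GroupTheory.Perm.Basic
import Mathlib.GroupTheory.FixedPointFree

/-!
The faithful permutation representation on forty-two points.
-/

set_option autoImplicit false
set_option maxRecDepth 100000
set_option linter.unusedSectionVars false

namespace CfsgAutL34

open Enum

attribute [local irreducible] pMul pOf pT mconj mmul minv pP qWord runP

variable {G : Type*} [Group G] [Finite G] {z : G} {φ : ℕ → G} {r σ : G} {γ : ℕ}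

/-- The permutation read from the table. -/
def IsTable (φ : ℕ → G) (σ z : G) (γ : ℕ) (π : ↥(genSub φ σ z) →* Equiv.Perm (Fin 42)) : Prop :=
  ∀ x < 10, ∀ i : Fin 42, (π ⟨(letG (gensOf φ σ z) x)⁻¹, inv_mem (letG_mem x)⟩ i : ℕ) = runP γ [x] i

namespace Main

variable (D : Main z φ r σ γ)
include D

theorem exists_perm : ∃ π : ↥(genSub φ σ z) →* Equiv.Perm (Fin 42),
    Function.Injective π ∧ IsTable φ σ z γ π ∧ Nat.card ↥(genSub φ σ z) = 241920 := by
  classical
  obtain ⟨f, hf0, hstep, hinj⟩ := D.exists_points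
  obtain ⟨L, hL⟩ : ∃ L, gensOf φ σ z = L := ⟨_, rfl⟩
  have hrun : ∀ (w : List ℕ), (∀ x ∈ w, x < 10) → ∀ d < 42,
      runP γ w d < 42 ∧ (evW (gensOf φ σ z) w)⁻¹ • f d = f (runP γ w d) := by
    intro w
    induction w with
    | nil =>
      intro _ d hd
      rw [show runP γ [] d = d by unfold runP; rfl, evW_nil, inv_one, one_smul]
      exact ⟨hd, rfl⟩
    | cons x w ih =>
      intro hw d hd
      obtain ⟨h1, h2⟩ := hstep d hd x (hw x (List.mem_cons_self ..))
      obtain ⟨h3, h4⟩ := ih (fun y hy => hw y (List.mem_cons_of_mem _ hy)) _ h1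
      rw [D.run_cons x w d, evW_cons, mul_inv_rev, mul_smul, h2]
      exact ⟨h3, h4⟩
  let Q : Set (G ⧸ subN D.F.B) := Set.range fun i : Fin 42 => f i
  have hletter : ∀ g ∈ gensOf φ σ z, ∃ x < 10, letG (gensOf φ σ z) x = g ∧ (letG (gensOf φ σ z) (x + 1))⁻¹ = g ∧ x + 1 < 10 := by
    intro g hg
    simp only [gensOf, List.mem_cons, List.not_mem_nil, or_false] at hg
    rcases hg with rfl | rfl | rfl | rfl | rfl
    exacts [⟨0, by norm_num, rfl, inv_inv _, by norm_num⟩, ⟨2, by norm_num, rfl, inv_inv _, by norm_num⟩,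
      ⟨4, by norm_num, rfl, inv_inv _, by norm_num⟩, ⟨6, by norm_num, rfl, inv_inv _, by norm_num⟩,
      ⟨8, by norm_num, rfl, inv_inv _, by norm_num⟩]
  have hQ : ∀ g ∈ genSub φ σ z, ∀ q ∈ Q, g • q ∈ Q := by
    intro g hg
    induction hg using Subgroup.closure_induction with
    | mem g hg =>
      rintro _ ⟨i, rfl⟩
      obtain ⟨x, -, -, h, hx⟩ := hletter g hg
      obtain ⟨h1, h2⟩ := hstep i i.isLt (x + 1) hx
      exact ⟨⟨_, h1⟩, by show f _ = g • f i; rw [← h2, h]⟩
    | one => intro q hq; rwa [one_smul]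
    | mul a b _ _ ha hb => intro q hq; rw [mul_smul]; exact ha _ (hb q hq)
    | inv a _ ha =>
      intro q hq
      let e : Q → Q := fun q => ⟨a • q.1, ha _ q.2⟩
      have he : Function.Injective e := fun u v h => Subtype.ext (smul_left_cancel a (congrArg Subtype.val h))
      obtain ⟨v, hv⟩ := (Finite.injective_iff_surjective.1 he) ⟨q, hq⟩
      rw [← show a • v.1 = q from congrArg Subtype.val hv, inv_smul_smul]
      exact v.2
  let e : Fin 42 ≃ Q := Equiv.ofBijective (fun i => ⟨f i, i, rfl⟩)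
    ⟨fun i j h => Fin.ext (hinj i i.isLt j j.isLt (congrArg Subtype.val h)), fun ⟨_, i, rfl⟩ => ⟨i, rfl⟩⟩
  have he : ∀ i, (e i : G ⧸ subN D.F.B) = f i := fun i => rfl
  let pg : ↥(genSub φ σ z) → Fin 42 → Fin 42 := fun g i => e.symm ⟨(g : G) • f i, hQ g g.2 _ ⟨i, rfl⟩⟩
  have hpg : ∀ g i, f (pg g i) = (g : G) • f i := fun g i => by
    rw [← he, Equiv.apply_symm_apply]
  have hpg1 : ∀ (g : ↥(genSub φ σ z)) (i j : Fin 42), f j = (g : G) • f i → pg g i = j := fun g i j h =>
    Fin.ext (hinj _ (pg g i).isLt _ j.isLt ((hpg g i).trans h.symm))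
  let π : ↥(genSub φ σ z) →* Equiv.Perm (Fin 42) :=
    { toFun := fun g =>
        { toFun := pg g
          invFun := pg g⁻¹
          left_inv := fun i => hpg1 _ _ _ (by rw [hpg, InvMemClass.coe_inv, inv_smul_smul])
          right_inv := fun i => hpg1 _ _ _ (by rw [hpg, InvMemClass.coe_inv, smul_inv_smul]) }
      map_one' := Equiv.ext fun i => hpg1 _ _ _ (by rw [OneMemClass.coe_one, one_smul]; rfl)
      map_mul' := fun a b => Equiv.ext fun i => hpg1 _ _ _ (by
        show f (pg a (pg b i)) = ((a * b : ↥(genSub φ σ z)) : G) • f i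
        rw [hpg, hpg, Subgroup.coe_mul, mul_smul]) }
  have hπ : ∀ g i, f (π g i) = (g : G) • f i := hpg
  refine ⟨π, ?_, ?_, ?_⟩
  · -- faithful
    rw [← MonoidHom.ker_eq_bot_iff, Subgroup.eq_bot_iff_forall]
    have hC : ∀ k : ↥(genSub φ σ z), k ∈ π.ker → (k : G) * z = z * k → k = 1 := by
      intro k hk hc
      obtain ⟨c, hc7, hce⟩ := (D.F.B.cent _).1 hc
      by_cases h0 : c = 0
      · exact Subtype.ext (by rw [← hce, h0, D.F.B.one]; rfl)
      exfalso
      have hrow := of_range_all (List.all_eq_true.1 code_moves γ D.hγ) hc7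
      simp only [Bool.or_eq_true, beq_iff_eq, h0, false_or, List.any_eq_true, List.mem_range, bne_iff_ne] at hrow
      obtain ⟨d, hd, hne⟩ := hrow
      have hw := of_range_all point_misc.2.1 hc7
      simp only [Bool.and_eq_true, List.all_eq_true, decide_eq_true_eq, beq_iff_eq] at hw
      obtain ⟨h1, h2⟩ := hrun (codeWord.getD c []) (fun x hx => by have := hw.2 x hx; omega) d hd
      rw [← (D.F.ev_code hw.2).2, hw.1] at h2
      refine hne (hinj _ h1 _ hd ?_)
      rw [← h2, hce]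
      have h3 := hπ k⁻¹ ⟨d, hd⟩
      rw [MonoidHom.mem_ker.1 (inv_mem hk), InvMemClass.coe_inv] at h3
      exact h3.symm
    intro k hk
    have hzM : z ∈ genSub φ σ z := Subgroup.subset_closure (by simp [gensOf])
    let zz : ↥(genSub φ σ z) := ⟨z, hzM⟩
    have hzz : zz * zz = 1 := Subtype.ext D.F.B.zz
    let ff : ↥π.ker →* ↥π.ker :=
      { toFun := fun a => ⟨zz * a * zz⁻¹, (inferInstance : π.ker.Normal).conj_mem _ a.2 _⟩
        map_one' := Subtype.ext (by simp)
        map_mul' := fun a b => Subtype.ext (by simp [mul_assoc]) }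
    have hfree : MonoidHom.FixedPointFree ff := fun a ha => Subtype.ext (hC a a.2 (by
      have h := congrArg (fun v : ↥π.ker => ((v : ↥(genSub φ σ z)) : G)) ha
      exact (mul_inv_eq_iff_eq_mul.1 h).symm))
    have hff : Function.Involutive ff := fun a => Subtype.ext (by
      show zz * (zz * a * zz⁻¹) * zz⁻¹ = a
      calc zz * (zz * a * zz⁻¹) * zz⁻¹ = (zz * zz) * a * (zz * zz)⁻¹ := by group
        _ = a := by rw [hzz]; group)
    have hinv : ∀ a : ↥(genSub φ σ z), a ∈ π.ker → z * (a : G) * z⁻¹ = (a : G)⁻¹ := fun a ha => by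
      have h := congrFun (hfree.coe_eq_inv_of_involutive hff) ⟨a, ha⟩
      exact congrArg (fun v : ↥π.ker => ((v : ↥(genSub φ σ z)) : G)) h
    obtain ⟨r1, r2, -, -⟩ := D.F.r_U
    have hrM : r ∈ genSub φ σ z := D.N_le (D.mem_N_iff.2 ⟨_, D.F.hr⟩)
    have hr' : ∀ g : G, (∀ a : ↥(genSub φ σ z), a ∈ π.ker → g * (a : G) * g⁻¹ = (a : G)⁻¹) →
        ∀ a : ↥(genSub φ σ z), a ∈ π.ker → r * g * r⁻¹ * (a : G) * (r * g * r⁻¹)⁻¹ = (a : G)⁻¹ := by
      intro g hg a ha
      have h := hg ((⟨r, hrM⟩ : ↥(genSub φ σ z))⁻¹ * a * ⟨r, hrM⟩)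
        ((inferInstance : π.ker.Normal).conj_mem' _ ha _)
      simp only [Subgroup.coe_mul, Subgroup.coe_inv] at h
      calc r * g * r⁻¹ * (a : G) * (r * g * r⁻¹)⁻¹ = r * (g * (r⁻¹ * a * r) * g⁻¹) * r⁻¹ := by group
        _ = (a : G)⁻¹ := by rw [h]; group
    have hx : ∀ a : ↥(genSub φ σ z), a ∈ π.ker → φ 1 * (a : G) * (φ 1)⁻¹ = (a : G)⁻¹ := by
      intro a ha
      have := hr' z hinv a ha
      rwa [show r * z * r⁻¹ = φ 1 by rw [← r1, D.F.B.zc]] at this
    have hxz : φ 17 * (k : G) * (φ 17)⁻¹ = (k : G)⁻¹ := by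
      have := hr' (φ 1) hx k hk
      rwa [r2] at this
    rw [show φ 17 = z * φ 1 by
      rw [← D.F.B.zc, ← D.F.B.mul _ (by norm_num) _ (by norm_num), show mmul 0 16 1 = 17 by decide +kernel]] at hxz
    refine hC k hk ?_
    have hkk : (k : G) = (k : G)⁻¹ := by
      calc (k : G) = z * (z * (k : G) * z⁻¹) * z⁻¹ := by
            rw [show z * (z * (k : G) * z⁻¹) * z⁻¹ = (z * z) * k * (z * z)⁻¹ by group, D.F.B.zz]; group
        _ = z * (φ 1 * (k : G) * (φ 1)⁻¹) * z⁻¹ := by rw [hinv k hk, hx k hk]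
        _ = z * φ 1 * (k : G) * (z * φ 1)⁻¹ := by group
        _ = (k : G)⁻¹ := hxz
    have h := hinv k hk
    rw [← hkk] at h
    exact (mul_inv_eq_iff_eq_mul.1 h).symm
  · intro x hx i
    obtain ⟨h1, h2⟩ := hstep i i.isLt x hx
    have h3 := hπ ⟨(letG (gensOf φ σ z) x)⁻¹, inv_mem (letG_mem x)⟩ i
    exact hinj _ (Fin.isLt _) _ h1 (h3.trans h2)
  · -- the order
    have htb : ∀ i : Fin 42, ∃ m ∈ genSub φ σ z, m • (((1 : G) : G ⧸ subN D.F.B)) = f i := by
      intro i
      have hap := List.all_eq_true.1 apart_ok γ D.hγ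
      simp only [Bool.and_eq_true, List.all_eq_true, List.mem_range, beq_iff_eq, decide_eq_true_eq] at hap
      obtain ⟨ht, ht'⟩ := hap.1.1 i i.isLt
      obtain ⟨-, h2⟩ := hrun _ ht' i i.isLt
      rw [ht] at h2
      exact ⟨_, evW_mem _, by rw [← hf0, ← h2, smul_inv_smul]⟩
    choose m hm hmf using htb
    have hb : Function.Bijective (fun p : Fin 42 × ↥(subN D.F.B) =>
        (⟨m p.1 * (p.2 : G), mul_mem (hm p.1) (D.N_le p.2.2)⟩ : ↥(genSub φ σ z))) := by
      have hfix : ∀ n : ↥(subN D.F.B), (n : G) • (((1 : G) : G ⧸ subN D.F.B)) = ((1 : G) : G ⧸ subN D.F.B) := fun n => by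
        rw [MulAction.Quotient.smul_mk, smul_eq_mul, mul_one, QuotientGroup.eq, mul_one]; exact inv_mem n.2
      refine ⟨fun a b h => ?_, fun g => ?_⟩
      · have e : m a.1 * (a.2 : G) = m b.1 * (b.2 : G) := congrArg Subtype.val h
        have h' := congrArg (fun g : G => g • (((1 : G) : G ⧸ subN D.F.B))) e
        simp only [mul_smul, hfix, hmf] at h'
        have hi : a.1 = b.1 := Fin.ext (hinj _ a.1.isLt _ b.1.isLt h')
        refine Prod.ext hi (Subtype.ext ?_)
        rw [hi] at e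
        exact mul_left_cancel e
      · obtain ⟨i, hi⟩ := hQ g g.2 _ ⟨⟨0, by norm_num⟩, rfl⟩
        simp only [hf0] at hi
        refine ⟨(i, ⟨(m i)⁻¹ * g, ?_⟩), Subtype.ext (mul_inv_cancel_left _ _)⟩
        have h : ((m i)⁻¹ * (g : G)) • (((1 : G) : G ⧸ subN D.F.B)) = ((1 : G) : G ⧸ subN D.F.B) := by
          rw [mul_smul, ← hi, ← hmf i, inv_smul_smul]
        rw [MulAction.Quotient.smul_mk, smul_eq_mul, mul_one, QuotientGroup.eq, mul_one] at h
        simpa using inv_mem h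
    rw [← Nat.card_eq_of_bijective _ hb, Nat.card_prod, Nat.card_fin, D.card_N]

end Main

end CfsgAutL34
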