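import Cfsg.Agent.Lib.AutL34Type.PlaneChecks
import Cfsg.Agent.Lib.SmallSimple.PSL34
import Cfsg.Agent.Lib.PSLn.Basic
import Mathlib.LinearAlgebra.Matrix.GeneralLinearGroup.Card
import Mathlib.LinearAlgebra.Matrix.Transvection

/-!
The action of `GL₃` over four elements on the twenty-one points and twenty-one lines.
-/

set_option autoImplicit false
set_option maxRecDepth 100000
set_option linter.unusedSectionVars false

namespace CfsgAutL34

open Matrix

attribute [local irreducible] qm qa vc genP letP runP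

/-- A parametrisation of a field with four elements by the codes. -/
structure Coef (F : Type*) [Field F] where
  /-- The element of a code. -/
  el : ℕ → F
  e0 : el 0 = 0
  e1 : el 1 = 1
  hadd : ∀ a < 4, ∀ b < 4, el (qa a b) = el a + el b
  hmul : ∀ a < 4, ∀ b < 4, el (qm a b) = el a * el b
  inj : ∀ a < 4, ∀ b < 4, el a = el b → a = b
  surj : ∀ x : F, ∃ a < 4, el a = x

variable {F : Type*} [Field F]

theorem exists_coef [Fintype F] (hF : Fintype.card F = 4) : Nonempty (Coef F) := by
  classical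
  haveI := CfsgLib.PSL34.char_two hF
  obtain ⟨a, -, ha⟩ := Finset.exists_mem_notMem_of_card_lt_card (s := ({0, 1} : Finset F)) (t := Finset.univ) (by
    rw [Finset.card_univ, hF]
    exact lt_of_le_of_lt (Finset.card_insert_le _ _) (by simp))
  simp only [Finset.mem_insert, Finset.mem_singleton, not_or] at ha
  have h2 : (1 : F) + 1 = 0 := CharTwo.add_self_eq_zero 1
  have hs : a * a = a + 1 := by
    have h3 := CfsgLib.PSL34.cube hF ha.1
    have h : (a - 1) * (a * a + a + 1) = 0 := by linear_combination h3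
    have := (mul_eq_zero.1 h).resolve_left (sub_ne_zero.2 ha.2)
    linear_combination this - (a + 1) * h2
  refine ⟨⟨fun n => [0, 1, a, a + 1].getD n 0, rfl, rfl, ?_, ?_, ?_, ?_⟩⟩
  · intro x hx y hy
    interval_cases x <;> interval_cases y <;> norm_num [qa, List.getD_cons_zero, List.getD_cons_succ] <;>
      first
        | ring1
        | linear_combination h2
        | linear_combination -h2
        | linear_combination a * h2
        | linear_combination (-a) * h2
        | linear_combination (a + 1) * h2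
        | linear_combination (-(a + 1)) * h2
  · intro x hx y hy
    interval_cases x <;> interval_cases y <;> norm_num [qm, List.getD_cons_zero, List.getD_cons_succ] <;>
      first
        | ring1
        | linear_combination hs + a * h2
        | linear_combination -hs + h2
        | linear_combination hs - h2
        | linear_combination hs
        | linear_combination -hs
        | linear_combination -hs - a * h2
        | linear_combination -hs - h2
        | linear_combination -hs - (a + 1) * h2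
        | linear_combination -hs + (-a) * h2
  · have e : a + 1 ≠ 0 := fun e => ha.2 (by linear_combination e - h2)
    intro x hx y hy h
    interval_cases x <;> interval_cases y <;> simp only [List.getD_cons_zero, List.getD_cons_succ] at h <;>
      first
        | rfl
        | exact absurd h.symm one_ne_zero
        | exact absurd h one_ne_zero
        | exact absurd h ha.1
        | exact absurd h.symm ha.1
        | exact absurd h e
        | exact absurd h.symm e
        | exact absurd h ha.2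
        | exact absurd h.symm ha.2
        | exact absurd (by linear_combination h : a = 0) ha.1
        | exact absurd (by linear_combination -h : a = 0) ha.1
        | exact absurd (by linear_combination h : (1 : F) = 0) one_ne_zero
        | exact absurd (by linear_combination -h : (1 : F) = 0) one_ne_zero
  · have hne : a + 1 ≠ 0 := fun e => ha.2 (by linear_combination e - h2)
    have hne' : a + 1 ≠ 1 := fun e => ha.1 (by linear_combination e)
    have hne'' : a + 1 ≠ a := fun e => one_ne_zero (α := F) (by linear_combination e)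
    have hu : ({0, 1, a, a + 1} : Finset F) = Finset.univ := Finset.eq_univ_of_card _ (by
      rw [hF]; simp [Ne.symm ha.1, Ne.symm ha.2, Ne.symm hne, Ne.symm hne', Ne.symm hne''])
    intro x
    have hx := Finset.mem_univ x
    rw [← hu] at hx
    simp only [Finset.mem_insert, Finset.mem_singleton] at hx
    rcases hx with rfl | rfl | rfl | rfl
    exacts [⟨0, by norm_num, rfl⟩, ⟨1, by norm_num, rfl⟩, ⟨2, by norm_num, rfl⟩, ⟨3, by norm_num, rfl⟩]

theorem qm_lt {a b : ℕ} (ha : a < 4) (hb : b < 4) : qm a b < 4 ∧ qa a b < 4 := by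
  have := of_range_all (of_range_all code_field.1 ha) hb
  simpa only [Bool.and_eq_true, decide_eq_true_eq] using this

theorem vc_lt {i k : ℕ} (hi : i < 21) (hk : k < 3) : vc i k < 4 := by
  simpa using of_range_all (of_range_all code_field.2.2 hi) hk

theorem mt_lt {A : List ℕ} (hA : ∀ x ∈ A, x < 4) : ∀ x ∈ mt A, x < 4 := by
  have h : ∀ i k, mc A i k < 4 := fun i k => by
    show A.getD (3 * i + k) 0 < 4
    by_cases hl : 3 * i + k < A.length
    · rw [List.getD_eq_getElem _ _ hl]; exact hA _ (List.getElem_mem hl)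
    · rw [List.getD_eq_default _ _ (not_lt.1 hl)]; norm_num
  intro x hx
  simp only [mt, List.mem_cons, List.not_mem_nil, or_false] at hx
  rcases hx with rfl | rfl | rfl | rfl | rfl | rfl | rfl | rfl | rfl <;> exact h _ _

theorem mc_lt {A : List ℕ} (hA : ∀ x ∈ A, x < 4) (i k : ℕ) : mc A i k < 4 := by
  show A.getD (3 * i + k) 0 < 4
  by_cases hl : 3 * i + k < A.length
  · rw [List.getD_eq_getElem _ _ hl]; exact hA _ (List.getElem_mem hl)
  · rw [List.getD_eq_default _ _ (not_lt.1 hl)]; norm_num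

namespace Coef

variable (C : Coef F)

/-- The vector of a point. -/
def vec (i : ℕ) : Fin 3 → F := fun k => C.el (vc i k)

/-- The matrix of a coded matrix. -/
def matOf (A : List ℕ) : Matrix (Fin 3) (Fin 3) F := Matrix.of fun i k => C.el (mc A i k)

/-- The line of one vector is the line of another. -/
def SameLine (v w : Fin 3 → F) : Prop := ∃ c : F, c ≠ 0 ∧ v = c • w

theorem sameLine_symm {v w : Fin 3 → F} (h : SameLine v w) : SameLine w v := by
  obtain ⟨c, hc, rfl⟩ := h
  exact ⟨c⁻¹, inv_ne_zero hc, by rw [smul_smul, inv_mul_cancel₀ hc, one_smul]⟩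

theorem sameLine_trans {u v w : Fin 3 → F} (h : SameLine u v) (h' : SameLine v w) : SameLine u w := by
  obtain ⟨c, hc, rfl⟩ := h
  obtain ⟨d, hd, rfl⟩ := h'
  exact ⟨c * d, mul_ne_zero hc hd, by rw [smul_smul]⟩

theorem el_ne_zero {a : ℕ} (ha : a < 4) (h : a ≠ 0) : C.el a ≠ 0 := fun e =>
  h (C.inj a ha 0 (by norm_num) (e.trans C.e0.symm))

theorem vec_ne_zero {i : ℕ} (hi : i < 21) : C.vec i ≠ 0 := by
  have := of_range_all pts_unique.2.1 hi
  simp only [Bool.or_eq_true, bne_iff_ne] at this
  intro e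
  have h : ∀ k : Fin 3, vc i k = 0 := fun k =>
    C.inj _ (vc_lt hi k.isLt) 0 (by norm_num) ((congrFun e k).trans C.e0.symm)
  rcases this with (h0 | h0) | h0
  exacts [h0 (h 0), h0 (h 1), h0 (h 2)]

theorem vec_unique {i j : ℕ} (hi : i < 21) (hj : j < 21) (h : SameLine (C.vec i) (C.vec j)) : i = j := by
  obtain ⟨c, hc, e⟩ := sameLine_symm h
  obtain ⟨s, hs, rfl⟩ := C.surj c
  have := of_range_all (of_range_all (of_range_all pts_unique.1 hi) hj) hs
  have hk : ∀ k : Fin 3, qm s (vc i k) = vc j k := fun k =>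
    C.inj _ (qm_lt hs (vc_lt hi k.isLt)).1 _ (vc_lt hj k.isLt) (by
      rw [C.hmul _ hs _ (vc_lt hi k.isLt)]; exact (congrFun e k).symm)
  simpa [hk 0, hk 1, hk 2, show vc j 0 = vc j 0 from rfl, show qm s (vc i 0) = vc j 0 from hk 0,
    show qm s (vc i 1) = vc j 1 from hk 1, show qm s (vc i 2) = vc j 2 from hk 2] using this

theorem vec_exists {w : Fin 3 → F} (hw : w ≠ 0) : ∃ j : Fin 21, SameLine w (C.vec j) := by
  obtain ⟨a, ha, ea⟩ := C.surj (w 0)
  obtain ⟨b, hb, eb⟩ := C.surj (w 1)
  obtain ⟨c, hc, ec⟩ := C.surj (w 2)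
  have := of_range_all (of_range_all (of_range_all pts_exist ha) hb) hc
  simp only [Bool.or_eq_true, Bool.and_eq_true, beq_iff_eq, List.any_eq_true, List.mem_range] at this
  rcases this with ⟨⟨rfl, rfl⟩, rfl⟩ | ⟨j, hj, s, hs, ⟨h0, h1⟩, h2⟩
  · exact absurd (funext fun k => by fin_cases k <;> simp [← ea, ← eb, ← ec, C.e0]) hw
  · have hs4 : s < 4 ∧ s ≠ 0 := by simp at hs; omega
    refine ⟨⟨j, hj⟩, C.el s, C.el_ne_zero hs4.1 hs4.2, funext fun k => ?_⟩
    have hm : ∀ k < 3, C.el (qm s (vc j k)) = C.el s * C.el (vc j k) := fun k hk =>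
      C.hmul _ hs4.1 _ (vc_lt hj hk)
    fin_cases k
    · show w 0 = C.el s * C.el (vc j 0); rw [← hm 0 (by norm_num), h0, ea]
    · show w 1 = C.el s * C.el (vc j 1); rw [← hm 1 (by norm_num), h1, eb]
    · show w 2 = C.el s * C.el (vc j 2); rw [← hm 2 (by norm_num), h2, ec]

theorem mulVec_ne_zero (g : GL (Fin 3) F) {v : Fin 3 → F} (hv : v ≠ 0) : g.1 *ᵥ v ≠ 0 := by
  intro h
  refine hv ?_
  calc v = ((g⁻¹).1 * g.1) *ᵥ v := by rw [← Units.val_mul, inv_mul_cancel, Units.val_one, one_mulVec]
    _ = 0 := by rw [← mulVec_mulVec, h, mulVec_zero]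

/-- The image of a point. -/
noncomputable def img (g : GL (Fin 3) F) (i : Fin 21) : Fin 21 :=
  (C.vec_exists (mulVec_ne_zero g (C.vec_ne_zero i.isLt))).choose

theorem img_spec (g : GL (Fin 3) F) (i : Fin 21) : SameLine (g.1 *ᵥ C.vec i) (C.vec (C.img g i)) :=
  (C.vec_exists (mulVec_ne_zero g (C.vec_ne_zero i.isLt))).choose_spec

theorem img_eq {g : GL (Fin 3) F} {i j : Fin 21} (h : SameLine (g.1 *ᵥ C.vec i) (C.vec j)) : C.img g i = j :=
  Fin.ext (C.vec_unique (C.img g i).isLt j.isLt (sameLine_trans (sameLine_symm (C.img_spec g i)) h))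

theorem img_one (i : Fin 21) : C.img 1 i = i :=
  C.img_eq ⟨1, one_ne_zero, by rw [Units.val_one, one_mulVec, one_smul]⟩

theorem img_mul (g h : GL (Fin 3) F) (i : Fin 21) : C.img (g * h) i = C.img g (C.img h i) := by
  obtain ⟨c, hc, e⟩ := C.img_spec h i
  refine C.img_eq (sameLine_trans ⟨c, hc, ?_⟩ (C.img_spec g (C.img h i)))
  rw [Units.val_mul, ← mulVec_mulVec, e, mulVec_smul]

/-- The action on points. -/
noncomputable def psiP : GL (Fin 3) F →* Equiv.Perm (Fin 21) where
  toFun g :=
    { toFun := C.img g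
      invFun := C.img g⁻¹
      left_inv := fun i => by rw [← C.img_mul, inv_mul_cancel, C.img_one]
      right_inv := fun i => by rw [← C.img_mul, mul_inv_cancel, C.img_one] }
  map_one' := Equiv.ext C.img_one
  map_mul' g h := Equiv.ext (C.img_mul g h)

/-- The action on points and lines. -/
noncomputable def psi : GL (Fin 3) F →* Equiv.Perm (Fin 42) where
  toFun g := (finSumFinEquiv (m := 21) (n := 21)).permCongr
    (Equiv.Perm.sumCongr (C.psiP g) (C.psiP (CfsgLib.PSLn.dualGL g)))
  map_one' := by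
    rw [map_one, map_one, map_one]
    ext i; simp
  map_mul' g h := by
    rw [map_mul, map_mul, map_mul, ← Equiv.Perm.sumCongr_mul]
    ext i; simp [Equiv.permCongr_apply]

theorem psi_left (g : GL (Fin 3) F) (i : Fin 21) : (C.psi g (Fin.castAdd 21 i) : ℕ) = C.img g i := by
  show (((finSumFinEquiv (m := 21) (n := 21)).permCongr _) (Fin.castAdd 21 i) : ℕ) = _
  rw [Equiv.permCongr_apply, finSumFinEquiv_symm_apply_castAdd]
  simp [psiP, finSumFinEquiv]

theorem psi_right (g : GL (Fin 3) F) (i : Fin 21) :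
    (C.psi g (Fin.natAdd 21 i) : ℕ) = 21 + C.img (CfsgLib.PSLn.dualGL g) i := by
  show (((finSumFinEquiv (m := 21) (n := 21)).permCongr _) (Fin.natAdd 21 i) : ℕ) = _
  rw [Equiv.permCongr_apply, finSumFinEquiv_symm_apply_natAdd]
  simp [psiP, finSumFinEquiv, Nat.add_comm]

theorem el_cdot {a b c x y z : ℕ} (ha : a < 4) (hb : b < 4) (hc : c < 4) (hx : x < 4) (hy : y < 4) (hz : z < 4) :
    C.el (cdot a b c x y z) = C.el a * C.el x + C.el b * C.el y + C.el c * C.el z := by
  unfold cdot
  rw [C.hadd _ (qm_lt (qm_lt ha hx).1 (qm_lt hb hy).1).2 _ (qm_lt hc hz).1,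
    C.hadd _ (qm_lt ha hx).1 _ (qm_lt hb hy).1, C.hmul _ ha _ hx, C.hmul _ hb _ hy, C.hmul _ hc _ hz]

theorem matOf_mt {A : List ℕ} : C.matOf (mt A) = (C.matOf A)ᵀ := by
  ext i k
  fin_cases i <;> fin_cases k <;> rfl

theorem ptChk_spec {A : List ℕ} (hA : ∀ x ∈ A, x < 4) {i j : ℕ} (hi : i < 21) (h : ptChk A i j = true) :
    ∃ hj : j < 21, SameLine (C.matOf A *ᵥ C.vec i) (C.vec (⟨j, hj⟩ : Fin 21)) := by
  simp only [ptChk, Bool.and_eq_true, decide_eq_true_eq, List.any_eq_true, List.all_eq_true, List.mem_range,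
    beq_iff_eq] at h
  obtain ⟨hj, s, hs, he⟩ := h
  have hs4 : s < 4 ∧ s ≠ 0 := by simp at hs; omega
  refine ⟨hj, C.el s, C.el_ne_zero hs4.1 hs4.2, funext fun k => ?_⟩
  show ((C.matOf A) *ᵥ C.vec i) k = C.el s * C.el (vc j k)
  rw [← C.hmul _ hs4.1 _ (vc_lt hj k.isLt), ← he k k.isLt,
    C.el_cdot (mc_lt hA _ _) (mc_lt hA _ _) (mc_lt hA _ _) (vc_lt hi (by norm_num)) (vc_lt hi (by norm_num))
      (vc_lt hi (by norm_num))]
  simp [Matrix.mulVec, dotProduct, Fin.sum_univ_three, matOf, vec]

/-- A checked coded matrix gives an element of the linear group with the given permutation. -/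
theorem psiChk_spec {A B : List ℕ} {p : ℕ → ℕ} (h : psiChk A B p = true) :
    ∃ g : GL (Fin 3) F, g.1 = C.matOf A ∧ ∀ i : Fin 42, (C.psi g i : ℕ) = p i := by
  simp only [psiChk, invChk, Bool.and_eq_true, decide_eq_true_eq, List.all_eq_true, List.mem_range, beq_iff_eq] at h
  obtain ⟨⟨⟨hA, hB⟩, hAB⟩, hp⟩ := h
  have hAB' : C.matOf A * C.matOf B = 1 := by
    ext i j
    have := congrArg C.el (hAB i i.isLt j j.isLt)
    rw [C.el_cdot (mc_lt hA _ _) (mc_lt hA _ _) (mc_lt hA _ _) (mc_lt hB _ _) (mc_lt hB _ _) (mc_lt hB _ _)] at this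
    simp only [Matrix.mul_apply, Fin.sum_univ_three, matOf, Matrix.of_apply, Matrix.one_apply]
    refine this.trans ?_
    split_ifs with h1 h2 h2
    exacts [C.e1, absurd (Fin.ext h1) h2, absurd (congrArg Fin.val h2) h1, C.e0]
  let g : GL (Fin 3) F := ⟨C.matOf A, C.matOf B, hAB', mul_eq_one_comm.1 hAB'⟩
  refine ⟨g, rfl, fun i => ?_⟩
  refine Fin.addCases (m := 21) (n := 21) (fun i => ?_) (fun i => ?_) i
  · obtain ⟨hj, he⟩ := C.ptChk_spec hA i.isLt (hp i i.isLt).1.1
    rw [C.psi_left, C.img_eq (g := g) (j := ⟨_, hj⟩) he]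
    rfl
  · obtain ⟨hj, he⟩ := C.ptChk_spec (mt_lt hB) i.isLt (hp i i.isLt).2
    have h21 := (hp i i.isLt).1.2
    rw [C.psi_right, C.img_eq (g := CfsgLib.PSLn.dualGL g) (j := ⟨_, hj⟩) (by
      rw [CfsgLib.PSLn.coe_dualGL, show (g⁻¹).1 = C.matOf B from rfl, ← C.matOf_mt]
      exact he)]
    simp only [Fin.val_natAdd]
    omega

end Coef

end CfsgAutL34
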