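/-
Coordinates of the plane on four elements, generators of its collineations and the relabelling of the points.
-/
import Mathlib.Data.Nat.Notation

set_option autoImplicit false
set_option maxRecDepth 100000

namespace CfsgAutL34

/-- The coordinates of the twenty-one points, and of the lines. -/
def planePts : List (List ℕ) := [
  [0, 0, 1], [0, 1, 0], [0, 1, 1], [0, 1, 2], [0, 1, 3], [1, 0, 0], [1, 0, 1], [1, 0, 2], [1, 0, 3], [1, 1, 0],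
  [1, 1, 1], [1, 1, 2], [1, 1, 3], [1, 2, 0], [1, 2, 1], [1, 2, 2], [1, 2, 3], [1, 3, 0], [1, 3, 1], [1, 3, 2],
  [1, 3, 3]]

/-- Generators: a matrix, its inverse and the permutation of points and lines. -/
def planeGens : List ((List ℕ × List ℕ) × List ℕ) := [

  (([1, 1, 0, 0, 1, 0, 0, 0, 1], [1, 1, 0, 0, 1, 0, 0, 0, 1]), [0, 9, 10, 11, 12, 5, 6, 7, 8, 1, 2, 3, 4, 17, 19, 20, 18, 13, 16, 14, 15, 21, 22, 23, 24, 25, 30, 31, 32, 33, 26, 27, 28, 29, 38, 39, 40, 41, 34, 35, 36, 37]),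
  (([1, 2, 0, 0, 1, 0, 0, 0, 1], [1, 2, 0, 0, 1, 0, 0, 0, 1]), [0, 17, 20, 18, 19, 5, 6, 7, 8, 13, 15, 16, 14, 9, 12, 10, 11, 1, 3, 4, 2, 21, 22, 23, 24, 25, 34, 35, 36, 37, 38, 39, 40, 41, 26, 27, 28, 29, 30, 31, 32, 33]),
  (([1, 0, 1, 0, 1, 0, 0, 0, 1], [1, 0, 1, 0, 1, 0, 0, 0, 1]), [6, 1, 10, 18, 14, 5, 0, 8, 7, 9, 2, 16, 19, 13, 4, 20, 11, 17, 3, 12, 15, 21, 22, 23, 24, 25, 27, 26, 29, 28, 31, 30, 33, 32, 35, 34, 37, 36, 39, 38, 41, 40]),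
  (([1, 0, 2, 0, 1, 0, 0, 0, 1], [1, 0, 2, 0, 1, 0, 0, 0, 1]), [8, 1, 20, 16, 12, 5, 7, 6, 0, 9, 15, 18, 4, 13, 19, 10, 3, 17, 11, 14, 2, 21, 22, 23, 24, 25, 28, 29, 26, 27, 32, 33, 30, 31, 36, 37, 34, 35, 40, 41, 38, 39]),
  (([1, 0, 0, 1, 1, 0, 0, 0, 1], [1, 0, 0, 1, 1, 0, 0, 0, 1]), [0, 1, 2, 3, 4, 9, 10, 11, 12, 5, 6, 7, 8, 17, 18, 19, 20, 13, 14, 15, 16, 21, 30, 31, 32, 33, 26, 27, 28, 29, 22, 23, 24, 25, 38, 40, 41, 39, 34, 37, 35, 36]),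
  (([1, 0, 0, 2, 1, 0, 0, 0, 1], [1, 0, 0, 2, 1, 0, 0, 0, 1]), [0, 1, 2, 3, 4, 13, 14, 15, 16, 17, 18, 19, 20, 5, 6, 7, 8, 9, 10, 11, 12, 21, 38, 41, 39, 40, 26, 27, 28, 29, 34, 36, 37, 35, 30, 33, 31, 32, 22, 24, 25, 23]),
  (([1, 0, 0, 0, 1, 1, 0, 0, 1], [1, 0, 0, 0, 1, 1, 0, 0, 1]), [2, 1, 0, 4, 3, 5, 10, 15, 20, 9, 6, 19, 16, 13, 18, 7, 12, 17, 14, 11, 8, 21, 23, 22, 25, 24, 26, 27, 28, 29, 31, 30, 33, 32, 36, 37, 34, 35, 41, 40, 39, 38]),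
  (([1, 0, 0, 0, 1, 2, 0, 0, 1], [1, 0, 0, 0, 1, 2, 0, 0, 1]), [4, 1, 3, 2, 0, 5, 14, 19, 12, 9, 18, 15, 8, 13, 6, 11, 20, 17, 10, 7, 16, 21, 24, 25, 22, 23, 26, 27, 28, 29, 32, 33, 30, 31, 37, 36, 35, 34, 39, 38, 41, 40]),
  (([1, 0, 0, 0, 1, 0, 1, 0, 1], [1, 0, 0, 0, 1, 0, 1, 0, 1]), [0, 1, 2, 3, 4, 6, 5, 8, 7, 10, 9, 12, 11, 14, 13, 16, 15, 18, 17, 20, 19, 27, 22, 31, 39, 35, 26, 21, 29, 28, 30, 23, 37, 40, 34, 25, 41, 32, 38, 24, 33, 36]),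
  (([1, 0, 0, 0, 1, 0, 2, 0, 1], [1, 0, 0, 0, 1, 0, 2, 0, 1]), [0, 1, 2, 3, 4, 7, 8, 5, 6, 11, 12, 9, 10, 15, 16, 13, 14, 19, 20, 17, 18, 29, 22, 41, 37, 33, 26, 28, 27, 21, 30, 36, 39, 25, 34, 40, 31, 24, 38, 32, 35, 23]),
  (([1, 0, 0, 0, 1, 0, 0, 1, 1], [1, 0, 0, 0, 1, 0, 0, 1, 1]), [0, 2, 1, 4, 3, 5, 6, 7, 8, 10, 9, 12, 11, 15, 16, 13, 14, 20, 19, 18, 17, 23, 22, 21, 25, 24, 26, 31, 36, 41, 30, 27, 40, 37, 34, 39, 28, 33, 38, 35, 32, 29]),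
  (([1, 0, 0, 0, 1, 0, 0, 2, 1], [1, 0, 0, 0, 1, 0, 0, 2, 1]), [0, 3, 4, 1, 2, 5, 6, 7, 8, 11, 12, 9, 10, 16, 15, 14, 13, 18, 17, 20, 19, 25, 22, 24, 23, 21, 26, 35, 40, 33, 30, 39, 36, 29, 34, 27, 32, 41, 38, 31, 28, 37]),
  (([2, 0, 0, 0, 1, 0, 0, 0, 1], [3, 0, 0, 0, 1, 0, 0, 0, 1]), [0, 1, 2, 3, 4, 5, 8, 6, 7, 17, 20, 18, 19, 9, 12, 10, 11, 13, 16, 14, 15, 21, 22, 23, 24, 25, 26, 28, 29, 27, 34, 36, 37, 35, 38, 40, 41, 39, 30, 32, 33, 31]),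
  (([1, 0, 0, 0, 2, 0, 0, 0, 1], [1, 0, 0, 0, 3, 0, 0, 0, 1]), [0, 1, 4, 2, 3, 5, 6, 7, 8, 13, 14, 15, 16, 17, 18, 19, 20, 9, 10, 11, 12, 21, 22, 24, 25, 23, 26, 27, 28, 29, 38, 39, 40, 41, 30, 31, 32, 33, 34, 35, 36, 37]),
  (([1, 0, 0, 0, 1, 0, 0, 0, 2], [1, 0, 0, 0, 1, 0, 0, 0, 3]), [0, 1, 3, 4, 2, 5, 7, 8, 6, 9, 11, 12, 10, 13, 15, 16, 14, 17, 19, 20, 18, 21, 22, 25, 23, 24, 26, 29, 27, 28, 30, 33, 31, 32, 34, 37, 35, 36, 38, 41, 39, 40])]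

/-- Words in the generators leading from the two bases. -/
def planeWord : List (List ℕ) := [
  [], [10, 6], [6], [7, 6], [7], [8, 2], [2], [3, 2], [3], [8, 4, 2], [4, 2], [4, 3, 2], [4, 3], [8, 5, 2],
  [5, 2], [5, 3, 2], [5, 3], [10, 6, 3], [5, 4, 2], [1, 7], [6, 3], [], [6, 10], [10], [11, 10], [11], [2, 8],
  [8], [9, 8], [9], [2, 0, 8], [0, 8], [0, 9, 8], [0, 9], [2, 1, 8], [1, 8], [5, 0, 8], [1, 9], [6, 10, 9],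
  [1, 0, 8], [5, 11], [10, 9]]

/-- The image of the involution: a transvection. -/
def planeZ : List ℕ × List ℕ := ([1, 0, 0, 0, 1, 0, 0, 2, 1], [1, 0, 0, 0, 1, 0, 0, 2, 1])

/-- The point of the plane of an index. -/
def relab46 : List ℕ := [
  0, 22, 26, 30, 34, 38, 5, 1, 9, 17, 13, 21, 6, 8, 7, 4, 10, 2, 12, 20, 14, 19, 24, 23, 27, 31, 35, 39, 36,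
  33, 29, 3, 11, 15, 32, 37, 40, 18, 16, 25, 28, 41]

/-- The index of a point of the plane. -/
def unlab46 : List ℕ := [
  0, 7, 17, 31, 15, 6, 12, 14, 13, 8, 16, 32, 18, 10, 20, 33, 38, 9, 37, 21, 19, 11, 1, 23, 22, 39, 2, 24, 40,
  30, 3, 25, 34, 29, 4, 26, 28, 35, 5, 27, 36, 41]

/-- The images of the generators under the conjugation by the letters. -/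
def planeWit46 : List (List ℕ × List ℕ) := [
  ([1, 3, 0, 0, 1, 0, 0, 0, 1], [1, 3, 0, 0, 1, 0, 0, 0, 1]),
  ([1, 2, 0, 0, 1, 0, 0, 0, 1], [1, 2, 0, 0, 1, 0, 0, 0, 1]),
  ([1, 0, 1, 0, 1, 0, 0, 0, 1], [1, 0, 1, 0, 1, 0, 0, 0, 1]),
  ([1, 0, 3, 0, 1, 0, 0, 0, 1], [1, 0, 3, 0, 1, 0, 0, 0, 1]),
  ([1, 3, 0, 3, 1, 0, 0, 0, 2], [2, 1, 0, 1, 2, 0, 0, 0, 3]),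
  ([0, 1, 0, 1, 0, 0, 0, 0, 1], [0, 1, 0, 1, 0, 0, 0, 0, 1]),
  ([1, 0, 2, 0, 1, 2, 0, 0, 1], [1, 0, 2, 0, 1, 2, 0, 0, 1]),
  ([1, 0, 1, 0, 1, 1, 0, 0, 1], [1, 0, 1, 0, 1, 1, 0, 0, 1]),
  ([1, 0, 0, 0, 1, 0, 1, 1, 1], [1, 0, 0, 0, 1, 0, 1, 1, 1]),
  ([1, 0, 0, 0, 1, 0, 3, 3, 1], [1, 0, 0, 0, 1, 0, 3, 3, 1]),
  ([1, 0, 0, 0, 1, 0, 0, 3, 1], [1, 0, 0, 0, 1, 0, 0, 3, 1]),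
  ([1, 0, 0, 0, 1, 0, 0, 2, 1], [1, 0, 0, 0, 1, 0, 0, 2, 1]),
  ([1, 3, 0, 0, 2, 0, 0, 0, 2], [1, 2, 0, 0, 3, 0, 0, 0, 3]),
  ([1, 2, 0, 0, 3, 0, 0, 0, 1], [1, 3, 0, 0, 2, 0, 0, 0, 1]),
  ([1, 0, 0, 0, 1, 0, 0, 0, 3], [1, 0, 0, 0, 1, 0, 0, 0, 2]),
  ([1, 3, 0, 0, 1, 0, 0, 0, 1], [1, 3, 0, 0, 1, 0, 0, 0, 1]),
  ([1, 1, 0, 0, 1, 0, 0, 0, 1], [1, 1, 0, 0, 1, 0, 0, 0, 1]),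
  ([1, 0, 3, 0, 1, 0, 0, 0, 1], [1, 0, 3, 0, 1, 0, 0, 0, 1]),
  ([1, 0, 1, 0, 1, 0, 0, 0, 1], [1, 0, 1, 0, 1, 0, 0, 0, 1]),
  ([1, 3, 0, 1, 1, 0, 0, 0, 3], [3, 2, 0, 3, 3, 0, 0, 0, 2]),
  ([0, 3, 0, 1, 0, 0, 0, 0, 2], [0, 1, 0, 2, 0, 0, 0, 0, 3]),
  ([1, 0, 2, 0, 1, 1, 0, 0, 1], [1, 0, 2, 0, 1, 1, 0, 0, 1]),
  ([1, 0, 3, 0, 1, 2, 0, 0, 1], [1, 0, 3, 0, 1, 2, 0, 0, 1]),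
  ([1, 0, 0, 0, 1, 0, 2, 3, 1], [1, 0, 0, 0, 1, 0, 2, 3, 1]),
  ([1, 0, 0, 0, 1, 0, 3, 1, 1], [1, 0, 0, 0, 1, 0, 3, 1, 1]),
  ([1, 0, 0, 0, 1, 0, 0, 1, 1], [1, 0, 0, 0, 1, 0, 0, 1, 1]),
  ([1, 0, 0, 0, 1, 0, 0, 2, 1], [1, 0, 0, 0, 1, 0, 0, 2, 1]),
  ([1, 3, 0, 0, 3, 0, 0, 0, 3], [1, 1, 0, 0, 2, 0, 0, 0, 2]),
  ([1, 1, 0, 0, 2, 0, 0, 0, 1], [1, 3, 0, 0, 3, 0, 0, 0, 1]),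
  ([1, 0, 0, 0, 1, 0, 0, 0, 2], [1, 0, 0, 0, 1, 0, 0, 0, 3]),
  ([1, 0, 0, 0, 1, 0, 2, 2, 1], [1, 0, 0, 0, 1, 0, 2, 2, 1]),
  ([1, 0, 0, 0, 1, 0, 1, 1, 1], [1, 0, 0, 0, 1, 0, 1, 1, 1]),
  ([1, 2, 0, 2, 1, 0, 0, 0, 3], [3, 1, 0, 1, 3, 0, 0, 0, 2]),
  ([1, 3, 0, 3, 1, 0, 0, 0, 2], [2, 1, 0, 1, 2, 0, 0, 0, 3]),
  ([0, 3, 2, 0, 3, 0, 1, 1, 0], [0, 2, 1, 0, 2, 0, 3, 3, 0]),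
  ([1, 2, 1, 0, 3, 0, 3, 3, 1], [3, 1, 3, 0, 2, 0, 2, 2, 3]),
  ([1, 2, 1, 2, 1, 1, 0, 0, 3], [3, 1, 3, 1, 3, 3, 0, 0, 2]),
  ([1, 3, 2, 3, 1, 2, 0, 0, 2], [2, 1, 3, 1, 2, 3, 0, 0, 3]),
  ([1, 2, 0, 0, 1, 0, 0, 3, 1], [1, 2, 0, 0, 1, 0, 0, 3, 1]),
  ([1, 1, 0, 0, 1, 0, 0, 2, 1], [1, 1, 0, 0, 1, 0, 0, 2, 1]),
  ([1, 0, 0, 0, 1, 0, 0, 3, 1], [1, 0, 0, 0, 1, 0, 0, 3, 1]),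
  ([1, 0, 0, 0, 1, 0, 0, 2, 1], [1, 0, 0, 0, 1, 0, 0, 2, 1]),
  ([1, 2, 0, 0, 3, 0, 3, 3, 3], [1, 3, 0, 0, 2, 0, 1, 1, 2]),
  ([1, 0, 0, 0, 1, 0, 1, 1, 2], [1, 0, 0, 0, 1, 0, 3, 3, 3]),
  ([1, 3, 0, 0, 2, 0, 0, 0, 1], [1, 2, 0, 0, 3, 0, 0, 0, 1]),
  ([1, 0, 0, 3, 1, 0, 0, 0, 1], [1, 0, 0, 3, 1, 0, 0, 0, 1]),
  ([1, 0, 0, 1, 1, 0, 0, 0, 1], [1, 0, 0, 1, 1, 0, 0, 0, 1]),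
  ([1, 0, 0, 0, 1, 2, 0, 0, 1], [1, 0, 0, 0, 1, 2, 0, 0, 1]),
  ([1, 0, 0, 0, 1, 3, 0, 0, 1], [1, 0, 0, 0, 1, 3, 0, 0, 1]),
  ([1, 2, 0, 0, 1, 0, 0, 0, 1], [1, 2, 0, 0, 1, 0, 0, 0, 1]),
  ([1, 3, 0, 0, 1, 0, 0, 0, 1], [1, 3, 0, 0, 1, 0, 0, 0, 1]),
  ([1, 0, 3, 0, 1, 0, 0, 0, 1], [1, 0, 3, 0, 1, 0, 0, 0, 1]),
  ([1, 0, 1, 0, 1, 0, 0, 0, 1], [1, 0, 1, 0, 1, 0, 0, 0, 1]),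
  ([1, 0, 0, 0, 1, 0, 0, 3, 1], [1, 0, 0, 0, 1, 0, 0, 3, 1]),
  ([1, 0, 0, 0, 1, 0, 0, 1, 1], [1, 0, 0, 0, 1, 0, 0, 1, 1]),
  ([1, 0, 0, 0, 1, 0, 2, 0, 1], [1, 0, 0, 0, 1, 0, 2, 0, 1]),
  ([1, 0, 0, 0, 1, 0, 3, 0, 1], [1, 0, 0, 0, 1, 0, 3, 0, 1]),
  ([1, 0, 0, 0, 2, 0, 0, 0, 1], [1, 0, 0, 0, 3, 0, 0, 0, 1]),
  ([1, 0, 0, 0, 3, 0, 0, 0, 3], [1, 0, 0, 0, 2, 0, 0, 0, 2]),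
  ([1, 0, 0, 0, 1, 0, 0, 0, 2], [1, 0, 0, 0, 1, 0, 0, 0, 3]),
  ([1, 1, 0, 0, 1, 0, 0, 0, 1], [1, 1, 0, 0, 1, 0, 0, 0, 1]),
  ([1, 2, 0, 0, 1, 0, 0, 0, 1], [1, 2, 0, 0, 1, 0, 0, 0, 1]),
  ([1, 2, 1, 0, 1, 0, 0, 0, 1], [1, 2, 1, 0, 1, 0, 0, 0, 1]),
  ([1, 3, 2, 0, 1, 0, 0, 0, 1], [1, 3, 2, 0, 1, 0, 0, 0, 1]),
  ([1, 0, 0, 1, 1, 0, 2, 0, 1], [1, 0, 0, 1, 1, 0, 2, 0, 1]),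
  ([1, 0, 0, 2, 1, 0, 3, 0, 1], [1, 0, 0, 2, 1, 0, 3, 0, 1]),
  ([1, 0, 0, 0, 3, 1, 0, 3, 3], [1, 0, 0, 0, 3, 1, 0, 3, 3]),
  ([1, 0, 0, 0, 2, 2, 0, 1, 2], [1, 0, 0, 0, 2, 2, 0, 1, 2]),
  ([1, 0, 0, 0, 1, 0, 1, 0, 1], [1, 0, 0, 0, 1, 0, 1, 0, 1]),
  ([1, 0, 0, 0, 1, 0, 2, 0, 1], [1, 0, 0, 0, 1, 0, 2, 0, 1]),
  ([1, 0, 0, 0, 1, 0, 0, 1, 1], [1, 0, 0, 0, 1, 0, 0, 1, 1]),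
  ([1, 0, 0, 0, 1, 0, 0, 2, 1], [1, 0, 0, 0, 1, 0, 0, 2, 1]),
  ([1, 0, 0, 0, 3, 0, 0, 0, 3], [1, 0, 0, 0, 2, 0, 0, 0, 2]),
  ([1, 0, 0, 0, 2, 0, 0, 1, 1], [1, 0, 0, 0, 3, 0, 0, 3, 1]),
  ([1, 0, 0, 0, 1, 0, 0, 1, 2], [1, 0, 0, 0, 1, 0, 0, 3, 3])]

/-- The point of the plane of an index. -/
def relab62 : List ℕ := [
  0, 22, 26, 30, 34, 38, 5, 6, 8, 1, 12, 20, 16, 23, 35, 3, 10, 28, 7, 4, 11, 2, 9, 17, 15, 18, 21, 31, 36, 32,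
  29, 41, 33, 37, 40, 27, 25, 39, 14, 24, 19, 13]

/-- The index of a point of the plane. -/
def unlab62 : List ℕ := [
  0, 9, 21, 15, 19, 6, 7, 18, 8, 22, 16, 20, 10, 41, 38, 24, 12, 23, 25, 40, 11, 26, 1, 13, 39, 36, 2, 35, 17,
  30, 3, 27, 29, 32, 4, 14, 28, 33, 5, 37, 34, 31]

/-- The images of the generators under the conjugation by the letters. -/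
def planeWit62 : List (List ℕ × List ℕ) := [
  ([1, 3, 0, 0, 1, 0, 0, 3, 1], [1, 3, 0, 0, 1, 0, 0, 3, 1]),
  ([1, 2, 0, 0, 1, 0, 0, 2, 1], [1, 2, 0, 0, 1, 0, 0, 2, 1]),
  ([0, 2, 1, 0, 1, 0, 1, 2, 0], [0, 2, 1, 0, 1, 0, 1, 2, 0]),
  ([1, 3, 2, 0, 3, 0, 2, 3, 1], [3, 2, 1, 0, 2, 0, 1, 2, 3]),
  ([1, 3, 0, 3, 1, 0, 2, 2, 2], [2, 1, 0, 1, 2, 0, 3, 3, 3]),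
  ([0, 1, 0, 1, 0, 0, 3, 3, 1], [0, 1, 0, 1, 0, 0, 3, 3, 1]),
  ([1, 1, 3, 3, 3, 3, 2, 3, 0], [2, 2, 1, 1, 1, 1, 3, 1, 0]),
  ([0, 2, 1, 1, 3, 1, 3, 1, 2], [0, 2, 1, 1, 3, 1, 3, 1, 2]),
  ([1, 0, 0, 0, 1, 0, 1, 1, 1], [1, 0, 0, 0, 1, 0, 1, 1, 1]),
  ([1, 0, 0, 0, 1, 0, 3, 3, 1], [1, 0, 0, 0, 1, 0, 3, 3, 1]),
  ([1, 0, 0, 0, 1, 0, 0, 3, 1], [1, 0, 0, 0, 1, 0, 0, 3, 1]),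
  ([1, 0, 0, 0, 1, 0, 0, 2, 1], [1, 0, 0, 0, 1, 0, 0, 2, 1]),
  ([1, 3, 0, 0, 2, 0, 3, 3, 2], [1, 2, 0, 0, 3, 0, 2, 2, 3]),
  ([1, 2, 0, 0, 3, 0, 0, 1, 1], [1, 3, 0, 0, 2, 0, 0, 2, 1]),
  ([1, 0, 0, 0, 1, 0, 2, 3, 3], [1, 0, 0, 0, 1, 0, 3, 1, 2]),
  ([1, 3, 0, 0, 1, 0, 0, 1, 1], [1, 3, 0, 0, 1, 0, 0, 1, 1]),
  ([1, 1, 0, 0, 1, 0, 0, 2, 1], [1, 1, 0, 0, 1, 0, 0, 2, 1]),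
  ([0, 3, 2, 0, 3, 0, 1, 1, 0], [0, 2, 1, 0, 2, 0, 3, 3, 0]),
  ([1, 3, 2, 0, 2, 0, 1, 1, 1], [2, 1, 3, 0, 3, 0, 2, 2, 2]),
  ([1, 3, 0, 1, 1, 0, 1, 2, 3], [3, 2, 0, 3, 3, 0, 3, 1, 2]),
  ([0, 3, 0, 1, 0, 0, 1, 2, 2], [0, 1, 0, 2, 0, 0, 2, 3, 3]),
  ([1, 2, 1, 1, 2, 3, 1, 1, 0], [3, 1, 3, 3, 1, 2, 3, 3, 0]),
  ([0, 2, 1, 1, 3, 3, 1, 1, 1], [0, 3, 2, 2, 1, 1, 2, 2, 2]),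
  ([1, 0, 0, 0, 1, 0, 2, 3, 1], [1, 0, 0, 0, 1, 0, 2, 3, 1]),
  ([1, 0, 0, 0, 1, 0, 3, 1, 1], [1, 0, 0, 0, 1, 0, 3, 1, 1]),
  ([1, 0, 0, 0, 1, 0, 0, 1, 1], [1, 0, 0, 0, 1, 0, 0, 1, 1]),
  ([1, 0, 0, 0, 1, 0, 0, 2, 1], [1, 0, 0, 0, 1, 0, 0, 2, 1]),
  ([1, 3, 0, 0, 3, 0, 3, 1, 3], [1, 1, 0, 0, 2, 0, 1, 2, 2]),
  ([1, 1, 0, 0, 2, 0, 0, 3, 1], [1, 3, 0, 0, 3, 0, 0, 2, 1]),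
  ([1, 0, 0, 0, 1, 0, 1, 1, 2], [1, 0, 0, 0, 1, 0, 3, 3, 3]),
  ([1, 0, 0, 0, 1, 0, 2, 3, 1], [1, 0, 0, 0, 1, 0, 2, 3, 1]),
  ([1, 0, 0, 0, 1, 0, 1, 2, 1], [1, 0, 0, 0, 1, 0, 1, 2, 1]),
  ([0, 3, 0, 1, 0, 0, 2, 3, 2], [0, 1, 0, 2, 0, 0, 3, 1, 3]),
  ([1, 3, 0, 1, 1, 0, 2, 3, 3], [3, 2, 0, 3, 3, 0, 1, 2, 2]),
  ([1, 0, 2, 0, 3, 0, 2, 0, 1], [3, 0, 1, 0, 2, 0, 1, 0, 3]),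
  ([1, 0, 3, 0, 2, 0, 3, 0, 1], [2, 0, 1, 0, 3, 0, 1, 0, 2]),
  ([1, 0, 2, 1, 3, 1, 2, 0, 1], [3, 0, 1, 3, 2, 3, 1, 0, 3]),
  ([1, 0, 3, 2, 2, 2, 3, 0, 1], [2, 0, 1, 3, 3, 3, 1, 0, 2]),
  ([1, 2, 0, 0, 1, 0, 0, 2, 1], [1, 2, 0, 0, 1, 0, 0, 2, 1]),
  ([1, 1, 0, 0, 1, 0, 0, 1, 1], [1, 1, 0, 0, 1, 0, 0, 1, 1]),
  ([1, 0, 0, 0, 1, 0, 0, 3, 1], [1, 0, 0, 0, 1, 0, 0, 3, 1]),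
  ([1, 0, 0, 0, 1, 0, 0, 2, 1], [1, 0, 0, 0, 1, 0, 0, 2, 1]),
  ([1, 3, 0, 0, 3, 0, 2, 3, 3], [1, 1, 0, 0, 2, 0, 3, 1, 2]),
  ([1, 0, 0, 0, 1, 0, 3, 0, 2], [1, 0, 0, 0, 1, 0, 2, 0, 3]),
  ([1, 1, 0, 0, 2, 0, 0, 1, 1], [1, 3, 0, 0, 3, 0, 0, 3, 1]),
  ([1, 0, 0, 3, 1, 0, 1, 0, 1], [1, 0, 0, 3, 1, 0, 1, 0, 1]),
  ([1, 0, 0, 1, 1, 0, 2, 0, 1], [1, 0, 0, 1, 1, 0, 2, 0, 1]),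
  ([1, 0, 0, 1, 2, 2, 2, 1, 2], [1, 0, 0, 1, 2, 2, 2, 1, 2]),
  ([1, 0, 0, 2, 0, 3, 3, 2, 0], [1, 0, 0, 2, 0, 3, 3, 2, 0]),
  ([1, 2, 0, 0, 1, 0, 0, 1, 1], [1, 2, 0, 0, 1, 0, 0, 1, 1]),
  ([1, 3, 0, 0, 1, 0, 0, 2, 1], [1, 3, 0, 0, 1, 0, 0, 2, 1]),
  ([1, 2, 1, 0, 2, 0, 2, 1, 1], [2, 3, 2, 0, 3, 0, 3, 2, 2]),
  ([1, 1, 3, 0, 3, 0, 1, 3, 1], [3, 3, 2, 0, 2, 0, 3, 2, 3]),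
  ([1, 0, 0, 0, 1, 0, 0, 3, 1], [1, 0, 0, 0, 1, 0, 0, 3, 1]),
  ([1, 0, 0, 0, 1, 0, 0, 1, 1], [1, 0, 0, 0, 1, 0, 0, 1, 1]),
  ([1, 0, 0, 0, 1, 0, 2, 0, 1], [1, 0, 0, 0, 1, 0, 2, 0, 1]),
  ([1, 0, 0, 0, 1, 0, 3, 0, 1], [1, 0, 0, 0, 1, 0, 3, 0, 1]),
  ([1, 0, 0, 0, 2, 0, 0, 1, 1], [1, 0, 0, 0, 3, 0, 0, 3, 1]),
  ([1, 0, 0, 0, 3, 0, 1, 0, 3], [1, 0, 0, 0, 2, 0, 2, 0, 2]),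
  ([1, 0, 0, 0, 1, 0, 2, 1, 2], [1, 0, 0, 0, 1, 0, 1, 3, 3]),
  ([1, 1, 0, 0, 1, 0, 0, 0, 1], [1, 1, 0, 0, 1, 0, 0, 0, 1]),
  ([1, 2, 0, 0, 1, 0, 0, 0, 1], [1, 2, 0, 0, 1, 0, 0, 0, 1]),
  ([1, 2, 1, 0, 1, 0, 0, 0, 1], [1, 2, 1, 0, 1, 0, 0, 0, 1]),
  ([1, 3, 2, 0, 1, 0, 0, 0, 1], [1, 3, 2, 0, 1, 0, 0, 0, 1]),
  ([1, 0, 0, 1, 1, 0, 2, 0, 1], [1, 0, 0, 1, 1, 0, 2, 0, 1]),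
  ([1, 0, 0, 2, 1, 0, 3, 0, 1], [1, 0, 0, 2, 1, 0, 3, 0, 1]),
  ([1, 0, 0, 0, 3, 1, 0, 3, 3], [1, 0, 0, 0, 3, 1, 0, 3, 3]),
  ([1, 0, 0, 0, 2, 2, 0, 1, 2], [1, 0, 0, 0, 2, 2, 0, 1, 2]),
  ([1, 0, 0, 0, 1, 0, 1, 0, 1], [1, 0, 0, 0, 1, 0, 1, 0, 1]),
  ([1, 0, 0, 0, 1, 0, 2, 0, 1], [1, 0, 0, 0, 1, 0, 2, 0, 1]),
  ([1, 0, 0, 0, 1, 0, 0, 1, 1], [1, 0, 0, 0, 1, 0, 0, 1, 1]),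
  ([1, 0, 0, 0, 1, 0, 0, 2, 1], [1, 0, 0, 0, 1, 0, 0, 2, 1]),
  ([1, 0, 0, 0, 3, 0, 0, 0, 3], [1, 0, 0, 0, 2, 0, 0, 0, 2]),
  ([1, 0, 0, 0, 2, 0, 0, 1, 1], [1, 0, 0, 0, 3, 0, 0, 3, 1]),
  ([1, 0, 0, 0, 1, 0, 0, 1, 2], [1, 0, 0, 0, 1, 0, 0, 3, 3])]

end CfsgAutL34
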