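import Cfsg.Agent.Lib.AutL34Type.EnumChecks
import Cfsg.Agent.Lib.AutL34Type.PlaneData

/-!
Arithmetic of the field on four elements on the codes `0, 1, 2, 3`, and kernel checks on the plane.
-/

set_option autoImplicit false
set_option maxRecDepth 100000
set_option maxHeartbeats 4000000
set_option Elab.async false

namespace CfsgAutL34

/-- The product of two codes. -/
def qm (a b : ℕ) : ℕ := [0, 0, 0, 0, 0, 1, 2, 3, 0, 2, 3, 1, 0, 3, 1, 2].getD (4 * a + b) 0

/-- The sum of two codes. -/
def qa (a b : ℕ) : ℕ := [0, 1, 2, 3, 1, 0, 3, 2, 2, 3, 0, 1, 3, 2, 1, 0].getD (4 * a + b) 0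

/-- A coordinate of a point. -/
def vc (i k : ℕ) : ℕ := (planePts.getD i []).getD k 0

/-- An entry of a coded matrix. -/
def mc (A : List ℕ) (i k : ℕ) : ℕ := A.getD (3 * i + k) 0

/-- The transpose of a coded matrix. -/
def mt (A : List ℕ) : List ℕ := [mc A 0 0, mc A 1 0, mc A 2 0, mc A 0 1, mc A 1 1, mc A 2 1, mc A 0 2, mc A 1 2, mc A 2 2]

/-- A row times a column. -/
def cdot (a b c x y z : ℕ) : ℕ := qa (qa (qm a x) (qm b y)) (qm c z)

/-- Two coded matrices are inverse to each other. -/
def invChk (A B : List ℕ) : Bool :=
  decide (∀ x ∈ A, x < 4) && decide (∀ x ∈ B, x < 4) && (List.range 3).all fun i => (List.range 3).all fun j =>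
    cdot (mc A i 0) (mc A i 1) (mc A i 2) (mc B 0 j) (mc B 1 j) (mc B 2 j) == (if i = j then 1 else 0)

/-- A coded matrix takes the point `i` to the point `j`. -/
def ptChk (A : List ℕ) (i j : ℕ) : Bool :=
  decide (j < 21) && [1, 2, 3].any fun c => (List.range 3).all fun k =>
    cdot (mc A k 0) (mc A k 1) (mc A k 2) (vc i 0) (vc i 1) (vc i 2) == qm c (vc j k)

/-- A coded matrix and its inverse induce a permutation of the points and lines. -/
def psiChk (A B : List ℕ) (p : ℕ → ℕ) : Bool :=
  invChk A B && (List.range 21).all fun i => ptChk A i (p i) && decide (21 ≤ p (21 + i)) && ptChk (mt B) i (p (21 + i) - 21)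

theorem code_field : ((List.range 4).all fun a => (List.range 4).all fun b =>
    decide (qm a b < 4) && decide (qa a b < 4)) = true ∧
    planePts.length = 21 ∧ ((List.range 21).all fun i => (List.range 3).all fun k => decide (vc i k < 4)) = true := by
  decide +kernel

theorem pts_exist : ((List.range 4).all fun a => (List.range 4).all fun b => (List.range 4).all fun c =>
    (a == 0 && b == 0 && c == 0) || (List.range 21).any fun j => [1, 2, 3].any fun s =>
      qm s (vc j 0) == a && qm s (vc j 1) == b && qm s (vc j 2) == c) = true := by decide +kernel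

theorem pts_unique : ((List.range 21).all fun i => (List.range 21).all fun j => (List.range 4).all fun s =>
    !(qm s (vc i 0) == vc j 0 && qm s (vc i 1) == vc j 1 && qm s (vc i 2) == vc j 2) || i == j) = true ∧
    ((List.range 21).all fun i => vc i 0 != 0 || vc i 1 != 0 || vc i 2 != 0) = true ∧
    ([[1, 0, 0], [0, 1, 0], [0, 0, 1], [1, 1, 1]].all fun v => planePts.contains v) = true := by decide +kernel

/-- The permutation of a generator. -/
def genP (n i : ℕ) : ℕ := (planeGens.getD n (([], []), [])).2.getD i 0

theorem gens_chk : planeGens.length = 15 ∧ ((List.range 15).all fun n =>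
    psiChk (planeGens.getD n (([], []), [])).1.1 (planeGens.getD n (([], []), [])).1.2 (genP n) &&
      (List.range 42).all fun i => decide (genP n i < 42)) = true := by decide +kernel

theorem base_chk : ([0, 21].all fun b => (List.range 42).all fun k => k == b ||
      (List.range 15).any fun n => genP n b == b && genP n k != k) = true ∧
    ((List.range 42).all fun i => (planeWord.getD i []).all (fun n => decide (n < 15)) &&
      (planeWord.getD i []).foldr genP (if i < 21 then 0 else 21) == i) = true := by decide +kernel

/-- The relabelling of a code. -/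
def relabOf (g : ℕ) : List ℕ := if g = 46 then relab46 else relab62

/-- Its inverse. -/
def unlabOf (g : ℕ) : List ℕ := if g = 46 then unlab46 else unlab62

/-- The relabelled permutation of a letter. -/
def letP (g x i : ℕ) : ℕ := (relabOf g).getD (runP g [x] ((unlabOf g).getD i 0)) 0

theorem relab_chk : ([46, 62].all fun g => (List.range 42).all fun i =>
    decide ((relabOf g).getD i 0 < 42) && decide ((unlabOf g).getD i 0 < 42) &&
      (relabOf g).getD ((unlabOf g).getD i 0) 0 == i && (unlabOf g).getD ((relabOf g).getD i 0) 0 == i) = true := by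
  decide +kernel

theorem wit_chk : ([46, 62].all fun g => (List.range 5).all fun x => (List.range 15).all fun n =>
    let w := ((if g = 46 then planeWit46 else planeWit62)).getD (15 * x + n) ([], [])
    psiChk w.1 w.2 fun i => letP g (2 * x) (genP n (letP g (2 * x + 1) i))) = true ∧
    ([46, 62].all fun g => psiChk planeZ.1 planeZ.2 (letP g 8)) = true := by decide +kernel

end CfsgAutL34
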