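import Cfsg.Agent.Lib.AutL34Type.Plane
import Mathlib.GroupTheory.QuotientGroup.Basic

/-!
The image of `GL₃` on forty-two points: generators, kernel and centraliser.
-/

set_option autoImplicit false
set_option maxRecDepth 100000
set_option linter.unusedSectionVars false

namespace CfsgAutL34

open Matrix

attribute [local irreducible] qm qa vc genP letP runP

variable {F : Type*} [Field F] (C : Coef F)

namespace Coef

/-- The matrix of a generator. -/
def genMat (n : ℕ) : Matrix (Fin 3) (Fin 3) F := C.matOf (planeGens.getD n (([], []), [])).1.1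

theorem exists_gen {n : ℕ} (hn : n < 15) :
    ∃ g : GL (Fin 3) F, g.1 = C.genMat n ∧ ∀ i : Fin 42, (C.psi g i : ℕ) = genP n i := by
  have := of_range_all gens_chk.2 hn
  simp only [Bool.and_eq_true] at this
  exact C.psiChk_spec this.1

/-- The element of a generator. -/
noncomputable def gen (n : Fin 15) : GL (Fin 3) F := (C.exists_gen n.isLt).choose

theorem gen_val (n : Fin 15) : (C.gen n).1 = C.genMat n := (C.exists_gen n.isLt).choose_spec.1

theorem gen_perm (n : Fin 15) (i : Fin 42) : (C.psi (C.gen n) i : ℕ) = genP n i :=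
  (C.exists_gen n.isLt).choose_spec.2 i

/-- The matrices of the group generated. -/
def InGen (M : Matrix (Fin 3) (Fin 3) F) : Prop :=
  ∃ g ∈ Subgroup.closure (Set.range C.gen), (g : GL (Fin 3) F).1 = M

theorem inGen_gen (n : Fin 15) : C.InGen (C.genMat n) :=
  ⟨_, Subgroup.subset_closure ⟨n, rfl⟩, C.gen_val n⟩

theorem inGen_mul {M N : Matrix (Fin 3) (Fin 3) F} (hM : C.InGen M) (hN : C.InGen N) : C.InGen (M * N) := by
  obtain ⟨g, hg, rfl⟩ := hM
  obtain ⟨h, hh, rfl⟩ := hN
  exact ⟨g * h, mul_mem hg hh, rfl⟩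

theorem inGen_one : C.InGen 1 := ⟨1, one_mem _, rfl⟩

theorem inGen_pow {M : Matrix (Fin 3) (Fin 3) F} (hM : C.InGen M) : ∀ k : ℕ, C.InGen (M ^ k)
  | 0 => by rw [pow_zero]; exact C.inGen_one
  | k + 1 => by rw [pow_succ]; exact C.inGen_mul (inGen_pow hM k) hM

theorem inGen_transvection {i j : Fin 3} (hij : i ≠ j) (c : F) : C.InGen (transvection i j c) := by
  have base : ∀ i j : Fin 3, i ≠ j → C.InGen (transvection i j (C.el 1)) ∧ C.InGen (transvection i j (C.el 2)) := by
    intro i j hij
    have key : ∀ (n : Fin 15) (i j : Fin 3) (a : ℕ),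
        (∀ k l : Fin 3, mc (planeGens.getD n (([], []), [])).1.1 k l =
          if k = l then 1 else if i = k ∧ j = l then a else 0) → i ≠ j → C.InGen (transvection i j (C.el a)) := by
      intro n i j a h hij
      have he : C.genMat n = transvection i j (C.el a) := by
        ext k l
        show C.el (mc _ k l) = _
        rw [h k l, transvection, Matrix.add_apply, Matrix.one_apply, Matrix.single_apply]
        split_ifs with h1 h2
        · exact absurd (h2.1.trans (h1.trans h2.2.symm)) hij
        · rw [C.e1, add_zero]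
        · rw [zero_add]
        · rw [C.e0, add_zero]
      rw [← he]
      exact C.inGen_gen n
    fin_cases i <;> fin_cases j <;> first
      | exact absurd rfl hij
      | exact ⟨key 0 0 1 1 (by decide +kernel) (by decide), key 1 0 1 2 (by decide +kernel) (by decide)⟩
      | exact ⟨key 2 0 2 1 (by decide +kernel) (by decide), key 3 0 2 2 (by decide +kernel) (by decide)⟩
      | exact ⟨key 4 1 0 1 (by decide +kernel) (by decide), key 5 1 0 2 (by decide +kernel) (by decide)⟩
      | exact ⟨key 6 1 2 1 (by decide +kernel) (by decide), key 7 1 2 2 (by decide +kernel) (by decide)⟩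
      | exact ⟨key 8 2 0 1 (by decide +kernel) (by decide), key 9 2 0 2 (by decide +kernel) (by decide)⟩
      | exact ⟨key 10 2 1 1 (by decide +kernel) (by decide), key 11 2 1 2 (by decide +kernel) (by decide)⟩
  obtain ⟨a, ha, rfl⟩ := C.surj c
  obtain ⟨h1, h2⟩ := base i j hij
  interval_cases a
  · rw [C.e0, transvection_zero]; exact C.inGen_one
  · exact h1
  · exact h2
  · rw [show C.el 3 = C.el 1 + C.el 2 by
        rw [← C.hadd 1 (by norm_num) 2 (by norm_num), show qa 1 2 = 3 by decide +kernel],
      ← transvection_mul_transvection_same (h := hij)]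
    exact C.inGen_mul h1 h2

theorem inGen_diagonal {D : Fin 3 → F} (hD : ∀ i, D i ≠ 0) : C.InGen (diagonal D) := by
  have hdil : ∀ i : Fin 3, C.InGen (diagonal (Function.update (1 : Fin 3 → F) i (C.el 2))) := by
    have key : ∀ (n : Fin 15) (i : Fin 3),
        (∀ k l : Fin 3, mc (planeGens.getD n (([], []), [])).1.1 k l =
          if k = l then (if k = i then 2 else 1) else 0) →
        C.InGen (diagonal (Function.update (1 : Fin 3 → F) i (C.el 2))) := by
      intro n i h
      have he : C.genMat n = diagonal (Function.update (1 : Fin 3 → F) i (C.el 2)) := by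
        ext k l
        show C.el (mc _ k l) = _
        rw [h k l, Matrix.diagonal_apply]
        split_ifs with h1 h2
        · rw [h2, Function.update_self]
        · rw [Function.update_of_ne h2, Pi.one_apply, C.e1]
        · exact C.e0
      rw [← he]
      exact C.inGen_gen n
    intro i
    fin_cases i
    exacts [key 12 0 (by decide +kernel), key 13 1 (by decide +kernel), key 14 2 (by decide +kernel)]
  have hex : ∀ i, ∃ k : ℕ, C.el 2 ^ k = D i := by
    intro i
    obtain ⟨a, ha, e⟩ := C.surj (D i)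
    interval_cases a
    · exact absurd (e.symm.trans C.e0) (hD i)
    · exact ⟨0, by rw [pow_zero, ← C.e1, e]⟩
    · exact ⟨1, by rw [pow_one, e]⟩
    · exact ⟨2, by rw [sq, ← C.hmul 2 (by norm_num) 2 (by norm_num), show qm 2 2 = 3 by decide +kernel, e]⟩
  choose k hk using hex
  rw [show diagonal D = diagonal (Function.update (1 : Fin 3 → F) 0 (C.el 2)) ^ k 0 *
      diagonal (Function.update (1 : Fin 3 → F) 1 (C.el 2)) ^ k 1 *
      diagonal (Function.update (1 : Fin 3 → F) 2 (C.el 2)) ^ k 2 by
    rw [diagonal_pow, diagonal_pow, diagonal_pow, diagonal_mul_diagonal, diagonal_mul_diagonal]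
    congr 1
    funext i
    fin_cases i <;> simp [← hk]]
  exact C.inGen_mul (C.inGen_mul (C.inGen_pow (hdil 0) _) (C.inGen_pow (hdil 1) _)) (C.inGen_pow (hdil 2) _)

theorem closure_gen : Subgroup.closure (Set.range C.gen) = ⊤ := by
  rw [Subgroup.eq_top_iff']
  intro g
  obtain ⟨L, L', D, e⟩ := Pivot.exists_list_transvec_mul_diagonal_mul_list_transvec g.1
  have hprod : ∀ L : List (TransvectionStruct (Fin 3) F), C.InGen (L.map TransvectionStruct.toMatrix).prod := by
    intro L
    induction L with
    | nil => rw [List.map_nil, List.prod_nil]; exact C.inGen_one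
    | cons t L ih => rw [List.map_cons, List.prod_cons]; exact C.inGen_mul (C.inGen_transvection t.hij t.c) ih
  have hD : ∀ i, D i ≠ 0 := by
    have hd := ((Matrix.isUnit_iff_isUnit_det _).mp g.isUnit).ne_zero
    rw [e, det_mul, det_mul, det_diagonal] at hd
    exact fun i => Finset.prod_ne_zero_iff.1 (right_ne_zero_of_mul (left_ne_zero_of_mul hd)) i (Finset.mem_univ i)
  obtain ⟨h, hh, he⟩ := C.inGen_mul (C.inGen_mul (hprod L) (C.inGen_diagonal hD)) (hprod L')
  rwa [show g = h from Units.ext (e.trans he.symm)]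

/-- A permutation commuting with the generators is trivial. -/
theorem eq_one_of_commute {s : Equiv.Perm (Fin 42)} (h : ∀ n, s * C.psi (C.gen n) = C.psi (C.gen n) * s) : s = 1 := by
  have hs : ∀ (n : Fin 15) (i j : Fin 42), (j : ℕ) = genP n i → (s j : ℕ) = genP n (s i) := by
    intro n i j hj
    rw [← C.gen_perm n (s i)]
    have e := congrArg (fun q : Equiv.Perm (Fin 42) => q i) (h n)
    simp only [Equiv.Perm.mul_apply] at e
    rw [← e, show j = C.psi (C.gen n) i from Fin.ext (hj.trans (C.gen_perm n i).symm)]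
  have hb : ∀ b : Fin 42, (b : ℕ) = 0 ∨ (b : ℕ) = 21 → s b = b := by
    intro b hb
    have := of_range_all (List.all_eq_true.1 base_chk.1 b (by simp; omega)) (s b).isLt
    simp only [Bool.or_eq_true, beq_iff_eq, List.any_eq_true, List.mem_range, Bool.and_eq_true, bne_iff_ne] at this
    rcases this with e | ⟨n, hn, e1, e2⟩
    · exact Fin.ext e
    · exact absurd (hs ⟨n, hn⟩ b b e1.symm).symm e2
  refine Equiv.ext fun i => ?_
  have hw := of_range_all base_chk.2 i.isLt
  simp only [Bool.and_eq_true, List.all_eq_true, decide_eq_true_eq, beq_iff_eq] at hw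
  have key : ∀ (w : List ℕ), (∀ n ∈ w, n < 15) → ∀ b : Fin 42, s b = b →
      ∃ j : Fin 42, (j : ℕ) = w.foldr genP b ∧ s j = j := by
    intro w
    induction w with
    | nil => intro _ b hb; exact ⟨b, rfl, hb⟩
    | cons n w ih =>
      intro hn b hb
      obtain ⟨j, hj, e⟩ := ih (fun m hm => hn m (List.mem_cons_of_mem _ hm)) b hb
      have hn' := hn n (List.mem_cons_self ..)
      refine ⟨C.psi (C.gen ⟨n, hn'⟩) j, by rw [C.gen_perm, List.foldr_cons, hj], ?_⟩
      refine Fin.ext ?_
      rw [hs ⟨n, hn'⟩ j _ (C.gen_perm ⟨n, hn'⟩ j), e, C.gen_perm]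
  obtain ⟨j, hj, e⟩ := key _ hw.1 ⟨if (i : ℕ) < 21 then 0 else 21, by split_ifs <;> norm_num⟩
    (hb _ (by show _ ∨ _; split_ifs <;> simp))
  obtain rfl : j = i := Fin.ext (hj.trans hw.2)
  rw [e, Equiv.Perm.one_apply]

theorem eq_one_of_commute_range {s : Equiv.Perm (Fin 42)} (h : ∀ g, s * C.psi g = C.psi g * s) : s = 1 :=
  C.eq_one_of_commute fun n => h _

theorem psi_ker : C.psi.ker = Subgroup.center (GL (Fin 3) F) := by
  ext g
  rw [MonoidHom.mem_ker]
  constructor
  · intro hg
    have hfix : ∀ i : Fin 21, SameLine (g.1 *ᵥ C.vec i) (C.vec i) := fun i => by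
      have h1 := C.psi_left g i
      rw [hg, Equiv.Perm.one_apply, Fin.val_castAdd] at h1
      have h2 := C.img_spec g i
      rwa [show C.img g i = i from Fin.ext h1.symm] at h2
    have hv : ∀ v ∈ ([[1, 0, 0], [0, 1, 0], [0, 0, 1], [1, 1, 1]] : List (List ℕ)),
        ∃ c : F, g.1 *ᵥ (fun k : Fin 3 => C.el (v.getD k 0)) = c • fun k : Fin 3 => C.el (v.getD k 0) := by
      intro v hv
      have hm := List.all_eq_true.1 pts_unique.2.2 v hv
      simp only [List.contains_iff_mem] at hm
      obtain ⟨i, hi, e⟩ := List.getElem_of_mem hm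
      have hi' : i < 21 := by rw [← code_field.2.1]; exact hi
      obtain ⟨c, -, hc⟩ := hfix ⟨i, hi'⟩
      refine ⟨c, ?_⟩
      have : C.vec i = fun k : Fin 3 => C.el (v.getD k 0) := by
        funext k
        show C.el (vc i k) = _
        rw [show vc i k = v.getD k 0 by unfold vc; rw [List.getD_eq_getElem _ _ hi, e]]
      simpa only [this] using hc
    obtain ⟨a, ha⟩ := hv _ (List.mem_cons_self ..)
    obtain ⟨b, hb⟩ := hv [0, 1, 0] (by simp)
    obtain ⟨c, hc⟩ := hv [0, 0, 1] (by simp)
    obtain ⟨d, hd⟩ := hv [1, 1, 1] (by simp)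
    have col : ∀ (v : List ℕ) (t : F),
        (g.1 *ᵥ fun k : Fin 3 => C.el (v.getD k 0)) = t • (fun k : Fin 3 => C.el (v.getD k 0)) →
        (g.1 0 0 * C.el (v.getD 0 0) + g.1 0 1 * C.el (v.getD 1 0) + g.1 0 2 * C.el (v.getD 2 0) = t * C.el (v.getD 0 0)) ∧
        (g.1 1 0 * C.el (v.getD 0 0) + g.1 1 1 * C.el (v.getD 1 0) + g.1 1 2 * C.el (v.getD 2 0) = t * C.el (v.getD 1 0)) ∧
        (g.1 2 0 * C.el (v.getD 0 0) + g.1 2 1 * C.el (v.getD 1 0) + g.1 2 2 * C.el (v.getD 2 0) = t * C.el (v.getD 2 0)) := by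
      intro v t h
      have h0 := congrFun h 0
      have h1 := congrFun h 1
      have h2 := congrFun h 2
      simp only [Matrix.mulVec, dotProduct, Fin.sum_univ_three, Pi.smul_apply, smul_eq_mul] at h0 h1 h2
      exact ⟨h0, h1, h2⟩
    have ha' := col _ _ ha
    have hb' := col _ _ hb
    have hc' := col _ _ hc
    have hd' := col _ _ hd
    simp only [List.getD_cons_zero, List.getD_cons_succ, C.e0, C.e1, mul_zero, mul_one, add_zero, zero_add] at ha' hb' hc' hd'
    have e : g.1 = Matrix.scalar (Fin 3) d := by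
      obtain ⟨a0, a1, a2⟩ := ha'
      obtain ⟨b0, b1, b2⟩ := hb'
      obtain ⟨c0, c1, c2⟩ := hc'
      obtain ⟨d0, d1, d2⟩ := hd'
      rw [a0, b0, c0] at d0
      rw [a1, b1, c1] at d1
      rw [a2, b2, c2] at d2
      simp only [add_zero, zero_add] at d0 d1 d2
      ext i j
      fin_cases i <;> fin_cases j <;> simp [Matrix.scalar_apply, a0, a1, a2, b0, b1, b2, c0, c1, c2, d0, d1, d2]
    rw [Subgroup.mem_center_iff]
    intro h
    apply Units.ext
    rw [Units.val_mul, Units.val_mul, e]
    exact ((Matrix.scalar_commute d (fun r => Commute.all d r) h.1).eq).symm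
  · intro hg
    have hp : ∀ g ∈ Subgroup.center (GL (Fin 3) F), ∀ i, C.img g i = i := by
      intro g hg i
      rw [GeneralLinearGroup.center_eq_range_scalar] at hg
      obtain ⟨u, rfl⟩ := hg
      refine C.img_eq ⟨u, u.ne_zero, ?_⟩
      funext k
      simp [Matrix.mulVec, dotProduct, Matrix.diagonal_apply]
    have hd : CfsgLib.PSLn.dualGL g ∈ Subgroup.center (GL (Fin 3) F) := by
      rw [Subgroup.mem_center_iff]
      intro h
      have hinv : ∀ x : GL (Fin 3) F, CfsgLib.PSLn.dualGL (CfsgLib.PSLn.dualGL x) = x := fun x => Units.ext (by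
        rw [CfsgLib.PSLn.coe_dualGL, ← map_inv, CfsgLib.PSLn.coe_dualGL, inv_inv, Matrix.transpose_transpose])
      rw [← hinv h, ← map_mul, Subgroup.mem_center_iff.1 hg, map_mul]
    refine Equiv.ext fun i => ?_
    refine Fin.addCases (m := 21) (n := 21) (fun i => ?_) (fun i => ?_) i
    · exact Fin.ext (by rw [C.psi_left, hp g hg, Equiv.Perm.one_apply, Fin.val_castAdd])
    · exact Fin.ext (by rw [C.psi_right, hp _ hd, Equiv.Perm.one_apply, Fin.val_natAdd])

/-- The group of collineations and the image on forty-two points. -/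
noncomputable def quotEquiv : GL (Fin 3) F ⧸ Subgroup.center (GL (Fin 3) F) ≃* ↥C.psi.range :=
  (QuotientGroup.quotientMulEquivOfEq C.psi_ker.symm).trans (QuotientGroup.quotientKerEquivRange C.psi)

theorem quotEquiv_mk (g : GL (Fin 3) F) : (C.quotEquiv (QuotientGroup.mk g) : Equiv.Perm (Fin 42)) = C.psi g := rfl

end Coef

end CfsgAutL34
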