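import Cfsg.Agent.Lib.AutL34Type.PermRep
import Cfsg.Agent.Lib.AutL34Type.PlaneImage
import Cfsg.Agent.Lib.AutL34Type.AutBound

/-!
The generated subgroup is the automorphism group of `PGL₃` over four elements.
-/

set_option autoImplicit false
set_option maxRecDepth 100000
set_option linter.unusedSectionVars false

namespace CfsgAutL34

open Matrix Enum

attribute [local irreducible] pMul pOf pT mconj mmul minv pP qWord runP qm qa vc genP

variable {G : Type*} [Group G] [Finite G] {z : G} {φ : ℕ → G} {r σ : G} {γ : ℕ}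

/-- The relabelling of the forty-two indices. -/
theorem exists_relab (hγ : γ ∈ ([46, 62] : List ℕ)) :
    ∃ s : Equiv.Perm (Fin 42), (∀ i, (s i : ℕ) = (relabOf γ).getD i 0) ∧ ∀ i, (s⁻¹ i : Fin 42).val = (unlabOf γ).getD i 0 := by
  have h : ∀ i : Fin 42, (relabOf γ).getD i 0 < 42 ∧ (unlabOf γ).getD i 0 < 42 ∧
      (relabOf γ).getD ((unlabOf γ).getD i 0) 0 = i ∧ (unlabOf γ).getD ((relabOf γ).getD i 0) 0 = i := fun i => by
    have := of_range_all (List.all_eq_true.1 relab_chk γ hγ) i.isLt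
    simp only [Bool.and_eq_true, decide_eq_true_eq, beq_iff_eq] at this
    exact ⟨this.1.1.1, this.1.1.2, this.1.2, this.2⟩
  exact ⟨{ toFun := fun i => ⟨_, (h i).1⟩, invFun := fun i => ⟨_, (h i).2.1⟩,
           left_inv := fun i => Fin.ext (h i).2.2.2, right_inv := fun i => Fin.ext (h i).2.2.1 },
    fun i => rfl, fun i => rfl⟩

namespace Main

variable (D : Main z φ r σ γ)
include D

theorem exists_iso {F : Type*} [Field F] [Fintype F] (hF : Fintype.card F = 4) :
    ∃ (Φ : ↥(genSub φ σ z) ≃* MulAut (GL (Fin 3) F ⧸ Subgroup.center (GL (Fin 3) F)))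
      (t : Matrix.ProjectiveSpecialLinearGroup (Fin 3) F),
      Φ ⟨z, Subgroup.subset_closure (by simp [gensOf])⟩ = MulAut.conj (socHom t) := by
  classical
  obtain ⟨C⟩ := exists_coef hF
  obtain ⟨π, hπ, hT, hcard⟩ := D.exists_perm
  obtain ⟨s, hs, hs'⟩ := exists_relab D.hγ
  let ρ : ↥(genSub φ σ z) →* Equiv.Perm (Fin 42) := (MulAut.conj s).toMonoidHom.comp π
  let L (x : ℕ) : ↥(genSub φ σ z) := ⟨(letG (gensOf φ σ z) x)⁻¹, inv_mem (letG_mem x)⟩
  have hρ : ∀ x < 10, ∀ i : Fin 42, (ρ (L x) i : ℕ) = letP γ x i := by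
    intro x hx i
    show (s (π (L x) (s⁻¹ i)) : ℕ) = _
    rw [hs, hT x hx, hs']
    rfl
  have hLinv : ∀ x < 5, L (2 * x + 1) = (L (2 * x))⁻¹ := fun x _ => Subtype.ext (by
    show (letG (gensOf φ σ z) (2 * x + 1))⁻¹ = ((letG (gensOf φ σ z) (2 * x))⁻¹)⁻¹
    rw [show 2 * x + 1 = flipL (2 * x) by simp [flipL], letG_flip, inv_inv])
  -- the image of the collineation group is normalised
  let P := C.psi.range
  have hstep : ∀ x < 5, ∀ p ∈ P, ρ (L (2 * x)) * p * (ρ (L (2 * x)))⁻¹ ∈ P := by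
    intro x hx
    rintro _ ⟨g, rfl⟩
    have hg : g ∈ Subgroup.closure (Set.range C.gen) := by rw [C.closure_gen]; trivial
    induction hg using Subgroup.closure_induction with
    | mem g hg =>
      obtain ⟨n, rfl⟩ := hg
      have hw := of_range_all (of_range_all (List.all_eq_true.1 wit_chk.1 γ D.hγ) hx) n.isLt
      obtain ⟨g', -, hg'⟩ := C.psiChk_spec hw
      refine ⟨g', Equiv.ext fun i => Fin.ext ?_⟩
      rw [hg', Equiv.Perm.mul_apply, Equiv.Perm.mul_apply, hρ _ (by omega), ← map_inv, ← hLinv x hx, C.gen_perm,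
        hρ _ (by omega)]
    | one => rw [map_one, mul_one, mul_inv_cancel]; exact one_mem _
    | mul a b _ _ ha hb =>
      rw [map_mul, show ρ (L (2 * x)) * (C.psi a * C.psi b) * (ρ (L (2 * x)))⁻¹ =
        (ρ (L (2 * x)) * C.psi a * (ρ (L (2 * x)))⁻¹) * (ρ (L (2 * x)) * C.psi b * (ρ (L (2 * x)))⁻¹) by group]
      exact mul_mem ha hb
    | inv a _ ha =>
      rw [map_inv, show ρ (L (2 * x)) * (C.psi a)⁻¹ * (ρ (L (2 * x)))⁻¹ =
        (ρ (L (2 * x)) * C.psi a * (ρ (L (2 * x)))⁻¹)⁻¹ by group]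
      exact inv_mem ha
  have hnorm : ∀ h, ρ h ∈ Subgroup.normalizer (P : Set (Equiv.Perm (Fin 42))) := by
    have hN : ∀ x < 5, ρ (L (2 * x)) ∈ Subgroup.normalizer (P : Set (Equiv.Perm (Fin 42))) := by
      intro x hx
      refine Subgroup.mem_normalizer_iff.2 fun p => ⟨hstep x hx p, fun hp => ?_⟩
      have hmap : P.map (MulAut.conj (ρ (L (2 * x)))).toMonoidHom = P :=
        Subgroup.eq_of_le_of_card_ge (by rintro _ ⟨q, hq, rfl⟩; exact hstep x hx q hq)
          (le_of_eq (Subgroup.card_map_of_injective (MulEquiv.injective _)).symm)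
      have hp' : (MulAut.conj (ρ (L (2 * x)))) p ∈ P.map (MulAut.conj (ρ (L (2 * x)))).toMonoidHom := by
        rw [hmap]; exact hp
      obtain ⟨q, hq, e⟩ := hp'
      rwa [← (MulAut.conj (ρ (L (2 * x)))).injective e]
    rintro ⟨g, hg⟩
    have key : ∀ g (hg : g ∈ genSub φ σ z), ρ ⟨g, hg⟩ ∈ Subgroup.normalizer (P : Set (Equiv.Perm (Fin 42))) := by
      intro g hg
      induction hg using Subgroup.closure_induction with
      | mem g hg =>
        simp only [gensOf, List.mem_cons, List.not_mem_nil, or_false] at hg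
        have h5 : ∀ x < 5, ∀ hm, ρ ⟨(gensOf φ σ z).getD x 1, hm⟩ ∈ Subgroup.normalizer (P : Set (Equiv.Perm (Fin 42))) := by
          intro x hx hm
          have := inv_mem (hN x hx)
          rw [← map_inv] at this
          convert this using 2
          refine Subtype.ext ?_
          show _ = ((letG (gensOf φ σ z) (2 * x))⁻¹)⁻¹
          rw [inv_inv, letG, if_pos (by omega), show 2 * x / 2 = x by omega]
        rcases hg with rfl | rfl | rfl | rfl | rfl
        exacts [h5 0 (by norm_num) _, h5 1 (by norm_num) _, h5 2 (by norm_num) _, h5 3 (by norm_num) _,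
          h5 4 (by norm_num) _]
      | one => exact (map_one ρ).symm ▸ one_mem _
      | mul a b ha hb iha ihb =>
        exact (map_mul ρ ⟨a, ha⟩ ⟨b, hb⟩).symm ▸ mul_mem iha ihb
      | inv a ha iha => exact (map_inv ρ ⟨a, ha⟩).symm ▸ inv_mem iha
    exact key g hg
  -- the homomorphism to the automorphisms
  let c : ↥(genSub φ σ z) →* MulAut ↥P := P.normalizerMonoidHom.comp (ρ.codRestrict _ hnorm)
  have hcv : ∀ h (p : ↥P), ((c h p : ↥P) : Equiv.Perm (Fin 42)) = ρ h * p * (ρ h)⁻¹ := fun h p => rfl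
  have hinj : Function.Injective c := by
    rw [← MonoidHom.ker_eq_bot_iff, Subgroup.eq_bot_iff_forall]
    intro h hh
    have h1 : ρ h = 1 := C.eq_one_of_commute_range fun g => by
      have e := congrArg (fun v : ↥P => (v : Equiv.Perm (Fin 42)))
        (DFunLike.congr_fun (MonoidHom.mem_ker.1 hh) ⟨C.psi g, g, rfl⟩)
      simp only [hcv, MulAut.one_apply] at e
      exact mul_inv_eq_iff_eq_mul.1 e
    exact hπ ((MulAut.conj s).injective (h1.trans (map_one _).symm) |>.trans (map_one π).symm)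
  let Φ' : ↥(genSub φ σ z) →* MulAut (GL (Fin 3) F ⧸ Subgroup.center (GL (Fin 3) F)) :=
    (MulAut.congr C.quotEquiv.symm).toMonoidHom.comp c
  have hΦ' : Function.Injective Φ' := (MulAut.congr C.quotEquiv.symm).injective.comp hinj
  haveI : Finite (MulAut (GL (Fin 3) F ⧸ Subgroup.center (GL (Fin 3) F))) :=
    Finite.of_injective (fun f : MulAut (GL (Fin 3) F ⧸ Subgroup.center (GL (Fin 3) F)) =>
      (f : GL (Fin 3) F ⧸ Subgroup.center (GL (Fin 3) F) → GL (Fin 3) F ⧸ Subgroup.center (GL (Fin 3) F)))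
      DFunLike.coe_injective
  have hbij : Function.Bijective Φ' :=
    hΦ'.bijective_of_nat_card_le ((card_aut_le hF).trans hcard.ge)
  obtain ⟨T, hT2, hTp⟩ := C.psiChk_spec (List.all_eq_true.1 wit_chk.2 γ D.hγ)
  have hdet : Matrix.GeneralLinearGroup.det T = 1 := Units.ext (by
    show T.1.det = 1
    rw [hT2, Matrix.det_fin_three]
    have e : C.matOf planeZ.1 = !![1, 0, 0; 0, 1, 0; 0, C.el 2, 1] := by
      ext i j
      fin_cases i <;> fin_cases j <;> first | exact C.e0 | exact C.e1 | rfl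
    rw [e]
    simp)
  obtain ⟨A, hA⟩ := CfsgLib.PSLn.exists_toGL_of_det_one T hdet
  refine ⟨MulEquiv.ofBijective Φ' hbij, CfsgLib.PSLn.mk A, ?_⟩
  rw [socHom_mk, hA]
  refine MulEquiv.ext fun q => ?_
  show C.quotEquiv.symm (c _ (C.quotEquiv q)) = _
  apply C.quotEquiv.injective
  rw [MulEquiv.apply_symm_apply]
  apply Subtype.ext
  rw [MulAut.conj_apply, map_mul, map_mul, map_inv, hcv, Subgroup.coe_mul, Subgroup.coe_mul, Subgroup.coe_inv,
    C.quotEquiv_mk]
  have hz : ρ ⟨z, Subgroup.subset_closure (by simp [gensOf])⟩ = C.psi T := by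
    refine Equiv.ext fun i => Fin.ext ?_
    rw [hTp i, ← hρ 8 (by norm_num) i]
    have e : L 8 = ⟨z, Subgroup.subset_closure (by simp [gensOf])⟩ := Subtype.ext (by
      show z⁻¹ = z
      exact inv_eq_of_mul_eq_one_right D.F.B.zz)
    rw [e]
  rw [hz]

end Main

end CfsgAutL34
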