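import Cfsg.Agent.Lib.AutL34Type.EnumChecks

/-!
Kernel checks around the forty-two points.
-/

set_option autoImplicit false
set_option maxRecDepth 100000
set_option maxHeartbeats 4000000
set_option Elab.async false

namespace CfsgAutL34

/-- Words moving each index to the index of the involution. -/
def toZ (j : ℕ) : List ℕ :=
  (((qWords.map Prod.snd).filter fun w => apq (qWord qGens w) j == 2)).headD []

theorem point_misc : ([46, 62].all fun g => !AList.contains (mconj 0 g (av (apq qS 1)))) = true ∧
    ((List.range 768).all fun c => cWord (codeWord.getD c []) == c && (codeWord.getD c []).all fun x => decide (x < 6)) = true ∧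
    ((List.range 15).all fun j => apq (qWord qGens (toZ (j + 1))) (j + 1) == 2 &&
      (toZ (j + 1)).all fun x => decide (x < 3)) = true ∧
    NAList.length = 384 := by decide +kernel

end CfsgAutL34
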