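import Cfsg.Agent.Lib.AutL34Type.Points

/-!
Forty-two points and the order of the subgroup generated.
-/

set_option autoImplicit false
set_option maxRecDepth 100000
set_option linter.unusedSectionVars false

namespace CfsgAutL34

open Enum

attribute [local irreducible] pMul pOf pT mconj mmul minv pP qWord runP

variable {G : Type*} [Group G] [Finite G] {z : G} {φ : ℕ → G} {r σ : G} {γ : ℕ}

theorem table_perm : ([46, 62].all fun g => (List.range 10).all fun x => (List.range 42).all fun u =>
    (List.range 42).all fun v => u == v || runP g [x] u != runP g [x] v) = true := by decide +kernel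

/-- The points of the generated action. -/
def IsPointMap (D : Main z φ r σ γ) (f : ℕ → G ⧸ subN D.F.B) : Prop :=
  f 0 = (((1 : G) : G ⧸ subN D.F.B)) ∧
    (∀ d < 42, ∀ x < 10, runP γ [x] d < 42 ∧ (letG (gensOf φ σ z) x)⁻¹ • f d = f (runP γ [x] d)) ∧
    ∀ a < 42, ∀ b < 42, f a = f b → a = b

namespace Main

variable (D : Main z φ r σ γ)
include D

theorem code_mem {c : ℕ} (hc : c < 768) : φ c ∈ genSub φ σ z := by
  have := of_range_all point_misc.2.1 hc
  simp only [Bool.and_eq_true, List.all_eq_true, decide_eq_true_eq, beq_iff_eq] at this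
  rw [← this.1, (D.F.ev_code this.2).2]
  exact evW_mem _

/-- A member of the generated subgroup moving an index to that of the involution. -/
theorem exists_toZ {j : ℕ} (hj : j < 16) (hj0 : j ≠ 0) :
    ∃ (m : G) (q : ℕ), Acts φ m q ∧ apq q j = 2 ∧ m ∈ genSub φ σ z := by
  have := of_range_all point_misc.2.2.1 (show j - 1 < 15 by omega)
  rw [show j - 1 + 1 = j by omega] at this
  simp only [Bool.and_eq_true, List.all_eq_true, decide_eq_true_eq, beq_iff_eq] at this
  obtain ⟨-, l, hl, -, e⟩ := D.F.rep_word (toZ j)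
  refine ⟨l, qWord qGens (toZ j), hl, this.1, ?_⟩
  have hmem : ∀ (w : List ℕ) (n : G), n ∈ genSub φ σ z →
      w.foldl (fun acc l => acc * [φ 332, φ 140, σ].getD l 1) n ∈ genSub φ σ z := by
    intro w
    induction w with
    | nil => intro n hn; exact hn
    | cons x w ih =>
      intro n hn
      simp only [List.foldl_cons]
      refine ih _ (mul_mem hn ?_)
      by_cases hx : x < 3
      · interval_cases x
        exacts [Subgroup.subset_closure (by simp [gensOf]), Subgroup.subset_closure (by simp [gensOf]),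
          Subgroup.subset_closure (by simp [gensOf])]
      · rw [List.getD_eq_default _ _ (by simpa using hx)]
        exact one_mem _
  have h := hmem (toZ j) 1 (one_mem _)
  rw [e] at h
  simpa [D.F.B.av_zero] using h

/-- The normaliser lies in the generated subgroup. -/
theorem N_le : subN D.F.B ≤ genSub φ σ z := by
  intro n hn
  obtain ⟨q, hq⟩ := D.mem_N_iff.1 hn
  have hj0 : apq q 2 ≠ 0 := fun h => by
    have := hq 2 (by norm_num)
    rw [h, D.F.B.av_zero, D.F.B.av_two, conj_eq_one_iff] at this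
    have hz := D.F.B.z2
    rw [this, orderOf_one] at hz
    omega
  obtain ⟨m, p, hm, hp, hmem⟩ := D.exists_toZ (apq_lt q 2) hj0
  obtain ⟨c, hc, e⟩ := D.F.B.code_of_acts (hm.mul hq) (by rw [apq_qMul _ _ (by norm_num), hp])
  rw [show n = m⁻¹ * φ c by rw [e]; group]
  exact mul_mem (inv_mem hmem) (D.code_mem (D.F.NA_lt hc))

/-- The order of the normaliser. -/
theorem card_N : Nat.card ↥(subN D.F.B) = 5760 := by
  classical
  have h : ∀ j : Fin 15, ∃ (m : G) (q : ℕ), Acts φ m q ∧ apq q (j + 1) = 2 ∧ m ∈ subN D.F.B := fun j => by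
    obtain ⟨m, q, hm, hq, -⟩ := D.exists_toZ (show (j : ℕ) + 1 < 16 by omega) (by omega)
    exact ⟨m, q, hm, hq, D.mem_N_iff.2 ⟨q, hm⟩⟩
  choose m q hm hq hmN using h
  have hc : ∀ c : {c : ℕ // c ∈ NAList.toFinset}, φ c.1 ∈ subN D.F.B := fun c =>
    D.mem_N_iff.2 ⟨_, D.F.B.acts_code (List.mem_toFinset.1 c.2)⟩
  have hb : Function.Bijective (fun p : Fin 15 × {c : ℕ // c ∈ NAList.toFinset} =>
      (⟨(m p.1)⁻¹ * φ p.2.1, mul_mem (inv_mem (hmN p.1)) (hc p.2)⟩ : ↥(subN D.F.B))) := by
    have hval : ∀ (j : Fin 15) (c : ℕ), c < 768 → (m j)⁻¹ * φ c * z * ((m j)⁻¹ * φ c)⁻¹ = φ (av ((j : ℕ) + 1)) := by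
      intro j c hc7
      have h1 := hm j ((j : ℕ) + 1) (by omega)
      rw [hq j, D.F.B.av_two] at h1
      calc (m j)⁻¹ * φ c * z * ((m j)⁻¹ * φ c)⁻¹ = (m j)⁻¹ * (φ c * z * (φ c)⁻¹) * m j := by group
        _ = _ := by rw [D.F.B.conj_z hc7, ← h1]; group
    refine ⟨fun a b hab => ?_, fun n => ?_⟩
    · have e : (m a.1)⁻¹ * φ a.2.1 = (m b.1)⁻¹ * φ b.2.1 := congrArg Subtype.val hab
      have ha7 := D.F.NA_lt (List.mem_toFinset.1 a.2.2)
      have hb7 := D.F.NA_lt (List.mem_toFinset.1 b.2.2)
      have h1 := hval a.1 _ ha7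
      rw [e, hval b.1 _ hb7] at h1
      have hj : a.1 = b.1 := by
        have := D.F.B.av_inj (by omega) (by omega) h1
        exact Fin.ext (by omega)
      refine Prod.ext hj (Subtype.ext ?_)
      rw [hj] at e
      exact D.F.B.inj _ ha7 _ hb7 (mul_left_cancel e)
    · obtain ⟨p, hp⟩ := D.mem_N_iff.1 n.2
      have hj0 : apq p 2 ≠ 0 := fun h => by
        have := hp 2 (by norm_num)
        rw [h, D.F.B.av_zero, D.F.B.av_two, conj_eq_one_iff] at this
        have hz := D.F.B.z2
        rw [this, orderOf_one] at hz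
        omega
      have hlt := apq_lt p 2
      obtain ⟨j, hj⟩ : ∃ j : Fin 15, (j : ℕ) + 1 = apq p 2 := ⟨⟨apq p 2 - 1, by omega⟩, by show _ - 1 + 1 = _; omega⟩
      obtain ⟨c, hc', e⟩ := D.F.B.code_of_acts ((hm j).mul hp) (by rw [apq_qMul _ _ (by norm_num), ← hj, hq])
      exact ⟨(j, ⟨c, List.mem_toFinset.2 hc'⟩), Subtype.ext (by show (m j)⁻¹ * φ c = _; rw [e]; group)⟩
  rw [← Nat.card_eq_of_bijective _ hb, Nat.card_prod, Nat.card_fin, Nat.card_eq_fintype_card, Fintype.card_coe,
    List.toFinset_card_of_nodup (show NAList.Nodup from List.nodup_range.filter _), point_misc.2.2.2]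

theorem sub_fixes : ∀ x ∈ ([0, 2, 6, 8] : List ℕ),
    stepP (gensOf φ σ z) x (((1 : G) : G ⧸ subN D.F.B)) = ((1 : G) : G ⧸ subN D.F.B) := by
  intro x hx
  have hmem : letG (gensOf φ σ z) x ∈ subN D.F.B := by
    simp only [List.mem_cons, List.not_mem_nil, or_false] at hx
    rcases hx with rfl | rfl | rfl | rfl
    exacts [D.mem_N_iff.2 ⟨_, D.F.B.acts_code D.F.B.NA_332.1⟩, D.mem_N_iff.2 ⟨_, D.F.B.acts_code D.F.B.NA_332.2⟩,
      D.mem_N_iff.2 ⟨_, D.F.hs⟩, D.mem_N_iff.2 ⟨_, show Acts φ z qI from D.F.B.av_two ▸ D.F.B.acts_av (by norm_num)⟩]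
  show (letG (gensOf φ σ z) x)⁻¹ • ((1 : G) : G ⧸ subN D.F.B) = _
  rw [MulAction.Quotient.smul_mk, smul_eq_mul, mul_one, QuotientGroup.eq, inv_inv, mul_one]
  exact hmem

theorem run_cons (x : ℕ) (w : List ℕ) (d : ℕ) : runP γ (x :: w) d = runP γ w (runP γ [x] d) := by
  unfold runP; rfl

/-- The forty-two points. -/
theorem exists_points : ∃ f : ℕ → G ⧸ subN D.F.B, IsPointMap D f := by
  classical
  have hrows := List.all_eq_true.1 rows_pt γ D.hγ
  simp only [Bool.and_eq_true, List.all_eq_true, List.mem_range, beq_iff_eq, decide_eq_true_eq] at hrows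
  obtain ⟨⟨⟨⟨⟨hrow, hrep0⟩, h3000⟩, hsize⟩, hlet⟩, hsub⟩ := hrows
  have hok : ∀ j < (ptCert γ).nf, (ptCert γ).okFact j = true := by
    intro j hj
    have hchunks : (ptCert γ).okFacts 0 1500 = true ∧ (ptCert γ).okFacts 1500 1500 = true ∧
        (ptCert γ).okFacts 3000 ((ptCert γ).nf - 3000) = true := by
      have hg := D.hγ
      simp only [List.mem_cons, List.not_mem_nil, or_false] at hg
      rcases hg with rfl | rfl
      exacts [⟨facts46a, facts46b, facts46c⟩, ⟨facts62a, facts62b, facts62c⟩]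
    simp only [Cert.okFacts, List.all_eq_true, List.mem_range] at hchunks
    obtain ⟨h1, h2, h3⟩ := hchunks
    by_cases hj1 : j < 1500
    · simpa using h1 j hj1
    by_cases hj2 : j < 3000
    · have := h2 (j - 1500) (by omega)
      rwa [show 1500 + (j - 1500) = j by omega] at this
    · have := h3 (j - 3000) (by omega)
      rwa [show 3000 + (j - 3000) = j by omega] at this
  obtain ⟨f, hf0, hf⟩ := Enum.table_sound (L := gensOf φ σ z) (base := (((1 : G) : G ⧸ subN D.F.B))) (C := ptCert γ)
    (by simp [gensOf]) (hsub ▸ D.sub_fixes)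
    (by
      have hr := rulesOf_ok (L := gensOf φ σ z) (by simp [gensOf]) D.rels_hold
      have hg := D.hγ
      simp only [List.mem_cons, List.not_mem_nil, or_false] at hg
      rcases hg with rfl | rfl
      · exact hr P46.spec
      · exact hr P62.spec)
    hok (fun d hd => hrow d (hsize ▸ hd)) hrep0
  have hstep : ∀ d < 42, ∀ x < 10, runP γ [x] d < 42 ∧ (letG (gensOf φ σ z) x)⁻¹ • f d = f (runP γ [x] d) := by
    intro d hd x hx
    have := hf d (hsize.symm ▸ hd) x (hlet.symm ▸ hx)
    rw [hsize] at this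
    unfold runP
    exact this
  have hrun : ∀ (w : List ℕ), (∀ x ∈ w, x < 10) → ∀ d < 42,
      runP γ w d < 42 ∧ (evW (gensOf φ σ z) w)⁻¹ • f d = f (runP γ w d) := by
    intro w
    induction w with
    | nil =>
      intro _ d hd
      rw [show runP γ [] d = d by unfold runP; rfl, evW_nil, inv_one, one_smul]
      exact ⟨hd, rfl⟩
    | cons x w ih =>
      intro hw d hd
      obtain ⟨h1, h2⟩ := hstep d hd x (hw x (List.mem_cons_self ..))
      obtain ⟨h3, h4⟩ := ih (fun y hy => hw y (List.mem_cons_of_mem _ hy)) _ h1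
      rw [D.run_cons, evW_cons, mul_inv_rev, mul_smul, h2]
      exact ⟨h3, h4⟩
  refine ⟨f, hf0, hstep, ?_⟩
  have hap := List.all_eq_true.1 apart_ok γ D.hγ
  simp only [Bool.and_eq_true, List.all_eq_true, List.mem_range, beq_iff_eq, Bool.or_eq_true,
    decide_eq_true_eq] at hap
  obtain ⟨⟨htb, hq⟩, -⟩ := hap
  -- the targets are not the base point
  have hgwv := D.gw_val
  have hgw10 : ∀ x ∈ gwOf γ, x < 10 := fun x hx => by have := hgwv.2 x hx; omega
  have hγN : φ γ ∉ subN D.F.B := by
    intro h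
    obtain ⟨q, hq'⟩ := D.mem_N_iff.1 h
    have h2 : apq q 2 = 2 := by
      have := hq' 2 (by norm_num)
      rw [D.F.B.av_two, D.F.B.conj_z D.γ_facts.1] at this
      exact D.F.B.av_inj (apq_lt q 2) (by norm_num) (this.symm.trans D.F.B.av_two.symm)
    obtain ⟨c, hc, e⟩ := D.F.B.code_of_acts hq' h2
    exact D.γ_facts.2.2.2.2 (D.F.B.inj _ (D.F.NA_lt hc) _ D.γ_facts.1 e ▸ hc)
  have htarget : ∀ t : G, t ∉ subN D.F.B → ∀ w : List ℕ, (∀ x ∈ w, x < 10) → evW (gensOf φ σ z) w = t →
      f 0 ≠ f (runP γ w 0) := by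
    intro t ht w hw e h
    have := (hrun w hw 0 (by norm_num)).2
    rw [← h, hf0, e, MulAction.Quotient.smul_mk, smul_eq_mul, mul_one, QuotientGroup.eq, inv_inv, mul_one] at this
    exact ht this
  have ht2 : φ γ * σ * φ γ ∉ subN D.F.B := by
    intro h
    have hx : φ (av 1) ∈ subA D.F.B := ⟨1, by norm_num, rfl⟩
    have h1 := (Subgroup.mem_normalizer_iff.1 h _).1 hx
    obtain ⟨i, hi, e⟩ := h1
    have hmem := List.all_eq_true.1 point_misc.1 γ D.hγ
    have hav1 : φ γ * φ (av 1) * (φ γ)⁻¹ = φ (av 1) := by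
      show φ γ * φ 1 * (φ γ)⁻¹ = φ 1
      rw [D.γ_facts.2.2.2.1, mul_inv_cancel_right]
    have e2 : φ (av i) = φ (mconj 0 γ (av (apq qS 1))) := by
      rw [e, D.F.B.conj D.γ_facts.1 (vrow (apq_lt _ _)).1, ← D.F.hs 1 (by norm_num)]
      conv_rhs => rw [← hav1]
      rw [D.γ_inv]
      simp only [mul_inv_rev, D.γ_inv, mul_assoc]
    have e3 := D.F.B.inj _ (vrow hi).1 _ (D.F.B.conj_lt D.γ_facts.1 (vrow (apq_lt _ _)).1) e2
    simp only [Bool.not_eq_true'] at hmem
    have h' := List.contains_iff_mem.2 (e3 ▸ (vrow hi).2.1)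
    rw [hmem] at h'
    exact Bool.false_ne_true h'
  have hbase : ∀ d < 42, d ≠ 0 → f 0 ≠ f d := by
    intro d hd hd0 heq
    have hj := hq (d - 1) (by omega)
    rw [show d - 1 + 1 = d by omega] at hj
    have hder : ∀ (es : List ℕ) (acc : List (ℕ × ℕ)), (∀ p ∈ acc, p.1 < 42 ∧ p.2 < 42 ∧ f p.1 = f p.2) →
        ∀ p ∈ derive γ d es acc, p.1 < 42 ∧ p.2 < 42 ∧ f p.1 = f p.2 := by
      intro es
      induction es with
      | nil => intro acc h; exact h
      | cons e es ih =>
        intro acc h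
        simp only [derive]
        refine ih _ ?_
        intro p hp
        rw [List.mem_append, List.mem_singleton] at hp
        rcases hp with hp | rfl
        · exact h p hp
        have hget : ∀ i, (acc.getD i (0, 0)).1 < 42 ∧ (acc.getD i (0, 0)).2 < 42 ∧
            f (acc.getD i (0, 0)).1 = f (acc.getD i (0, 0)).2 := by
          intro i
          by_cases hi : i < acc.length
          · rw [List.getD_eq_getElem _ _ hi]; exact h _ (List.getElem_mem hi)
          · rw [List.getD_eq_default _ _ (not_lt.1 hi)]; exact ⟨by norm_num, by norm_num, rfl⟩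
        obtain ⟨g1, g2, g3⟩ := hget (e / 64)
        split_ifs with c1 c2 c3
        · by_cases hx : e / 4 % 16 < 10
          · obtain ⟨a1, a2⟩ := hstep _ g1 _ hx
            obtain ⟨b1, b2⟩ := hstep _ g2 _ hx
            exact ⟨a1, b1, by rw [← a2, ← b2, g3]⟩
          · have hrun0 : ∀ v, v < 42 → runP γ [e / 4 % 16] v = 0 := by
              intro v hv
              unfold runP
              simp only [List.foldl_cons, List.foldl_nil]
              rw [List.getD_eq_default]
              · unfold CfsgPC.ap; simp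
              · have hlen : (ptCert γ).codes.length ≤ 10 := by
                  have hg := D.hγ
                  simp only [List.mem_cons, List.not_mem_nil, or_false] at hg
                  rcases hg with rfl | rfl <;> decide +kernel
                omega
            rw [hrun0 _ g1, hrun0 _ g2]
            exact ⟨by norm_num, by norm_num, rfl⟩
        · exact ⟨g2, g1, g3.symm⟩
        · obtain ⟨a1, a2, a3⟩ := hget (e / 64 % 1000)
          obtain ⟨b1, b2, b3⟩ := hget (e / 64 / 1000)
          exact ⟨a1, b2, by rw [a3, c3, b3]⟩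
        · exact hget (e / 64 % 1000)
    obtain ⟨apl, hapl⟩ : ∃ l, (if γ = 46 then apart46 else apart62).getD (d - 1) (0, []) = l := ⟨_, rfl⟩
    rw [hapl] at hj
    obtain ⟨q, hqdef⟩ : ∃ q, (derive γ d apl.2 [(0, d)]).getD apl.1 (0, 0) = q := ⟨_, rfl⟩
    rw [hqdef] at hj
    have hqf : f q.1 = f q.2 := by
      rw [← hqdef]
      by_cases hi : apl.1 < (derive γ d apl.2 [(0, d)]).length
      · rw [List.getD_eq_getElem _ _ hi]
        refine (hder _ _ ?_ _ (List.getElem_mem hi)).2.2
        simp only [List.mem_singleton]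
        rintro p rfl
        exact ⟨by norm_num, hd, heq⟩
      · rw [List.getD_eq_default _ _ (not_lt.1 hi)]
    rw [hj.1] at hqf
    rcases hj.2 with h | h
    · exact htarget _ hγN _ hgw10 hgwv.1 (h ▸ hqf)
    · refine htarget _ ht2 (gwOf γ ++ [6] ++ gwOf γ) (fun x hx => ?_) ?_ (h ▸ hqf)
      · simp only [List.mem_append, List.mem_singleton] at hx
        rcases hx with (hx | rfl) | hx
        exacts [hgw10 x hx, by norm_num, hgw10 x hx]
      · rw [evW_append, evW_append, hgwv.1, evW_one]; rfl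
  intro a ha b hb hab
  obtain ⟨hta, hta'⟩ := htb a ha
  obtain ⟨h1, h2⟩ := hrun _ hta' a ha
  obtain ⟨h3, h4⟩ := hrun _ hta' b hb
  rw [hab] at h2
  have := h2.symm.trans h4
  rw [hta] at this
  by_contra hne
  by_cases h0 : runP γ ((if γ = 46 then toBase46 else toBase62).getD a []) b = 0
  · -- running a word is injective
    have key : ∀ (w : List ℕ), (∀ x ∈ w, x < 10) → ∀ u v, u < 42 → v < 42 → runP γ w u = runP γ w v → u = v := by
      intro w
      induction w with
      | nil => intro _ u v _ _ h; unfold runP at h; exact h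
      | cons x w ih =>
        intro hw u v hu hv h
        rw [D.run_cons x w u, D.run_cons x w v] at h
        have hx := hw x (List.mem_cons_self ..)
        have h' := ih (fun y hy => hw y (List.mem_cons_of_mem _ hy)) _ _ (hstep u hu x hx).1 (hstep v hv x hx).1 h
        have := of_range_all (of_range_all (of_range_all (List.all_eq_true.1 table_perm γ D.hγ) hx) hu) hv
        simpa [h'] using this
    exact hne (key _ hta' a b ha hb (hta.trans h0.symm))
  · exact hbase _ h3 h0 this

end Main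

end CfsgAutL34
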