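import Cfsg.Agent.Lib.AutL34Type.Braid
import Cfsg.Agent.Lib.AutL34Type.PointChecks
import Mathlib.GroupTheory.GroupAction.Quotient

/-!
The forty-two conjugates of the abelian subgroup reached by the generators.
-/

set_option autoImplicit false
set_option maxRecDepth 100000
set_option linter.unusedSectionVars false

namespace CfsgAutL34

open Enum

attribute [local irreducible] pMul pOf pT mconj mmul minv pP qWord

variable {G : Type*} [Group G] {z : G} {φ : ℕ → G} {r σ : G} {γ : ℕ}

/-- The generators. -/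
def gensOf (φ : ℕ → G) (σ z : G) : List G := [φ 332, φ 140, φ 2, σ, z]

/-- The subgroup they generate. -/
def genSub (φ : ℕ → G) (σ z : G) : Subgroup G := Subgroup.closure {g | g ∈ gensOf φ σ z}

theorem letG_mem (x : ℕ) : letG (gensOf φ σ z) x ∈ genSub φ σ z := by
  have h : ∀ i, (gensOf φ σ z).getD i 1 ∈ genSub φ σ z := fun i => by
    by_cases hi : i < (gensOf φ σ z).length
    · rw [List.getD_eq_getElem _ _ hi]; exact Subgroup.subset_closure (List.getElem_mem hi)
    · rw [List.getD_eq_default _ _ (not_lt.1 hi)]; exact one_mem _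
  unfold letG
  split_ifs
  exacts [h _, inv_mem (h _)]

theorem evW_mem (w : List ℕ) : evW (gensOf φ σ z) w ∈ genSub φ σ z := by
  induction w with
  | nil => exact one_mem _
  | cons x w ih => rw [evW_cons]; exact mul_mem (letG_mem x) ih

theorem evW_red (L : List G) : ∀ w : List ℕ, evW L (redW w) = evW L w := by
  have hc : ∀ x (w : List ℕ), evW L (redCons x w) = letG L x * evW L w := by
    intro x w
    cases w with
    | nil => simp [redCons, evW_cons]
    | cons y w =>
      show evW L (if y = flipL x then w else x :: y :: w) = _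
      split_ifs with h
      · rw [evW_cons, h, letG_flip, mul_inv_cancel_left]
      · rw [evW_cons]
  intro w
  induction w with
  | nil => rfl
  | cons x w ih =>
    show evW L (redCons x (redW w)) = _
    rw [hc, ih, evW_cons]

namespace Frame

variable (F : Frame z φ r σ)
include F

theorem let_code {x : ℕ} (hx : x < 6) : cLetter x < 768 ∧ φ (cLetter x) = letG (gensOf φ σ z) x := by
  have b : ∀ c, c = 332 ∨ c = 140 ∨ c = 2 → c < 768 := by omega
  interval_cases x
  · exact ⟨b 332 (by omega), rfl⟩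
  · exact ⟨(F.B.minv_lt (b 332 (by omega))).1, F.B.inv (b 332 (by omega))⟩
  · exact ⟨b 140 (by omega), rfl⟩
  · exact ⟨(F.B.minv_lt (b 140 (by omega))).1, F.B.inv (b 140 (by omega))⟩
  · exact ⟨b 2 (by omega), rfl⟩
  · exact ⟨(F.B.minv_lt (b 2 (by omega))).1, F.B.inv (b 2 (by omega))⟩

theorem ev_code {w : List ℕ} (hw : ∀ x ∈ w, x < 6) :
    cWord w < 768 ∧ φ (cWord w) = evW (gensOf φ σ z) w := by
  have key : ∀ (w : List ℕ) (a : ℕ), a < 768 → (∀ x ∈ w, x < 6) →
      w.foldl (fun acc x => mmul 0 acc (cLetter x)) a < 768 ∧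
        φ (w.foldl (fun acc x => mmul 0 acc (cLetter x)) a) = φ a * evW (gensOf φ σ z) w := by
    intro w
    induction w with
    | nil => intro a ha _; exact ⟨ha, by simp [evW_nil]⟩
    | cons x w ih =>
      intro a ha h
      obtain ⟨hl, hv⟩ := F.let_code (h x (List.mem_cons_self ..))
      obtain ⟨h1, h2⟩ := ih _ (F.B.mul_lt ha hl) (fun y hy => h y (List.mem_cons_of_mem _ hy))
      refine ⟨h1, ?_⟩
      simp only [List.foldl_cons]
      rw [h2, F.B.mul _ ha _ hl, hv, evW_cons, mul_assoc]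
  obtain ⟨h1, h2⟩ := key w 0 (by norm_num) hw
  exact ⟨h1, h2.trans (by rw [F.B.one, one_mul])⟩

theorem rep_sigma : Rep φ r σ (0, qS) :=
  ⟨by norm_num, σ, F.hs, F.fs, by show σ = φ (av 0) * σ; rw [F.B.av_zero, one_mul]⟩

theorem sigma_sq : σ * σ = 1 :=
  F.rep_unique (wordA_ok.2.2.2.2.2.2.2.2.2.2.2.2 ▸ F.rep_mul F.rep_sigma F.rep_sigma) F.rep_one

theorem let_pair {x : ℕ} (hx : x ∈ ([0, 1, 2, 3, 6, 7] : List ℕ)) :
    Rep φ r (letG (gensOf φ σ z) x) (nLetter x) := by
  obtain ⟨-, -, -, -, -, -, -, -, -, -, h332, h140, -⟩ := wordA_ok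
  simp only [List.mem_cons, List.not_mem_nil, or_false] at hx
  rcases hx with rfl | rfl | rfl | rfl | rfl | rfl
  · exact F.rep_code F.B.NA_332.1
  · show Rep φ r (φ 332)⁻¹ (pOf (minv 0 332))
    rw [← F.B.inv (by norm_num)]
    exact F.rep_code (List.contains_iff_mem.1 h332)
  · exact F.rep_code F.B.NA_332.2
  · show Rep φ r (φ 140)⁻¹ (pOf (minv 0 140))
    rw [← F.B.inv (by norm_num)]
    exact F.rep_code (List.contains_iff_mem.1 h140)
  · exact F.rep_sigma
  · show Rep φ r σ⁻¹ (0, qS)
    rw [inv_eq_of_mul_eq_one_right F.sigma_sq]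
    exact F.rep_sigma

theorem ev_pair {w : List ℕ} (hw : ∀ x ∈ w, x ∈ ([0, 1, 2, 3, 6, 7] : List ℕ)) :
    Rep φ r (evW (gensOf φ σ z) w) (nWord w) := by
  have key : ∀ (w : List ℕ) (n : G) (p : ℕ × ℕ), Rep φ r n p → (∀ x ∈ w, x ∈ ([0, 1, 2, 3, 6, 7] : List ℕ)) →
      Rep φ r (n * evW (gensOf φ σ z) w) (w.foldl (fun acc x => pMul acc (nLetter x)) p) := by
    intro w
    induction w with
    | nil => intro n p h _; simpa [evW_nil] using h
    | cons x w ih =>
      intro n p h hl
      simp only [List.foldl_cons]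
      rw [evW_cons, ← mul_assoc]
      exact ih _ _ (F.rep_mul h (F.let_pair (hl x (List.mem_cons_self ..)))) (fun y hy => hl y (List.mem_cons_of_mem _ hy))
  have := key w 1 pI F.rep_one hw
  rw [one_mul] at this
  unfold nWord
  exact this

theorem wordA_val {i : ℕ} (hi : i < 16) : evW (gensOf φ σ z) (wordA.getD i []) = φ (av i) := by
  have := of_range_all wordA_ok.1 hi
  simp only [Bool.and_eq_true, List.all_eq_true, decide_eq_true_eq, beq_iff_eq] at this
  rw [← (F.ev_code this.1).2, this.2]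

end Frame

/-- The abelian subgroup of order sixteen. -/
def subA (B : Base 0 z φ) : Subgroup G where
  carrier := {a | ∃ i < 16, φ (av i) = a}
  one_mem' := ⟨0, by norm_num, B.av_zero⟩
  mul_mem' := by
    rintro _ _ ⟨i, hi, rfl⟩ ⟨j, hj, rfl⟩
    exact ⟨vAdd i j, ((vrow hi).2.2.2.2.2 j hj).1, (B.av_mul hi hj).symm⟩
  inv_mem' := by
    rintro _ ⟨i, hi, rfl⟩
    exact ⟨i, hi, (B.av_inv hi).symm⟩

/-- Its normaliser. -/
def subN (B : Base 0 z φ) : Subgroup G := Subgroup.normalizer (subA B : Set G)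

namespace Main

variable [Finite G] (D : Main z φ r σ γ)
include D

theorem mem_N_iff {n : G} : n ∈ subN D.F.B ↔ ∃ q, Acts φ n q := by
  classical
  constructor
  · intro hn
    have h : ∀ i < 16, ∃ j < 16, φ (av j) = n * φ (av i) * n⁻¹ := fun i hi =>
      (Subgroup.mem_normalizer_iff.1 hn _).1 ⟨i, hi, rfl⟩
    choose! f hf1 hf2 using h
    refine ⟨packQ f, fun i hi => ?_⟩
    rw [apq_packQ hf1 hi, hf2 i hi]
  · rintro ⟨q, hq⟩
    refine Subgroup.mem_normalizer_iff.2 fun a => ⟨?_, ?_⟩
    · rintro ⟨i, hi, rfl⟩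
      exact ⟨apq q i, apq_lt q i, (hq i hi).symm⟩
    · rintro ⟨j, hj, e⟩
      have hinj : Set.InjOn (apq q) (Finset.range 16 : Set ℕ) := fun x hx y hy hxy => by
        simp only [Finset.coe_range, Set.mem_Iio] at hx hy
        refine D.F.B.av_inj hx hy ?_
        have h1 := hq x hx
        rw [hxy, ← hq y hy] at h1
        exact mul_left_cancel (mul_right_cancel h1)
      obtain ⟨i, hi, e1⟩ := Finset.surjOn_of_injOn_of_card_le (apq q) (fun x _ => Finset.mem_range.2 (apq_lt q x))
        hinj le_rfl (show j ∈ (Finset.range 16 : Set ℕ) by simpa using hj)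
      simp only [Finset.coe_range, Set.mem_Iio] at hi
      have := hq i hi
      rw [e1, e] at this
      exact ⟨i, hi, mul_left_cancel (mul_right_cancel this)⟩

theorem gw_val : evW (gensOf φ σ z) (gwOf γ) = φ γ ∧ ∀ x ∈ gwOf γ, x < 6 := by
  obtain ⟨-, h46, h62, e46, e62, -⟩ := wordA_ok
  have hg := D.hγ
  simp only [List.mem_cons, List.not_mem_nil, or_false] at hg
  simp only [List.all_eq_true, decide_eq_true_eq] at h46 h62
  rcases hg with rfl | rfl
  · exact ⟨by rw [show gwOf 46 = gw46 from rfl, ← (D.F.ev_code h46).2, e46], h46⟩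
  · exact ⟨by rw [show gwOf 62 = gw62 from rfl, ← (D.F.ev_code h62).2, e62], h62⟩

/-- The relators hold. -/
theorem rels_hold : ∀ w ∈ relsG γ, evW (gensOf φ σ z) w = 1 := by
  intro w hw
  obtain ⟨w', hw', rfl⟩ := List.mem_map.1 hw
  rw [evW_red]
  obtain ⟨-, -, -, -, -, hwords, hR, hT, hQ, hB, -⟩ := wordA_ok
  simp only [List.all_eq_true, List.contains_iff_mem] at hwords
  have erep : ∀ {u : List ℕ} {n : G} {p : ℕ × ℕ}, u ∈ [wR, wT, wQ] → nWord u = p → Rep φ r n p →
      evW (gensOf φ σ z) u = n := fun hu he hn => D.F.rep_unique (he ▸ D.F.ev_pair (fun x hx => hwords _ hu x hx)) hn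
  simp only [List.mem_append, List.mem_map, List.mem_cons, List.not_mem_nil, or_false] at hw'
  rcases hw' with ((h | h) | ⟨i, hi, rfl⟩) | rfl | rfl | rfl
  · have := List.all_eq_true.1 relsC_ok.1 _ h
    simp only [Bool.and_eq_true, List.all_eq_true, decide_eq_true_eq, beq_iff_eq] at this
    rw [← (D.F.ev_code this.1).2, this.2, D.F.B.one]
  · have := List.all_eq_true.1 relsC_ok.2 _ h
    simp only [Bool.and_eq_true, List.all_eq_true, List.contains_iff_mem, beq_iff_eq] at this
    exact D.F.rep_unique (this.2 ▸ D.F.ev_pair this.1) D.F.rep_one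
  · have hi' := List.all_eq_true.1 hB i hi
    simp only [decide_eq_true_eq] at hi'
    have h6 : evW (gensOf φ σ z) [6] = σ := by rw [evW_one]; rfl
    have h7 : evW (gensOf φ σ z) [7] = σ⁻¹ := by rw [evW_one]; rfl
    rw [evW_append, evW_append, evW_append, evW_winv, h6, h7, D.F.wordA_val hi', D.F.wordA_val (apq_lt _ _),
      D.F.hs i hi', mul_inv_cancel]
  · rw [evW_append, evW_winv, D.F.wordA_val (by norm_num : 2 < 16), D.F.B.av_two, evW_one]
    exact mul_inv_cancel z
  · rw [evW_append, evW_append, evW_append, evW_winv, evW_winv, D.gw_val.1,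
      erep (by simp) hR D.F.rep_r, erep (by simp) hT D.F.rep_pT, ← D.rel, mul_inv_cancel]
  · have hQv : evW (gensOf φ σ z) wQ = elP φ σ := erep (by simp) hQ D.rep_P
    have hpow : ∀ n : ℕ, evW (gensOf φ σ z) (List.replicate n (wQ ++ gwOf γ)).flatten = (elP φ σ * φ γ) ^ n := by
      intro n
      induction n with
      | zero => simp [evW_nil]
      | succ n ih =>
        rw [List.replicate_succ, List.flatten_cons, evW_append, ih, evW_append, hQv, D.gw_val.1, pow_succ']
    rw [hpow, D.braid]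

end Main

end CfsgAutL34
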