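import Cfsg.Agent.Lib.AutL34Type.Model2
import Cfsg.Agent.Lib.ZStar.Main
import Cfsg.Agent.Lib.Basic
import Cfsg.Agent.Lib.BaseThree.Classes
import Mathlib.GroupTheory.FixedPointFree

/-!
The hypotheses: coordinates on the centraliser, the core, and solubility when the involution is isolated.
-/

set_option autoImplicit false
set_option maxRecDepth 100000
set_option linter.unusedSectionVars false

namespace CfsgAutL34

open Cfsg

variable {G : Type*} [Group G] [Finite G]

/-- Coordinates exist. -/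
theorem exists_base (z : G) (hz : orderOf z = 2) (E : Subgroup ↥(Subgroup.centralizer ({z} : Set G))) [E.Normal]
    (hE : Cfsg.IsExtraspecial 2 ↥E) (hE32 : Nat.card ↥E = 32)
    (hno : ∀ A : Subgroup ↥E, Cfsg.IsElementaryAbelian 2 A → Nat.card ↥A ≠ 8)
    (hC : Subgroup.centralizer (E : Set ↥(Subgroup.centralizer ({z} : Set G))) ≤ E)
    (e : (↥(Subgroup.centralizer ({z} : Set G)) ⧸ E) ≃* Equiv.Perm (Fin 4)) :
    ∃ k φ, Base k z φ := by
  have hcard : Nat.card ↥(Subgroup.centralizer ({z} : Set G)) = 768 := by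
    rw [Subgroup.card_eq_card_quotient_mul_card_subgroup E, hE32, Nat.card_congr e.toEquiv, Nat.card_perm,
      Nat.card_fin]
    rfl
  obtain ⟨ψ, D, hfix⟩ := exists_eData_fix hE hE32 hno hC e
  obtain ⟨k, hk, φ, h16, hmul, hinj, hsurj⟩ := exists_coord D hC hcard hfix
  refine ⟨k, fun x => (φ x : G), hk, hz, fun x hx y hy => congrArg Subtype.val (hmul x hx y hy),
    fun x hx y hy h => hinj x hx y hy (Subtype.ext h), fun c => ⟨fun hc => ?_, ?_⟩, ?_⟩
  · obtain ⟨x, hx, hxe⟩ := hsurj ⟨c, Subgroup.mem_centralizer_singleton_iff.2 hc⟩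
    exact ⟨x, hx, congrArg Subtype.val hxe⟩
  · rintro ⟨x, -, rfl⟩
    exact Subgroup.mem_centralizer_singleton_iff.1 (φ x).2
  · have hzz : z * z = 1 := by rw [← sq, ← hz, pow_orderOf_eq_one]
    obtain ⟨zc, hzc⟩ : ∃ zc : ↥(Subgroup.centralizer ({z} : Set G)), (zc : G) = z :=
      ⟨⟨z, Subgroup.mem_centralizer_singleton_iff.2 rfl⟩, rfl⟩
    rcases eq_or_eq_z D hC (c := zc) (fun a _ => Subtype.ext (by
      show (zc : G) * _ = _ * (zc : G)
      rw [hzc]
      exact (Subgroup.mem_centralizer_singleton_iff.1 (ψ a).2).symm)) with h | h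
    · rw [h] at hzc
      exfalso
      rw [← hzc] at hz
      simp at hz
    · show (φ 16 : G) = z
      rw [h16, ← h, hzc]

/-- No odd order normal subgroup meets the centraliser. -/
theorem oddCore_free (z : G) (hz : orderOf z = 2) (E : Subgroup ↥(Subgroup.centralizer ({z} : Set G))) [E.Normal]
    (hE32 : Nat.card ↥E = 32) (hC : Subgroup.centralizer (E : Set ↥(Subgroup.centralizer ({z} : Set G))) ≤ E)
    {x : G} (hx : x ∈ oddCore G) (hxz : x * z = z * x) : x = 1 := by
  obtain ⟨xc, hxc⟩ : ∃ xc : ↥(Subgroup.centralizer ({z} : Set G)), (xc : G) = x :=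
    ⟨⟨x, Subgroup.mem_centralizer_singleton_iff.2 hxz⟩, rfl⟩
  have kill : ∀ w : ↥(Subgroup.centralizer ({z} : Set G)), (w : G) ∈ oddCore G → w ∈ E → w = 1 := by
    intro w hw hwE
    refine Subtype.ext ?_
    show (w : G) = 1
    rw [← orderOf_eq_one_iff]
    have h1 := Subgroup.orderOf_dvd_natCard (oddCore G) hw
    have h2 := Subgroup.orderOf_dvd_natCard E hwE
    rw [hE32, ← Subgroup.orderOf_coe] at h2
    have h3 : Nat.Coprime (Nat.card (oddCore G)) (2 ^ 5) :=
      Nat.Coprime.pow_right _ (Nat.coprime_two_right.2 CfsgLib.odd_card_oddCore)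
    have := Nat.dvd_gcd h1 h2
    rw [show (32 : ℕ) = 2 ^ 5 by norm_num, h3.gcd_eq_one, Nat.dvd_one] at this
    exact this
  have hmem : xc ∈ E := hC (Subgroup.mem_centralizer_iff.2 fun g hg => by
    have hn : (oddCore G).Normal := inferInstance
    have h1 : g * xc * g⁻¹ * xc⁻¹ = 1 := kill _ (by
        simp only [Subgroup.coe_mul, Subgroup.coe_inv]
        exact (oddCore G).mul_mem (hn.conj_mem _ (hxc ▸ hx) _) ((oddCore G).inv_mem (hxc ▸ hx)))
      (by
        rw [show g * xc * g⁻¹ * xc⁻¹ = g * (xc * g⁻¹ * xc⁻¹) by group]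
        exact E.mul_mem hg (Subgroup.Normal.conj_mem inferInstance _ (E.inv_mem hg) xc))
    exact mul_inv_eq_iff_eq_mul.1 (mul_inv_eq_one.1 h1))
  rw [← hxc, kill xc (hxc ▸ hx) hmem]
  rfl

/-- The core is abelian. -/
theorem oddCore_comm (z : G) (hz : orderOf z = 2) (E : Subgroup ↥(Subgroup.centralizer ({z} : Set G))) [E.Normal]
    (hE32 : Nat.card ↥E = 32) (hC : Subgroup.centralizer (E : Set ↥(Subgroup.centralizer ({z} : Set G))) ≤ E) :
    IsMulCommutative ↥(oddCore G) := by
  have hn : (oddCore G).Normal := inferInstance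
  let f : ↥(oddCore G) →* ↥(oddCore G) :=
    { toFun := fun x => ⟨z * x * z⁻¹, hn.conj_mem _ x.2 z⟩
      map_one' := Subtype.ext (by show z * (1 : G) * z⁻¹ = 1; group)
      map_mul' := fun a b => Subtype.ext (by
        show z * ((a : G) * b) * z⁻¹ = z * a * z⁻¹ * (z * b * z⁻¹); group) }
  have hzz : z * z = 1 := by rw [← sq, ← hz, pow_orderOf_eq_one]
  have hfree : MonoidHom.FixedPointFree f := fun g hg => by
    refine Subtype.ext (oddCore_free z hz E hE32 hC g.2 ?_)
    exact (mul_inv_eq_iff_eq_mul.1 (congrArg Subtype.val hg)).symm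
  refine ⟨⟨fun a b => hfree.commute_all_of_involutive (fun g => Subtype.ext ?_) a b⟩⟩
  show z * (z * g * z⁻¹) * z⁻¹ = (g : G)
  calc z * (z * g * z⁻¹) * z⁻¹ = (z * z) * g * (z * z)⁻¹ := by group
    _ = g := by rw [hzz]; group

/-- An isolated involution makes the group soluble. -/
theorem solvable_of_isolated (z : G) (hz : orderOf z = 2) (E : Subgroup ↥(Subgroup.centralizer ({z} : Set G)))
    [E.Normal] (hE32 : Nat.card ↥E = 32)
    (hC : Subgroup.centralizer (E : Set ↥(Subgroup.centralizer ({z} : Set G))) ≤ E)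
    (e : (↥(Subgroup.centralizer ({z} : Set G)) ⧸ E) ≃* Equiv.Perm (Fin 4)) (hiso : IsIsolated z) :
    Group.IsSolvable G := by
  haveI := CfsgLib.BaseThree.solvable_perm4
  haveI : Fact (Nat.Prime 2) := ⟨Nat.prime_two⟩
  have hEs : Group.IsSolvable ↥E := by
    haveI := (IsPGroup.of_card (p := 2) (n := 5) (G := ↥E) (by rw [hE32]; rfl)).isNilpotent
    infer_instance
  have hCs : Group.IsSolvable ↥(Subgroup.centralizer ({z} : Set G)) :=
    Group.isSolvable_of_ker_le_range E.subtype (e.toMonoidHom.comp (QuotientGroup.mk' E)) (by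
      intro c hc
      rw [E.range_subtype]
      have : (QuotientGroup.mk' E c) = 1 := e.injective (hc.trans (map_one e).symm)
      exact (QuotientGroup.eq_one_iff c).1 this)
  have hOs : Group.IsSolvable ↥(oddCore G) :=
    Group.isSolvable_of_comm fun a b => (oddCore_comm z hz E hE32 hC).is_comm.comm a b
  let f : ↥(Subgroup.centralizer ({z} : Set G)) →* G ⧸ oddCore G :=
    (QuotientGroup.mk' (oddCore G)).comp (Subgroup.subtype _)
  have hn : (oddCore G).Normal := inferInstance
  have hf : Function.Surjective f := by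
    intro q
    obtain ⟨g, rfl⟩ := QuotientGroup.mk'_surjective (oddCore G) q
    have hw : z * g * z⁻¹ * g⁻¹ ∈ oddCore G := CfsgLib.ZStar.commutator_mem hz hiso g
    -- halve the commutator inside the abelian core of odd order
    have hOc := oddCore_comm z hz E hE32 hC
    haveI := Fintype.ofFinite ↥(oddCore G)
    obtain ⟨j, hj⟩ := CfsgLib.odd_card_oddCore (G := G)
    obtain ⟨w, hwdef⟩ : ∃ w : ↥(oddCore G), (w : G) = z * g * z⁻¹ * g⁻¹ := ⟨⟨_, hw⟩, rfl⟩
    obtain ⟨o, hodef⟩ : ∃ o : ↥(oddCore G), o = w ^ (j + 1) := ⟨_, rfl⟩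
    have hoo : o * o = w := by
      rw [hodef, ← pow_add, show j + 1 + (j + 1) = 2 * j + 1 + 1 by omega, pow_succ, ← hj, pow_card_eq_one', one_mul]
    have hzz : z * z = 1 := by rw [← sq, ← hz, pow_orderOf_eq_one]
    have hinv : ∀ x : ↥(oddCore G), z * x * z⁻¹ = ((x : G))⁻¹ := fun x => by
      obtain ⟨y, hy, hyd⟩ : ∃ y ∈ oddCore G, z * x * z⁻¹ * (x : G) = y :=
        ⟨_, (oddCore G).mul_mem (hn.conj_mem _ x.2 z) x.2, rfl⟩
      have hcomm : z * x * z⁻¹ * (x : G) = (x : G) * (z * x * z⁻¹) :=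
        congrArg Subtype.val (hOc.is_comm.comm ⟨_, hn.conj_mem _ x.2 z⟩ x)
      have hfix : y = 1 := oddCore_free z hz E hE32 hC hy (by
        rw [← hyd]
        nth_rewrite 2 [hcomm]
        calc z * x * z⁻¹ * x * z = z * x * (z⁻¹ * x * z) := by group
          _ = z * x * (z * x * z⁻¹) := by
            rw [inv_eq_of_mul_eq_one_right hzz]
          _ = z * ((x : G) * (z * x * z⁻¹)) := by group)
      exact eq_inv_of_mul_eq_one_left (hyd.trans hfix)
    refine ⟨⟨(o : G) * g, Subgroup.mem_centralizer_singleton_iff.2 ?_⟩, ?_⟩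
    · have h1 : z * g * z⁻¹ = (o : G) * o * g := by
        rw [← Subgroup.coe_mul, hoo, hwdef]; group
      refine (mul_inv_eq_iff_eq_mul.1 ?_).symm
      calc z * ((o : G) * g) * z⁻¹ = (z * o * z⁻¹) * (z * g * z⁻¹) := by group
        _ = (o : G) * g := by rw [hinv, h1]; group
    · show QuotientGroup.mk' (oddCore G) ((o : G) * g) = _
      rw [map_mul, show QuotientGroup.mk' (oddCore G) (o : G) = 1 from (QuotientGroup.eq_one_iff _).2 o.2, one_mul]
  have := Group.isSolvable_of_surjective hf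
  exact Group.isSolvable_of_ker_le_range (oddCore G).subtype (QuotientGroup.mk' (oddCore G)) (by
    rw [QuotientGroup.ker_mk', Subgroup.range_subtype])

end CfsgAutL34
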