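import Cfsg.Agent.Lib.AutL34Type.PlaneRep
import Cfsg.Agent.Lib.AutL34Type.OddBound
import Mathlib.FieldTheory.Finite.GaloisField
import Mathlib.Combinatorics.Pigeonhole
import Mathlib.GroupTheory.Perm.Cycle.Type

/-!
The generated subgroup is the whole group.
-/

set_option autoImplicit false
set_option maxRecDepth 100000
set_option linter.unusedSectionVars false

namespace CfsgAutL34

open Matrix

attribute [local irreducible] pMul pOf pT mconj mmul minv pP qWord runP

/-- Conjugates under a subgroup containing the centraliser. -/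
theorem card_conj_set {G : Type*} [Group G] [Finite G] (z : G) (H : Subgroup G)
    (hle : Subgroup.centralizer ({z} : Set G) ≤ H) :
    {w : G | ∃ h ∈ H, h * z * h⁻¹ = w}.ncard * Nat.card ↥(Subgroup.centralizer ({z} : Set G)) = Nat.card ↥H := by
  classical
  let C := Subgroup.centralizer ({z} : Set G)
  have hC : ∀ a b : ↥H, a⁻¹ * b ∈ C.subgroupOf H ↔ (a : G) * z * (a : G)⁻¹ = b * z * (b : G)⁻¹ := by
    intro a b
    rw [Subgroup.mem_subgroupOf, Subgroup.mem_centralizer_singleton_iff, Subgroup.coe_mul, Subgroup.coe_inv]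
    constructor
    · intro h
      calc (a : G) * z * (a : G)⁻¹ = a * (z * ((a : G)⁻¹ * b)) * (b : G)⁻¹ := by group
        _ = _ := by rw [← h]; group
    · intro h
      calc (a : G)⁻¹ * b * z = (a : G)⁻¹ * (b * z * (b : G)⁻¹) * b := by group
        _ = _ := by rw [← h]; group
  let f : ↥H ⧸ C.subgroupOf H → {w : G | ∃ h ∈ H, h * z * h⁻¹ = w} :=
    Quotient.lift (fun h : ↥H => ⟨(h : G) * z * (h : G)⁻¹, h, h.2, rfl⟩) fun a b h =>
      Subtype.ext ((hC a b).1 (QuotientGroup.leftRel_apply.1 h))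
  have hf : Function.Bijective f := by
    refine ⟨fun p q => ?_, fun ⟨w, h, hh, e⟩ => ⟨QuotientGroup.mk ⟨h, hh⟩, Subtype.ext e⟩⟩
    induction p using QuotientGroup.induction_on with
    | H a =>
      induction q using QuotientGroup.induction_on with
      | H b => exact fun e => QuotientGroup.eq.2 ((hC a b).2 (congrArg Subtype.val e))
  rw [← Nat.card_coe_set_eq, ← Nat.card_congr (Equiv.ofBijective f hf),
    Subgroup.card_eq_card_quotient_mul_card_subgroup (C.subgroupOf H),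
    Nat.card_congr (Subgroup.subgroupOfEquivOfLe hle).toEquiv]

variable {G : Type*} [Group G] [Finite G] {z : G} {φ : ℕ → G} {r σ : G} {γ : ℕ}

theorem Base.card_cent {k : ℕ} (B : Base k z φ) : Nat.card ↥(Subgroup.centralizer ({z} : Set G)) = 768 := by
  rw [← Nat.card_fin 768]
  symm
  refine Nat.card_eq_of_bijective (fun i : Fin 768 =>
    (⟨φ i, Subgroup.mem_centralizer_singleton_iff.2 (B.comm_z i.isLt)⟩ : ↥(Subgroup.centralizer ({z} : Set G))))
    ⟨fun i j h => Fin.ext (B.inj _ i.isLt _ j.isLt (congrArg Subtype.val h)), fun ⟨c, hc⟩ => ?_⟩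
  obtain ⟨x, hx, e⟩ := (B.cent c).1 (Subgroup.mem_centralizer_singleton_iff.1 hc)
  exact ⟨⟨x, hx⟩, Subtype.ext e⟩

namespace Main

variable (D : Main z φ r σ γ)
include D

theorem cent_le : Subgroup.centralizer ({z} : Set G) ≤ genSub φ σ z := by
  intro c hc
  obtain ⟨x, hx, rfl⟩ := (D.F.B.cent c).1 (Subgroup.mem_centralizer_singleton_iff.1 hc)
  exact D.code_mem hx

/-- The conjugates of the involution inside the generated subgroup form one class there. -/
theorem cls_mem {w : G} (hw : w ∈ cls z) (hwM : w ∈ genSub φ σ z) : ∃ m ∈ genSub φ σ z, m * z * m⁻¹ = w := by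
  classical
  obtain ⟨M, hM⟩ : ∃ M, genSub φ σ z = M := ⟨_, rfl⟩
  rw [hM] at hwM ⊢
  have hle := hM ▸ D.cent_le
  obtain ⟨-, -, -, hcard⟩ := D.exists_perm
  rw [hM] at hcard
  have hw2 : w * w = 1 := by
    obtain ⟨g, rfl⟩ := hw
    rw [show g * z * g⁻¹ * (g * z * g⁻¹) = g * (z * z) * g⁻¹ by group, D.F.B.zz]
    group
  haveI := Fintype.ofFinite (↥M ⧸ (Subgroup.centralizer ({z} : Set G)).subgroupOf M)
  haveI : Fact (Nat.Prime 2) := ⟨Nat.prime_two⟩
  obtain ⟨q, hq⟩ := Equiv.Perm.exists_fixed_point_of_prime (p := 2) (n := 1)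
    (α := ↥M ⧸ (Subgroup.centralizer ({z} : Set G)).subgroupOf M) (by
      have h := Subgroup.card_eq_card_quotient_mul_card_subgroup ((Subgroup.centralizer ({z} : Set G)).subgroupOf M)
      rw [Nat.card_congr (Subgroup.subgroupOfEquivOfLe hle).toEquiv, D.F.B.card_cent, hcard,
        Nat.card_eq_fintype_card] at h
      omega) (σ := MulAction.toPerm (⟨w, hwM⟩ : ↥M)) (by
      refine Equiv.ext fun a => ?_
      rw [pow_one, sq, Equiv.Perm.mul_apply, MulAction.toPerm_apply, MulAction.toPerm_apply, ← mul_smul,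
        show (⟨w, hwM⟩ : ↥M) * ⟨w, hwM⟩ = 1 from Subtype.ext hw2, one_smul, Equiv.Perm.one_apply])
  obtain ⟨m, rfl⟩ := QuotientGroup.mk_surjective q
  rw [MulAction.toPerm_apply, MulAction.Quotient.smul_mk, smul_eq_mul, QuotientGroup.eq, Subgroup.mem_subgroupOf] at hq
  have hq' : (m : G)⁻¹ * w * m ∈ Subgroup.centralizer ({z} : Set G) := by
    have := inv_mem hq
    simp only [Subgroup.coe_mul, Subgroup.coe_inv] at this
    simpa [mul_assoc] using this
  obtain ⟨y, hy, hye⟩ := (D.F.B.cent _).1 (Subgroup.mem_centralizer_singleton_iff.1 hq')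
  suffices h : ∃ n ∈ M, n * z * n⁻¹ = φ y by
    obtain ⟨n, hn, e⟩ := h
    refine ⟨m * n, mul_mem m.2 hn, ?_⟩
    rw [show (m : G) * n * z * ((m : G) * n)⁻¹ = m * (n * z * n⁻¹) * (m : G)⁻¹ by group, e, hye]
    group
  by_cases hz : φ y = z
  · exact ⟨1, one_mem _, by rw [hz]; group⟩
  obtain ⟨g, hg⟩ := hw
  obtain ⟨c, j, hc, hj, hcj, hcase, -⟩ := D.F.B.swap_of hy (g := (m : G)⁻¹ * g) (by rw [hye, ← hg]; group) hz
  have hj' : ∃ i < 16, i ≠ 0 ∧ av i = j := by
    rcases hcase with ⟨rfl, -⟩ | ⟨rfl, -⟩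
    exacts [⟨1, by norm_num, by norm_num, rfl⟩, ⟨4, by norm_num, by norm_num, rfl⟩]
  obtain ⟨i, hi, hi0, rfl⟩ := hj'
  obtain ⟨n, q', hn, hn2, hnM⟩ := D.exists_toZ hi hi0
  have e := hn i hi
  rw [hn2, D.F.B.av_two] at e
  refine ⟨(φ c)⁻¹ * n⁻¹, mul_mem (inv_mem (hM ▸ D.code_mem hc)) (inv_mem (hM ▸ hnM)), ?_⟩
  rw [← hcj, D.F.B.conj hc hy] at e
  calc (φ c)⁻¹ * n⁻¹ * z * ((φ c)⁻¹ * n⁻¹)⁻¹ = (φ c)⁻¹ * (n⁻¹ * z * n) * φ c := by group
    _ = φ y := by rw [← e]; group

/-- The socle inside the generated subgroup. -/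
theorem exists_socle : ∃ L : Subgroup ↥(genSub φ σ z), L.Normal ∧ L.index = 12 ∧
    (∀ v ∈ L, orderOf v = 2 → (v : G) ∈ cls z) ∧ ∀ K : Subgroup ↥(genSub φ σ z), K ≤ L → Odd (Nat.card K) → Nat.card K ≤ 21 := by
  classical
  haveI : Fact (Nat.Prime 2) := ⟨Nat.prime_two⟩
  haveI : Fintype (GaloisField 2 2) := Fintype.ofFinite _
  have h4 : Fintype.card (GaloisField 2 2) = 4 := by
    rw [← Nat.card_eq_fintype_card, GaloisField.card 2 2 two_ne_zero]; norm_num
  obtain ⟨Φ, t, ht⟩ := D.exists_iso h4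
  obtain ⟨-, -, -, hcard⟩ := D.exists_perm
  let j : Matrix.ProjectiveSpecialLinearGroup (Fin 3) (GaloisField 2 2) →* ↥(genSub φ σ z) :=
    Φ.symm.toMonoidHom.comp (MulAut.conj.comp socHom)
  have hj : Function.Injective j := by
    rw [← MonoidHom.ker_eq_bot_iff, Subgroup.eq_bot_iff_forall]
    intro x hx
    have h1 : MulAut.conj (socHom x) = 1 := Φ.symm.injective ((MonoidHom.mem_ker.1 hx).trans (map_one _).symm)
    refine socHom_injective ((socle_cent _ fun y => ?_).trans (map_one _).symm)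
    have := DFunLike.congr_fun h1 (socHom y)
    rw [MulAut.conj_apply, MulAut.one_apply] at this
    exact mul_inv_eq_iff_eq_mul.1 this
  have hn : j.range.Normal := by
    constructor
    rintro _ ⟨x, rfl⟩ g
    obtain ⟨y, hy⟩ := aut_preserves (Φ g) x
    refine ⟨y, Φ.injective ?_⟩
    rw [map_mul, map_mul, map_inv]
    show Φ (Φ.symm (MulAut.conj (socHom y))) = Φ g * Φ (Φ.symm (MulAut.conj (socHom x))) * (Φ g)⁻¹
    rw [Φ.apply_symm_apply, Φ.apply_symm_apply, hy]
    refine MulEquiv.ext fun q => ?_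
    rw [MulAut.conj_apply, MulAut.mul_apply, MulAut.mul_apply, MulAut.conj_apply, map_mul, map_mul, map_inv]
    show _ = _ * Φ g ((Φ g).symm q) * _
    rw [MulEquiv.apply_symm_apply]
  have hL : Nat.card ↥j.range = 20160 := by
    rw [← Nat.card_congr (MonoidHom.ofInjective hj).toEquiv, CfsgLib.EppoAlmost.card_psl_three_four h4]
  have hzj : j t = ⟨z, Subgroup.subset_closure (by simp [gensOf])⟩ := by
    apply Φ.injective
    rw [ht]
    exact Φ.apply_symm_apply _
  refine ⟨j.range, hn, ?_, ?_, ?_⟩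
  · have := Subgroup.card_mul_index j.range
    rw [hL, hcard] at this
    omega
  · rintro _ ⟨x, rfl⟩ hx
    rw [orderOf_injective j hj] at hx
    have ht2 : orderOf t = 2 := by
      rw [← orderOf_injective j hj, hzj, ← Subgroup.orderOf_coe]
      exact D.F.B.z2
    obtain ⟨c, hc⟩ := isConj_iff.1 (CfsgLib.PSL34.involutions_conj h4 ht2 hx)
    refine ⟨(j c : G), ?_⟩
    have e := congrArg (fun v : ↥(genSub φ σ z) => (v : G)) (congrArg j hc)
    simp only [map_mul, map_inv, Subgroup.coe_mul, Subgroup.coe_inv] at e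
    rwa [show ((j t : ↥(genSub φ σ z)) : G) = z from congrArg Subtype.val hzj] at e
  · intro K hK hodd
    have e : Nat.card ↥(K.comap j) = Nat.card ↥K := by
      rw [← Subgroup.card_map_of_injective (f := j) hj, Subgroup.map_comap_eq_self hK]
    rw [← e] at hodd ⊢
    exact (primeSep_psl h4 hodd).le_twentyone
      ((Subgroup.card_subgroup_dvd_card _).trans (dvd_of_eq (CfsgLib.EppoAlmost.card_psl_three_four h4))) hodd

theorem genSub_eq_top : genSub φ σ z = ⊤ := by
  classical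
  obtain ⟨M, hM⟩ : ∃ M, genSub φ σ z = M := ⟨_, rfl⟩
  have hle : Subgroup.centralizer ({z} : Set G) ≤ M := hM ▸ D.cent_le
  obtain ⟨-, -, -, hcard⟩ := D.exists_perm
  obtain ⟨L, hLn, hL12, hL2, hL21⟩ := D.exists_socle
  subst hM
  rw [← Subgroup.index_eq_one]
  by_contra hn1
  obtain ⟨M, hM⟩ : ∃ M, genSub φ σ z = M := ⟨_, rfl⟩
  -- counting the class
  let S : Finset G := (cls z).toFinite.toFinset
  have hS : ∀ w, w ∈ S ↔ w ∈ cls z := fun w => (cls z).toFinite.mem_toFinset
  have hcls : S.card * 768 = Nat.card G := by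
    rw [← D.F.B.card_cent, ← Subgroup.card_top (G := G), ← card_conj_set z ⊤ le_top,
      ← Set.ncard_coe_finset]
    congr 2
    ext w
    simp [hS, cls]
  have hin : (S.filter fun w => w ∈ genSub φ σ z).card = 315 := by
    have h := card_conj_set z (genSub φ σ z) D.cent_le
    rw [D.F.B.card_cent, hcard] at h
    have e : ((S.filter fun w => w ∈ genSub φ σ z) : Set G) = {w : G | ∃ h ∈ genSub φ σ z, h * z * h⁻¹ = w} := by
      ext w
      simp only [Finset.coe_filter, hS, Set.mem_ofPred_eq]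
      refine ⟨fun h => D.cls_mem h.1 h.2, ?_⟩
      rintro ⟨h, hh, rfl⟩
      exact ⟨⟨h, rfl⟩, mul_mem (mul_mem hh (D.cent_le (Subgroup.mem_centralizer_singleton_iff.2 rfl))) (inv_mem hh)⟩
    rw [← e, Set.ncard_coe_finset] at h
    omega
  have hidx := Subgroup.card_mul_index (genSub φ σ z)
  rw [hcard] at hidx
  -- a coset with many members of the class
  haveI := Fintype.ofFinite (G ⧸ genSub φ σ z)
  let T : Finset (G ⧸ genSub φ σ z) := Finset.univ.erase ((1 : G) : G ⧸ genSub φ σ z)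
  have hT : T.card = (genSub φ σ z).index - 1 := by
    rw [Finset.card_erase_of_mem (Finset.mem_univ _), Finset.card_univ, ← Nat.card_eq_fintype_card]; rfl
  have hout := Finset.card_filter_add_card_filter_not (s := S) (fun w => w ∈ genSub φ σ z)
  obtain ⟨u, huT, hu⟩ := Finset.exists_le_card_fiber_of_mul_le_card_of_maps_to
    (s := S.filter fun w => w ∉ genSub φ σ z) (t := T) (n := 315) (f := fun w : G => (w : G ⧸ genSub φ σ z))
    (fun w hw => Finset.mem_erase.2 ⟨fun e => (Finset.mem_filter.1 hw).2 (by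
      rw [QuotientGroup.eq, mul_one] at e; simpa using inv_mem e), Finset.mem_univ _⟩)
    (Finset.card_pos.1 (by
      rw [hT]
      have : (genSub φ σ z).index ≠ 0 := Subgroup.index_ne_zero_of_finite
      omega))
    (by
      rw [hT]
      have h1 : 768 * (S.card) = 768 * (315 * (genSub φ σ z).index) := by rw [mul_comm, hcls, ← hidx]; ring
      omega)
  obtain ⟨w0, hw0⟩ := Finset.card_pos.1 (lt_of_lt_of_le (by norm_num) hu)
  simp only [Finset.mem_filter, hS] at hw0
  obtain ⟨⟨hw0c, hw0M⟩, hw0u⟩ := hw0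
  have hsq : ∀ w ∈ cls z, w⁻¹ = w := fun w hw => inv_eq_of_mul_eq_one_right (by
    obtain ⟨g, rfl⟩ := hw
    rw [show g * z * g⁻¹ * (g * z * g⁻¹) = g * (z * z) * g⁻¹ by group, D.F.B.zz]
    group)
  let D0 : Subgroup ↥(genSub φ σ z) :=
    ((genSub φ σ z).comap (MulAut.conj w0).toMonoidHom).subgroupOf (genSub φ σ z)
  have hD0 : ∀ d, d ∈ D0 ↔ w0 * (d : G) * w0⁻¹ ∈ genSub φ σ z := fun d => Iff.rfl
  have hbig : 315 ≤ Nat.card ↥D0 := by
    refine hu.trans ?_
    rw [← Nat.card_eq_finsetCard]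
    refine Nat.card_le_card_of_injective (fun w => ?_) ?_
    · have hw := w.2
      simp only [Finset.mem_filter, hS] at hw
      have hd : w0⁻¹ * w.1 ∈ genSub φ σ z := QuotientGroup.eq.1 (hw0u.trans hw.2.symm)
      refine ⟨⟨w0⁻¹ * w.1, hd⟩, (hD0 _).2 ?_⟩
      have h := inv_mem hd
      rw [_root_.mul_inv_rev, inv_inv, hsq _ hw.1.1] at h
      show w0 * (w0⁻¹ * w.1) * w0⁻¹ ∈ _
      rw [mul_inv_cancel_left, hsq _ hw0c]
      exact h
    · intro a b h
      exact Subtype.ext (mul_left_cancel (congrArg (fun d : ↥D0 => ((d : ↥(genSub φ σ z)) : G)) h))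
  have hno : ∀ d ∈ D0, (d : G) ∉ cls z := by
    intro d hd hc
    obtain ⟨m, hm, e⟩ := D.cls_mem hc d.2
    have hd' := (hD0 d).1 hd
    rw [← e] at hd'
    obtain ⟨m', hm', e'⟩ := D.cls_mem (show w0 * (m * z * m⁻¹) * w0⁻¹ ∈ cls z from ⟨w0 * m, by group⟩) hd'
    have hC : m'⁻¹ * w0 * m ∈ Subgroup.centralizer ({z} : Set G) := Subgroup.mem_centralizer_singleton_iff.2 (by
      calc m'⁻¹ * w0 * m * z = m'⁻¹ * (w0 * (m * z * m⁻¹) * w0⁻¹) * w0 * m := by group
        _ = z * (m'⁻¹ * w0 * m) := by rw [← e']; group)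
    refine hw0M ?_
    have := mul_mem (mul_mem hm' (D.cent_le hC)) (inv_mem hm)
    simpa [mul_assoc] using this
  have hodd : Odd (Nat.card ↥(D0 ⊓ L : Subgroup ↥(genSub φ σ z))) := by
    rw [← Nat.not_even_iff_odd]
    intro heven
    haveI : Fact (Nat.Prime 2) := ⟨Nat.prime_two⟩
    obtain ⟨v, hv⟩ := exists_prime_orderOf_dvd_card' (G := ↥(D0 ⊓ L : Subgroup ↥(genSub φ σ z))) 2
      (even_iff_two_dvd.1 heven)
    exact hno _ (Subgroup.mem_inf.1 v.2).1 (hL2 _ (Subgroup.mem_inf.1 v.2).2 (by rw [Subgroup.orderOf_coe, hv]))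
  have h21 := hL21 _ inf_le_right hodd
  have hri : L.relIndex D0 ≤ 12 := Nat.le_of_dvd (by norm_num) (hL12 ▸ Subgroup.relIndex_dvd_index_of_normal L D0)
  have hprod : Nat.card ↥(D0 ⊓ L : Subgroup ↥(genSub φ σ z)) * L.relIndex D0 = Nat.card ↥D0 := by
    rw [← Subgroup.card_mul_index (L.subgroupOf D0)]
    congr 1
    rw [inf_comm, ← Subgroup.subgroupOf_map_subtype,
      Subgroup.card_map_of_injective D0.subtype_injective]
  have := Nat.mul_le_mul h21 hri
  omega

end Main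

end CfsgAutL34
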